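import Mathlib
import Groth.Prelude.Def_Found
import Groth.Prelude.Def_EGA4b
import Groth.Agent.Lib.Helper83.DVRCrit

set_option autoImplicit false
universe u

namespace Groth.Agent.Lib.Helper15.CatDomain

section Order

variable {α : Type u} [PartialOrder α] [FiniteDimensionalOrder α]

theorem wellFoundedLT_of_finiteDimensional : WellFoundedLT α :=
  ⟨SetRel.IsWellFounded.of_finiteDimensional {(a, b) : α × α | a < b}⟩

theorem wellFoundedGT_of_finiteDimensional : WellFoundedGT α :=
  ⟨SetRel.IsWellFounded.inv_of_finiteDimensional {(a, b) : α × α | a < b}⟩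

/-- From `x`, there is a covering chain to a maximal element, of length at least `coheight x`
(indeed equal). -/
theorem exists_covBy_series (x : α) :
    ∃ s : LTSeries α, s.head = x ∧ IsMax s.last ∧ Order.coheight x ≤ s.length ∧
      ∀ i : Fin s.length, s (Fin.castSucc i) ⋖ s (Fin.succ i) := by
  have := wellFoundedLT_of_finiteDimensional (α := α)
  have := wellFoundedGT_of_finiteDimensional (α := α)
  obtain ⟨n, hn⟩ := ENat.ne_top_iff_exists.mp (Order.coheight_lt_top x).ne
  obtain ⟨s, hs, hlen⟩ := Order.exists_series_of_coheight_eq_coe x hn.symm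
  obtain ⟨t, i, hti, hi0, hil⟩ := s.exists_relSeries_covBy
  refine ⟨⟨t.length, t.toFun, fun j => (t.step j).lt⟩, ?_, ?_, ?_, fun j => t.step j⟩
  · change t.toFun 0 = x
    rw [← hi0, ← hs]
    exact congrFun hti 0
  · change IsMax (t.toFun (Fin.last _))
    rw [← hil]
    have h1 : t.toFun (i (Fin.last s.length)) = s.toFun (Fin.last s.length) := congrFun hti _
    rw [h1, ← Order.coheight_eq_zero]
    have h2 := Order.coheight_eq_index_of_length_eq_head_coheight (p := s)
      (by rw [hs, ← hn, hlen]) (Fin.last s.length)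
    rw [h2]; simp
  · change Order.coheight x ≤ (t.length : ℕ∞)
    rw [← hn, ← hlen]
    have := Fintype.card_le_of_embedding i
    simp only [Fintype.card_fin] at this
    exact_mod_cast (by omega : s.length ≤ t.length)

end Order


section Cat

variable {R : Type u} [CommRing R] [IsNoetherianRing R] [IsLocalRing R]

theorem eq_closedPoint_of_isMax {z : PrimeSpectrum R} (hz : IsMax z) :
    z = IsLocalRing.closedPoint R := by
  have h1 : z ≤ IsLocalRing.closedPoint R := IsLocalRing.le_maximalIdeal z.2.ne_top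
  exact le_antisymm h1 (hz h1)

/-- In a catenary Noetherian local ring, coheight drops by exactly one along a covering. -/
theorem coheight_eq_of_covBy (hcat : CAlg.IsCatenary R) {x y : PrimeSpectrum R} (hxy : x ⋖ y) :
    Order.coheight x = Order.coheight y + 1 := by
  apply le_antisymm _ (Order.coheight_add_one_le hxy.lt)
  obtain ⟨sx, hsx, hmx, hlx, hcx⟩ := exists_covBy_series x
  obtain ⟨sy, hsy, hmy, hly, hcy⟩ := exists_covBy_series y
  have hy0 : sy.toFun 0 = y := hsy
  let u : LTSeries (PrimeSpectrum R) :=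
    ⟨sy.length + 1, Fin.cons x sy.toFun, fun i => by
      refine Fin.cases ?_ (fun j => ?_) i
      · change (Fin.cons x sy.toFun : Fin (sy.length + 1 + 1) → PrimeSpectrum R) 0 <
          (Fin.cons x sy.toFun : Fin (sy.length + 1 + 1) → PrimeSpectrum R) (Fin.succ 0)
        rw [Fin.cons_zero, Fin.cons_succ, hy0]
        exact hxy.lt
      · change (Fin.cons x sy.toFun : Fin (sy.length + 1 + 1) → PrimeSpectrum R)
            (Fin.castSucc (Fin.succ j)) <
          (Fin.cons x sy.toFun : Fin (sy.length + 1 + 1) → PrimeSpectrum R) (Fin.succ (Fin.succ j))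
        rw [← Fin.succ_castSucc, Fin.cons_succ, Fin.cons_succ]
        exact sy.step j⟩
  have hucov : ∀ i : Fin u.length, u (Fin.castSucc i) ⋖ u (Fin.succ i) := by
    intro i
    refine Fin.cases ?_ (fun j => ?_) i
    · change (Fin.cons x sy.toFun : Fin (sy.length + 1 + 1) → PrimeSpectrum R) 0 ⋖
        (Fin.cons x sy.toFun : Fin (sy.length + 1 + 1) → PrimeSpectrum R) (Fin.succ 0)
      rw [Fin.cons_zero, Fin.cons_succ, hy0]
      exact hxy
    · change (Fin.cons x sy.toFun : Fin (sy.length + 1 + 1) → PrimeSpectrum R)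
          (Fin.castSucc (Fin.succ j)) ⋖
        (Fin.cons x sy.toFun : Fin (sy.length + 1 + 1) → PrimeSpectrum R) (Fin.succ (Fin.succ j))
      rw [← Fin.succ_castSucc, Fin.cons_succ, Fin.cons_succ]
      exact hcy j
  have hhead : sx.head = u.head := by
    rw [hsx]; rfl
  have hlast : sx.last = u.last := by
    rw [eq_closedPoint_of_isMax hmx]
    change _ = (Fin.cons x sy.toFun : Fin (sy.length + 1 + 1) → PrimeSpectrum R)
      (Fin.last (sy.length + 1))
    rw [← Fin.succ_last, Fin.cons_succ]
    exact (eq_closedPoint_of_isMax hmy).symm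
  have hlen : sx.length = sy.length + 1 := hcat.2 sx u hhead hlast hcx hucov
  have h1 : (sy.length : ℕ∞) ≤ Order.coheight y := by
    rw [← hsy]; exact Order.length_le_coheight_head
  calc Order.coheight x ≤ (sx.length : ℕ∞) := hlx
    _ = (sy.length : ℕ∞) + 1 := by rw [hlen]; push_cast; rfl
    _ ≤ Order.coheight y + 1 := add_le_add_left h1 1

end Cat


section Domain

open IsLocalRing

variable {A : Type u} [CommRing A]

theorem ringKrullDim_quotient_eq_coheight (x : PrimeSpectrum A) :
    ringKrullDim (A ⧸ x.asIdeal) = (Order.coheight x : WithBot ℕ∞) := by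
  rw [ringKrullDim_quotient, Order.coheight_eq_krullDim_Ici]
  have : PrimeSpectrum.zeroLocus (x.asIdeal : Set A) = Set.Ici x := by
    ext y
    simp only [PrimeSpectrum.mem_zeroLocus, SetLike.coe_subset_coe, Set.mem_Ici]
    exact Iff.rfl
  rw [this]

variable [IsNoetherianRing A] [IsLocalRing A]

/-- In an equidimensional catenary Noetherian local ring, if `tA` (`t` a non-zero-divisor of the
maximal ideal) has a unique minimal prime `p`, then every minimal prime of `A` lies in `p`. -/
theorem minimalPrime_le (hcat : CAlg.IsCatenary A) (heq : EGA4.IsEquidim A) (t : A)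
    (ht : t ∈ maximalIdeal A) (hreg : t ∈ nonZeroDivisors A) (p : Ideal A) [hpp : p.IsPrime]
    (hp : (Ideal.span {t}).minimalPrimes = {p}) (q : Ideal A) (hq : q ∈ minimalPrimes A) :
    q ≤ p := by
  by_contra hqp
  have hqprime : q.IsPrime := hq.1.1
  have hnz : ∀ q' ∈ minimalPrimes A, t ∉ q' := fun q' hq' h =>
    (Set.disjoint_left.mp (Ideal.disjoint_nonZeroDivisors_of_mem_minimalPrimes hq')) h hreg
  have htq : t ∉ q := hnz q hq
  have hle : q ⊔ Ideal.span {t} ≤ maximalIdeal A :=
    sup_le (le_maximalIdeal hqprime.ne_top) ((Ideal.span_singleton_le_iff_mem _).mpr ht)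
  obtain ⟨P, hPmin, hPM⟩ := Ideal.exists_minimalPrimes_le hle
  have hP : P.IsPrime := hPmin.1.1
  have hqP : q ≤ P := le_sup_left.trans hPmin.1.2
  have htP : t ∈ P := hPmin.1.2 (Ideal.mem_sup_right (Ideal.mem_span_singleton_self t))
  have hqltP : q < P := lt_of_le_of_ne hqP (fun h => htq (h ▸ htP))
  have h1 : (P.map (Ideal.Quotient.mk q)).height ≤ 1 :=
    Ideal.map_height_le_one_of_mem_minimalPrimes hPmin
  -- the covering `q ⋖ P`
  have hcov : (⟨q, hqprime⟩ : PrimeSpectrum A) ⋖ ⟨P, hP⟩ := by
    refine ⟨hqltP, fun z hxz hzy => ?_⟩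
    have hqr : q < z.asIdeal := hxz
    have hrP : z.asIdeal < P := hzy
    have hker : ∀ (J : Ideal A), q ≤ J →
        (J.map (Ideal.Quotient.mk q)).comap (Ideal.Quotient.mk q) = J := by
      intro J hJ
      rw [Ideal.comap_map_of_surjective' _ Ideal.Quotient.mk_surjective, Ideal.mk_ker,
        sup_eq_left.mpr hJ]
    have hkr : RingHom.ker (Ideal.Quotient.mk q) ≤ z.asIdeal := by
      rw [Ideal.mk_ker]; exact hqr.le
    have hkP : RingHom.ker (Ideal.Quotient.mk q) ≤ P := by
      rw [Ideal.mk_ker]; exact hqP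
    have hr' : (z.asIdeal.map (Ideal.Quotient.mk q)).IsPrime :=
      Ideal.map_isPrime_of_surjective Ideal.Quotient.mk_surjective hkr
    have hP' : (P.map (Ideal.Quotient.mk q)).IsPrime :=
      Ideal.map_isPrime_of_surjective Ideal.Quotient.mk_surjective hkP
    have hlt : z.asIdeal.map (Ideal.Quotient.mk q) < P.map (Ideal.Quotient.mk q) := by
      refine lt_of_le_of_ne (Ideal.map_mono hrP.le) fun h => ?_
      have := congrArg (Ideal.comap (Ideal.Quotient.mk q)) h
      rw [hker _ hqr.le, hker _ hqP] at this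
      exact hrP.ne this
    have h2 := Ideal.height_add_one_le_of_lt_of_isPrime hlt
    have h3 : (z.asIdeal.map (Ideal.Quotient.mk q)).height = 0 := by
      have h4 : (z.asIdeal.map (Ideal.Quotient.mk q)).height + 1 ≤ 0 + 1 := by
        rw [zero_add]; exact h2.trans h1
      exact le_antisymm ((ENat.add_le_add_iff_right ENat.one_ne_top).mp h4) bot_le
    rw [Ideal.height_eq_zero_iff_eq_bot] at h3
    have h5 := hker _ hqr.le
    rw [h3, ← RingHom.ker_eq_comap_bot, Ideal.mk_ker] at h5
    exact hqr.ne h5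
  -- `p < P`
  have hpP : p ≤ P := by
    obtain ⟨p', hp', hp'P⟩ := Ideal.exists_minimalPrimes_le
      ((Ideal.span_singleton_le_iff_mem _).mpr htP : Ideal.span {t} ≤ P)
    rw [hp, Set.mem_singleton_iff] at hp'
    exact hp' ▸ hp'P
  have hpltP : p < P := lt_of_le_of_ne hpP (fun h => hqp (h ▸ hqP))
  -- a minimal prime `q0 < p`
  obtain ⟨q0, hq0, hq0p⟩ := Ideal.exists_minimalPrimes_le (bot_le : (⊥ : Ideal A) ≤ p)
  have hq0prime : q0.IsPrime := hq0.1.1
  have htp : t ∈ p := by
    have h : p ∈ (Ideal.span {t}).minimalPrimes := by rw [hp]; exact Set.mem_singleton p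
    exact h.1.2 (Ideal.mem_span_singleton_self t)
  have hq0ltp : q0 < p := lt_of_le_of_ne hq0p (fun h => hnz q0 hq0 (h ▸ htp))
  -- coheights
  have c1 := coheight_eq_of_covBy hcat hcov
  have c2 : Order.coheight (⟨p, hpp⟩ : PrimeSpectrum A) + 1 ≤
      Order.coheight (⟨q0, hq0prime⟩ : PrimeSpectrum A) :=
    Order.coheight_add_one_le (show (⟨q0, hq0prime⟩ : PrimeSpectrum A) < ⟨p, hpp⟩ from hq0ltp)
  have c3 : Order.coheight (⟨P, hP⟩ : PrimeSpectrum A) + 1 ≤
      Order.coheight (⟨p, hpp⟩ : PrimeSpectrum A) :=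
    Order.coheight_add_one_le (show (⟨p, hpp⟩ : PrimeSpectrum A) < ⟨P, hP⟩ from hpltP)
  have c4 : (Order.coheight (⟨q0, hq0prime⟩ : PrimeSpectrum A) : WithBot ℕ∞) ≤
      (Order.coheight (⟨q, hqprime⟩ : PrimeSpectrum A) : WithBot ℕ∞) := by
    rw [← ringKrullDim_quotient_eq_coheight (⟨q, hqprime⟩ : PrimeSpectrum A)]
    change _ ≤ ringKrullDim (A ⧸ q)
    rw [heq q hq]
    exact Order.coheight_le_krullDim _
  have c4' : Order.coheight (⟨q0, hq0prime⟩ : PrimeSpectrum A) ≤
      Order.coheight (⟨q, hqprime⟩ : PrimeSpectrum A) := by exact_mod_cast c4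
  have hfin : Order.coheight (⟨P, hP⟩ : PrimeSpectrum A) ≠ ⊤ := (Order.coheight_lt_top _).ne
  obtain ⟨n, hn⟩ := ENat.ne_top_iff_exists.mp hfin
  rw [← hn] at c1 c3
  have c5 : ((n : ℕ∞) + 1) + 1 ≤ (n : ℕ∞) + 1 := by
    calc ((n : ℕ∞) + 1) + 1 ≤ Order.coheight (⟨p, hpp⟩ : PrimeSpectrum A) + 1 :=
          add_le_add_left c3 1
      _ ≤ _ := c2
      _ ≤ _ := c4'
      _ = _ := c1
  have c6 : n + 1 + 1 ≤ n + 1 := by exact_mod_cast c5
  omega

/-- Under the hypotheses of `minimalPrime_le`, if moreover `A` is reduced and the maximal ideal of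
`A_p` is generated by `t`, then `A` is a domain. -/
theorem isDomain_of_catenary_equidim (hcat : CAlg.IsCatenary A) (heq : EGA4.IsEquidim A)
    [IsReduced A] (t : A) (ht : t ∈ maximalIdeal A) (hreg : t ∈ nonZeroDivisors A)
    (p : Ideal A) [hpp : p.IsPrime] (hp : (Ideal.span {t}).minimalPrimes = {p})
    (hgen : maximalIdeal (Localization.AtPrime p) =
      Ideal.span {algebraMap A (Localization.AtPrime p) t}) : IsDomain A := by
  have hregS : IsSMulRegular A t := by
    intro x y hxy
    have h0 : (x - y) * t = 0 := by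
      have : t * x = t * y := hxy
      rw [sub_mul, mul_comm x t, mul_comm y t, this, sub_self]
    exact sub_eq_zero.mp ((mem_nonZeroDivisors_iff_right.mp hreg) _ h0)
  have hreg' : IsSMulRegular (Localization.AtPrime p)
      (algebraMap A (Localization.AtPrime p) t) := hregS.of_flat
  have hnil : ¬ IsNilpotent (algebraMap A (Localization.AtPrime p) t) := by
    rintro ⟨n, hn⟩
    have h1 : IsSMulRegular (Localization.AtPrime p)
        ((algebraMap A (Localization.AtPrime p) t) ^ n) := hreg'.pow n
    have h2 : (1 : Localization.AtPrime p) = 0 := h1 (by simp [hn])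
    exact one_ne_zero h2
  have hdomp : IsDomain (Localization.AtPrime p) :=
    Groth.Agent.Lib.Helper83.isDomain_of_maximalIdeal_eq_span hgen hnil
  set qs : Ideal A := RingHom.ker (algebraMap A (Localization.AtPrime p)) with hqsdef
  have hqs : qs.IsPrime := RingHom.ker_isPrime _
  have hall : ∀ q ∈ minimalPrimes A, qs ≤ q := by
    intro q hq
    have hqp := minimalPrime_le hcat heq t ht hreg p hp q hq
    intro a ha
    rw [hqsdef, RingHom.mem_ker, IsLocalization.map_eq_zero_iff p.primeCompl] at ha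
    obtain ⟨s, hs⟩ := ha
    have hmem : (s : A) * a ∈ q := by rw [hs]; exact q.zero_mem
    rcases hq.1.1.mem_or_mem hmem with h | h
    · exact absurd (hqp h) s.2
    · exact h
  have hbot : qs = ⊥ := by
    have h1 : sInf (minimalPrimes A) = (⊥ : Ideal A) := by
      have := Ideal.sInf_minimalPrimes (I := (⊥ : Ideal A))
      rw [Ideal.radical_eq_iff.mpr Ideal.isRadical_bot] at this
      exact this
    rw [eq_bot_iff, ← h1]
    exact le_sInf hall
  have hnzd : NoZeroDivisors A := by
    refine ⟨fun {x y} hxy => ?_⟩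
    have hmem : x * y ∈ qs := by rw [hbot, hxy]; exact Ideal.zero_mem _
    rcases hqs.mem_or_mem hmem with h | h
    · left; rw [hbot] at h; exact h
    · right; rw [hbot] at h; exact h
  exact NoZeroDivisors.to_isDomain A

end Domain

end Groth.Agent.Lib.Helper15.CatDomain
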