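import Mathlib
import Groth.Prelude.Def_Found
import Groth.Prelude.Def_EGA4b
import Groth.Agent.Lib.Helper15.CatDomain

/-!
# Dimension formula in equidimensional catenary Noetherian local rings (helper15)
-/

set_option autoImplicit false
universe u

namespace Groth.Agent.Lib.Helper15.CatDim

open Groth.Agent.Lib.Helper15.CatDomain

section Order

variable {α : Type u} [PartialOrder α] [FiniteDimensionalOrder α]

/-- A covering series from `x` to `y ≥ x`. -/
theorem exists_covBy_relSeries_of_le {x y : α} (h : x ≤ y) :
    ∃ t : RelSeries {(a, b) : α × α | a ⋖ b}, t.head = x ∧ t.last = y := by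
  have := wellFoundedLT_of_finiteDimensional (α := α)
  have := wellFoundedGT_of_finiteDimensional (α := α)
  obtain ⟨a, h0, n, hn, hcov⟩ := exists_covBy_seq_of_wellFoundedLT_wellFoundedGT_of_le h
  refine ⟨⟨n, fun i => a i, fun i => hcov i i.2⟩, ?_, ?_⟩
  · exact h0
  · change a (Fin.last n : ℕ) = y
    simpa using hn

/-- A covering series from `x` to a maximal element, of length at least `coheight x`. -/
theorem exists_covBy_relSeries_max (x : α) :
    ∃ t : RelSeries {(a, b) : α × α | a ⋖ b}, t.head = x ∧ IsMax t.last ∧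
      Order.coheight x ≤ t.length := by
  have := wellFoundedLT_of_finiteDimensional (α := α)
  have := wellFoundedGT_of_finiteDimensional (α := α)
  obtain ⟨n, hn⟩ := ENat.ne_top_iff_exists.mp (Order.coheight_lt_top x).ne
  obtain ⟨s, hs, hlen⟩ := Order.exists_series_of_coheight_eq_coe x hn.symm
  obtain ⟨t, i, hti, hi0, hil⟩ := s.exists_relSeries_covBy
  refine ⟨t, ?_, ?_, ?_⟩
  · change t.toFun 0 = x
    rw [← hi0, ← hs]
    exact congrFun hti 0
  · change IsMax (t.toFun (Fin.last _))
    rw [← hil]
    have h1 : t.toFun (i (Fin.last s.length)) = s.toFun (Fin.last s.length) := congrFun hti _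
    rw [h1, ← Order.coheight_eq_zero]
    have h2 := Order.coheight_eq_index_of_length_eq_head_coheight (p := s)
      (by rw [hs, ← hn, hlen]) (Fin.last s.length)
    rw [h2]; simp
  · rw [← hn, ← hlen]
    have := Fintype.card_le_of_embedding i
    simp only [Fintype.card_fin] at this
    exact_mod_cast (by omega : s.length ≤ t.length)

/-- The `LTSeries` underlying a covering series. -/
def toLT (t : RelSeries {(a, b) : α × α | a ⋖ b}) : LTSeries α :=
  ⟨t.length, t.toFun, fun i => (t.step i).lt⟩

omit [FiniteDimensionalOrder α] in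
theorem toLT_covBy (t : RelSeries {(a, b) : α × α | a ⋖ b}) (i : Fin (toLT t).length) :
    (toLT t) (Fin.castSucc i) ⋖ (toLT t) (Fin.succ i) := t.step i

end Order

section Cat

variable {R : Type u} [CommRing R] [IsNoetherianRing R] [IsLocalRing R]

/-- In a catenary Noetherian local ring, for `x ≤ y` in the spectrum, `coheight x` is `coheight y`
plus the length of some chain from `x` to `y`. -/
theorem exists_coheight_eq_add (hcat : CAlg.IsCatenary R) {x y : PrimeSpectrum R} (hxy : x ≤ y) :
    ∃ s : LTSeries (PrimeSpectrum R), s.head = x ∧ s.last = y ∧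
      Order.coheight x = Order.coheight y + s.length := by
  obtain ⟨t1, h1h, h1l⟩ := exists_covBy_relSeries_of_le hxy
  obtain ⟨t2, h2h, h2m, h2len⟩ := exists_covBy_relSeries_max y
  obtain ⟨t3, h3h, h3m, h3len⟩ := exists_covBy_relSeries_max x
  have hconn : t1.last = t2.head := by rw [h1l, h2h]
  have hlen : (toLT t3).length = (toLT (t1.smash t2 hconn)).length :=
    hcat.2 (toLT t3) (toLT (t1.smash t2 hconn))
      (by change t3.head = (t1.smash t2 hconn).head; rw [RelSeries.head_smash, h3h, h1h])
      (by change t3.last = (t1.smash t2 hconn).last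
          rw [RelSeries.last_smash, eq_closedPoint_of_isMax h3m, eq_closedPoint_of_isMax h2m])
      (toLT_covBy t3) (toLT_covBy _)
  have hlen' : t3.length = t1.length + t2.length := hlen
  have hle2 : (t2.length : ℕ∞) ≤ Order.coheight y := by
    have := Order.length_le_coheight_head (p := toLT t2)
    have hh : (toLT t2).head = y := h2h
    rw [hh] at this; exact this
  have hge : ((t1.length + t2.length : ℕ) : ℕ∞) ≤ Order.coheight x := by
    have := Order.length_le_coheight_head (p := toLT (t1.smash t2 hconn))
    have hh : (toLT (t1.smash t2 hconn)).head = x := by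
      change (t1.smash t2 hconn).head = x; rw [RelSeries.head_smash, h1h]
    rw [hh] at this; exact this
  refine ⟨toLT t1, h1h, h1l, ?_⟩
  change Order.coheight x = Order.coheight y + (t1.length : ℕ∞)
  apply le_antisymm
  · calc Order.coheight x ≤ (t3.length : ℕ∞) := h3len
      _ = (t1.length : ℕ∞) + (t2.length : ℕ∞) := by rw [hlen']; push_cast; rfl
      _ ≤ (t1.length : ℕ∞) + Order.coheight y := add_le_add_right hle2 _
      _ = _ := add_comm _ _
  · calc Order.coheight y + (t1.length : ℕ∞) ≤ (t2.length : ℕ∞) + (t1.length : ℕ∞) :=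
          add_le_add_left h2len _
      _ = ((t1.length + t2.length : ℕ) : ℕ∞) := by push_cast; exact add_comm _ _
      _ ≤ _ := hge

/-- **Dimension formula**: in an equidimensional catenary Noetherian local ring,
`ht x + coht x = dim R` for every point `x` of the spectrum. -/
theorem height_add_coheight (hcat : CAlg.IsCatenary R) (heq : EGA4.IsEquidim R)
    (x : PrimeSpectrum R) :
    ((Order.height x + Order.coheight x : ℕ∞) : WithBot ℕ∞) = ringKrullDim R := by
  apply le_antisymm
  · have h3 : ringKrullDim R = ((⨆ (b : PrimeSpectrum R), Order.height b + Order.coheight b : ℕ∞) :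
        WithBot ℕ∞) := by
      have : Nonempty (PrimeSpectrum R) := ⟨x⟩
      exact Order.krullDim_eq_iSup_height_add_coheight_of_nonempty
    rw [h3, WithBot.coe_le_coe]
    exact le_iSup (fun b : PrimeSpectrum R => Order.height b + Order.coheight b) x
  · obtain ⟨q, hq, hqx⟩ := Ideal.exists_minimalPrimes_le (bot_le : (⊥ : Ideal R) ≤ x.asIdeal)
    have hqprime : q.IsPrime := hq.1.1
    obtain ⟨s, hsh, hsl, hco⟩ :=
      exists_coheight_eq_add hcat (show (⟨q, hqprime⟩ : PrimeSpectrum R) ≤ x from hqx)
    have hlen : (s.length : ℕ∞) ≤ Order.height x := by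
      rw [← hsl]; exact Order.length_le_height_last
    have hdim : ringKrullDim R = (Order.coheight (⟨q, hqprime⟩ : PrimeSpectrum R) : WithBot ℕ∞) := by
      rw [← ringKrullDim_quotient_eq_coheight (⟨q, hqprime⟩ : PrimeSpectrum R)]
      exact (heq q hq).symm
    rw [hdim, WithBot.coe_le_coe, hco, add_comm]
    exact add_le_add_left hlen _

/-- In an equidimensional catenary Noetherian local ring, height increases by exactly one along a
covering. -/
theorem height_eq_of_covBy (hcat : CAlg.IsCatenary R) (heq : EGA4.IsEquidim R)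
    {x y : PrimeSpectrum R} (hxy : x ⋖ y) : Order.height y = Order.height x + 1 := by
  have h1 := height_add_coheight hcat heq x
  have h2 := height_add_coheight hcat heq y
  have h3 := coheight_eq_of_covBy hcat hxy
  have h4 : (Order.height x + Order.coheight x : ℕ∞) = Order.height y + Order.coheight y := by
    have := h1.trans h2.symm
    exact_mod_cast this
  rw [h3] at h4
  have hfin : Order.coheight y ≠ ⊤ := (Order.coheight_lt_top y).ne
  have h5 : (Order.height x + 1) + Order.coheight y = Order.height y + Order.coheight y := by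
    rw [← h4]; ring
  exact ((ENat.add_left_injective_of_ne_top hfin) h5).symm

/-- Ideal version of `height_eq_of_covBy`. -/
theorem ideal_height_eq_of_covBy (hcat : CAlg.IsCatenary R) (heq : EGA4.IsEquidim R)
    (P Q : Ideal R) [hP : P.IsPrime] [hQ : Q.IsPrime]
    (h : (⟨P, hP⟩ : PrimeSpectrum R) ⋖ ⟨Q, hQ⟩) : Q.height = P.height + 1 := by
  have := height_eq_of_covBy hcat heq h
  rw [← PrimeSpectrum.height_eq_orderHeight, ← PrimeSpectrum.height_eq_orderHeight] at this
  exact this

omit [IsNoetherianRing R] [IsLocalRing R] in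
/-- A prime minimal over `q + (t)` (with `t ∉ q`) covers `q` in the spectrum. -/
theorem covBy_of_mem_minimalPrimes [IsNoetherianRing R] {q P : Ideal R} [hq : q.IsPrime] {t : R}
    (htq : t ∉ q) (hPmin : P ∈ (q ⊔ Ideal.span {t}).minimalPrimes) :
    (⟨q, hq⟩ : PrimeSpectrum R) ⋖ ⟨P, hPmin.1.1⟩ := by
  have hP : P.IsPrime := hPmin.1.1
  have hqP : q ≤ P := le_sup_left.trans hPmin.1.2
  have htP : t ∈ P := hPmin.1.2 (Ideal.mem_sup_right (Ideal.mem_span_singleton_self t))
  have hqltP : q < P := lt_of_le_of_ne hqP (fun h => htq (h ▸ htP))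
  have h1 : (P.map (Ideal.Quotient.mk q)).height ≤ 1 :=
    Ideal.map_height_le_one_of_mem_minimalPrimes hPmin
  refine ⟨hqltP, fun z hxz hzy => ?_⟩
  have hqr : q < z.asIdeal := hxz
  have hrP : z.asIdeal < P := hzy
  have hker : ∀ (J : Ideal R), q ≤ J →
      (J.map (Ideal.Quotient.mk q)).comap (Ideal.Quotient.mk q) = J := by
    intro J hJ
    rw [Ideal.comap_map_of_surjective' _ Ideal.Quotient.mk_surjective, Ideal.mk_ker,
      sup_eq_left.mpr hJ]
  have hkr : RingHom.ker (Ideal.Quotient.mk q) ≤ z.asIdeal := by
    rw [Ideal.mk_ker]; exact hqr.le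
  have hkP : RingHom.ker (Ideal.Quotient.mk q) ≤ P := by
    rw [Ideal.mk_ker]; exact hqP
  have hr' : (z.asIdeal.map (Ideal.Quotient.mk q)).IsPrime :=
    Ideal.map_isPrime_of_surjective Ideal.Quotient.mk_surjective hkr
  have hP' : (P.map (Ideal.Quotient.mk q)).IsPrime :=
    Ideal.map_isPrime_of_surjective Ideal.Quotient.mk_surjective hkP
  have hlt : z.asIdeal.map (Ideal.Quotient.mk q) < P.map (Ideal.Quotient.mk q) := by
    refine lt_of_le_of_ne (Ideal.map_mono hrP.le) fun h => ?_
    have := congrArg (Ideal.comap (Ideal.Quotient.mk q)) h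
    rw [hker _ hqr.le, hker _ hqP] at this
    exact hrP.ne this
  have h2 := Ideal.height_add_one_le_of_lt_of_isPrime hlt
  have h3 : (z.asIdeal.map (Ideal.Quotient.mk q)).height = 0 := by
    have h4 : (z.asIdeal.map (Ideal.Quotient.mk q)).height + 1 ≤ 0 + 1 := by
      rw [zero_add]; exact h2.trans h1
    exact le_antisymm ((ENat.add_le_add_iff_right ENat.one_ne_top).mp h4) bot_le
  rw [Ideal.height_eq_zero_iff_eq_bot] at h3
  have h5 := hker _ hqr.le
  rw [h3, ← RingHom.ker_eq_comap_bot, Ideal.mk_ker] at h5
  exact hqr.ne h5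

end Cat

end Groth.Agent.Lib.Helper15.CatDim
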