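import Mathlib
import Groth.Prelude.Def_Found
import Groth.Agent.Lib.Helper88.CohenStruct
import Groth.Agent.Lib.Helper96.PSRegularDVR
import Groth.Agent.Lib.Helper76.PSCohen
import Groth.Agent.S0603
import Groth.Agent.S0564
import Groth.Agent.S18865

/-!
# Complete Noetherian local rings are quotients of regular local rings, hence universally catenary
-/

set_option autoImplicit false
set_option linter.style.haveILetI false
universe u

namespace Groth.Agent.Lib.Helper15.CompleteUCat

open IsLocalRing

/-- **Cohen**: a complete Noetherian local ring is a quotient of a regular local ring. -/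
theorem exists_regular_surjective (R : Type u) [CommRing R] [IsLocalRing R] [IsNoetherianRing R]
    [IsAdicComplete (maximalIdeal R) R] :
    ∃ (P : Type u) (_ : CommRing P) (_ : IsRegularLocalRing P) (f : P →+* R),
      Function.Surjective f := by
  obtain ⟨Λ, _, n, f, hΛ, hf⟩ :=
    Groth.Agent.Lib.Helper88.CohenStruct.exists_surjective_mvPowerSeries R
      (IsNoetherian.noetherian _)
  rcases hΛ with hΛ | ⟨hdom, hdvr, hcomp, p, hp, hm⟩
  · letI := hΛ.toField
    exact ⟨MvPowerSeries (Fin n) Λ, inferInstance, inferInstance, f, hf⟩
  · have hnotfield : ¬ IsField Λ := IsDiscreteValuationRing.not_isField Λ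
    exact ⟨MvPowerSeries (Fin n) Λ, inferInstance,
      Groth.Agent.Lib.Helper96.isRegularLocalRing_mvPowerSeries_of_principal Λ hnotfield
        (p : Λ) hm n, f, hf⟩

theorem isRegularRing_of_isRegularLocalRing (P : Type u) [CommRing P] [IsRegularLocalRing P] :
    IsRegularRing P :=
  { isRegularLocalRing_localization := fun q _ => Groth.Agent.S0564.result P q }

theorem isCohenMacaulayRing_of_isRegularLocalRing (P : Type u) [CommRing P]
    [IsRegularLocalRing P] : LocCoh.IsCohenMacaulayRing P := by
  haveI := isRegularRing_of_isRegularLocalRing P
  exact Groth.Agent.S18865.isCohenMacaulayRing_of_isRegularRing P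

theorem isUniversallyCatenary_of_isRegularLocalRing (P : Type u) [CommRing P]
    [IsRegularLocalRing P] : CAlg.IsUniversallyCatenary P := by
  haveI := isCohenMacaulayRing_of_isRegularLocalRing P
  exact Groth.Agent.S0603.result P

theorem isUniversallyCatenary_of_surjective {P R : Type u} [CommRing P] [CommRing R] (f : P →+* R)
    (hf : Function.Surjective f) (hP : CAlg.IsUniversallyCatenary P) :
    CAlg.IsUniversallyCatenary R := by
  haveI := hP.1
  refine ⟨isNoetherianRing_of_surjective P R f hf, fun S _ _ hS => ?_⟩
  letI : Algebra P R := f.toAlgebra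
  letI : Algebra P S := ((algebraMap R S).comp f).toAlgebra
  haveI : IsScalarTower P R S := IsScalarTower.of_algebraMap_eq (fun x => rfl)
  haveI : Algebra.FiniteType P R :=
    Algebra.FiniteType.of_surjective (Algebra.ofId P R) hf
  haveI : Algebra.FiniteType P S := Algebra.FiniteType.trans ‹Algebra.FiniteType P R› hS
  exact hP.2 S inferInstance

/-- A complete Noetherian local ring is universally catenary. -/
theorem isUniversallyCatenary_of_complete (R : Type u) [CommRing R] [IsLocalRing R]
    [IsNoetherianRing R] [IsAdicComplete (maximalIdeal R) R] : CAlg.IsUniversallyCatenary R := by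
  obtain ⟨P, _, _, f, hf⟩ := exists_regular_surjective R
  exact isUniversallyCatenary_of_surjective f hf (isUniversallyCatenary_of_isRegularLocalRing P)

/-- A universally catenary ring is catenary. -/
theorem isCatenary_of_isUniversallyCatenary {R : Type u} [CommRing R]
    (h : CAlg.IsUniversallyCatenary R) : CAlg.IsCatenary R := by
  exact h.2 R inferInstance

end Groth.Agent.Lib.Helper15.CompleteUCat
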