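import Mathlib

/-!
# Completion of a quotient ring vs quotient of the completion
-/

universe u

namespace Groth.Agent.Lib.Helper15.ComplQuot

open AdicCompletion

variable {R : Type*} [CommRing R] (I p : Ideal R)

/-- the map `R/I^n → (R/p)/(I(R/p))^n` -/
noncomputable def quotMap (n : ℕ) :
    R ⧸ I ^ n →+* (R ⧸ p) ⧸ (I.map (Ideal.Quotient.mk p)) ^ n :=
  Ideal.quotientMap _ (Ideal.Quotient.mk p) (by
    rw [← Ideal.map_le_iff_le_comap, Ideal.map_pow])

@[simp]
theorem quotMap_mk (n : ℕ) (r : R) :
    quotMap I p n (Ideal.Quotient.mk _ r) = Ideal.Quotient.mk _ (Ideal.Quotient.mk p r) := by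
  simp [quotMap]

theorem cauchy_sub_mem {m n : ℕ} (hle : m ≤ n) (a : AdicCauchySequence I R) :
    a.val n - a.val m ∈ I ^ m := by
  have := AdicCompletion.Ideal.mk_eq_mk I hle a
  rwa [Ideal.Quotient.eq] at this

theorem compat {m n : ℕ} (hle : m ≤ n) :
    (Ideal.Quotient.factorPow (I.map (Ideal.Quotient.mk p)) hle).comp
      ((quotMap I p n).comp (evalₐ I n).toRingHom) = (quotMap I p m).comp (evalₐ I m).toRingHom := by
  ext x
  induction x using AdicCompletion.induction_on with
  | h a =>
    simp only [RingHom.coe_comp, Function.comp_apply, AlgHom.toRingHom_eq_coe, RingHom.coe_coe,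
      evalₐ_mk, quotMap_mk]
    rw [Ideal.Quotient.factorPow, Ideal.Quotient.factor_mk, Ideal.Quotient.eq, ← map_sub,
      ← Ideal.map_pow]
    exact Ideal.mem_map_of_mem _ (cauchy_sub_mem I hle a)

/-- the canonical ring map `R̂ → (R/p)^`. -/
noncomputable def Φ : AdicCompletion I R →+* AdicCompletion (I.map (Ideal.Quotient.mk p)) (R ⧸ p) :=
  AdicCompletion.liftRingHom _ (fun n => (quotMap I p n).comp (evalₐ I n).toRingHom)
    (fun hle => compat I p hle)

theorem evalₐ_Φ_mk (n : ℕ) (a : AdicCauchySequence I R) :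
    evalₐ _ n (Φ I p (mk I R a)) = Ideal.Quotient.mk _ (Ideal.Quotient.mk p (a.val n)) := by
  rw [Φ, evalₐ_liftRingHom]
  simp

theorem Φ_of (r : R) : Φ I p (of I R r) = of _ _ (Ideal.Quotient.mk p r) := by
  apply ext_evalₐ
  intro n
  rw [Φ, evalₐ_liftRingHom]
  simp

theorem Φ_algebraMap_of_mem {r : R} (hr : r ∈ p) : Φ I p (algebraMap R _ r) = 0 := by
  rw [AdicCompletion.algebraMap_apply, Φ_of, Algebra.algebraMap_self, RingHom.id_apply,
    Ideal.Quotient.eq_zero_iff_mem.mpr hr, _root_.map_zero]

theorem map_le_ker_Φ : p.map (algebraMap R (AdicCompletion I R)) ≤ RingHom.ker (Φ I p) := by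
  rw [Ideal.map_le_iff_le_comap]
  intro r hr
  exact Φ_algebraMap_of_mem I p hr

theorem ofTensorProduct_map_subtype_mem [IsNoetherianRing R]
    (t : TensorProduct R (AdicCompletion I R) p) :
    map I p.subtype (ofTensorProduct I p t) ∈ p.map (algebraMap R (AdicCompletion I R)) := by
  have hnat := LinearMap.congr_fun (ofTensorProduct_naturality I (p.subtype)) t
  simp only [LinearMap.coe_comp, Function.comp_apply] at hnat
  rw [hnat]
  clear hnat
  induction t using TensorProduct.induction_on with
  | zero => simp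
  | tmul r b =>
    simp only [TensorProduct.AlgebraTensorModule.map_tmul, LinearMap.id_coe, id_eq,
      Submodule.subtype_apply, ofTensorProduct_tmul]
    change r * (of I R) ↑b ∈ _
    apply Ideal.mul_mem_left
    have : of I R (b : R) = algebraMap R (AdicCompletion I R) b := by
      rw [AdicCompletion.algebraMap_apply, Algebra.algebraMap_self, RingHom.id_apply]
    rw [this]
    exact Ideal.mem_map_of_mem _ b.2
  | add t₁ t₂ h₁ h₂ =>
    rw [_root_.map_add, _root_.map_add]
    exact Ideal.add_mem _ h₁ h₂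

theorem ker_Φ_le [IsNoetherianRing R] :
    RingHom.ker (Φ I p) ≤ p.map (algebraMap R (AdicCompletion I R)) := by
  intro x hx
  rw [RingHom.mem_ker] at hx
  have hf : Function.Injective p.subtype := Subtype.val_injective
  have hfg : Function.Exact p.subtype p.mkQ := by
    intro y
    rw [Submodule.mkQ_apply, Submodule.Quotient.mk_eq_zero]
    simp
  have hg : Function.Surjective p.mkQ := Submodule.mkQ_surjective p
  have hex := AdicCompletion.map_exact (I := I) hf hfg hg
  have hx0 : map I p.mkQ x = 0 := by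
    induction x using AdicCompletion.induction_on with
    | h a =>
      ext n
      simp only [map_mk, AdicCompletion.mk_apply_coe, AdicCauchySequence.map_apply_coe,
        Submodule.mkQ_apply, AdicCompletion.val_zero]
      change Submodule.Quotient.mk (Submodule.Quotient.mk (a.val n)) = 0
      rw [Submodule.Quotient.mk_eq_zero]
      have h1 : evalₐ _ n (Φ I p (mk I R a)) = 0 := by rw [hx, _root_.map_zero]
      rw [evalₐ_Φ_mk, Ideal.Quotient.eq_zero_iff_mem, ← Ideal.map_pow] at h1
      obtain ⟨i, hi, hi2⟩ := (Ideal.mem_map_iff_of_surjective _ Ideal.Quotient.mk_surjective).mp h1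
      have h2 : (Submodule.Quotient.mk (a.val n) : R ⧸ p) = i • (1 : R ⧸ p) := by
        change Ideal.Quotient.mk p (a.val n) = _
        rw [← hi2, Algebra.smul_def, mul_one]
        rfl
      rw [h2]
      exact Submodule.smul_mem_smul hi Submodule.mem_top
  obtain ⟨y, hy⟩ := (hex x).mp hx0
  obtain ⟨t, rfl⟩ := ofTensorProduct_surjective_of_finite I p y
  rw [← hy]
  exact ofTensorProduct_map_subtype_mem I p t

theorem ker_Φ [IsNoetherianRing R] :
    RingHom.ker (Φ I p) = p.map (algebraMap R (AdicCompletion I R)) :=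
  le_antisymm (ker_Φ_le I p) (map_le_ker_Φ I p)

/-- If the completion of `R ⧸ p` is reduced, so is `R̂ ⧸ p R̂`. -/
theorem isReduced_quotient_map [IsNoetherianRing R] (J : Ideal (R ⧸ p))
    (hJ : J = I.map (Ideal.Quotient.mk p)) (hred : IsReduced (AdicCompletion J (R ⧸ p))) :
    IsReduced (AdicCompletion I R ⧸ p.map (algebraMap R (AdicCompletion I R))) := by
  subst hJ
  rw [← ker_Φ I p]
  exact isReduced_of_injective (RingHom.kerLift (Φ I p)) (RingHom.kerLift_injective (Φ I p))

end Groth.Agent.Lib.Helper15.ComplQuot
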