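import Mathlib

universe u

namespace Groth.Agent.Lib.Helper15.FlatQuot

open TensorProduct

variable {R S : Type*} [CommRing R] [CommRing S] [Algebra R S] (I : Ideal R)

/-- `S/IS` as an `R/I`-algebra. -/
@[reducible] noncomputable def quotAlgebra : Algebra (R ⧸ I) (S ⧸ I.map (algebraMap R S)) :=
  (Ideal.quotientMap (I.map (algebraMap R S)) (algebraMap R S) Ideal.le_comap_map).toAlgebra

attribute [local instance] quotAlgebra

theorem isScalarTower_quot : IsScalarTower R (R ⧸ I) (S ⧸ I.map (algebraMap R S)) :=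
  IsScalarTower.of_algebraMap_eq (fun r => by
    rw [IsScalarTower.algebraMap_apply R S (S ⧸ I.map (algebraMap R S))]
    rfl)

theorem flat_quot [Module.Flat R S] : Module.Flat (R ⧸ I) (S ⧸ I.map (algebraMap R S)) := by
  have := isScalarTower_quot (S := S) I
  let e₀ : (S ⧸ I.map (algebraMap R S)) ≃ₗ[R] (R ⧸ I) ⊗[R] S :=
    ((Algebra.TensorProduct.quotIdealMapEquivTensorQuot S I).toLinearEquiv.restrictScalars R) ≪≫ₗ
      (TensorProduct.comm R S (R ⧸ I))
  let e : (S ⧸ I.map (algebraMap R S)) ≃ₗ[R ⧸ I] (R ⧸ I) ⊗[R] S :=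
    LinearEquiv.extendScalarsOfSurjective (Ideal.Quotient.mk_surjective) e₀
  exact Module.Flat.of_linearEquiv e

end Groth.Agent.Lib.Helper15.FlatQuot
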