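import Mathlib
import Groth.Prelude.Def_Found
import Groth.Prelude.Def_EGA4b
import Groth.Agent.Lib.Helper15.CatDim
import Groth.Agent.Lib.Helper15.FlatQuot
import Groth.Agent.Lib.Helper29.RegHom
import Groth.Agent.Lib.Helper29.FormalEquidim
import Groth.Agent.Lib.Helper29.Catenary
import Groth.Agent.Lib.Helper34.Catenary
import Groth.Agent.Lib.Helper73.FieldCatenary

/-!
# Descent of "equidimensional and catenary" along flat local homomorphisms (EGA IV 7.1.1–7.1.3)
-/

set_option autoImplicit false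
set_option linter.unusedSectionVars false
universe u

namespace Groth.Agent.Lib.Helper15.FlatEquidim

open IsLocalRing Groth.Agent.Lib.Helper15 Groth.Agent.Lib.Helper29 Groth.Agent.Lib.Helper34


section Basic

theorem exists_nat_dim (R : Type u) [CommRing R] [IsNoetherianRing R] [IsLocalRing R] :
    ∃ n : ℕ, ringKrullDim R = n := by
  have h1 : ringKrullDim R ≠ ⊤ := ringKrullDim_ne_top
  have h2 : ringKrullDim R ≠ ⊥ := ringKrullDim_ne_bot
  obtain ⟨m, hm⟩ := WithBot.ne_bot_iff_exists.1 h2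
  have h3 : m ≠ ⊤ := by
    rintro rfl
    exact h1 hm.symm
  obtain ⟨n, hn⟩ := ENat.ne_top_iff_exists.1 h3
  exact ⟨n, by rw [← hm, ← hn]; rfl⟩

/-- `ht P + dim R/P ≤ dim R`. -/
theorem height_add_dim_quotient_le (R : Type u) [CommRing R] (P : Ideal R) [hP : P.IsPrime] :
    (P.height : WithBot ℕ∞) + ringKrullDim (R ⧸ P) ≤ ringKrullDim R := by
  rw [CatDomain.ringKrullDim_quotient_eq_coheight ⟨P, hP⟩]
  have : Nonempty (PrimeSpectrum R) := ⟨⟨P, hP⟩⟩
  rw [ringKrullDim, Order.krullDim_eq_iSup_height_add_coheight_of_nonempty,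
    show P.height = Order.height (⟨P, hP⟩ : PrimeSpectrum R) from
      PrimeSpectrum.height_eq_orderHeight ⟨P, hP⟩, ← WithBot.coe_add, WithBot.coe_le_coe]
  exact le_iSup (fun b : PrimeSpectrum R => Order.height b + Order.coheight b) ⟨P, hP⟩

/-- In an equidimensional catenary Noetherian local ring, `ht P + dim R/P = dim R`. -/
theorem height_add_dim_quotient (R : Type u) [CommRing R] [IsNoetherianRing R] [IsLocalRing R]
    (hcat : CAlg.IsCatenary R) (heq : EGA4.IsEquidim R) (P : Ideal R) [hP : P.IsPrime] :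
    (P.height : WithBot ℕ∞) + ringKrullDim (R ⧸ P) = ringKrullDim R := by
  have h := CatDim.height_add_coheight hcat heq ⟨P, hP⟩
  rw [CatDomain.ringKrullDim_quotient_eq_coheight ⟨P, hP⟩, ← h,
    show P.height = Order.height (⟨P, hP⟩ : PrimeSpectrum R) from
      PrimeSpectrum.height_eq_orderHeight ⟨P, hP⟩]
  push_cast
  rfl

end Basic

section GoingDown

variable {A B : Type u} [CommRing A] [CommRing B] [Algebra A B] [Module.Flat A B]

/-- Relative version: for flat `A → B`, a prime `Q` minimal over `aB` contracts to a prime minimal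
over `a` and is minimal over `(Q ∩ A)B`. -/
theorem comap_mem_minimalPrimes (a : Ideal A) {Q : Ideal B}
    (hQ : Q ∈ (a.map (algebraMap A B)).minimalPrimes) :
    Q.comap (algebraMap A B) ∈ a.minimalPrimes ∧
      Q ∈ ((Q.comap (algebraMap A B)).map (algebraMap A B)).minimalPrimes := by
  have hQp : Q.IsPrime := hQ.1.1
  have hq : (Q.comap (algebraMap A B)).IsPrime := Ideal.IsPrime.comap _
  have haq : a ≤ Q.comap (algebraMap A B) := by
    rw [← Ideal.map_le_iff_le_comap]; exact hQ.1.2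
  refine ⟨⟨⟨hq, haq⟩, ?_⟩, ⟨⟨hQp, Ideal.map_comap_le⟩, ?_⟩⟩
  · rintro q' ⟨hq'p, haq'⟩ hq'q
    have : Q.LiesOver (Q.comap (algebraMap A B)) := ⟨rfl⟩
    obtain ⟨Q₁, hQ₁Q, hQ₁p, hQ₁over⟩ := Ideal.exists_ideal_le_liesOver_of_le (p := q')
      (q := Q.comap (algebraMap A B)) Q hq'q
    have h1 : a.map (algebraMap A B) ≤ Q₁ := by
      rw [Ideal.map_le_iff_le_comap]
      exact haq'.trans (hQ₁over.over).le
    have heq : Q ≤ Q₁ := hQ.2 ⟨hQ₁p, h1⟩ hQ₁Q
    intro x hx
    have : algebraMap A B x ∈ Q₁ := heq hx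
    rw [hQ₁over.over]
    exact this
  · rintro K ⟨hKp, hK⟩ hKQ
    refine hQ.2 ⟨hKp, ?_⟩ hKQ
    exact (Ideal.map_mono haq).trans hK

/-- Relative version: for flat `A → B`, `q` minimal over `a` and `Q` minimal over `qB`: then `Q` is
minimal over `aB` and lies over `q`. -/
theorem mem_minimalPrimes_map (a : Ideal A) {q : Ideal A} (hq : q ∈ a.minimalPrimes) {Q : Ideal B}
    (hQ : Q ∈ (q.map (algebraMap A B)).minimalPrimes) :
    Q ∈ (a.map (algebraMap A B)).minimalPrimes ∧ Q.comap (algebraMap A B) = q := by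
  have hqp : q.IsPrime := hq.1.1
  have hQp : Q.IsPrime := hQ.1.1
  have hle : q ≤ Q.comap (algebraMap A B) := by
    rw [← Ideal.map_le_iff_le_comap]; exact hQ.1.2
  have : Q.LiesOver (Q.comap (algebraMap A B)) := ⟨rfl⟩
  obtain ⟨Q₁, hQ₁Q, hQ₁p, hQ₁over⟩ := Ideal.exists_ideal_le_liesOver_of_le (p := q)
    (q := Q.comap (algebraMap A B)) Q hle
  have hQ₁ : q.map (algebraMap A B) ≤ Q₁ := by
    rw [Ideal.map_le_iff_le_comap]
    exact (hQ₁over.over).le
  have heq : Q₁ = Q := le_antisymm hQ₁Q (hQ.2 ⟨hQ₁p, hQ₁⟩ hQ₁Q)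
  have hcomap : Q.comap (algebraMap A B) = q := by
    rw [← heq]
    exact (hQ₁over.over).symm
  refine ⟨⟨⟨hQp, (Ideal.map_mono hq.1.2).trans hQ.1.2⟩, ?_⟩, hcomap⟩
  rintro K ⟨hKp, hK⟩ hKQ
  have h1 : a ≤ K.comap (algebraMap A B) := by
    rw [← Ideal.map_le_iff_le_comap]; exact hK
  have h2 : K.comap (algebraMap A B) ≤ q := by
    rw [← hcomap]; exact Ideal.comap_mono hKQ
  have h3 : q ≤ K.comap (algebraMap A B) := hq.2 ⟨Ideal.IsPrime.comap _, h1⟩ h2
  refine hQ.2 ⟨hKp, ?_⟩ hKQ
  rw [Ideal.map_le_iff_le_comap]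
  exact h3

/-- For flat `A → B` and `Q` minimal over `qB` lying over the prime `q`: `ht Q = ht q`. -/
theorem height_eq_of_mem_minimalPrimes_map [IsNoetherianRing A] [IsNoetherianRing B]
    {q : Ideal A} [q.IsPrime] {Q : Ideal B}
    (hQ : Q ∈ (q.map (algebraMap A B)).minimalPrimes) (hcomap : Q.comap (algebraMap A B) = q) :
    Q.height = q.height := by
  have hQp : Q.IsPrime := hQ.1.1
  have : Q.LiesOver q := ⟨hcomap.symm⟩
  have hform := Ideal.height_eq_height_add_of_liesOver_of_hasGoingDown q Q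
  have h0 : (Q.map (Ideal.Quotient.mk (q.map (algebraMap A B)))).height = 0 := by
    rw [Ideal.minimalPrimes_eq_comap] at hQ
    obtain ⟨Q', hQ', rfl⟩ := hQ
    rw [Ideal.map_comap_of_surjective _ Ideal.Quotient.mk_surjective]
    have : Q'.IsPrime := hQ'.1.1
    exact Ideal.height_eq_zero_iff.2 hQ'
  rw [h0, add_zero] at hform
  exact hform

end GoingDown


section Main

variable (A A' : Type u) [CommRing A] [CommRing A'] [IsNoetherianRing A] [IsNoetherianRing A']
  [IsLocalRing A] [IsLocalRing A'] [Algebra A A'] [IsLocalHom (algebraMap A A')]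

attribute [local instance] FlatQuot.quotAlgebra

omit [IsNoetherianRing A] [IsNoetherianRing A'] in
theorem map_le_maximalIdeal (a : Ideal A) (ha : a ≠ ⊤) :
    a.map (algebraMap A A') ≤ maximalIdeal A' :=
  (Ideal.map_mono (le_maximalIdeal ha)).trans (IsLocalRing.map_maximalIdeal_le (algebraMap A A'))

omit [IsNoetherianRing A] [IsNoetherianRing A'] in
theorem nontrivial_quot (a : Ideal A) (ha : a ≠ ⊤) :
    Nontrivial (A' ⧸ a.map (algebraMap A A')) := by
  rw [Ideal.Quotient.nontrivial_iff]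
  intro h
  have := map_le_maximalIdeal A A' a ha
  rw [h] at this
  exact (Ideal.IsPrime.ne_top (inferInstance : (maximalIdeal A').IsPrime)) (top_le_iff.1 this)

omit [IsNoetherianRing A] [IsNoetherianRing A'] in
theorem isLocalHom_quot (a : Ideal A) [Nontrivial (A' ⧸ a.map (algebraMap A A'))] :
    IsLocalHom (algebraMap (A ⧸ a) (A' ⧸ a.map (algebraMap A A'))) := by
  have h1 : IsLocalHom (Ideal.Quotient.mk (a.map (algebraMap A A'))) :=
    IsLocalHom.of_surjective _ Ideal.Quotient.mk_surjective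
  constructor
  intro x hx
  obtain ⟨y, rfl⟩ := Ideal.Quotient.mk_surjective x
  have h2 : algebraMap (A ⧸ a) (A' ⧸ a.map (algebraMap A A')) (Ideal.Quotient.mk a y) =
      Ideal.Quotient.mk _ (algebraMap A A' y) := rfl
  rw [h2] at hx
  have h3 : IsUnit (algebraMap A A' y) := isUnit_of_map_unit _ _ hx
  have h4 : IsUnit y := isUnit_of_map_unit _ _ h3
  exact h4.map _

omit [IsNoetherianRing A] [IsNoetherianRing A'] [IsLocalHom (algebraMap A A')] in
/-- The closed fibre of `A/a → A'/aA'` is that of `A → A'`. -/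
theorem ringKrullDim_fibre_quot (a : Ideal A) [Nontrivial (A ⧸ a)] :
    ringKrullDim ((A' ⧸ a.map (algebraMap A A')) ⧸
      (maximalIdeal (A ⧸ a)).map (algebraMap (A ⧸ a) (A' ⧸ a.map (algebraMap A A')))) =
    ringKrullDim (A' ⧸ (maximalIdeal A).map (algebraMap A A')) := by
  have ha : a ≤ maximalIdeal A := le_maximalIdeal (by
    intro h
    have : Subsingleton (A ⧸ a) := Ideal.Quotient.subsingleton_iff.2 h
    exact not_subsingleton (A ⧸ a) this)
  have h1 : (maximalIdeal (A ⧸ a)).map (algebraMap (A ⧸ a) (A' ⧸ a.map (algebraMap A A'))) =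
      ((maximalIdeal A).map (algebraMap A A')).map (Ideal.Quotient.mk (a.map (algebraMap A A'))) := by
    rw [← FormalEquidim.map_mk_maximalIdeal A a, Ideal.map_map, Ideal.map_map]
    rfl
  have h2 : a.map (algebraMap A A') ⊔ (maximalIdeal A).map (algebraMap A A') =
      (maximalIdeal A).map (algebraMap A A') := sup_eq_right.2 (Ideal.map_mono ha)
  exact ringKrullDim_eq_of_ringEquiv ((Ideal.quotEquivOfEq h1).trans
    ((DoubleQuot.quotQuotEquivQuotSup _ _).trans (Ideal.quotEquivOfEq h2)))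

variable [Module.Flat A A']

/-- `dim A'/aA' = dim A/a + dim A'/𝔪A'`. -/
theorem ringKrullDim_quot_eq_add (a : Ideal A) (ha : a ≠ ⊤) :
    ringKrullDim (A' ⧸ a.map (algebraMap A A')) =
      ringKrullDim (A ⧸ a) + ringKrullDim (A' ⧸ (maximalIdeal A).map (algebraMap A A')) := by
  have : Nontrivial (A ⧸ a) := Ideal.Quotient.nontrivial_iff.2 ha
  have : Nontrivial (A' ⧸ a.map (algebraMap A A')) := nontrivial_quot A A' a ha
  have := isLocalHom_quot A A' a
  have := FlatQuot.flat_quot (S := A') a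
  rw [RegHom.ringKrullDim_eq_add (A ⧸ a) (A' ⧸ a.map (algebraMap A A')),
    ringKrullDim_fibre_quot A A' a]

/-- **Key claim**: if `A → A'` is flat local with `A'` equidimensional and catenary, then
`ht p + dim A/p = dim A` for every prime `p` of `A`. -/
theorem height_add_dim_quotient_of_flat (heq : EGA4.IsEquidim A') (hcat : CAlg.IsCatenary A')
    (p : Ideal A) [hp : p.IsPrime] :
    (p.height : WithBot ℕ∞) + ringKrullDim (A ⧸ p) = ringKrullDim A := by
  apply le_antisymm (height_add_dim_quotient_le A p)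
  have hne : p.map (algebraMap A A') ≠ ⊤ := by
    intro h
    have := map_le_maximalIdeal A A' p hp.ne_top
    rw [h] at this
    exact (Ideal.IsPrime.ne_top (inferInstance : (maximalIdeal A').IsPrime)) (top_le_iff.1 this)
  obtain ⟨P', hP'⟩ := Ideal.nonempty_minimalPrimes hne
  have hP'p : P'.IsPrime := hP'.1.1
  have hpmin : p ∈ p.minimalPrimes := ⟨⟨hp, le_rfl⟩, fun _ h _ => h.2⟩
  have hcomap := (mem_minimalPrimes_map p hpmin hP').2
  have hht : P'.height = p.height := height_eq_of_mem_minimalPrimes_map hP' hcomap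
  have h1 := height_add_dim_quotient A' hcat heq P'
  have h2 : ringKrullDim (A' ⧸ P') ≤ ringKrullDim (A' ⧸ p.map (algebraMap A A')) :=
    ringKrullDim_le_of_surjective (Ideal.Quotient.factor hP'.1.2)
      (Ideal.Quotient.factor_surjective hP'.1.2)
  have h3 := ringKrullDim_quot_eq_add A A' p hp.ne_top
  have h4 := RegHom.ringKrullDim_eq_add A A'
  have : Nontrivial (A ⧸ p) := Ideal.Quotient.nontrivial_iff.2 hp.ne_top
  have : Nontrivial (A' ⧸ (maximalIdeal A).map (algebraMap A A')) :=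
    nontrivial_quot A A' _ (Ideal.IsPrime.ne_top inferInstance)
  obtain ⟨n, hn⟩ := exists_nat_dim A
  obtain ⟨f, hf⟩ := exists_nat_dim (A' ⧸ (maximalIdeal A).map (algebraMap A A'))
  obtain ⟨c, hc⟩ := exists_nat_dim (A ⧸ p)
  have hh : p.height ≠ ⊤ := Ideal.height_ne_top hp.ne_top
  obtain ⟨h, hh'⟩ := ENat.ne_top_iff_exists.1 hh
  rw [hht, ← hh'] at h1
  rw [hn, hf] at h4
  rw [hc, hf] at h3
  rw [h3] at h2
  rw [h4] at h1
  rw [hn, hc, ← hh']
  -- h1 : h + dim A'/P' = n + f ; h2 : dim A'/P' ≤ c + f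
  have h5 : ((n + f : ℕ) : WithBot ℕ∞) ≤ ((h + (c + f) : ℕ) : WithBot ℕ∞) := by
    push_cast
    calc ((n : WithBot ℕ∞) + f) = ((h : ℕ∞) : WithBot ℕ∞) + ringKrullDim (A' ⧸ P') := h1.symm
      _ ≤ ((h : ℕ∞) : WithBot ℕ∞) + ((c : WithBot ℕ∞) + f) := add_le_add le_rfl h2
      _ = _ := rfl
  have h6 : n + f ≤ h + (c + f) := by exact_mod_cast h5
  have h7 : n ≤ h + c := by omega
  exact_mod_cast h7

/-- For a prime `q` of `A` and `Q` minimal over `qA'`: `dim A'/Q = dim A/q + dim A'/𝔪A'`. -/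
theorem dim_quot_of_mem_minimalPrimes_map (heq : EGA4.IsEquidim A') (hcat : CAlg.IsCatenary A')
    (q : Ideal A) [hq : q.IsPrime] {Q : Ideal A'} (hQ : Q ∈ (q.map (algebraMap A A')).minimalPrimes) :
    ringKrullDim (A' ⧸ Q) =
      ringKrullDim (A ⧸ q) + ringKrullDim (A' ⧸ (maximalIdeal A).map (algebraMap A A')) := by
  have hQp : Q.IsPrime := hQ.1.1
  have hqmin : q ∈ q.minimalPrimes := ⟨⟨hq, le_rfl⟩, fun _ h _ => h.2⟩
  have hcomap := (mem_minimalPrimes_map q hqmin hQ).2
  have hht : Q.height = q.height := height_eq_of_mem_minimalPrimes_map hQ hcomap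
  have h1 := height_add_dim_quotient A' hcat heq Q
  have h2 := height_add_dim_quotient_of_flat A A' heq hcat q
  have h4 := RegHom.ringKrullDim_eq_add A A'
  have : Nontrivial (A ⧸ q) := Ideal.Quotient.nontrivial_iff.2 hq.ne_top
  have : Nontrivial (A' ⧸ Q) := Ideal.Quotient.nontrivial_iff.2 hQp.ne_top
  have : Nontrivial (A' ⧸ (maximalIdeal A).map (algebraMap A A')) :=
    nontrivial_quot A A' _ (Ideal.IsPrime.ne_top inferInstance)
  obtain ⟨n, hn⟩ := exists_nat_dim A
  obtain ⟨f, hf⟩ := exists_nat_dim (A' ⧸ (maximalIdeal A).map (algebraMap A A'))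
  obtain ⟨c, hc⟩ := exists_nat_dim (A ⧸ q)
  obtain ⟨d, hd⟩ := exists_nat_dim (A' ⧸ Q)
  have hh : q.height ≠ ⊤ := Ideal.height_ne_top hq.ne_top
  obtain ⟨h, hh'⟩ := ENat.ne_top_iff_exists.1 hh
  rw [hht, ← hh', hd, h4, hn, hf] at h1
  rw [← hh', hc, hn] at h2
  rw [hd, hc, hf]
  have h1' : h + d = n + f := by exact_mod_cast h1
  have h2' : h + c = n := by exact_mod_cast h2
  have : d = c + f := by omega
  exact_mod_cast this

/-- `A` is equidimensional. -/
theorem isEquidim_of_flat (heq : EGA4.IsEquidim A') (hcat : CAlg.IsCatenary A') :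
    EGA4.IsEquidim A := by
  intro p hp
  have hpp : p.IsPrime := hp.1.1
  have h := height_add_dim_quotient_of_flat A A' heq hcat p
  rw [Ideal.height_eq_zero_iff.2 hp] at h
  simpa using h

/-- `A'/pA'` is equidimensional for every prime `p` of `A`. -/
theorem isEquidim_quot_map (heq : EGA4.IsEquidim A') (hcat : CAlg.IsCatenary A')
    (p : Ideal A) [hp : p.IsPrime] : EGA4.IsEquidim (A' ⧸ p.map (algebraMap A A')) := by
  rw [FormalEquidim.isEquidim_quotient_iff]
  intro Q hQ
  rw [dim_quot_of_mem_minimalPrimes_map A A' heq hcat p hQ,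
    ringKrullDim_quot_eq_add A A' p hp.ne_top]

/-- `dim A/a = dim A/b + 1` when `a ⋖ b` in `Spec A`. -/
theorem dim_quotient_of_covBy (heq : EGA4.IsEquidim A') (hcat : CAlg.IsCatenary A')
    (a b : PrimeSpectrum A) (hab : a ⋖ b) :
    ringKrullDim (A ⧸ a.asIdeal) = ringKrullDim (A ⧸ b.asIdeal) + 1 := by
  have hp : a.asIdeal.IsPrime := a.2
  have : Nontrivial (A ⧸ a.asIdeal) := Ideal.Quotient.nontrivial_iff.2 hp.ne_top
  have : Nontrivial (A' ⧸ a.asIdeal.map (algebraMap A A')) := nontrivial_quot A A' _ hp.ne_top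
  have := isLocalHom_quot A A' a.asIdeal
  have := FlatQuot.flat_quot (S := A') a.asIdeal
  have heq' := isEquidim_quot_map A A' heq hcat a.asIdeal
  have hcat' := isCatenary_quotient A' (a.asIdeal.map (algebraMap A A')) hcat
  have hle : a.asIdeal ≤ b.asIdeal := hab.1.le
  have hQ : (b.asIdeal.map (Ideal.Quotient.mk a.asIdeal)).IsPrime :=
    Ideal.map_isPrime_of_surjective Ideal.Quotient.mk_surjective (by rw [Ideal.mk_ker]; exact hle)
  have h1 := height_add_dim_quotient_of_flat (A ⧸ a.asIdeal) (A' ⧸ a.asIdeal.map (algebraMap A A'))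
    heq' hcat' (b.asIdeal.map (Ideal.Quotient.mk a.asIdeal))
  rw [Catenary.height_map_mk_eq_one a b hab,
    ringKrullDim_eq_of_ringEquiv (DoubleQuot.quotQuotEquivQuotOfLE hle)] at h1
  rw [← h1, add_comm]
  rfl

/-- `A` is catenary. -/
theorem isCatenary_of_flat (heq : EGA4.IsEquidim A') (hcat : CAlg.IsCatenary A') :
    CAlg.IsCatenary A := by
  rw [isCatenary_iff]
  have hfin : ∀ x : PrimeSpectrum A, ∃ c : ℕ, ringKrullDim (A ⧸ x.asIdeal) = c := by
    intro x
    have : Nontrivial (A ⧸ x.asIdeal) := Ideal.Quotient.nontrivial_iff.2 x.2.ne_top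
    exact exists_nat_dim _
  choose δ hδ using hfin
  refine Groth.Agent.Lib.Helper73.DimFormula.posetCatenary_of_dimFun (fun x => (δ x : ℤ)) ?_ ?_
  · intro a b hab
    have h1 : Order.coheight b + 1 ≤ Order.coheight a := Order.coheight_add_one_le hab
    have ha := hδ a
    have hb := hδ b
    rw [CatDomain.ringKrullDim_quotient_eq_coheight] at ha hb
    have ha' : Order.coheight a = (δ a : ℕ∞) := by exact_mod_cast ha
    have hb' : Order.coheight b = (δ b : ℕ∞) := by exact_mod_cast hb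
    rw [ha', hb'] at h1
    have : δ b + 1 ≤ δ a := by exact_mod_cast h1
    simp only [Nat.cast_lt]
    omega
  · intro a b hab
    have h := dim_quotient_of_covBy A A' heq hcat a b hab
    rw [hδ a, hδ b] at h
    have : δ a = δ b + 1 := by exact_mod_cast h
    simp only [this]
    push_cast
    rfl

/-- EGA IV 7.1.2-style: with zero-dimensional closed fibre, `A'/aA'` is equidimensional iff `A/a`
is. -/
theorem isEquidim_quot_map_iff (heq : EGA4.IsEquidim A') (hcat : CAlg.IsCatenary A')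
    (h0 : ringKrullDim (A' ⧸ (maximalIdeal A).map (algebraMap A A')) = 0) (a : Ideal A) :
    EGA4.IsEquidim (A' ⧸ a.map (algebraMap A A')) ↔ EGA4.IsEquidim (A ⧸ a) := by
  by_cases ha : a = ⊤
  · subst ha
    have h1 : ∀ (R : Type u) [CommRing R], Subsingleton R → EGA4.IsEquidim R := by
      intro R _ hR p hp
      exact absurd (Subsingleton.elim (1 : R) 0 ▸ p.zero_mem : (1 : R) ∈ p)
        (p.ne_top_iff_one.1 hp.1.1.ne_top)
    constructor
    · intro _
      exact h1 _ (Ideal.Quotient.subsingleton_iff.2 rfl)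
    · intro _
      exact h1 _ (Ideal.Quotient.subsingleton_iff.2 (Ideal.map_top _))
  rw [FormalEquidim.isEquidim_quotient_iff, FormalEquidim.isEquidim_quotient_iff]
  have hdim := ringKrullDim_quot_eq_add A A' a ha
  rw [h0, add_zero] at hdim
  constructor
  · intro h q hq
    have hqp : q.IsPrime := hq.1.1
    have hne : q.map (algebraMap A A') ≠ ⊤ := by
      intro h
      have := map_le_maximalIdeal A A' q hqp.ne_top
      rw [h] at this
      exact (Ideal.IsPrime.ne_top (inferInstance : (maximalIdeal A').IsPrime)) (top_le_iff.1 this)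
    obtain ⟨Q, hQ⟩ := Ideal.nonempty_minimalPrimes hne
    have hQa := (mem_minimalPrimes_map a hq hQ).1
    have h1 := dim_quot_of_mem_minimalPrimes_map A A' heq hcat q hQ
    rw [h0, add_zero] at h1
    rw [← h1, h Q hQa, hdim]
  · intro h Q hQ
    obtain ⟨hq, hQq⟩ := comap_mem_minimalPrimes a hQ
    have hqp : (Q.comap (algebraMap A A')).IsPrime := hq.1.1
    have h1 := dim_quot_of_mem_minimalPrimes_map A A' heq hcat _ hQq
    rw [h0, add_zero] at h1
    rw [h1, h _ hq, hdim]

end Main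

end Groth.Agent.Lib.Helper15.FlatEquidim
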