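import Mathlib
import Groth.Prelude.Def_EGA4c

set_option autoImplicit false
universe u

open AlgebraicGeometry CategoryTheory Opposite TopologicalSpace

namespace Groth.Agent.Lib.Helper15.ZClosed

section Alg

variable {A : Type u} [CommRing A] {M : Type u} [AddCommGroup M] [Module A M]

/-- If `z/1 = 0` in `M_x` for all `x ∈ D(f)` then `f^N z = 0`. -/
theorem exists_pow_smul_eq_zero (z : M) (f : A)
    (h : ∀ x : PrimeSpectrum A, f ∉ x.asIdeal →
      (LocalizedModule.mk z 1 : LocalizedModule x.asIdeal.primeCompl M) = 0) :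
    ∃ N : ℕ, f ^ N • z = 0 := by
  let I : Ideal A := LinearMap.ker (LinearMap.toSpanSingleton A M z)
  have hI : ∀ r, r ∈ I ↔ r • z = 0 := fun r => by
    simp [I, LinearMap.mem_ker, LinearMap.toSpanSingleton_apply]
  have hf : f ∈ I.radical := by
    rw [Ideal.radical_eq_sInf, Ideal.mem_sInf]
    rintro p ⟨hIp, hp⟩
    by_contra hfp
    have h0 := h ⟨p, hp⟩ hfp
    rw [← LocalizedModule.zero_mk 1, LocalizedModule.mk_eq] at h0
    obtain ⟨u, hu⟩ := h0
    have : (u : A) • z = 0 := by simpa [Submonoid.smul_def] using hu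
    exact u.2 (hIp ((hI _).mpr this))
  obtain ⟨N, hN⟩ := hf
  exact ⟨N, (hI _).mp hN⟩

/-- powers of a regular pair -/
theorem regular_pow_aux {a b : A} (ha : ∀ n : M, a • n = 0 → n = 0)
    (hb : ∀ n : M, (∃ n' : M, b • n = a • n') → ∃ c : M, n = a • c) (k : ℕ) :
    ∀ n : M, (∃ n' : M, b • n = a ^ k • n') → ∃ c : M, n = a ^ k • c := by
  induction k with
  | zero => intro n _; exact ⟨n, by simp⟩
  | succ k ih =>
    rintro n ⟨n', hn'⟩
    obtain ⟨c, rfl⟩ := hb n ⟨a ^ k • n', by rw [hn', pow_succ, mul_smul, smul_comm]⟩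
    have h1 : a • (b • c - a ^ k • n') = 0 := by
      rw [smul_sub, smul_comm a b c, hn', pow_succ, mul_smul, smul_comm a (a ^ k) n', sub_self]
    have h2 := ha _ h1
    obtain ⟨c', rfl⟩ := ih c ⟨n', sub_eq_zero.mp h2⟩
    exact ⟨c', by rw [pow_succ, mul_smul, smul_comm]⟩

theorem regular_pow {a b : A} (ha : ∀ n : M, a • n = 0 → n = 0)
    (hb : ∀ n : M, (∃ n' : M, b • n = a • n') → ∃ c : M, n = a • c) (k e : ℕ) :
    ∀ n : M, (∃ n' : M, b ^ e • n = a ^ k • n') → ∃ c : M, n = a ^ k • c := by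
  induction e with
  | zero => rintro n ⟨n', hn'⟩; exact ⟨n', by simpa using hn'⟩
  | succ e ih =>
    rintro n ⟨n', hn'⟩
    have h1 : b • (b ^ e • n) = a ^ k • n' := by
      rw [← hn', pow_succ, mul_smul, smul_comm]
    obtain ⟨c, hc⟩ := regular_pow_aux ha hb k (b ^ e • n) ⟨n', h1⟩
    exact ih n ⟨c, hc⟩

end Alg

section Sec

variable (A : Type u) [CommRing A] (M : Type u) [AddCommGroup M] [Module A M]

/-- concrete sections -/
abbrev Sec (U : Opens (PrimeSpectrum.Top A)) : Type u :=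
  (structureSheafInType A M).obj.obj (op U)

variable {A M}

theorem pow_regular {a : A} (ha : ∀ n : M, a • n = 0 → n = 0) (N : ℕ) :
    ∀ n : M, a ^ N • n = 0 → n = 0 := by
  induction N with
  | zero => intro n hn; simpa using hn
  | succ N ih =>
    intro n hn
    rw [pow_succ, mul_smul] at hn
    exact ha _ (ih _ hn)

theorem mk_eq_zero_of_smul_eq_zero {p : Ideal A} [p.IsPrime] (n : M) (g : p.primeCompl) (u : A)
    (hu : u ∉ p) (h : u • n = 0) : (LocalizedModule.mk n g : LocalizedModule p.primeCompl M) = 0 := by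
  rw [← LocalizedModule.zero_mk 1, LocalizedModule.mk_eq]
  exact ⟨⟨u, hu⟩, by simp [Submonoid.smul_def, h]⟩

theorem mk_one_eq_zero_of_mk_eq_zero {p : Ideal A} [p.IsPrime] (n : M) (g : p.primeCompl)
    (h : (LocalizedModule.mk n g : LocalizedModule p.primeCompl M) = 0) :
    (LocalizedModule.mk n 1 : LocalizedModule p.primeCompl M) = 0 := by
  rw [← LocalizedModule.zero_mk 1, LocalizedModule.mk_eq] at h ⊢
  obtain ⟨u, hu⟩ := h
  refine ⟨u, ?_⟩
  simpa using hu

/-- A section vanishing on `D(a)` with `a` regular on `M` is zero. -/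
theorem eq_zero_of_vanish {U : Opens (PrimeSpectrum.Top A)} (t : Sec A M U) {a : A}
    (ha : ∀ n : M, a • n = 0 → n = 0)
    (h : ∀ (x : PrimeSpectrum A) (hxU : x ∈ U), a ∉ x.asIdeal → t.1 ⟨x, hxU⟩ = 0) : t = 0 := by
  apply Subtype.ext
  funext x
  obtain ⟨g, hxg, i, n, hn⟩ := StructureSheaf.exists_const U t x.1 x.2
  have hval : ∀ y : PrimeSpectrum.Top A, ∀ hy : y ∈ PrimeSpectrum.basicOpen g,
      t.1 ⟨y, i hy⟩ = LocalizedModule.mk n ⟨g, hy⟩ := by
    intro y hy
    have := congrArg (fun s => s.1 ⟨y, hy⟩) hn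
    exact this.symm
  have hz : ∀ y : PrimeSpectrum A, g * a ∉ y.asIdeal →
      (LocalizedModule.mk n 1 : LocalizedModule y.asIdeal.primeCompl M) = 0 := by
    intro y hy
    have hgy : g ∉ y.asIdeal := fun hg => hy (y.asIdeal.mul_mem_right _ hg)
    have hay : a ∉ y.asIdeal := fun hg => hy (y.asIdeal.mul_mem_left _ hg)
    have h1 := hval y hgy
    rw [h y (i hgy) hay] at h1
    exact mk_one_eq_zero_of_mk_eq_zero n ⟨g, hgy⟩ h1.symm
  obtain ⟨N, hN⟩ := exists_pow_smul_eq_zero n (g * a) hz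
  rw [mul_pow, mul_comm, mul_smul] at hN
  have h2 := pow_regular ha N _ hN
  have h3 := hval x.1 hxg
  show t.1 x = 0
  have hx : x = ⟨x.1, i hxg⟩ := rfl
  rw [hx, h3]
  have hprime : x.1.asIdeal.IsPrime := x.1.isPrime
  have hgN : g ^ N ∉ x.1.asIdeal := fun hmem => hxg (hprime.mem_of_pow_mem N hmem)
  exact mk_eq_zero_of_smul_eq_zero (p := x.1.asIdeal) n _ (g ^ N) hgN h2

/-- Sections over a basic open are fractions. -/
theorem exists_eq_mk_of_basicOpen (a : A) (t : Sec A M (PrimeSpectrum.basicOpen a)) :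
    ∃ (m : M) (k : ℕ), ∀ (x : PrimeSpectrum A) (hx : a ∉ x.asIdeal),
      t.1 ⟨x, hx⟩ = (LocalizedModule.mk m ⟨a ^ k, fun hmem =>
        hx ((x.isPrime).mem_of_pow_mem k hmem)⟩ : LocalizedModule x.asIdeal.primeCompl M) := by
  obtain ⟨⟨m, ⟨_, k, rfl⟩⟩, hmk⟩ := IsLocalizedModule.surj (Submonoid.powers a)
    (StructureSheaf.toOpenₗ A M (PrimeSpectrum.basicOpen a)) t
  refine ⟨m, k, fun x hx => ?_⟩
  have h1 := congrArg (fun s => s.1 ⟨x, hx⟩) hmk
  have h2 : a ^ k • t.1 ⟨x, hx⟩ = (LocalizedModule.mk m 1 : LocalizedModule x.asIdeal.primeCompl M) :=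
    h1
  have hak : a ^ k ∈ x.asIdeal.primeCompl := fun hmem => hx ((x.isPrime).mem_of_pow_mem k hmem)
  have h3 : a ^ k • (LocalizedModule.mk m ⟨a ^ k, hak⟩ : LocalizedModule x.asIdeal.primeCompl M) =
      LocalizedModule.mk m 1 := by
    rw [LocalizedModule.smul'_mk]
    exact LocalizedModule.mk_cancel (⟨a ^ k, hak⟩ : x.asIdeal.primeCompl) m
  have hinj := IsLocalizedModule.smul_injective
    (LocalizedModule.mkLinearMap x.asIdeal.primeCompl M) (⟨a ^ k, hak⟩ : x.asIdeal.primeCompl)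
  apply hinj
  show a ^ k • t.1 ⟨x, hx⟩ = a ^ k • LocalizedModule.mk m ⟨a ^ k, hak⟩
  rw [h2, h3]

end Sec

section Main

variable {A : Type u} [CommRing A] (J : Ideal A) {M : Type u} [AddCommGroup M] [Module A M]

/-- the map `M → Γ(D(J), M~)` -/
noncomputable abbrev T : M →ₗ[A] Sec A M (EGA4.openCompl A J) :=
  StructureSheaf.toOpenₗ A M (EGA4.openCompl A J)

theorem T_apply (m : M) (x : PrimeSpectrum A) (hx : x ∈ EGA4.openCompl A J) :
    (T J m).1 ⟨x, hx⟩ = (LocalizedModule.mk m 1 : LocalizedModule x.asIdeal.primeCompl M) := rfl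

theorem mem_openCompl_iff (x : PrimeSpectrum A) :
    x ∈ EGA4.openCompl A J ↔ ¬ J ≤ x.asIdeal := Iff.rfl

theorem mem_openCompl_of_notMem {a : A} (haJ : a ∈ J) (x : PrimeSpectrum A) (hx : a ∉ x.asIdeal) :
    x ∈ EGA4.openCompl A J := fun h => hx (h haJ)

theorem basicOpen_le {a : A} (haJ : a ∈ J) : PrimeSpectrum.basicOpen a ≤ EGA4.openCompl A J :=
  fun x hx => mem_openCompl_of_notMem J haJ x hx

theorem injective_T_of_regular {a : A} (haJ : a ∈ J) (ha : ∀ n : M, a • n = 0 → n = 0) :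
    Function.Injective (T (M := M) J) := by
  rw [injective_iff_map_eq_zero]
  intro m hm
  have h : ∀ x : PrimeSpectrum A, a ∉ x.asIdeal →
      (LocalizedModule.mk m 1 : LocalizedModule x.asIdeal.primeCompl M) = 0 := by
    intro x hx
    have := congrArg (fun s => s.1 ⟨x, mem_openCompl_of_notMem J haJ x hx⟩) hm
    exact this
  obtain ⟨N, hN⟩ := exists_pow_smul_eq_zero m a h
  exact pow_regular ha N m hN

theorem surjective_T_of_regular_pair {a b : A} (haJ : a ∈ J) (hbJ : b ∈ J)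
    (ha : ∀ n : M, a • n = 0 → n = 0)
    (hb : ∀ n : M, (∃ n' : M, b • n = a • n') → ∃ c : M, n = a • c) :
    Function.Surjective (T (M := M) J) := by
  intro s
  obtain ⟨m₁, k, h₁⟩ := exists_eq_mk_of_basicOpen a
    ((structureSheafInType A M).1.map (homOfLE (basicOpen_le J haJ)).op s)
  obtain ⟨m₂, l, h₂⟩ := exists_eq_mk_of_basicOpen b
    ((structureSheafInType A M).1.map (homOfLE (basicOpen_le J hbJ)).op s)
  have hs₁ : ∀ (x : PrimeSpectrum A) (hx : a ∉ x.asIdeal),
      s.1 ⟨x, mem_openCompl_of_notMem J haJ x hx⟩ =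
        (LocalizedModule.mk m₁ ⟨a ^ k, fun hmem => hx ((x.isPrime).mem_of_pow_mem k hmem)⟩ :
          LocalizedModule x.asIdeal.primeCompl M) := fun x hx => h₁ x hx
  have hs₂ : ∀ (x : PrimeSpectrum A) (hx : b ∉ x.asIdeal),
      s.1 ⟨x, mem_openCompl_of_notMem J hbJ x hx⟩ =
        (LocalizedModule.mk m₂ ⟨b ^ l, fun hmem => hx ((x.isPrime).mem_of_pow_mem l hmem)⟩ :
          LocalizedModule x.asIdeal.primeCompl M) := fun x hx => h₂ x hx
  -- compare on D(ab)
  have hz : ∀ x : PrimeSpectrum A, a * b ∉ x.asIdeal →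
      (LocalizedModule.mk (b ^ l • m₁ - a ^ k • m₂) 1 :
        LocalizedModule x.asIdeal.primeCompl M) = 0 := by
    intro x hx
    have hax : a ∉ x.asIdeal := fun h => hx (x.asIdeal.mul_mem_right _ h)
    have hbx : b ∉ x.asIdeal := fun h => hx (x.asIdeal.mul_mem_left _ h)
    have h3 := (hs₁ x hax).symm.trans (hs₂ x hbx)
    rw [LocalizedModule.mk_eq] at h3
    obtain ⟨u, hu⟩ := h3
    rw [← LocalizedModule.zero_mk 1, LocalizedModule.mk_eq]
    refine ⟨u, ?_⟩
    simp only [Submonoid.smul_def] at hu ⊢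
    simp only [OneMemClass.coe_one, one_smul, smul_zero]
    rw [smul_sub, hu, sub_self]
  obtain ⟨N, hN⟩ := exists_pow_smul_eq_zero _ (a * b) hz
  rw [mul_pow, mul_smul] at hN
  have h4 := pow_regular ha N _ hN
  rw [smul_sub, sub_eq_zero, ← mul_smul, ← pow_add, smul_comm] at h4
  obtain ⟨c, hc⟩ := regular_pow ha hb k (N + l) m₁ ⟨b ^ N • m₂, h4⟩
  refine ⟨c, ?_⟩
  have ht : s - T J c = 0 := by
    apply eq_zero_of_vanish _ ha
    intro x hxU hx
    show s.1 ⟨x, hxU⟩ - (T J c).1 ⟨x, hxU⟩ = 0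
    have h5 := hs₁ x hx
    rw [h5, sub_eq_zero, hc]
    exact LocalizedModule.mk_cancel (⟨a ^ k, _⟩ : x.asIdeal.primeCompl) c
  exact (sub_eq_zero.mp ht).symm

theorem T_eq_zero_of_smul_eq_zero (m : M) (h : ∀ j ∈ J, j • m = 0) : T J m = 0 := by
  apply Subtype.ext
  funext x
  obtain ⟨x, hxU⟩ := x
  have hxU' : ¬ J ≤ (x : PrimeSpectrum A).asIdeal := hxU
  obtain ⟨f, hfJ, hfx⟩ := SetLike.not_le_iff_exists.mp hxU'
  have hprime : (x : PrimeSpectrum A).asIdeal.IsPrime := PrimeSpectrum.isPrime x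
  exact mk_eq_zero_of_smul_eq_zero (p := (x : PrimeSpectrum A).asIdeal) m 1 f hfx (h f hfJ)

/-- non-surjectivity from a socle element modulo a regular element -/
theorem not_surjective_T {a : A} (haJ : a ∈ J) (ha : ∀ n : M, a • n = 0 → n = 0) (m : M)
    (hm : ∀ j ∈ J, ∃ n : M, j • m = a • n) (hma : ¬ ∃ c : M, m = a • c) :
    ¬ Function.Surjective (T (M := M) J) := by
  intro hsurj
  choose nn hnn using hm
  have key : ∀ (f g : A) (hf : f ∈ J) (hg : g ∈ J), g • nn f hf = f • nn g hg := by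
    intro f g hf hg
    have h1 : a • (g • nn f hf - f • nn g hg) = 0 := by
      rw [smul_sub, smul_comm a g, ← hnn f hf, smul_comm a f, ← hnn g hg, smul_comm, sub_self]
    exact sub_eq_zero.mp (ha _ h1)
  have hex : ∀ x : (EGA4.openCompl A J), ∃ f ∈ J, f ∉ (x.1 : PrimeSpectrum A).asIdeal :=
    fun x => SetLike.not_le_iff_exists.mp x.2
  choose ff hffJ hffx using hex
  let sfun : ∀ x : (EGA4.openCompl A J), StructureSheaf.Localizations M x.1 :=
    fun x => LocalizedModule.mk (nn (ff x) (hffJ x)) ⟨ff x, hffx x⟩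
  have hsfun : ∀ (x : PrimeSpectrum A) (hxU : x ∈ EGA4.openCompl A J) (f : A) (hf : f ∈ J)
      (hfx : f ∉ x.asIdeal), sfun ⟨x, hxU⟩ =
        (LocalizedModule.mk (nn f hf) ⟨f, hfx⟩ : LocalizedModule x.asIdeal.primeCompl M) := by
    intro x hxU f hf hfx
    show LocalizedModule.mk _ _ = _
    rw [LocalizedModule.mk_eq]
    refine ⟨1, ?_⟩
    simp only [Submonoid.smul_def, one_smul]
    exact key _ _ _ _
  let s : Sec A M (EGA4.openCompl A J) := ⟨sfun, by
    intro x
    refine ⟨PrimeSpectrum.basicOpen (ff x), hffx x, homOfLE (basicOpen_le J (hffJ x)),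
      nn (ff x) (hffJ x), ff x, fun y => ⟨y.2, ?_⟩⟩
    exact hsfun y.1 _ (ff x) (hffJ x) y.2⟩
  obtain ⟨m', hm'⟩ := hsurj s
  apply hma
  have hz : ∀ x : PrimeSpectrum A, a ∉ x.asIdeal →
      (LocalizedModule.mk (m - a • m') 1 : LocalizedModule x.asIdeal.primeCompl M) = 0 := by
    intro x hx
    have hxU := mem_openCompl_of_notMem J haJ x hx
    have h1 := congrArg (fun t => t.1 ⟨x, hxU⟩) hm'
    have h2 : (LocalizedModule.mk m' 1 : LocalizedModule x.asIdeal.primeCompl M) =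
        LocalizedModule.mk (nn a haJ) ⟨a, hx⟩ := h1.trans (hsfun x hxU a haJ hx)
    have h3 : nn a haJ = m := (ha _ (by rw [smul_sub, ← hnn a haJ, sub_self] :
      a • (m - nn a haJ) = 0) |> sub_eq_zero.mp).symm
    rw [h3, LocalizedModule.mk_eq] at h2
    obtain ⟨u, hu⟩ := h2
    rw [← LocalizedModule.zero_mk 1, LocalizedModule.mk_eq]
    refine ⟨u, ?_⟩
    simp only [Submonoid.smul_def, one_smul, smul_zero] at hu ⊢
    rw [smul_sub, hu, sub_self]
  obtain ⟨N, hN⟩ := exists_pow_smul_eq_zero _ a hz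
  exact ⟨m', sub_eq_zero.mp (pow_regular ha N _ hN)⟩

variable (M) in
theorem restrCompl_comp (m : M) :
    EGA4.restrCompl A J M (StructureSheaf.toOpenₗ A M ⊤ m) = T J m := rfl

variable (M) in
theorem injective_restrCompl_iff :
    Function.Injective (EGA4.restrCompl A J M) ↔ Function.Injective (T (M := M) J) := by
  have hb := StructureSheaf.toOpenₗ_top_bijective (R := A) (M := M)
  constructor
  · intro h m m' hmm
    apply hb.1
    apply h
    rw [restrCompl_comp, restrCompl_comp]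
    exact hmm
  · intro h s t hst
    obtain ⟨m, rfl⟩ := hb.2 s
    obtain ⟨m', rfl⟩ := hb.2 t
    rw [restrCompl_comp, restrCompl_comp] at hst
    rw [h hst]

variable (M) in
theorem surjective_restrCompl_iff :
    Function.Surjective (EGA4.restrCompl A J M) ↔ Function.Surjective (T (M := M) J) := by
  have hb := StructureSheaf.toOpenₗ_top_bijective (R := A) (M := M)
  constructor
  · intro h s
    obtain ⟨t, ht⟩ := h s
    obtain ⟨m, rfl⟩ := hb.2 t
    exact ⟨m, ht⟩
  · intro h s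
    obtain ⟨m, hm⟩ := h s
    exact ⟨StructureSheaf.toOpenₗ A M ⊤ m, hm⟩

variable (M) in
theorem bijective_restrCompl_iff :
    Function.Bijective (EGA4.restrCompl A J M) ↔ Function.Bijective (T (M := M) J) :=
  and_congr (injective_restrCompl_iff J M) (surjective_restrCompl_iff J M)

end Main

end Groth.Agent.Lib.Helper15.ZClosed
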