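import Mathlib
import Groth.Agent.Lib.Helper15.ZClosed
import Groth.Agent.Lib.Helper49.DepthLoc
import Groth.Agent.Lib.Helper93.ReflexiveDepth

set_option autoImplicit false
universe u

open AlgebraicGeometry CategoryTheory Opposite TopologicalSpace Pointwise

namespace Groth.Agent.Lib.Helper15.ZClosed

section Depth

variable {A : Type u} [CommRing A] (J : Ideal A) (M : Type u) [AddCommGroup M] [Module A M]

/-- A regular pair inside an ideal of `M`-depth at least two (elementwise form). -/
theorem exists_regular_pair [Module.Finite A M] (hdepth : 2 ≤ LocCoh.idealDepth J M) :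
    ∃ a ∈ J, ∃ b ∈ J, (∀ n : M, a • n = 0 → n = 0) ∧
      (∀ n : M, (∃ n' : M, b • n = a • n') → ∃ c : M, n = a • c) := by
  by_cases hN : J • (⊤ : Submodule A M) = ⊤
  · obtain ⟨r, hr, hr0⟩ := Submodule.exists_sub_one_mem_and_smul_eq_zero_of_fg_of_le_smul J
      (⊤ : Submodule A M) Module.Finite.fg_top (by rw [hN])
    have hj : (1 - r) ∈ J := by
      have := J.neg_mem hr
      rwa [neg_sub] at this
    have hid : ∀ n : M, (1 - r) • n = n := fun n => by
      rw [sub_smul, one_smul, hr0 n Submodule.mem_top, sub_zero]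
    refine ⟨1 - r, hj, 1 - r, hj, fun n hn => by rwa [hid] at hn, fun n _ => ⟨n, (hid n).symm⟩⟩
  · obtain ⟨rs, hreg, hmem, hlen⟩ :=
      Groth.Agent.Lib.Helper93.ReflexiveDepth.exists_regular_of_le_idealDepth J M 2
        (by exact_mod_cast hdepth) hN
    match rs, hreg, hmem, hlen with
    | [], _, _, hlen => simp at hlen
    | [_], _, _, hlen => simp at hlen
    | x :: y :: rest, hreg, hmem, _ =>
      rw [RingTheory.Sequence.isWeaklyRegular_cons_iff] at hreg
      obtain ⟨hx, hreg2⟩ := hreg
      rw [RingTheory.Sequence.isWeaklyRegular_cons_iff] at hreg2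
      obtain ⟨hy, -⟩ := hreg2
      refine ⟨x, hmem x (by simp), y, hmem y (by simp), ?_, ?_⟩
      · intro n hn
        apply hx
        simpa using hn
      · rintro n ⟨n', hn'⟩
        have h1 : y • (Submodule.Quotient.mk n : QuotSMulTop x M) = y • (0 : QuotSMulTop x M) := by
          rw [smul_zero, ← Submodule.Quotient.mk_smul, Submodule.Quotient.mk_eq_zero, hn']
          exact (Submodule.mem_smul_pointwise_iff_exists _ _ _).mpr ⟨n', Submodule.mem_top, rfl⟩
        have h2 := hy h1
        rw [Submodule.Quotient.mk_eq_zero] at h2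
        obtain ⟨c, -, hc⟩ := (Submodule.mem_smul_pointwise_iff_exists _ _ _).mp h2
        exact ⟨c, hc.symm⟩

variable {M}

theorem mem_colon_bot_singleton {r : A} {m : M} :
    r ∈ (⊥ : Submodule A M).colon {m} ↔ r • m = 0 := by
  rw [Submodule.mem_colon_singleton, Submodule.mem_bot]

variable (M)

/-- `Z`-purity for a closed set `V(J)`: no associated prime contains `J`. -/
theorem injective_T_iff_ass [IsNoetherianRing A] :
    Function.Injective (T (M := M) J) ↔ ∀ p ∈ associatedPrimes A M, ¬ J ≤ p := by
  constructor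
  · intro hinj p hp hJp
    rw [AssociatedPrimes.mem_iff, isAssociatedPrime_iff] at hp
    obtain ⟨hprime, m, rfl⟩ := hp
    have h0 : T J m = 0 := T_eq_zero_of_smul_eq_zero J m
      (fun j hj => mem_colon_bot_singleton.mp (hJp hj))
    have hm : m = 0 := hinj (h0.trans (map_zero _).symm)
    apply hprime.ne_top
    rw [Ideal.eq_top_iff_one, mem_colon_bot_singleton, hm, smul_zero]
  · intro h
    rw [injective_iff_map_eq_zero]
    intro m hm
    by_contra hne
    obtain ⟨P, hP, hle⟩ := exists_le_isAssociatedPrime_of_isNoetherianRing A m hne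
    have hPprime : P.IsPrime := hP.1
    apply h P hP
    by_contra hJP
    have hPU : (⟨P, hPprime⟩ : PrimeSpectrum A) ∈ EGA4.openCompl A J := hJP
    have h1 := congrArg (fun t => t.1 ⟨⟨P, hPprime⟩, hPU⟩) hm
    have h2 : (LocalizedModule.mk m 1 : LocalizedModule P.primeCompl M) = 0 := h1
    rw [← LocalizedModule.zero_mk 1, LocalizedModule.mk_eq] at h2
    obtain ⟨u, hu⟩ := h2
    simp only [Submonoid.smul_def, one_smul, smul_zero] at hu
    exact u.2 (hle (mem_colon_bot_singleton.mpr hu))

theorem injective_T_iff_depth [IsNoetherianRing A] [Module.Finite A M] :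
    Function.Injective (T (M := M) J) ↔ ∀ (p : Ideal A) [p.IsPrime], J ≤ p →
      (1 : ℕ∞) ≤ LocCoh.depth (Localization.AtPrime p) (LocalizedModule p.primeCompl M) := by
  rw [injective_T_iff_ass]
  constructor
  · intro h p hp hJp
    rw [Order.one_le_iff_ne_zero, Ne, Groth.Agent.Lib.Helper49.Serre.depth_localizedModule_eq_zero_iff]
    exact fun hass => h p hass hJp
  · intro h p hp hJp
    have hprime : p.IsPrime := hp.1
    have := h p hJp
    rw [Order.one_le_iff_ne_zero, Ne,
      Groth.Agent.Lib.Helper49.Serre.depth_localizedModule_eq_zero_iff] at this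
    exact this hp

/-- **EGA IV 5.10.5 for a closed set `V(J)`**: bijectivity of `M → Γ(D(J), M~)` is equivalent
to `depth M_p ≥ 2` for all `p ⊇ J`. -/
theorem bijective_T_iff_depth [IsNoetherianRing A] [Module.Finite A M] :
    Function.Bijective (T (M := M) J) ↔ ∀ (p : Ideal A) [p.IsPrime], J ≤ p →
      (2 : ℕ∞) ≤ LocCoh.depth (Localization.AtPrime p) (LocalizedModule p.primeCompl M) := by
  constructor
  · rintro ⟨hinj, hsurj⟩
    have h1 := (injective_T_iff_depth J M).mp hinj
    obtain ⟨a, haJ, hareg⟩ :=
      Groth.Agent.Lib.Helper49.Serre.exists_isSMulRegular_of_forall_depth_pos M J h1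
    have ha : ∀ n : M, a • n = 0 → n = 0 := fun n hn => hareg (by simpa using hn)
    intro p hp hJp
    have h2 := Groth.Agent.Lib.Helper49.Serre.depth_localizedModule_quotSMulTop_add_one' M p
      (hJp haJ) hareg
    rw [← h2]
    have h3 : (1 : ℕ∞) ≤ LocCoh.depth (Localization.AtPrime p)
        (LocalizedModule p.primeCompl (QuotSMulTop a M)) := by
      rw [Order.one_le_iff_ne_zero, Ne,
        Groth.Agent.Lib.Helper49.Serre.depth_localizedModule_eq_zero_iff]
      intro hass
      rw [AssociatedPrimes.mem_iff, isAssociatedPrime_iff] at hass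
      obtain ⟨-, mbar, hpm⟩ := hass
      obtain ⟨m, rfl⟩ := Submodule.Quotient.mk_surjective _ mbar
      apply not_surjective_T J haJ ha m ?_ ?_ hsurj
      · intro j hj
        have hjp : j ∈ (⊥ : Submodule A (QuotSMulTop a M)).colon {Submodule.Quotient.mk m} :=
          hpm ▸ hJp hj
        rw [mem_colon_bot_singleton, ← Submodule.Quotient.mk_smul,
          Submodule.Quotient.mk_eq_zero] at hjp
        obtain ⟨n, -, hn⟩ := (Submodule.mem_smul_pointwise_iff_exists _ _ _).mp hjp
        exact ⟨n, hn.symm⟩
      · rintro ⟨c, hc⟩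
        have h1mem : (1 : A) ∈ p := by
          rw [hpm, mem_colon_bot_singleton, one_smul, Submodule.Quotient.mk_eq_zero, hc]
          exact (Submodule.mem_smul_pointwise_iff_exists _ _ _).mpr ⟨c, Submodule.mem_top, rfl⟩
        exact hp.ne_top ((Ideal.eq_top_iff_one p).mpr h1mem)
    have : (1 : ℕ∞) + 1 = 2 := by norm_num
    rw [← this]
    exact add_le_add_left h3 1
  · intro h
    have hdepth : 2 ≤ LocCoh.idealDepth J M := by
      have := (Groth.Agent.Lib.Helper49.Serre.le_idealDepth_iff 2 M J).mpr
        (fun p hp hJp => by exact_mod_cast h p hJp)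
      exact_mod_cast this
    obtain ⟨a, haJ, b, hbJ, ha, hb⟩ := exists_regular_pair J M hdepth
    exact ⟨injective_T_of_regular J haJ ha, surjective_T_of_regular_pair J haJ hbJ ha hb⟩

end Depth

end Groth.Agent.Lib.Helper15.ZClosed
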