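import Mathlib
import Groth.Agent.Lib.Helper15.ZClosedDepth

set_option autoImplicit false
universe u

namespace Groth.Agent.Lib.Helper15.ZClosed

section Pure

variable {A : Type u} [CommRing A] [IsNoetherianRing A] (Z : Set (PrimeSpectrum A))
  (hZ : StableUnderSpecialization Z) (M : Type u) [AddCommGroup M] [Module A M]

include hZ in
/-- `Z`-purity in terms of associated primes. -/
theorem isPureAlong_iff_ass :
    EGA4.IsPureAlong Z M ↔ ∀ p : PrimeSpectrum A, p.asIdeal ∈ associatedPrimes A M → p ∉ Z := by
  constructor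
  · intro h p hp hpZ
    have hsub : PrimeSpectrum.zeroLocus (p.asIdeal : Set A) ⊆ Z := by
      intro q hq
      have hle : p ≤ q := hq
      exact hZ ((PrimeSpectrum.le_iff_specializes p q).mp hle) hpZ
    have hi := (injective_restrCompl_iff p.asIdeal M).mp (h p.asIdeal hsub)
    exact (injective_T_iff_ass p.asIdeal M).mp hi p.asIdeal hp le_rfl
  · intro h J hJ
    rw [injective_restrCompl_iff, injective_T_iff_ass]
    intro p hp hJp
    have hprime : p.IsPrime := hp.1
    exact h ⟨p, hprime⟩ hp (hJ hJp)

include hZ in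
theorem isPureAlong_iff_depth [Module.Finite A M] :
    EGA4.IsPureAlong Z M ↔ ∀ p : PrimeSpectrum A, p ∈ Z →
      (1 : ℕ∞) ≤ LocCoh.depth (Localization.AtPrime p.asIdeal)
        (LocalizedModule p.asIdeal.primeCompl M) := by
  rw [isPureAlong_iff_ass Z hZ M]
  constructor
  · intro h p hpZ
    rw [Order.one_le_iff_ne_zero, Ne,
      Groth.Agent.Lib.Helper49.Serre.depth_localizedModule_eq_zero_iff]
    exact fun hass => h p hass hpZ
  · intro h p hp hpZ
    have := h p hpZ
    rw [Order.one_le_iff_ne_zero, Ne,
      Groth.Agent.Lib.Helper49.Serre.depth_localizedModule_eq_zero_iff] at this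
    exact this hp

include hZ in
theorem isClosedAlong_iff_depth [Module.Finite A M] :
    EGA4.IsClosedAlong Z M ↔ ∀ p : PrimeSpectrum A, p ∈ Z →
      (2 : ℕ∞) ≤ LocCoh.depth (Localization.AtPrime p.asIdeal)
        (LocalizedModule p.asIdeal.primeCompl M) := by
  constructor
  · intro h p hpZ
    have hsub : PrimeSpectrum.zeroLocus (p.asIdeal : Set A) ⊆ Z := by
      intro q hq
      have hle : p ≤ q := hq
      exact hZ ((PrimeSpectrum.le_iff_specializes p q).mp hle) hpZ
    have hb := (bijective_restrCompl_iff p.asIdeal M).mp (h p.asIdeal hsub)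
    exact (bijective_T_iff_depth p.asIdeal M).mp hb p.asIdeal le_rfl
  · intro h J hJ
    rw [bijective_restrCompl_iff, bijective_T_iff_depth]
    intro p hp hJp
    exact h ⟨p, hp⟩ (hJ hJp)

end Pure

end Groth.Agent.Lib.Helper15.ZClosed
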