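import Mathlib
import Groth.Agent.Lib.Helper15.ZPure
import Groth.Agent.Lib.Helper49.Serre

set_option autoImplicit false
universe u

namespace Groth.Agent.Lib.Helper15.ZClosed

section Sk

variable {A : Type u} [CommRing A] [IsNoetherianRing A]
  (M : Type u) [AddCommGroup M] [Module A M]

omit [IsNoetherianRing A] in
theorem stableUnderSpecialization_Zge (n : ℕ) : StableUnderSpecialization (EGA4.Zge A n) := by
  intro p q hpq hp
  have hle : p ≤ q := (PrimeSpectrum.le_iff_specializes p q).mpr hpq
  exact le_trans hp (Ideal.height_mono hle)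

omit [IsNoetherianRing A] in
theorem supportDim_localizedModule_eq_height (hsupp : Module.support A M = Set.univ)
    (p : Ideal A) [p.IsPrime] :
    Module.supportDim (Localization.AtPrime p) (LocalizedModule p.primeCompl M) =
      (p.height : WithBot ℕ∞) := by
  have h1 : Module.support (Localization.AtPrime p) (LocalizedModule p.primeCompl M) = Set.univ := by
    ext q'
    rw [Groth.Agent.Lib.Helper49.Serre.mem_support_localizedModule_iff, hsupp]
    simp
  unfold Module.supportDim
  rw [h1, Order.krullDim_eq_of_orderIso (OrderIso.Set.univ)]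
  exact IsLocalization.AtPrime.ringKrullDim_eq_height p (Localization.AtPrime p)

omit [IsNoetherianRing A] in
theorem hasSk_iff_of_support_eq_univ [Module.Finite A M] (hsupp : Module.support A M = Set.univ)
    (k : ℕ) : LocCoh.HasSk k A M ↔ ∀ (p : Ideal A) [p.IsPrime], min (k : ℕ∞) p.height ≤
      LocCoh.depth (Localization.AtPrime p) (LocalizedModule p.primeCompl M) := by
  unfold LocCoh.HasSk
  refine forall_congr' fun p => forall_congr' fun hp => ?_
  rw [supportDim_localizedModule_eq_height M hsupp p]
  have h1 : (k : WithBot ℕ∞) = ((k : ℕ∞) : WithBot ℕ∞) := rfl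
  rw [h1, ← WithBot.coe_min, WithBot.coe_le_coe]

theorem hasSk_one_iff_isPureAlong [Module.Finite A M] (hsupp : Module.support A M = Set.univ) :
    LocCoh.HasSk 1 A M ↔ EGA4.IsPureAlong (EGA4.Zge A 1) M := by
  rw [hasSk_iff_of_support_eq_univ M hsupp, isPureAlong_iff_depth _ (stableUnderSpecialization_Zge 1)]
  constructor
  · intro h p hp
    have h1 := h p.asIdeal
    have hp' : ((1 : ℕ) : ℕ∞) ≤ p.asIdeal.height := hp
    rwa [min_eq_left hp', Nat.cast_one] at h1
  · intro h p hp
    by_cases h1 : ((1 : ℕ) : ℕ∞) ≤ p.height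
    · exact le_trans (min_le_left _ _) (by simpa using h ⟨p, hp⟩ h1)
    · have h0 : p.height = 0 := by
        rw [not_le] at h1
        exact Order.lt_one_iff.mp (by simpa using h1)
      rw [h0]
      simp

theorem hasSk_two_iff_isClosedAlong [Module.Finite A M] (hsupp : Module.support A M = Set.univ) :
    LocCoh.HasSk 2 A M ↔
      (EGA4.IsClosedAlong (EGA4.Zge A 2) M ∧ EGA4.IsPureAlong (EGA4.Zge A 1) M) := by
  rw [hasSk_iff_of_support_eq_univ M hsupp,
    isPureAlong_iff_depth _ (stableUnderSpecialization_Zge 1),
    isClosedAlong_iff_depth _ (stableUnderSpecialization_Zge 2)]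
  constructor
  · intro h
    refine ⟨fun p hp => ?_, fun p hp => ?_⟩
    · have h1 := h p.asIdeal
      have hp' : ((2 : ℕ) : ℕ∞) ≤ p.asIdeal.height := hp
      rwa [min_eq_left hp', Nat.cast_ofNat] at h1
    · have h1 := h p.asIdeal
      have hp' : ((1 : ℕ) : ℕ∞) ≤ p.asIdeal.height := hp
      refine le_trans ?_ h1
      rw [le_min_iff]
      exact ⟨by norm_num, by simpa using hp'⟩
  · rintro ⟨h2, h1⟩ p hp
    by_cases hp2 : ((2 : ℕ) : ℕ∞) ≤ p.height
    · exact le_trans (min_le_left _ _) (by simpa using h2 ⟨p, hp⟩ hp2)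
    · by_cases hp1 : ((1 : ℕ) : ℕ∞) ≤ p.height
      · have hlt : p.height < 2 := by simpa using hp2
        have heq : p.height = 1 := by
          apply le_antisymm _ (by simpa using hp1)
          exact Order.le_of_lt_add_one (by simpa [one_add_one_eq_two] using hlt)
        rw [heq]
        exact le_trans (min_le_right _ _) (h1 ⟨p, hp⟩ hp1)
      · have h0 : p.height = 0 := by
          rw [not_le] at hp1
          exact Order.lt_one_iff.mp (by simpa using hp1)
        rw [h0]
        simp

end Sk

end Groth.Agent.Lib.Helper15.ZClosed
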