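import Mathlib
import Groth.Agent.S2291

/-!
# Lifting finite maps to adic completions of formally smooth algebras
-/

set_option autoImplicit false
set_option linter.style.haveILetI false

universe u

namespace Groth.Agent.Lib.Helper15.AdicLift

open AdicCompletion

theorem factor_evalₐ {R : Type*} [CommRing R] (I : Ideal R) {m n : ℕ} (hle : m ≤ n)
    (x : AdicCompletion I R) :
    Ideal.Quotient.factor (Ideal.pow_le_pow_right hle) (evalₐ I n x) = evalₐ I m x := by
  induction x using AdicCompletion.induction_on with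
  | _ r =>
    rw [evalₐ_mk, evalₐ_mk, Ideal.Quotient.factor_mk]
    exact (Ideal.mk_eq_mk (I := I) hle r)

/-- Lifting a map `A/IA → C/IC` to the completions when `A` is formally smooth over `V`. -/
theorem exists_lift (V : Type u) [CommRing V] (I : Ideal V)
    (A C : Type u) [CommRing A] [Algebra V A] [Algebra.FormallySmooth V A]
    [CommRing C] [Algebra V C] (JA : Ideal A) (JC : Ideal C)
    (hJA : JA = I.map (algebraMap V A)) (hJC : JC = I.map (algebraMap V C))
    (φ₀ : (A ⧸ JA) →ₐ[V] (C ⧸ JC)) :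
    ∃ φ : AdicCompletion JA A →ₐ[V] AdicCompletion JC C,
      ∀ x, evalOneₐ JC (φ x) = φ₀ (evalOneₐ JA x) := by
  obtain ⟨g, hg⟩ := Algebra.FormallySmooth.exists_adicCompletionEvalOneₐ_comp_eq (R := V) (A := A)
    (I := JC) (φ₀.comp (Ideal.Quotient.mkₐ V JA))
  let gn : (n : ℕ) → A →ₐ[V] C ⧸ JC ^ n := fun n => ((evalₐ JC n).restrictScalars V).comp g
  have hgn : ∀ n, ∀ a ∈ JA ^ n, gn n a = 0 := by
    intro n a ha
    have h1 : (JA ^ n).map (gn n).toRingHom = ⊥ := by
      rw [hJA, ← Ideal.map_pow, Ideal.map_map]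
      have : (gn n).toRingHom.comp (algebraMap V A) = algebraMap V (C ⧸ JC ^ n) :=
        (gn n).comp_algebraMap
      rw [this, IsScalarTower.algebraMap_eq V C (C ⧸ JC ^ n), ← Ideal.map_map, Ideal.map_pow,
        ← hJC]
      exact Ideal.map_quotient_self _
    have h2 : (gn n).toRingHom a ∈ (JA ^ n).map (gn n).toRingHom := Ideal.mem_map_of_mem _ ha
    rw [h1] at h2
    exact h2
  let hn : (n : ℕ) → (A ⧸ JA ^ n) →ₐ[V] C ⧸ JC ^ n :=
    fun n => Ideal.Quotient.liftₐ (JA ^ n) (gn n) (hgn n)
  let fn : (n : ℕ) → AdicCompletion JA A →ₐ[V] C ⧸ JC ^ n :=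
    fun n => (hn n).comp ((evalₐ JA n).restrictScalars V)
  have key : ∀ (n : ℕ) (x : AdicCompletion JA A) (a : A),
      Ideal.Quotient.mk (JA ^ n) a = evalₐ JA n x → fn n x = evalₐ JC n (g a) := by
    intro n x a ha
    show hn n (evalₐ JA n x) = _
    rw [← ha]
    rfl
  have compat : ∀ {m n : ℕ} (hle : m ≤ n),
      (Ideal.Quotient.factorₐ V (Ideal.pow_le_pow_right hle)).comp (fn n) = fn m := by
    intro m n hle
    ext x
    obtain ⟨a, ha⟩ := Ideal.Quotient.mk_surjective (evalₐ JA n x)
    have ha' : Ideal.Quotient.mk (JA ^ m) a = evalₐ JA m x := by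
      rw [← factor_evalₐ JA hle x, ← ha, Ideal.Quotient.factor_mk]
    rw [AlgHom.comp_apply, key n x a ha, key m x a ha']
    exact factor_evalₐ JC hle (g a)
  refine ⟨liftAlgHom JC fn compat, ?_⟩
  intro x
  obtain ⟨a, ha⟩ := Ideal.Quotient.mk_surjective (evalₐ JA 1 x)
  have h1 : evalOneₐ JA x = Ideal.Quotient.mk JA a := by
    rw [← factorₐ_evalₐ_one, ← ha, Ideal.Quotient.factor_mk]
  rw [evalOneₐ_liftAlgHom, key 1 x a ha, h1]
  have := congr($hg a)
  simp only [AlgHom.comp_apply] at this
  exact this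

end Groth.Agent.Lib.Helper15.AdicLift

namespace Groth.Agent.Lib.Helper15.AdicLift

open AdicCompletion

theorem map_map_eq (V : Type*) [CommRing V] (I : Ideal V) (A S : Type*) [CommRing A] [Algebra V A]
    [CommRing S] [Algebra A S] [Algebra V S] [IsScalarTower V A S] (J : Ideal A)
    (hJ : J = I.map (algebraMap V A)) : J.map (algebraMap A S) = I.map (algebraMap V S) := by
  rw [hJ, Ideal.map_map, ← IsScalarTower.algebraMap_eq]

/-- A lift of a finite map `A/IA → C/IC` to the completions is finite (complete Nakayama). -/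
theorem finite_of_lift (V : Type u) [CommRing V] (I : Ideal V)
    (A C : Type u) [CommRing A] [Algebra V A] [CommRing C] [Algebra V C]
    (JA : Ideal A) (JC : Ideal C)
    (hJA : JA = I.map (algebraMap V A)) (hJC : JC = I.map (algebraMap V C))
    (fgA : JA.FG) (fgC : JC.FG)
    (φ₀ : (A ⧸ JA) →ₐ[V] (C ⧸ JC)) (hφ₀ : φ₀.toRingHom.Finite)
    (φ : AdicCompletion JA A →ₐ[V] AdicCompletion JC C)
    (hφ : ∀ x, evalOneₐ JC (φ x) = φ₀ (evalOneₐ JA x)) : φ.toRingHom.Finite := by
  letI := φ.toRingHom.toAlgebra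
  show Module.Finite (AdicCompletion JA A) (AdicCompletion JC C)
  have hprec : IsPrecomplete (JA.map (algebraMap A (AdicCompletion JA A))) (AdicCompletion JA A) :=
    (isAdicComplete_self JA fgA).toIsPrecomplete
  have hmap : (JA.map (algebraMap A (AdicCompletion JA A))).map
      (algebraMap (AdicCompletion JA A) (AdicCompletion JC C)) =
      JC.map (algebraMap C (AdicCompletion JC C)) := by
    have h1 : (algebraMap (AdicCompletion JA A) (AdicCompletion JC C)) = φ.toRingHom := rfl
    rw [map_map_eq V I A (AdicCompletion JA A) JA hJA, map_map_eq V I C (AdicCompletion JC C) JC hJC,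
      Ideal.map_map, h1]
    congr 1
    exact φ.comp_algebraMap
  have hHaus : IsHausdorff (JA.map (algebraMap A (AdicCompletion JA A))) (AdicCompletion JC C) := by
    have h1 : IsHausdorff (JC.map (algebraMap C (AdicCompletion JC C))) (AdicCompletion JC C) :=
      (isAdicComplete_self JC fgC).toIsHausdorff
    rw [← hmap] at h1
    exact IsHausdorff.map_algebraMap_iff.mp h1
  have hfin : letI := φ₀.toRingHom.toAlgebra; Module.Finite (A ⧸ JA) (C ⧸ JC) := hφ₀
  letI := φ₀.toRingHom.toAlgebra
  obtain ⟨s, hs⟩ := hfin.fg_top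
  choose e he using fun c : s => evalOneₐ_surjective JC c.1
  have hsmul : ∀ (a : AdicCompletion JA A) (y : AdicCompletion JC C),
      evalOneₐ JC (a • y) = evalOneₐ JA a • evalOneₐ JC y := by
    intro a y
    rw [Algebra.smul_def, Algebra.smul_def, map_mul]
    congr 1
    exact hφ a
  have hspan : ∀ w ∈ Submodule.span (A ⧸ JA) (s : Set (C ⧸ JC)),
      ∃ z ∈ Submodule.span (AdicCompletion JA A) (Set.range e), evalOneₐ JC z = w := by
    intro w hw
    induction hw using Submodule.span_induction with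
    | mem c hc => exact ⟨e ⟨c, hc⟩, Submodule.subset_span ⟨_, rfl⟩, he ⟨c, hc⟩⟩
    | zero => exact ⟨0, Submodule.zero_mem _, map_zero _⟩
    | add x y _ _ hx hy =>
      obtain ⟨z1, hz1, rfl⟩ := hx
      obtain ⟨z2, hz2, rfl⟩ := hy
      exact ⟨z1 + z2, Submodule.add_mem _ hz1 hz2, map_add _ _ _⟩
    | smul a x _ hx =>
      obtain ⟨z1, hz1, rfl⟩ := hx
      obtain ⟨a', rfl⟩ := evalOneₐ_surjective JA a
      exact ⟨a' • z1, Submodule.smul_mem _ _ hz1, hsmul a' z1⟩
  have htop : (⊤ : Submodule (AdicCompletion JA A) (AdicCompletion JC C)) ≤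
      Submodule.span (AdicCompletion JA A) (Set.range e) ⊔
        (JA.map (algebraMap A (AdicCompletion JA A))) • ⊤ := by
    intro y _
    obtain ⟨z, hz, hzy⟩ := hspan (evalOneₐ JC y) (by rw [hs]; trivial)
    have hker : y - z ∈ RingHom.ker (evalOneₐ JC).toRingHom := by
      rw [RingHom.mem_ker]
      show evalOneₐ JC (y - z) = 0
      rw [map_sub, hzy, sub_self]
    rw [ker_evalOneₐ_eq_map JC fgC, ← hmap] at hker
    have h2 : y - z ∈ (JA.map (algebraMap A (AdicCompletion JA A))) •
        (⊤ : Submodule (AdicCompletion JA A) (AdicCompletion JC C)) := by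
      rw [Ideal.smul_top_eq_map]
      exact hker
    have : y = z + (y - z) := by ring
    rw [this]
    exact Submodule.add_mem_sup hz h2
  exact Module.Finite.of_surjective _
    (Groth.Agent.S2291.surjective_linearCombination hprec hHaus e htop)

end Groth.Agent.Lib.Helper15.AdicLift
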