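/-
helper15: dimension matching between branches of a noetherian local ring (maximal ideals of the
normalization) and the irreducible components of a henselian ind-étale local algebra.
-/
import Mathlib
import Groth.Agent.Lib.Helper37.Hz53
import Groth.Agent.Lib.Helper11.IntegralDim
import Groth.Agent.Lib.Helper73.HeightGoingDown

set_option linter.style.haveILetI false
set_option autoImplicit false

universe u

namespace Groth.Agent.Lib.Helper15.BranchDim

open TensorProduct IsLocalRing Groth.Agent.Lib.Helper37.Hz Groth.Agent.Lib.Helper4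

section Incomp

/-- incomparability for ind-étale algebras -/
theorem eq_of_le_of_comap_eq {B D : Type u} [CommRing B] [CommRing D] [Algebra B D]
    (hD : HasFactorization (etaleClass B) D) (P Q : Ideal D) [P.IsPrime] [Q.IsPrime] (hle : P ≤ Q)
    (h : P.comap (algebraMap B D) = Q.comap (algebraMap B D)) : P = Q := by
  refine le_antisymm hle ?_
  intro x hxQ
  obtain ⟨E, _, _, hE, α, β, hαβ⟩ := hD (Polynomial B) (Polynomial.aeval x)
  haveI : Algebra.Etale B E := hE
  set PE := P.comap β.toRingHom with hPE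
  set QE := Q.comap β.toRingHom with hQE
  haveI : PE.IsPrime := Ideal.comap_isPrime _ _
  haveI : QE.IsPrime := Ideal.comap_isPrime _ _
  have hPQ : PE ≤ QE := Ideal.comap_mono hle
  have hunder : PE.under B = QE.under B := by
    rw [Ideal.under_def, Ideal.under_def, hPE, hQE, Ideal.comap_comap, Ideal.comap_comap]
    have : β.toRingHom.comp (algebraMap B E) = algebraMap B D := β.comp_algebraMap
    rw [this]
    exact h
  have heq := Algebra.QuasiFinite.eq_of_le_of_under_eq (R := B) PE QE hPQ hunder
  have hβα : β (α Polynomial.X) = x := by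
    rw [← AlgHom.comp_apply, hαβ, Polynomial.aeval_X]
  have hx : α Polynomial.X ∈ QE := by
    change β (α Polynomial.X) ∈ Q
    rw [hβα]; exact hxQ
  rw [← heq] at hx
  have : β (α Polynomial.X) ∈ P := hx
  rwa [hβα] at this

end Incomp

section Main

variable {B W T : Type u} [CommRing B] [CommRing W] [HenselianLocalRing W] [CommRing T]
  [Algebra B T] [Algebra W T] [Algebra.IsIntegral W T] [Module.Flat B T]

/-- the key dimension equality (abstract form) -/
theorem dim_quotient_eq_height_aux
    (hT : HasFactorization (etaleClass B) T)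
    (huniq : ∀ (n : Ideal T), n.IsPrime → ∀ q₁ ∈ minimalPrimes T, ∀ q₂ ∈ minimalPrimes T,
      q₁ ≤ n → q₂ ≤ n → q₁ = q₂)
    (q : Ideal T) (hq : q ∈ minimalPrimes T)
    (n : Ideal T) [hn : n.IsMaximal] (hqn : q ≤ n) :
    ringKrullDim (W ⧸ q.comap (algebraMap W T)) =
      ((n.comap (algebraMap B T)).height : WithBot ℕ∞) := by
  classical
  haveI hqp : q.IsPrime := hq.1.1
  haveI hnp : n.IsPrime := hn.isPrime
  set m' := n.comap (algebraMap B T) with hm'
  haveI hm'p : m'.IsPrime := Ideal.comap_isPrime _ _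
  -- (2) dim W/p = dim T/q
  have h2 : ringKrullDim (T ⧸ q) = ringKrullDim (W ⧸ q.comap (algebraMap W T)) :=
    Groth.Agent.Lib.Helper11.IntegralDim.ringKrullDim_eq_of_isIntegral_of_injective
      Ideal.algebraMap_quotient_injective
  rw [← h2]
  -- every prime containing q lies below n
  have hlen : ∀ Q : Ideal T, Q.IsPrime → q ≤ Q → Q ≤ n := by
    intro Q hQ hqQ
    obtain ⟨n₂, hn₂, hQn₂⟩ := Ideal.exists_le_maximal Q hQ.ne_top
    have := TotNorm.maximal_unique_of_le W T q n₂ n (hqQ.trans hQn₂) hqn
    rw [← this]; exact hQn₂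
  have hmks : Function.Surjective (Ideal.Quotient.mk q) := Ideal.Quotient.mk_surjective
  apply le_antisymm
  · -- (3)
    let f : PrimeSpectrum (T ⧸ q) → PrimeSpectrum B :=
      fun Q => PrimeSpectrum.comap (algebraMap B T) (PrimeSpectrum.comap (Ideal.Quotient.mk q) Q)
    have hf : StrictMono f := by
      intro Q Q' hQQ'
      have hlt : (PrimeSpectrum.comap (Ideal.Quotient.mk q) Q).asIdeal <
          (PrimeSpectrum.comap (Ideal.Quotient.mk q) Q').asIdeal := by
        refine lt_of_le_of_ne (Ideal.comap_mono hQQ'.le) ?_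
        intro heq
        have := Ideal.comap_injective_of_surjective _ hmks heq
        exact hQQ'.ne (PrimeSpectrum.ext this)
      refine lt_of_le_of_ne (Ideal.comap_mono hlt.le) ?_
      intro heq
      have := eq_of_le_of_comap_eq hT _ _ hlt.le (congrArg PrimeSpectrum.asIdeal heq)
      exact hlt.ne this
    have hle : ∀ Q, f Q ≤ (⟨m', hm'p⟩ : PrimeSpectrum B) := by
      intro Q
      have h1 : (PrimeSpectrum.comap (Ideal.Quotient.mk q) Q).asIdeal ≤ n := by
        apply hlen _ (PrimeSpectrum.comap (Ideal.Quotient.mk q) Q).isPrime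
        intro x hx
        change Ideal.Quotient.mk q x ∈ Q.asIdeal
        rw [Ideal.Quotient.eq_zero_iff_mem.2 hx]
        exact Q.asIdeal.zero_mem
      exact Ideal.comap_mono h1
    rw [ringKrullDim, Order.krullDim]
    refine iSup_le fun l => ?_
    have h1 : ((l.map f hf).length : ℕ∞) ≤ Order.height (l.map f hf).last :=
      Order.length_le_height_last
    have h3 : Order.height (l.map f hf).last ≤
        Order.height (⟨m', hm'p⟩ : PrimeSpectrum B) := Order.height_mono (hle _)
    have h4 := PrimeSpectrum.height_eq_orderHeight (⟨m', hm'p⟩ : PrimeSpectrum B)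
    have h5 : (l.length : ℕ∞) ≤ m'.height := by
      rw [show m'.height = Order.height (⟨m', hm'p⟩ : PrimeSpectrum B) from h4]
      exact h1.trans h3
    exact_mod_cast h5
  · -- (4)
    haveI : Nontrivial (T ⧸ q) := Ideal.Quotient.nontrivial_iff.2 hqp.ne_top
    have hne : ringKrullDim (T ⧸ q) ≠ ⊥ := by
      intro hbot
      have := ringKrullDim_nonneg_of_nontrivial (R := T ⧸ q)
      rw [hbot] at this
      exact absurd this (by simp)
    obtain ⟨d, hd⟩ := WithBot.ne_bot_iff_exists.1 hne
    rw [← hd, WithBot.coe_le_coe,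
      show m'.height = Order.height (⟨m', hm'p⟩ : PrimeSpectrum B) from
        PrimeSpectrum.height_eq_orderHeight ⟨m', hm'p⟩]
    apply Order.height_le
    intro l hl
    haveI : n.LiesOver l.last.asIdeal := ⟨by rw [hl]⟩
    obtain ⟨L, hLlen, hLlast, -⟩ := Ideal.exists_ltSeries_of_hasGoingDown l n
    -- all members contain q
    have hqL : ∀ i, q ≤ (L i).asIdeal := by
      intro i
      obtain ⟨q₀, hq₀, hq₀L⟩ :=
        Ideal.exists_minimalPrimes_le (I := ⊥) (J := (L.head).asIdeal) bot_le
      have hheadn : (L.head).asIdeal ≤ n := by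
        have : L.head ≤ L.last := L.head_le_last
        rw [hLlast] at this
        exact this
      have : q₀ = q := huniq n hnp q₀ hq₀ q hq (hq₀L.trans hheadn) hqn
      rw [← this]
      exact hq₀L.trans (L.head_le i)
    have hback : ∀ i, ((L i).asIdeal.map (Ideal.Quotient.mk q)).comap (Ideal.Quotient.mk q) =
        (L i).asIdeal := by
      intro i
      rw [Ideal.comap_map_of_surjective _ hmks, ← RingHom.ker_eq_comap_bot, Ideal.mk_ker]
      exact sup_eq_left.2 (hqL i)
    let L' : LTSeries (PrimeSpectrum (T ⧸ q)) :=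
      { length := L.length
        toFun := fun i => ⟨(L i).asIdeal.map (Ideal.Quotient.mk q),
          Ideal.map_isPrime_of_surjective hmks (by rw [Ideal.mk_ker]; exact hqL i)⟩
        step := by
          intro i
          have hstep := L.step i
          change (L i.castSucc).asIdeal.map (Ideal.Quotient.mk q) <
            (L i.succ).asIdeal.map (Ideal.Quotient.mk q)
          refine lt_of_le_of_ne (Ideal.map_mono (le_of_lt hstep)) ?_
          intro heq
          have h1 := hback i.castSucc
          rw [heq, hback i.succ] at h1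
          exact (ne_of_lt hstep) (PrimeSpectrum.ext h1.symm) }
    have h6 : (L'.length : WithBot ℕ∞) ≤ ringKrullDim (T ⧸ q) :=
      Order.LTSeries.length_le_krullDim L'
    rw [← hd] at h6
    have h7 : (L'.length : ℕ∞) ≤ d := by exact_mod_cast h6
    have h8 : L'.length = l.length := hLlen
    rw [h8] at h7
    exact h7

end Main

section Apply

attribute [local instance] Algebra.TensorProduct.rightAlgebra

variable (A W : Type u) [CommRing A] [IsLocalRing A] [IsNoetherianRing A] [CommRing W]
  [HenselianLocalRing W] [Algebra A W] [IsLocalHom (algebraMap A W)] [Module.FaithfullyFlat A W]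

omit [IsLocalRing A] [IsNoetherianRing A] [HenselianLocalRing W] [IsLocalHom (algebraMap A W)] in
theorem exists_isMaximal_comap_eq' (B : Type u) [CommRing B] [Algebra A B] (m' : Ideal B)
    [hm' : m'.IsMaximal] :
    ∃ n : Ideal (B ⊗[A] W), n.IsMaximal ∧ n.comap (algebraMap B (B ⊗[A] W)) = m' := by
  haveI : Module.FaithfullyFlat B (B ⊗[A] W) := inferInstance
  have h1' : (m'.map (algebraMap B (B ⊗[A] W))).comap (algebraMap B (B ⊗[A] W)) = m' :=
    Ideal.comap_map_eq_self_of_faithfullyFlat m'
  have h2' : m'.map (algebraMap B (B ⊗[A] W)) ≠ ⊤ := by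
    intro htop
    rw [htop, Ideal.comap_top] at h1'
    exact hm'.ne_top h1'.symm
  obtain ⟨n, hn, hle⟩ := Ideal.exists_le_maximal _ h2'
  refine ⟨n, hn, ?_⟩
  refine (hm'.eq_of_le (Ideal.comap_ne_top _ hn.ne_top) ?_).symm
  exact Ideal.map_le_iff_le_comap.1 hle

set_option maxHeartbeats 800000 in
theorem branch_iff (hind : EtPBC.IsIndEtale A W) :
    (∀ m' : MaximalSpectrum (CAlg2.normRed A),
      (2 : WithBot ℕ∞) ≤ ringKrullDim (Localization.AtPrime m'.asIdeal)) ↔
    (∀ p ∈ minimalPrimes W, (2 : WithBot ℕ∞) ≤ ringKrullDim (W ⧸ p)) := by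
  have hfin := minimalPrimes.finite_of_isNoetherianRing A
  haveI : Module.Flat A W := inferInstance
  haveI : Algebra.IsIntegral W (CAlg2.normRed A ⊗[A] W) := IntTens.isIntegral A _ W
  have hT := TotNorm.hasFactorization_normRed_tensor A W hind
  have huniq : ∀ (n : Ideal (CAlg2.normRed A ⊗[A] W)), n.IsPrime →
      ∀ q₁ ∈ minimalPrimes (CAlg2.normRed A ⊗[A] W),
      ∀ q₂ ∈ minimalPrimes (CAlg2.normRed A ⊗[A] W), q₁ ≤ n → q₂ ≤ n → q₁ = q₂ := by
    intro n hn q₁ hq₁ q₂ hq₂ h₁ h₂
    exact (TotNorm.existsUnique_minimalPrime_le A W hfin hind n).unique ⟨hq₁, h₁⟩ ⟨hq₂, h₂⟩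
  have hbij := Birat.bijOn_minimalPrimes_normRed A W
  constructor
  · intro h p hp
    obtain ⟨q, hq, hqp⟩ := hbij.surjOn hp
    haveI := hq.1.1
    obtain ⟨n, hn, hqn⟩ := Ideal.exists_le_maximal q (hq.1.1.ne_top)
    haveI := hn
    have hm'max : (n.comap (algebraMap (CAlg2.normRed A) (CAlg2.normRed A ⊗[A] W))).IsMaximal :=
      IntTensG.comap_isMaximal A (CAlg2.normRed A) W n
    have h1 := dim_quotient_eq_height_aux (B := CAlg2.normRed A) (W := W) hT huniq q hq n hqn
    have h2 := h ⟨_, hm'max⟩
    have h3 := IsLocalization.AtPrime.ringKrullDim_eq_height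
      (n.comap (algebraMap (CAlg2.normRed A) (CAlg2.normRed A ⊗[A] W)))
      (Localization.AtPrime (n.comap (algebraMap (CAlg2.normRed A) (CAlg2.normRed A ⊗[A] W))))
    have hpq : p = q.comap (algebraMap W (CAlg2.normRed A ⊗[A] W)) := hqp.symm
    rw [hpq, h1, ← h3]; exact h2
  · intro h m'
    haveI := m'.isMaximal
    obtain ⟨n, hn, hnm⟩ := exists_isMaximal_comap_eq' A W (CAlg2.normRed A) m'.asIdeal
    haveI := hn
    obtain ⟨q, hq, hqn⟩ := Ideal.exists_minimalPrimes_le (I := ⊥) (J := n) bot_le
    have h1 := dim_quotient_eq_height_aux (B := CAlg2.normRed A) (W := W) hT huniq q hq n hqn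
    have hp : q.comap (algebraMap W (CAlg2.normRed A ⊗[A] W)) ∈ minimalPrimes W := hbij.mapsTo hq
    have h2 := h _ hp
    rw [h1, hnm] at h2
    rw [IsLocalization.AtPrime.ringKrullDim_eq_height m'.asIdeal (Localization.AtPrime m'.asIdeal)]
    exact h2

end Apply

end Groth.Agent.Lib.Helper15.BranchDim
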