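import Groth.Agent.Lib.Helper15.DimOneBranch
import Groth.Agent.Lib.Helper15.FlatEquidim
import Groth.Agent.Lib.Helper37.Hz56
import Groth.Agent.Lib.Helper86.OlivierE

/-!
# Minimal primes of one-dimensional henselian local rings under "completion-like" maps (helper15)

* `card_minimalPrimes_eq`: `R` henselian Noetherian local of dimension `≤ 1`, `R → R'` flat with `R'`
  Noetherian local of dimension `≤ 1`, `m_R R' = m_R'`, residue fields equal: then `R` and `R'` have
  the same number of minimal primes.
-/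

set_option autoImplicit false
set_option linter.style.haveILetI false
universe u

namespace Groth.Agent.Lib.Helper15.DimOneBranch

open IsLocalRing

/-- The maximal ideal of a quotient of a local ring. -/
theorem maximalIdeal_quotient' (R : Type*) [CommRing R] [IsLocalRing R] (P : Ideal R)
    [Nontrivial (R ⧸ P)] :
    maximalIdeal (R ⧸ P) = (maximalIdeal R).map (Ideal.Quotient.mk P) := by
  haveI : IsLocalHom (Ideal.Quotient.mk P) :=
    IsLocalHom.of_surjective _ Ideal.Quotient.mk_surjective
  refine le_antisymm ?_ (((IsLocalRing.local_hom_TFAE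
    (Ideal.Quotient.mk P)).out 0 2).mp ‹_›)
  intro x hx
  obtain ⟨a, rfl⟩ := Ideal.Quotient.mk_surjective x
  apply Ideal.mem_map_of_mem
  rw [IsLocalRing.mem_maximalIdeal] at hx ⊢
  intro ha
  exact hx (ha.map _)

/-- Minimal primes containing an ideal give minimal primes of the quotient. -/
theorem map_mk_mem_minimalPrimes {S : Type*} [CommRing S] (J Q : Ideal S) (hJQ : J ≤ Q)
    (hQ : Q ∈ minimalPrimes S) : Q.map (Ideal.Quotient.mk J) ∈ minimalPrimes (S ⧸ J) := by
  have hQp : Q.IsPrime := hQ.1.1
  have hker : RingHom.ker (Ideal.Quotient.mk J) ≤ Q := by rw [Ideal.mk_ker]; exact hJQ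
  have hcm : (Q.map (Ideal.Quotient.mk J)).comap (Ideal.Quotient.mk J) = Q := by
    rw [Ideal.comap_map_of_surjective _ Ideal.Quotient.mk_surjective, ← RingHom.ker_eq_comap_bot]
    exact sup_eq_left.2 hker
  refine ⟨⟨Ideal.map_isPrime_of_surjective Ideal.Quotient.mk_surjective hker, bot_le⟩, ?_⟩
  rintro P ⟨hP, -⟩ hPQ
  have h1 : P.comap (Ideal.Quotient.mk J) ≤ Q := by
    rw [← hcm]; exact Ideal.comap_mono hPQ
  have h2 : Q ≤ P.comap (Ideal.Quotient.mk J) := hQ.2 ⟨Ideal.comap_isPrime _ _, bot_le⟩ h1
  calc Q.map (Ideal.Quotient.mk J) ≤ (P.comap (Ideal.Quotient.mk J)).map (Ideal.Quotient.mk J) :=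
        Ideal.map_mono h2
    _ = P := Ideal.map_comap_of_surjective _ Ideal.Quotient.mk_surjective P

attribute [local instance] FlatQuot.quotAlgebra

/-- **Theorem M.** -/
theorem card_minimalPrimes_eq (R R' : Type u) [CommRing R] [CommRing R'] [HenselianLocalRing R]
    [IsNoetherianRing R] [IsLocalRing R'] [IsNoetherianRing R'] [Algebra R R'] [Module.Flat R R']
    (hR : ringKrullDim R ≤ 1) (hR' : ringKrullDim R' ≤ 1)
    (hm : (maximalIdeal R).map (algebraMap R R') = maximalIdeal R')
    (hres : ∀ c : R', ∃ e : R, c - algebraMap R R' e ∈ maximalIdeal R') :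
    ENat.card (minimalPrimes R') = ENat.card (minimalPrimes R) := by
  classical
  haveI hloc : IsLocalHom (algebraMap R R') :=
    ((IsLocalRing.local_hom_TFAE (algebraMap R R')).out 0 2).mpr hm.le
  haveI : Module.FaithfullyFlat R R' := Module.FaithfullyFlat.of_flat_of_isLocalHom
  let f : minimalPrimes R' → minimalPrimes R := fun Q =>
    ⟨Q.1.comap (algebraMap R R'),
      (FlatEquidim.comap_mem_minimalPrimes (⊥ : Ideal R) (Q := Q.1)
        (by rw [Ideal.map_bot]; exact Q.2)).1⟩
  have hsurj : Function.Surjective f := by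
    intro P
    obtain ⟨Q, hQ, hQP⟩ :=
      Groth.Agent.Lib.Helper37.Hz.exists_minimalPrimes_comap_eq_of_faithfullyFlat (B := R') P.2
    exact ⟨⟨Q, hQ⟩, Subtype.ext hQP⟩
  have hinj : Function.Injective f := by
    rintro ⟨Q, hQ⟩ ⟨Q', hQ'⟩ hff
    have hqq : Q.comap (algebraMap R R') = Q'.comap (algebraMap R R') := congrArg Subtype.val hff
    apply Subtype.ext
    show Q = Q'
    set q : Ideal R := Q.comap (algebraMap R R') with hq
    have hQp : Q.IsPrime := hQ.1.1
    haveI hqp : q.IsPrime := Ideal.comap_isPrime _ _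
    have hqQ : q.map (algebraMap R R') ≤ Q := Ideal.map_le_iff_le_comap.2 le_rfl
    have hqQ' : q.map (algebraMap R R') ≤ Q' := Ideal.map_le_iff_le_comap.2 hqq.le
    haveI : HenselianLocalRing (R ⧸ q) :=
      Groth.Agent.Lib.Helper86.Olivier.henselianLocalRing_quotient q hqp.ne_top
    haveI : Nontrivial (R' ⧸ q.map (algebraMap R R')) :=
      FlatEquidim.nontrivial_quot R R' q hqp.ne_top
    haveI : Module.Flat (R ⧸ q) (R' ⧸ q.map (algebraMap R R')) := FlatQuot.flat_quot q
    have hV : IsLocalRing (integralClosure (R ⧸ q) (FractionRing (R ⧸ q))) :=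
      Groth.Agent.Lib.Helper37.Hz.TotNorm.isLocalRing_of_isIntegral_of_isDomain (R ⧸ q) _
    have hcomm : (algebraMap (R ⧸ q) (R' ⧸ q.map (algebraMap R R'))).comp (Ideal.Quotient.mk q) =
        (Ideal.Quotient.mk (q.map (algebraMap R R'))).comp (algebraMap R R') := by
      ext r; rfl
    have hm' : (maximalIdeal (R ⧸ q)).map (algebraMap (R ⧸ q) (R' ⧸ q.map (algebraMap R R'))) =
        maximalIdeal (R' ⧸ q.map (algebraMap R R')) := by
      rw [maximalIdeal_quotient', maximalIdeal_quotient', Ideal.map_map, hcomm, ← Ideal.map_map, hm]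
    have hres' : ∀ c : R' ⧸ q.map (algebraMap R R'), ∃ e : R ⧸ q,
        c - algebraMap (R ⧸ q) (R' ⧸ q.map (algebraMap R R')) e ∈
          maximalIdeal (R' ⧸ q.map (algebraMap R R')) := by
      intro c
      obtain ⟨c₀, rfl⟩ := Ideal.Quotient.mk_surjective c
      obtain ⟨e, he⟩ := hres c₀
      refine ⟨Ideal.Quotient.mk q e, ?_⟩
      rw [maximalIdeal_quotient']
      have : Ideal.Quotient.mk (q.map (algebraMap R R')) c₀ -
          algebraMap (R ⧸ q) (R' ⧸ q.map (algebraMap R R')) (Ideal.Quotient.mk q e) =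
          Ideal.Quotient.mk (q.map (algebraMap R R')) (c₀ - algebraMap R R' e) := by
        rw [map_sub]; rfl
      rw [this]
      exact Ideal.mem_map_of_mem _ he
    have key := eq_of_mem_minimalPrimes (R ⧸ q) (R' ⧸ q.map (algebraMap R R'))
      ((ringKrullDim_quotient_le q).trans hR) hV
      ((ringKrullDim_quotient_le _).trans hR') hm' hres'
      (map_mk_mem_minimalPrimes _ Q hqQ hQ) (map_mk_mem_minimalPrimes _ Q' hqQ' hQ')
    have hback : ∀ P : Ideal R', q.map (algebraMap R R') ≤ P →
        (P.map (Ideal.Quotient.mk (q.map (algebraMap R R')))).comap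
          (Ideal.Quotient.mk (q.map (algebraMap R R'))) = P := by
      intro P hP
      rw [Ideal.comap_map_of_surjective _ Ideal.Quotient.mk_surjective,
        ← RingHom.ker_eq_comap_bot, Ideal.mk_ker]
      exact sup_eq_left.2 hP
    rw [← hback Q hqQ, key, hback Q' hqQ']
  exact ENat.card_congr (Equiv.ofBijective f ⟨hinj, hsurj⟩)

/-- A map from a separably closed field `ks` to a separable extension `kT` of `k₂`, compatible with
`k₁ → ks` and a surjection `k₁ → k₂`, is surjective. -/
theorem surjective_of_isSepClosed {k₁ k₂ ks kT : Type*} [Field k₁] [Field k₂] [Field ks] [Field kT]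
    [Algebra k₂ kT] [Algebra.IsSeparable k₂ kT] [IsSepClosed ks]
    (f : k₁ →+* k₂) (hf : Function.Surjective f) (i : k₁ →+* ks) (j : ks →+* kT)
    (hcomm : j.comp i = (algebraMap k₂ kT).comp f) : Function.Surjective j := by
  letI : Algebra ks kT := j.toAlgebra
  haveI : Algebra.IsSeparable ks kT := by
    refine ⟨fun x => ?_⟩
    have hsep : (minpoly k₂ x).Separable := Algebra.IsSeparable.isSeparable k₂ x
    obtain ⟨q, hq⟩ := Polynomial.map_surjective f hf (minpoly k₂ x)
    have hqsep : q.Separable := (Polynomial.separable_map f).1 (hq ▸ hsep)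
    have hrsep : (q.map i).Separable := (Polynomial.separable_map i).2 hqsep
    have hr : Polynomial.aeval x (q.map i) = 0 := by
      rw [Polynomial.aeval_def, Polynomial.eval₂_map]
      have : (algebraMap ks kT).comp i = (algebraMap k₂ kT).comp f := hcomm
      rw [this, ← Polynomial.eval₂_map, hq, ← Polynomial.aeval_def, minpoly.aeval]
    exact hrsep.of_dvd (minpoly.dvd ks x hr)
  exact IsSepClosed.algebraMap_surjective ks kT

end Groth.Agent.Lib.Helper15.DimOneBranch
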