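import Groth.Agent.Lib.Helper15.FormalConn
import Groth.Agent.Lib.Helper15.DimOneBranch2

/-!
# One-dimensional minimal primes of a completion-like extension of a henselian local ring (helper15)

* `hloc_of_henselian`: integral sub-extensions of a henselian local domain are local.
* `radical_map_comap_eq`: `R` henselian Noetherian local, `R → R'` flat completion-like, `q` a minimal
  prime of `R'` such that every prime strictly above `q` is maximal: then `q = rad((q ∩ R) R')`
  and `q ∩ R` is a minimal prime of `R`.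
-/

set_option autoImplicit false
set_option linter.style.haveILetI false
universe u

namespace Groth.Agent.Lib.Helper15.FormalConn

open IsLocalRing

theorem hloc_of_henselian (E : Type u) [CommRing E] [IsDomain E] [HenselianLocalRing E]
    (B : Subalgebra E (FractionRing E)) (hB : Algebra.IsIntegral E B) : IsLocalRing B :=
  Groth.Agent.Lib.Helper37.Hz.TotNorm.isLocalRing_of_isIntegral_of_isDomain E B

attribute [local instance] FlatQuot.quotAlgebra

/-- **Theorem P.** -/
theorem radical_map_comap_eq (R R' : Type u) [CommRing R] [CommRing R'] [HenselianLocalRing R]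
    [IsNoetherianRing R] [IsLocalRing R'] [IsNoetherianRing R'] [Algebra R R'] [Module.Flat R R']
    (hm : (maximalIdeal R).map (algebraMap R R') = maximalIdeal R')
    (hres : ∀ c : R', ∃ e : R, c - algebraMap R R' e ∈ maximalIdeal R')
    (q : Ideal R') (hq : q ∈ minimalPrimes R')
    (hdim : ∀ P : Ideal R', P.IsPrime → q < P → P = maximalIdeal R') :
    q.comap (algebraMap R R') ∈ minimalPrimes R ∧
      ((q.comap (algebraMap R R')).map (algebraMap R R')).radical = q := by
  classical
  haveI hloc : IsLocalHom (algebraMap R R') :=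
    ((IsLocalRing.local_hom_TFAE (algebraMap R R')).out 0 2).mpr hm.le
  have hqp : q.IsPrime := hq.1.1
  have hmin : q.comap (algebraMap R R') ∈ minimalPrimes R :=
    (FlatEquidim.comap_mem_minimalPrimes (⊥ : Ideal R) (Q := q)
      (by rw [Ideal.map_bot]; exact hq)).1
  refine ⟨hmin, ?_⟩
  set q' : Ideal R := q.comap (algebraMap R R') with hq'
  haveI hq'p : q'.IsPrime := Ideal.comap_isPrime _ _
  have hq'q : q'.map (algebraMap R R') ≤ q := Ideal.map_le_iff_le_comap.2 le_rfl
  refine le_antisymm ((Ideal.IsPrime.radical_le_iff hqp).2 hq'q) ?_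
  haveI : HenselianLocalRing (R ⧸ q') :=
    Groth.Agent.Lib.Helper86.Olivier.henselianLocalRing_quotient q' hq'p.ne_top
  haveI : Nontrivial (R' ⧸ q'.map (algebraMap R R')) :=
    FlatEquidim.nontrivial_quot R R' q' hq'p.ne_top
  haveI : Module.Flat (R ⧸ q') (R' ⧸ q'.map (algebraMap R R')) := FlatQuot.flat_quot q'
  have hcomm : (algebraMap (R ⧸ q') (R' ⧸ q'.map (algebraMap R R'))).comp (Ideal.Quotient.mk q') =
      (Ideal.Quotient.mk (q'.map (algebraMap R R'))).comp (algebraMap R R') := by
    ext r; rfl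
  have hm' : (maximalIdeal (R ⧸ q')).map (algebraMap (R ⧸ q') (R' ⧸ q'.map (algebraMap R R'))) =
      maximalIdeal (R' ⧸ q'.map (algebraMap R R')) := by
    rw [DimOneBranch.maximalIdeal_quotient', DimOneBranch.maximalIdeal_quotient', Ideal.map_map,
      hcomm, ← Ideal.map_map, hm]
  have hres' : ∀ c : R' ⧸ q'.map (algebraMap R R'), ∃ e : R ⧸ q',
      c - algebraMap (R ⧸ q') (R' ⧸ q'.map (algebraMap R R')) e ∈
        maximalIdeal (R' ⧸ q'.map (algebraMap R R')) := by
    intro c
    obtain ⟨c₀, rfl⟩ := Ideal.Quotient.mk_surjective c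
    obtain ⟨e, he⟩ := hres c₀
    refine ⟨Ideal.Quotient.mk q' e, ?_⟩
    rw [DimOneBranch.maximalIdeal_quotient']
    have : Ideal.Quotient.mk (q'.map (algebraMap R R')) c₀ -
        algebraMap (R ⧸ q') (R' ⧸ q'.map (algebraMap R R')) (Ideal.Quotient.mk q' e) =
        Ideal.Quotient.mk (q'.map (algebraMap R R')) (c₀ - algebraMap R R' e) := by
      rw [map_sub]; rfl
    rw [this]
    exact Ideal.mem_map_of_mem _ he
  -- notation
  have hmks : Function.Surjective (Ideal.Quotient.mk (q'.map (algebraMap R R'))) :=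
    Ideal.Quotient.mk_surjective
  have hback : ∀ P : Ideal R', q'.map (algebraMap R R') ≤ P →
      (P.map (Ideal.Quotient.mk (q'.map (algebraMap R R')))).comap
        (Ideal.Quotient.mk (q'.map (algebraMap R R'))) = P := by
    intro P hP
    rw [Ideal.comap_map_of_surjective _ hmks, ← RingHom.ker_eq_comap_bot, Ideal.mk_ker]
    exact sup_eq_left.2 hP
  have hQ₁min : q.map (Ideal.Quotient.mk (q'.map (algebraMap R R'))) ∈
      minimalPrimes (R' ⧸ q'.map (algebraMap R R')) :=
    DimOneBranch.map_mk_mem_minimalPrimes _ q hq'q hq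
  have hdim' : ∀ P : Ideal (R' ⧸ q'.map (algebraMap R R')), P.IsPrime →
      q.map (Ideal.Quotient.mk (q'.map (algebraMap R R'))) < P →
      P = maximalIdeal (R' ⧸ q'.map (algebraMap R R')) := by
    intro P hP hlt
    have hP'p : (P.comap (Ideal.Quotient.mk (q'.map (algebraMap R R')))).IsPrime :=
      Ideal.comap_isPrime _ _
    have hP'q : q ≤ P.comap (Ideal.Quotient.mk (q'.map (algebraMap R R'))) := by
      rw [← hback q hq'q]; exact Ideal.comap_mono hlt.le
    have hP'ne : q ≠ P.comap (Ideal.Quotient.mk (q'.map (algebraMap R R'))) := by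
      intro h
      apply hlt.ne
      rw [h, Ideal.map_comap_of_surjective _ hmks]
    have h1 := hdim _ hP'p (lt_of_le_of_ne hP'q hP'ne)
    rw [← Ideal.map_comap_of_surjective _ hmks P, h1, DimOneBranch.maximalIdeal_quotient']
  have hQ₁nil := le_nilradical_of_dim_one (R ⧸ q') (R' ⧸ q'.map (algebraMap R R'))
    (hloc_of_henselian (R ⧸ q')) hm' hres' _ hQ₁min hdim'
  intro z hz
  have h1 : Ideal.Quotient.mk (q'.map (algebraMap R R')) z ∈
      nilradical (R' ⧸ q'.map (algebraMap R R')) := hQ₁nil (Ideal.mem_map_of_mem _ hz)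
  obtain ⟨n, hn⟩ := mem_nilradical.1 h1
  refine ⟨n, ?_⟩
  rw [← map_pow] at hn
  exact Ideal.Quotient.eq_zero_iff_mem.1 hn

/-- **Lemma R.** Formal connectedness relative to a prime `q'` of the henselian ring `R`. -/
theorem le_radical_map_or (R R' : Type u) [CommRing R] [CommRing R'] [HenselianLocalRing R]
    [IsNoetherianRing R] [IsLocalRing R'] [IsNoetherianRing R'] [Algebra R R'] [Module.Flat R R']
    (hm : (maximalIdeal R).map (algebraMap R R') = maximalIdeal R')
    (hres : ∀ c : R', ∃ e : R, c - algebraMap R R' e ∈ maximalIdeal R')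
    (q' : Ideal R) [hq'p : q'.IsPrime] (I₁ I₂ : Ideal R')
    (h12 : I₁ * I₂ ≤ (q'.map (algebraMap R R')).radical) (N : ℕ)
    (hN : maximalIdeal R' ^ N ≤ I₁ ⊔ I₂) :
    I₁ ≤ (q'.map (algebraMap R R')).radical ∨ I₂ ≤ (q'.map (algebraMap R R')).radical := by
  classical
  haveI hloc : IsLocalHom (algebraMap R R') :=
    ((IsLocalRing.local_hom_TFAE (algebraMap R R')).out 0 2).mpr hm.le
  haveI : HenselianLocalRing (R ⧸ q') :=
    Groth.Agent.Lib.Helper86.Olivier.henselianLocalRing_quotient q' hq'p.ne_top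
  haveI : Nontrivial (R' ⧸ q'.map (algebraMap R R')) :=
    FlatEquidim.nontrivial_quot R R' q' hq'p.ne_top
  haveI : Module.Flat (R ⧸ q') (R' ⧸ q'.map (algebraMap R R')) := FlatQuot.flat_quot q'
  have hcomm : (algebraMap (R ⧸ q') (R' ⧸ q'.map (algebraMap R R'))).comp (Ideal.Quotient.mk q') =
      (Ideal.Quotient.mk (q'.map (algebraMap R R'))).comp (algebraMap R R') := by
    ext r; rfl
  have hm' : (maximalIdeal (R ⧸ q')).map (algebraMap (R ⧸ q') (R' ⧸ q'.map (algebraMap R R'))) =
      maximalIdeal (R' ⧸ q'.map (algebraMap R R')) := by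
    rw [DimOneBranch.maximalIdeal_quotient', DimOneBranch.maximalIdeal_quotient', Ideal.map_map,
      hcomm, ← Ideal.map_map, hm]
  have hres' : ∀ c : R' ⧸ q'.map (algebraMap R R'), ∃ e : R ⧸ q',
      c - algebraMap (R ⧸ q') (R' ⧸ q'.map (algebraMap R R')) e ∈
        maximalIdeal (R' ⧸ q'.map (algebraMap R R')) := by
    intro c
    obtain ⟨c₀, rfl⟩ := Ideal.Quotient.mk_surjective c
    obtain ⟨e, he⟩ := hres c₀
    refine ⟨Ideal.Quotient.mk q' e, ?_⟩
    rw [DimOneBranch.maximalIdeal_quotient']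
    have : Ideal.Quotient.mk (q'.map (algebraMap R R')) c₀ -
        algebraMap (R ⧸ q') (R' ⧸ q'.map (algebraMap R R')) (Ideal.Quotient.mk q' e) =
        Ideal.Quotient.mk (q'.map (algebraMap R R')) (c₀ - algebraMap R R' e) := by
      rw [map_sub]; rfl
    rw [this]
    exact Ideal.mem_map_of_mem _ he
  have hnil : ∀ z : R', z ∈ (q'.map (algebraMap R R')).radical ↔
      Ideal.Quotient.mk (q'.map (algebraMap R R')) z ∈
        nilradical (R' ⧸ q'.map (algebraMap R R')) := by
    intro z
    rw [mem_nilradical]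
    constructor
    · rintro ⟨n, hn⟩
      exact ⟨n, by rw [← map_pow]; exact Ideal.Quotient.eq_zero_iff_mem.2 hn⟩
    · rintro ⟨n, hn⟩
      rw [← map_pow] at hn
      exact ⟨n, Ideal.Quotient.eq_zero_iff_mem.1 hn⟩
  have h12' : I₁.map (Ideal.Quotient.mk (q'.map (algebraMap R R'))) *
      I₂.map (Ideal.Quotient.mk (q'.map (algebraMap R R'))) ≤
      nilradical (R' ⧸ q'.map (algebraMap R R')) := by
    rw [← Ideal.map_mul, Ideal.map_le_iff_le_comap]
    intro z hz
    exact (hnil z).1 (h12 hz)
  have hN' : maximalIdeal (R' ⧸ q'.map (algebraMap R R')) ^ N ≤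
      I₁.map (Ideal.Quotient.mk (q'.map (algebraMap R R'))) ⊔
        I₂.map (Ideal.Quotient.mk (q'.map (algebraMap R R'))) := by
    rw [DimOneBranch.maximalIdeal_quotient', ← Ideal.map_pow, ← Ideal.map_sup]
    exact Ideal.map_mono hN
  rcases le_nilradical_or (R ⧸ q') (R' ⧸ q'.map (algebraMap R R'))
    (hloc_of_henselian (R ⧸ q')) hm' hres' _ _ h12' N hN' with h | h
  · left
    intro z hz
    exact (hnil z).2 (h (Ideal.mem_map_of_mem _ hz))
  · right
    intro z hz
    exact (hnil z).2 (h (Ideal.mem_map_of_mem _ hz))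

/-- If `R'/q` has dimension `≤ 1` then every prime strictly above `q` is the maximal ideal. -/
theorem eq_maximalIdeal_of_lt_of_dim_quotient {R' : Type*} [CommRing R'] [IsLocalRing R']
    [IsNoetherianRing R'] (q : Ideal R') [hq : q.IsPrime] (hdim : ringKrullDim (R' ⧸ q) ≤ 1)
    (P : Ideal R') (hP : P.IsPrime) (hlt : q < P) : P = maximalIdeal R' := by
  have hmks : Function.Surjective (Ideal.Quotient.mk q) := Ideal.Quotient.mk_surjective
  have hback : ∀ P : Ideal R', q ≤ P →
      (P.map (Ideal.Quotient.mk q)).comap (Ideal.Quotient.mk q) = P := by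
    intro P hP
    rw [Ideal.comap_map_of_surjective _ hmks, ← RingHom.ker_eq_comap_bot, Ideal.mk_ker]
    exact sup_eq_left.2 hP
  have hker : RingHom.ker (Ideal.Quotient.mk q) ≤ P := by rw [Ideal.mk_ker]; exact hlt.le
  haveI hPp : (P.map (Ideal.Quotient.mk q)).IsPrime :=
    Ideal.map_isPrime_of_surjective hmks hker
  have hne : P.map (Ideal.Quotient.mk q) ≠ ⊥ := by
    intro h
    have h1 := hback P hlt.le
    rw [h, ← RingHom.ker_eq_comap_bot, Ideal.mk_ker] at h1
    exact hlt.ne h1
  have h2 := DimOneBranch.eq_maximalIdeal_of_ne_bot hdim (P.map (Ideal.Quotient.mk q)) hne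
  rw [DimOneBranch.maximalIdeal_quotient'] at h2
  rw [← hback P hlt.le, h2, hback _ (le_maximalIdeal hq.ne_top)]

end Groth.Agent.Lib.Helper15.FormalConn
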