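/-
helper15: components of dimension ≥ 2 of a henselian noetherian local ring and of a
completion-like extension.
-/
import Groth.Agent.Lib.Helper15.FormalConn2
import Groth.Agent.Lib.Helper15.FlatEquidim

set_option linter.style.haveILetI false
set_option autoImplicit false

universe u

namespace Groth.Agent.Lib.Helper15.BranchDim

open IsLocalRing Groth.Agent.Lib.Helper15

theorem le_one_of_not_two_le (d : WithBot ℕ∞) (h : ¬ (2 : WithBot ℕ∞) ≤ d) : d ≤ 1 := by
  by_cases hb : d = ⊥
  · rw [hb]; exact bot_le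
  · obtain ⟨e, rfl⟩ := WithBot.ne_bot_iff_exists.1 hb
    have h' : ¬ (2 : ℕ∞) ≤ e := fun h2 => h (WithBot.coe_le_coe.2 h2)
    have h3 : e < 2 := lt_of_not_ge h'
    have h4 : e ≤ 1 := by
      have : e < 1 + 1 := by rwa [one_add_one_eq_two]
      exact Order.le_of_lt_add_one this
    exact WithBot.coe_le_coe.2 h4

section Comp

variable (R C : Type u) [CommRing R] [CommRing C] [HenselianLocalRing R]
    [IsNoetherianRing R] [IsLocalRing C] [IsNoetherianRing C] [Algebra R C] [Module.Flat R C]

theorem dim_quot_map_eq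
    (hm : (maximalIdeal R).map (algebraMap R C) = maximalIdeal C)
    (p : Ideal R) (hp : p ≠ ⊤) :
    ringKrullDim (C ⧸ p.map (algebraMap R C)) = ringKrullDim (R ⧸ p) := by
  haveI hloc : IsLocalHom (algebraMap R C) :=
    ((IsLocalRing.local_hom_TFAE (algebraMap R C)).out 0 2).mpr hm.le
  rw [FlatEquidim.ringKrullDim_quot_eq_add R C p hp, hm]
  have : ringKrullDim (C ⧸ maximalIdeal C) = 0 :=
    ringKrullDim_eq_zero_of_isField
      ((Ideal.Quotient.maximal_ideal_iff_isField_quotient _).1 inferInstance)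
  rw [this, add_zero]

theorem comp_iff
    (hm : (maximalIdeal R).map (algebraMap R C) = maximalIdeal C)
    (hres : ∀ c : C, ∃ e : R, c - algebraMap R C e ∈ maximalIdeal C) :
    (∀ p ∈ minimalPrimes R, (2 : WithBot ℕ∞) ≤ ringKrullDim (R ⧸ p)) ↔
      (∀ Q ∈ minimalPrimes C, (2 : WithBot ℕ∞) ≤ ringKrullDim (C ⧸ Q)) := by
  haveI hloc : IsLocalHom (algebraMap R C) :=
    ((IsLocalRing.local_hom_TFAE (algebraMap R C)).out 0 2).mpr hm.le
  constructor
  · intro h Q hQ
    by_contra hcon
    have hdimQ : ringKrullDim (C ⧸ Q) ≤ 1 := le_one_of_not_two_le _ hcon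
    haveI hQp : Q.IsPrime := hQ.1.1
    have hdim : ∀ P : Ideal C, P.IsPrime → Q < P → P = maximalIdeal C :=
      fun P hP hlt => FormalConn.eq_maximalIdeal_of_lt_of_dim_quotient Q hdimQ P hP hlt
    obtain ⟨hpmin, hrad⟩ := FormalConn.radical_map_comap_eq R C hm hres Q hQ hdim
    haveI : (Q.comap (algebraMap R C)).IsPrime := Ideal.comap_isPrime _ _
    have h1 := h _ hpmin
    rw [← dim_quot_map_eq R C hm _ (Ideal.IsPrime.ne_top inferInstance)] at h1
    rw [ringKrullDim_quotient, ← PrimeSpectrum.zeroLocus_radical, hrad,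
      ← ringKrullDim_quotient] at h1
    exact hcon h1
  · intro h p hp
    haveI hpp : p.IsPrime := hp.1.1
    have hle : p.map (algebraMap R C) ≤ maximalIdeal C :=
      FlatEquidim.map_le_maximalIdeal R C p hpp.ne_top
    obtain ⟨Q, hQ, -⟩ := Ideal.exists_minimalPrimes_le hle
    have hQmin : Q ∈ minimalPrimes C := by
      have := (FlatEquidim.mem_minimalPrimes_map (⊥ : Ideal R) (q := p) hp hQ).1
      rwa [Ideal.map_bot] at this
    have h1 := h Q hQmin
    have h2 : ringKrullDim (C ⧸ Q) ≤ ringKrullDim (C ⧸ p.map (algebraMap R C)) :=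
      ringKrullDim_le_of_surjective (Ideal.Quotient.factor hQ.1.2)
        (Ideal.Quotient.factor_surjective hQ.1.2)
    rw [dim_quot_map_eq R C hm p hpp.ne_top] at h2
    exact h1.trans h2

end Comp

end Groth.Agent.Lib.Helper15.BranchDim
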