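/-
helper15: one-dimensional components: henselian local ring vs completion-like extension vs
integral (strict henselization) extension.
-/
import Groth.Agent.Lib.Helper15.BranchDim2
import Groth.Agent.Lib.Helper11.IntegralDim

set_option linter.style.haveILetI false
set_option autoImplicit false
set_option linter.unusedSectionVars false

universe u

namespace Groth.Agent.Lib.Helper15.BranchDim

open IsLocalRing Groth.Agent.Lib.Helper15

section General

theorem exists_minimalPrimes_quot_iff {R : Type*} [CommRing R] (I : Ideal R)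
    (Φ : WithBot ℕ∞ → Prop) :
    (∃ q ∈ I.minimalPrimes, Φ (ringKrullDim (R ⧸ q))) ↔
      (∃ q' ∈ minimalPrimes (R ⧸ I), Φ (ringKrullDim ((R ⧸ I) ⧸ q'))) := by
  have hmks : Function.Surjective (Ideal.Quotient.mk I) := Ideal.Quotient.mk_surjective
  have key : ∀ q' : Ideal (R ⧸ I), ringKrullDim ((R ⧸ I) ⧸ q') =
      ringKrullDim (R ⧸ q'.comap (Ideal.Quotient.mk I)) := by
    intro q'
    have hle : I ≤ q'.comap (Ideal.Quotient.mk I) := by
      intro x hx
      rw [Ideal.mem_comap, Ideal.Quotient.eq_zero_iff_mem.2 hx]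
      exact q'.zero_mem
    have h1 : (q'.comap (Ideal.Quotient.mk I)).map (Ideal.Quotient.mk I) = q' :=
      Ideal.map_comap_of_surjective _ hmks q'
    have h2 := ringKrullDim_eq_of_ringEquiv (DoubleQuot.quotQuotEquivQuotOfLE hle)
    rw [h1] at h2
    exact h2
  rw [Ideal.minimalPrimes_eq_comap]
  constructor
  · rintro ⟨q, ⟨q', hq', rfl⟩, h⟩
    exact ⟨q', hq', by rw [key]; exact h⟩
  · rintro ⟨q', hq', h⟩
    exact ⟨_, ⟨q', hq', rfl⟩, by rw [← key]; exact h⟩

theorem exists_minimalPrimes_dim_eq_one {R' : Type*} [CommRing R'] (h : ringKrullDim R' = 1) :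
    ∃ Q ∈ minimalPrimes R', ringKrullDim (R' ⧸ Q) = 1 := by
  have h1 : ((1 : ℕ) : WithBot ℕ∞) ≤ Order.krullDim (PrimeSpectrum R') := by
    have : ringKrullDim R' = Order.krullDim (PrimeSpectrum R') := rfl
    rw [← this, h]; rfl
  obtain ⟨l, hl⟩ := Order.le_krullDim_iff.1 h1
  have hlt : l.head < l.last := by
    apply l.strictMono
    rw [Fin.lt_def]
    simp [hl]
  obtain ⟨Q, hQ, hQP₀⟩ := Ideal.exists_minimalPrimes_le (I := ⊥) (J := l.head.asIdeal) bot_le
  refine ⟨Q, hQ, le_antisymm ?_ ?_⟩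
  · rw [← h]; exact ringKrullDim_quotient_le Q
  · rw [ringKrullDim_quotient]
    let a : PrimeSpectrum.zeroLocus (Q : Set R') := ⟨l.head, hQP₀⟩
    let b : PrimeSpectrum.zeroLocus (Q : Set R') := ⟨l.last, hQP₀.trans hlt.le⟩
    have hab : a < b := hlt
    have hsm : StrictMono (![a, b] : Fin (1 + 1) → PrimeSpectrum.zeroLocus (Q : Set R')) := by
      intro i j hij
      fin_cases i <;> fin_cases j
      · exact absurd hij (lt_irrefl _)
      · exact hab
      · exact absurd hij (by decide)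
      · exact absurd hij (lt_irrefl _)
    have h5 := Order.LTSeries.length_le_krullDim (LTSeries.mk 1 ![a, b] hsm)
    exact h5

theorem dim_quot_eq_of_isIntegral {B T : Type*} [CommRing B] [CommRing T] [Algebra B T]
    [Algebra.IsIntegral B T] (Q : Ideal T) :
    ringKrullDim (T ⧸ Q) = ringKrullDim (B ⧸ Q.comap (algebraMap B T)) :=
  Groth.Agent.Lib.Helper11.IntegralDim.ringKrullDim_eq_of_isIntegral_of_injective
    Ideal.algebraMap_quotient_injective

theorem exists_minimalPrimes_of_ringEquiv {R R' : Type*} [CommRing R] [CommRing R']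
    (e : R ≃+* R') (I : Ideal R) (Φ : WithBot ℕ∞ → Prop)
    (h : ∃ P ∈ I.minimalPrimes, Φ (ringKrullDim (R ⧸ P))) :
    ∃ P' ∈ (I.map (e : R →+* R')).minimalPrimes, Φ (ringKrullDim (R' ⧸ P')) := by
  obtain ⟨P, hP, hΦ⟩ := h
  refine ⟨P.map (e : R →+* R'), ?_, ?_⟩
  · rw [Ideal.minimalPrimes_map_of_surjective e.surjective]
    refine ⟨P, ?_, rfl⟩
    have : RingHom.ker (e : R →+* R') = ⊥ := (RingHom.injective_iff_ker_eq_bot _).1 e.injective
    rw [this, sup_bot_eq]
    exact hP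
  · rw [← ringKrullDim_eq_of_ringEquiv (Ideal.quotientEquiv P (P.map (e : R →+* R')) e rfl)]
    exact hΦ

end General

section Integral

variable {B T : Type u} [CommRing B] [CommRing T] [Algebra B T] [Algebra.IsIntegral B T]
  [Module.FaithfullyFlat B T]

theorem exists_minimalPrimes_map (q : Ideal B) [hq : q.IsPrime] :
    ∃ Q, Q ∈ (q.map (algebraMap B T)).minimalPrimes := by
  have h1 : (q.map (algebraMap B T)).comap (algebraMap B T) = q :=
    Ideal.comap_map_eq_self_of_faithfullyFlat q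
  have h2 : q.map (algebraMap B T) ≠ ⊤ := by
    intro htop
    rw [htop, Ideal.comap_top] at h1
    exact hq.ne_top h1.symm
  obtain ⟨n, hn, hle⟩ := Ideal.exists_le_maximal _ h2
  haveI := hn.isPrime
  obtain ⟨Q, hQ, -⟩ := Ideal.exists_minimalPrimes_le hle
  exact ⟨Q, hQ⟩

theorem integral_exists_iff (J : Ideal B) :
    (∃ q ∈ J.minimalPrimes, ringKrullDim (B ⧸ q) = 1) ↔
      (∃ Q ∈ (J.map (algebraMap B T)).minimalPrimes, ringKrullDim (T ⧸ Q) = 1) := by
  constructor
  · rintro ⟨q, hq, hdim⟩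
    haveI := hq.1.1
    obtain ⟨Q, hQ⟩ := exists_minimalPrimes_map (T := T) q
    obtain ⟨hQJ, hQq⟩ := FlatEquidim.mem_minimalPrimes_map J hq hQ
    refine ⟨Q, hQJ, ?_⟩
    rw [dim_quot_eq_of_isIntegral (B := B) Q, hQq]
    exact hdim
  · rintro ⟨Q, hQ, hdim⟩
    refine ⟨_, (FlatEquidim.comap_mem_minimalPrimes J hQ).1, ?_⟩
    rw [← dim_quot_eq_of_isIntegral (B := B) Q]
    exact hdim

theorem integral_exists_iff' (J : Ideal B) :
    (∃ q ∈ J.minimalPrimes, ringKrullDim (B ⧸ q) = 1) ↔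
      (∃ q ∈ J.minimalPrimes, ∃ Q ∈ (q.map (algebraMap B T)).minimalPrimes,
        ringKrullDim (T ⧸ Q) = 1) := by
  constructor
  · rintro ⟨q, hq, hdim⟩
    haveI := hq.1.1
    obtain ⟨Q, hQ⟩ := exists_minimalPrimes_map (T := T) q
    obtain ⟨-, hQq⟩ := FlatEquidim.mem_minimalPrimes_map J hq hQ
    refine ⟨q, hq, Q, hQ, ?_⟩
    rw [dim_quot_eq_of_isIntegral (B := B) Q, hQq]
    exact hdim
  · rintro ⟨q, hq, Q, hQ, hdim⟩
    obtain ⟨-, hQq⟩ := FlatEquidim.mem_minimalPrimes_map J hq hQ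
    refine ⟨q, hq, ?_⟩
    rw [← hQq, ← dim_quot_eq_of_isIntegral (B := B) Q]
    exact hdim

end Integral

section CompOne

variable (R C : Type u) [CommRing R] [CommRing C] [HenselianLocalRing R]
    [IsNoetherianRing R] [IsLocalRing C] [IsNoetherianRing C] [Algebra R C] [Module.Flat R C]

theorem comp_exists_iff
    (hm : (maximalIdeal R).map (algebraMap R C) = maximalIdeal C)
    (hres : ∀ c : C, ∃ e : R, c - algebraMap R C e ∈ maximalIdeal C) :
    (∃ p ∈ minimalPrimes R, ringKrullDim (R ⧸ p) = 1) ↔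
      (∃ Q ∈ minimalPrimes C, ringKrullDim (C ⧸ Q) = 1) := by
  constructor
  · rintro ⟨p, hp, hdim⟩
    haveI hpp : p.IsPrime := hp.1.1
    have h1 : ringKrullDim (C ⧸ p.map (algebraMap R C)) = 1 := by
      rw [dim_quot_map_eq R C hm p hpp.ne_top, hdim]
    obtain ⟨Q', hQ', hQ'dim⟩ := exists_minimalPrimes_dim_eq_one h1
    obtain ⟨Q, hQ, hQdim⟩ := (exists_minimalPrimes_quot_iff (p.map (algebraMap R C))
      (fun d => d = 1)).2 ⟨Q', hQ', hQ'dim⟩
    refine ⟨Q, ?_, hQdim⟩
    have := (FlatEquidim.mem_minimalPrimes_map (⊥ : Ideal R) (q := p) hp hQ).1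
    rwa [Ideal.map_bot] at this
  · rintro ⟨Q, hQ, hdimQ⟩
    haveI hQp : Q.IsPrime := hQ.1.1
    have hdim : ∀ P : Ideal C, P.IsPrime → Q < P → P = maximalIdeal C :=
      fun P hP hlt => FormalConn.eq_maximalIdeal_of_lt_of_dim_quotient Q hdimQ.le P hP hlt
    obtain ⟨hpmin, hrad⟩ := FormalConn.radical_map_comap_eq R C hm hres Q hQ hdim
    haveI : (Q.comap (algebraMap R C)).IsPrime := Ideal.comap_isPrime _ _
    refine ⟨_, hpmin, ?_⟩
    rw [← dim_quot_map_eq R C hm _ (Ideal.IsPrime.ne_top inferInstance), ringKrullDim_quotient,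
      ← PrimeSpectrum.zeroLocus_radical, hrad, ← ringKrullDim_quotient]
    exact hdimQ

attribute [local instance] FlatQuot.quotAlgebra

theorem comp_exists_rel
    (hm : (maximalIdeal R).map (algebraMap R C) = maximalIdeal C)
    (hres : ∀ c : C, ∃ e : R, c - algebraMap R C e ∈ maximalIdeal C)
    (I : Ideal R) (hI : I ≠ ⊤) :
    (∃ P ∈ I.minimalPrimes, ringKrullDim (R ⧸ P) = 1) ↔
      (∃ Q ∈ (I.map (algebraMap R C)).minimalPrimes, ringKrullDim (C ⧸ Q) = 1) := by
  haveI hloc : IsLocalHom (algebraMap R C) :=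
    ((IsLocalRing.local_hom_TFAE (algebraMap R C)).out 0 2).mpr hm.le
  haveI : HenselianLocalRing (R ⧸ I) :=
    Groth.Agent.Lib.Helper86.Olivier.henselianLocalRing_quotient I hI
  haveI : Nontrivial (C ⧸ I.map (algebraMap R C)) := FlatEquidim.nontrivial_quot R C I hI
  haveI : Module.Flat (R ⧸ I) (C ⧸ I.map (algebraMap R C)) := FlatQuot.flat_quot I
  have hcomm : (algebraMap (R ⧸ I) (C ⧸ I.map (algebraMap R C))).comp (Ideal.Quotient.mk I) =
      (Ideal.Quotient.mk (I.map (algebraMap R C))).comp (algebraMap R C) := by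
    ext r; rfl
  have hm' : (maximalIdeal (R ⧸ I)).map (algebraMap (R ⧸ I) (C ⧸ I.map (algebraMap R C))) =
      maximalIdeal (C ⧸ I.map (algebraMap R C)) := by
    rw [DimOneBranch.maximalIdeal_quotient', DimOneBranch.maximalIdeal_quotient', Ideal.map_map,
      hcomm, ← Ideal.map_map, hm]
  have hres' : ∀ c : C ⧸ I.map (algebraMap R C), ∃ e : R ⧸ I,
      c - algebraMap (R ⧸ I) (C ⧸ I.map (algebraMap R C)) e ∈
        maximalIdeal (C ⧸ I.map (algebraMap R C)) := by
    intro c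
    obtain ⟨c₀, rfl⟩ := Ideal.Quotient.mk_surjective c
    obtain ⟨e, he⟩ := hres c₀
    refine ⟨Ideal.Quotient.mk I e, ?_⟩
    rw [DimOneBranch.maximalIdeal_quotient']
    have : Ideal.Quotient.mk (I.map (algebraMap R C)) c₀ -
        algebraMap (R ⧸ I) (C ⧸ I.map (algebraMap R C)) (Ideal.Quotient.mk I e) =
        Ideal.Quotient.mk (I.map (algebraMap R C)) (c₀ - algebraMap R C e) := by
      rw [map_sub]; rfl
    rw [this]
    exact Ideal.mem_map_of_mem _ he
  rw [exists_minimalPrimes_quot_iff I (fun d => d = 1),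
    exists_minimalPrimes_quot_iff (I.map (algebraMap R C)) (fun d => d = 1)]
  exact comp_exists_iff (R ⧸ I) (C ⧸ I.map (algebraMap R C)) hm' hres'

end CompOne

end Groth.Agent.Lib.Helper15.BranchDim
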