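import Groth.Agent.Lib.Helper15.CatDomain
import Mathlib

/-!
# Components of a flat local algebra over a (nice) local domain of dimension ≥ 2 have dimension ≥ 2
-/

universe u

namespace Groth.Agent.Lib.Helper15.C2Flat

open IsLocalRing

section PartE

variable {C D : Type u} [CommRing C] [IsDomain C] [CommRing D] [IsNoetherianRing D] [IsLocalRing D]
  [Algebra C D] [Module.Flat C D]

omit [IsNoetherianRing D] [IsLocalRing D] in
theorem isSMulRegular_algebraMap {a : C} (ha : a ≠ 0) : IsSMulRegular D (algebraMap C D a) :=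
  IsSMulRegular.of_flat (IsRegular.of_ne_zero ha).left.isSMulRegular

omit [IsDomain C] [IsNoetherianRing D] [IsLocalRing D] in
/-- flatness: `s y ∈ x D` ⇒ `s ∈ (x : y) D`. Elementwise. -/
theorem exists_of_mul_eq_mul {x y : C} {s d : D}
    (h : s * algebraMap C D y = algebraMap C D x * d) :
    ∃ (k : ℕ) (a b : Fin k → C) (u : Fin k → D), (∀ j, a j * y = x * b j) ∧
      s = ∑ j, algebraMap C D (a j) * u j := by
  classical
  obtain ⟨k, a, u, hxy, hb⟩ := Module.Flat.isTrivialRelation_of_sum_smul_eq_zero (R := C) (M := D)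
    (f := ![y, -x]) (x := ![s, d]) (by
      rw [Fin.sum_univ_two]
      simp only [Matrix.cons_val_zero, Matrix.cons_val_one, Algebra.smul_def, map_neg]
      rw [mul_comm, h]; ring)
  refine ⟨k, a 0, a 1, u, ?_, ?_⟩
  · intro j
    have := hb j
    rw [Fin.sum_univ_two] at this
    simp only [Matrix.cons_val_zero, Matrix.cons_val_one] at this
    rw [mul_comm (a 0 j)]
    linear_combination this
  · have := hxy 0
    simp only [Matrix.cons_val_zero] at this
    rw [this]
    simp [Algebra.smul_def]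

omit [IsDomain C] [IsNoetherianRing D] [IsLocalRing D] [Module.Flat C D] [Algebra C D] in
theorem exists_mul_pow_eq_zero {Q : Ideal D} (hQ : Q ∈ minimalPrimes D) {z : D} (hz : z ∈ Q) :
    ∃ s : D, s ∉ Q ∧ ∃ k : ℕ, s * z ^ k = 0 := by
  have hQp : Q.IsPrime := hQ.1.1
  let A := Localization.AtPrime Q
  have h1 := IsLocalization.AtPrime.radical_map_of_mem_minimalPrimes (A := A) Q ⊥ hQ
  have h2 : algebraMap D A z ∈ (Ideal.map (algebraMap D A) ⊥).radical := by
    rw [h1]; exact Ideal.mem_map_of_mem _ hz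
  obtain ⟨k, hk⟩ := h2
  rw [Ideal.map_bot, Ideal.mem_bot, ← map_pow] at hk
  obtain ⟨m, hm⟩ := (IsLocalization.map_eq_zero_iff Q.primeCompl A _).mp hk
  exact ⟨m, m.2, k, hm⟩

theorem two_le_ringKrullDim_quotient_of_good {c x₀ y : C} (hc : c ≠ 0) (hx₀ : x₀ ≠ 0)
    (hx₀m : algebraMap C D x₀ ∈ maximalIdeal D) (hym : algebraMap C D y ∈ maximalIdeal D)
    (hgood : ∀ (M : ℕ) (t a : C), t * y ^ M = c * x₀ * a → ∃ a' : C, c * t = c * x₀ * a')
    {Q : Ideal D} (hQ : Q ∈ minimalPrimes D) : (2 : WithBot ℕ∞) ≤ ringKrullDim (D ⧸ Q) := by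
  by_contra hdim
  have hQp : Q.IsPrime := hQ.1.1
  have hx0 : c * x₀ ≠ 0 := mul_ne_zero hc hx₀
  have hxreg : IsSMulRegular D (algebraMap C D (c * x₀)) := isSMulRegular_algebraMap hx0
  have hcreg : IsSMulRegular D (algebraMap C D c) := isSMulRegular_algebraMap hc
  have hxQ : algebraMap C D (c * x₀) ∉ Q := by
    intro hmem
    have hd := Ideal.disjoint_nonZeroDivisors_of_mem_minimalPrimes hQ
    refine Set.disjoint_left.mp hd hmem ?_
    rw [SetLike.mem_coe, mem_nonZeroDivisors_iff_right]
    intro d hd0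
    apply hxreg.right_eq_zero_of_smul
    rw [smul_eq_mul, mul_comm]; exact hd0
  -- E3
  have hE3 : ∀ P : Ideal D, P.IsPrime → Q ≤ P → algebraMap C D (c * x₀) ∈ P →
      P = maximalIdeal D := by
    intro P hP hQP hxP
    by_contra hPm
    apply hdim
    have hQltP : (⟨Q, hQp⟩ : PrimeSpectrum D) < ⟨P, hP⟩ := by
      refine lt_of_le_of_ne hQP ?_
      intro h
      have : Q = P := congrArg PrimeSpectrum.asIdeal h
      exact hxQ (this ▸ hxP)
    have hPltm : (⟨P, hP⟩ : PrimeSpectrum D) < closedPoint D := by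
      refine lt_of_le_of_ne (IsLocalRing.le_maximalIdeal hP.ne_top) ?_
      intro h
      exact hPm (congrArg PrimeSpectrum.asIdeal h)
    have h1 := Order.coheight_add_one_le hPltm
    have h2 := Order.coheight_add_one_le hQltP
    have h3 : (2 : ℕ∞) ≤ Order.coheight (⟨Q, hQp⟩ : PrimeSpectrum D) := by
      calc (2 : ℕ∞) = 0 + 1 + 1 := by norm_num
        _ ≤ Order.coheight (closedPoint D) + 1 + 1 := by gcongr; exact bot_le
        _ ≤ Order.coheight (⟨P, hP⟩ : PrimeSpectrum D) + 1 := by gcongr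
        _ ≤ _ := h2
    rw [CatDomain.ringKrullDim_quotient_eq_coheight (⟨Q, hQp⟩ : PrimeSpectrum D)]
    exact (WithBot.coe_le_coe.mpr h3)
  -- E4
  have hrad : algebraMap C D y ∈ (Q ⊔ Ideal.span {algebraMap C D (c * x₀)}).radical := by
    rw [Ideal.radical_eq_sInf, Ideal.mem_sInf]
    rintro P ⟨hle, hP⟩
    have := hE3 P hP (le_sup_left.trans hle)
      (hle (Ideal.mem_sup_right (Ideal.mem_span_singleton_self _)))
    rw [this]; exact hym
  obtain ⟨N, hN⟩ := hrad
  obtain ⟨z, hz, w, hw, hzw⟩ := Submodule.mem_sup.mp hN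
  obtain ⟨d, rfl⟩ := Ideal.mem_span_singleton'.mp hw
  -- E5
  obtain ⟨s, hsQ, k, hsk⟩ := exists_mul_pow_eq_zero hQ hz
  -- binomial: z^k = y^(Nk) - x e
  have hzk : ∃ e : D, z ^ k = algebraMap C D (y ^ (N * k)) - algebraMap C D (c * x₀) * e := by
    have hz' : z = algebraMap C D y ^ N - d * algebraMap C D (c * x₀) := by
      rw [← hzw]; ring
    obtain ⟨e, he⟩ := (Commute.all (algebraMap C D y ^ N)
      (-(d * algebraMap C D (c * x₀)))).add_pow' k |> fun _ => by
        -- use: a - b ∣ a^k - b^k with b := y^N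
        have : (algebraMap C D y ^ N - z) ∣ ((algebraMap C D y ^ N) ^ k - z ^ k) :=
          sub_dvd_pow_sub_pow _ _ k
        exact this
    refine ⟨d * e, ?_⟩
    have h1 : algebraMap C D y ^ N - z = d * algebraMap C D (c * x₀) := by rw [hz']; ring
    rw [h1] at he
    rw [map_pow, pow_mul]
    linear_combination -he
  obtain ⟨e, he⟩ := hzk
  -- E6: induction
  have hE6 : ∀ n : ℕ, ∃ sn : D, sn * z ^ k = 0 ∧
      algebraMap C D (c ^ n) * s = algebraMap C D ((c * x₀) ^ n) * sn := by
    intro n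
    induction n with
    | zero => exact ⟨s, hsk, by simp⟩
    | succ n ih =>
      obtain ⟨sn, hsn0, hsn⟩ := ih
      have h1 : sn * algebraMap C D (y ^ (N * k)) = algebraMap C D (c * x₀) * (sn * e) := by
        have : sn * (algebraMap C D (y ^ (N * k)) - algebraMap C D (c * x₀) * e) = 0 := by
          rw [← he]; exact hsn0
        linear_combination this
      obtain ⟨m, a, b, u, hab, hsum⟩ := exists_of_mul_eq_mul h1
      choose a' ha' using fun j => hgood (N * k) (a j) (b j) (hab j)
      refine ⟨∑ j, algebraMap C D (a' j) * u j, ?_, ?_⟩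
      · apply hxreg.right_eq_zero_of_smul
        rw [smul_eq_mul]
        have h2 : algebraMap C D (c * x₀) * (∑ j, algebraMap C D (a' j) * u j) =
            algebraMap C D c * sn := by
          rw [hsum, Finset.mul_sum, Finset.mul_sum]
          apply Finset.sum_congr rfl
          intro j _
          rw [← mul_assoc, ← map_mul, ← ha' j, map_mul, mul_assoc]
        rw [← mul_assoc, h2, mul_assoc, hsn0, mul_zero]
      · have h2 : algebraMap C D (c * x₀) * (∑ j, algebraMap C D (a' j) * u j) =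
            algebraMap C D c * sn := by
          rw [hsum, Finset.mul_sum, Finset.mul_sum]
          apply Finset.sum_congr rfl
          intro j _
          rw [← mul_assoc, ← map_mul, ← ha' j, map_mul, mul_assoc]
        rw [pow_succ, pow_succ, map_mul, map_mul, mul_assoc, mul_assoc, h2, ← mul_assoc,
          mul_comm (algebraMap C D (c ^ n)), mul_assoc, hsn]
        ring
  -- E7
  have hs0 : s = 0 := by
    have hmem : s ∈ (⨅ i : ℕ, maximalIdeal D ^ i : Ideal D) := by
      rw [Ideal.mem_iInf]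
      intro n
      obtain ⟨sn, -, hsn⟩ := hE6 n
      have h3 : s = algebraMap C D (x₀ ^ n) * sn := by
        apply (hcreg.pow n)
        change algebraMap C D c ^ n • s = algebraMap C D c ^ n • (algebraMap C D (x₀ ^ n) * sn)
        rw [smul_eq_mul, smul_eq_mul, ← map_pow, hsn, mul_pow, map_mul, mul_assoc]
      rw [h3, map_pow]
      exact Ideal.mul_mem_right _ _ (Ideal.pow_mem_pow hx₀m n)
    rw [Ideal.iInf_pow_eq_bot_of_isLocalRing _ Ideal.IsPrime.ne_top', Ideal.mem_bot] at hmem
    exact hmem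
  exact hsQ (hs0 ▸ Q.zero_mem)

end PartE

end Groth.Agent.Lib.Helper15.C2Flat
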