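import Groth.Agent.Lib.Helper88.AnUnram2
import Groth.Agent.Lib.Helper11.IntegralDim
import Mathlib

/-!
# A "regular pair up to conductor" in a local domain with finite local normalization
-/

universe u

namespace Groth.Agent.Lib.Helper15.C2Pair

open IsLocalRing

variable (C : Type u) [CommRing C] [IsDomain C] [IsNoetherianRing C] [IsLocalRing C]

theorem exists_conductor [hfin : Module.Finite C (integralClosure C (FractionRing C))] :
    ∃ c : C, c ≠ 0 ∧ ∀ z : integralClosure C (FractionRing C),
      ∃ a : C, algebraMap C (integralClosure C (FractionRing C)) a =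
        algebraMap C (integralClosure C (FractionRing C)) c * z := by
  classical
  have hfg : (Subalgebra.toSubmodule (integralClosure C (FractionRing C))).FG :=
    Module.Finite.iff_fg.mp hfin
  obtain ⟨s, hs⟩ := hfg
  obtain ⟨b, hb⟩ := IsLocalization.exist_integer_multiples_of_finset (nonZeroDivisors C) s
  refine ⟨b, nonZeroDivisors.ne_zero b.2, ?_⟩
  have key : ∀ z ∈ Submodule.span C (s : Set (FractionRing C)),
      ∃ a : C, algebraMap C (FractionRing C) a = algebraMap C (FractionRing C) b * z := by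
    intro z hz
    induction hz using Submodule.span_induction with
    | mem z hz =>
      obtain ⟨a, ha⟩ := hb z hz
      exact ⟨a, by rw [ha, Algebra.smul_def]⟩
    | zero => exact ⟨0, by simp⟩
    | add z₁ z₂ _ _ h₁ h₂ =>
      obtain ⟨a₁, h₁⟩ := h₁
      obtain ⟨a₂, h₂⟩ := h₂
      exact ⟨a₁ + a₂, by rw [map_add, h₁, h₂, mul_add]⟩
    | smul r z _ h =>
      obtain ⟨a, h⟩ := h
      exact ⟨r * a, by rw [map_mul, h, Algebra.smul_def]; ring⟩
  intro z
  have hz : (z : FractionRing C) ∈ Submodule.span C (s : Set (FractionRing C)) := by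
    rw [hs]; exact z.2
  obtain ⟨a, ha⟩ := key z hz
  refine ⟨a, ?_⟩
  apply Subtype.ext
  exact ha

/-- In a normal Noetherian local domain of dimension `≥ 2`, the maximal ideal is not associated
to a nonzero principal ideal. -/
theorem maximalIdeal_notMem_associatedPrimes (S : Type u) [CommRing S] [IsDomain S]
    [IsNoetherianRing S] [IsIntegrallyClosed S] [IsLocalRing S]
    (hdim : (2 : WithBot ℕ∞) ≤ ringKrullDim S) {x : S} (hx : x ≠ 0) :
    maximalIdeal S ∉ associatedPrimes S (S ⧸ Ideal.span {x}) := by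
  intro hP
  obtain ⟨-, π, hπ, v, hv, hg⟩ :=
    Groth.Agent.Lib.Helper88.AnUnram2.exists_uniformizer_of_mem_associatedPrimes hx hP
  have hvu : IsUnit v := by
    by_contra h
    exact hv ((mem_maximalIdeal v).mpr h)
  obtain ⟨w, hw⟩ := hvu.exists_left_inv
  have heq : maximalIdeal S = Ideal.span {π} := by
    apply le_antisymm
    · intro g hgm
      obtain ⟨c, hc⟩ := hg g hgm
      rw [Ideal.mem_span_singleton']
      refine ⟨w * c, ?_⟩
      calc w * c * π = w * (π * c) := by ring
        _ = w * (v * g) := by rw [hc]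
        _ = (w * v) * g := by ring
        _ = g := by rw [hw, one_mul]
    · rw [Ideal.span_singleton_le_iff_mem]; exact hπ
  have hmin : maximalIdeal S ∈ (Ideal.span {π}).minimalPrimes := by
    rw [← heq, Ideal.minimalPrimes_eq_subsingleton_self]
    rfl
  have hht := Ideal.height_le_one_of_isPrincipal_of_mem_minimalPrimes (Ideal.span {π})
    (maximalIdeal S) hmin
  have hdim' : ringKrullDim S ≤ 1 := by
    rw [← IsLocalRing.maximalIdeal_height_eq_ringKrullDim]
    exact_mod_cast hht
  have : (2 : WithBot ℕ∞) ≤ 1 := hdim.trans hdim'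
  exact absurd this (by decide)

theorem exists_good_pair_aux (S : Type u) [CommRing S] [IsDomain S] [IsNoetherianRing S]
    [IsIntegrallyClosed S] [IsLocalRing S] [Algebra C S] [Algebra.IsIntegral C S]
    (hinj : Function.Injective (algebraMap C S)) (hdim' : (2 : WithBot ℕ∞) ≤ ringKrullDim S)
    (hm : maximalIdeal C ≠ ⊥)
    {c : C} (hc : c ≠ 0) (hcond : ∀ z : S, ∃ a : C, algebraMap C S a = algebraMap C S c * z) :
    ∃ x₀ y : C, x₀ ≠ 0 ∧ x₀ ∈ maximalIdeal C ∧ y ∈ maximalIdeal C ∧
      ∀ (M : ℕ) (t a : C), t * y ^ M = c * x₀ * a → ∃ a' : C, c * t = c * x₀ * a' := by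
  classical
  obtain ⟨x₀, hx₀m, hx₀⟩ := Submodule.exists_mem_ne_zero_of_ne_bot hm
  have hx : c * x₀ ≠ 0 := mul_ne_zero hc hx₀
  have hx' : algebraMap C S (c * x₀) ≠ 0 := fun h => hx (hinj (by rw [h, map_zero]))
  -- associated primes
  have hfinAss := associatedPrimes.finite S (S ⧸ Ideal.span {algebraMap C S (c * x₀)})
  have hcomap : ∀ P ∈ associatedPrimes S (S ⧸ Ideal.span {algebraMap C S (c * x₀)}),
      ¬ (maximalIdeal C ≤ P.comap (algebraMap C S)) := by
    intro P hP hle
    have hPp : P.IsPrime := hP.isPrime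
    have hcm : P.comap (algebraMap C S) = maximalIdeal C :=
      ((maximalIdeal.isMaximal C).eq_of_le (Ideal.IsPrime.comap _).ne_top hle).symm
    have hPmax : P.IsMaximal :=
      Ideal.isMaximal_of_isIntegral_of_isMaximal_comap P (hcm ▸ maximalIdeal.isMaximal C)
    have hPeq : P = maximalIdeal S := IsLocalRing.eq_maximalIdeal hPmax
    exact maximalIdeal_notMem_associatedPrimes S hdim' hx' (hPeq ▸ hP)
  -- prime avoidance
  have hnot : ¬ ((maximalIdeal C : Set C) ⊆
      ⋃ P ∈ (hfinAss.toFinset : Set (Ideal S)), ((P.comap (algebraMap C S) : Ideal C) : Set C)) := by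
    intro hsub
    obtain ⟨P, hP, hle⟩ := (Ideal.subset_union_prime (R := C) (s := hfinAss.toFinset)
      (f := fun P => P.comap (algebraMap C S)) ⊥ ⊥
      (fun P hP _ _ => by
        have : P.IsPrime := ((hfinAss.mem_toFinset).mp hP).isPrime
        exact Ideal.IsPrime.comap _)).mp hsub
    exact hcomap P ((hfinAss.mem_toFinset).mp hP) hle
  rw [Set.not_subset] at hnot
  obtain ⟨y, hym, hy⟩ := hnot
  have hyP : ∀ P ∈ associatedPrimes S (S ⧸ Ideal.span {algebraMap C S (c * x₀)}),
      algebraMap C S y ∉ P := by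
    intro P hP hmem
    apply hy
    simp only [Set.mem_iUnion, Set.Finite.mem_toFinset, SetLike.mem_coe,
      Ideal.mem_comap, exists_prop]
    exact ⟨P, hP, hmem⟩
  refine ⟨x₀, y, hx₀, hx₀m, hym, ?_⟩
  intro M t a hta
  -- y^M is regular on S/xS
  have hreg : ∀ m : S ⧸ Ideal.span {algebraMap C S (c * x₀)},
      (algebraMap C S y) ^ M • m = 0 → m = 0 := by
    intro m hm
    by_contra hm0
    have hzd : (algebraMap C S y) ^ M ∈
        ⋃ P ∈ associatedPrimes S (S ⧸ Ideal.span {algebraMap C S (c * x₀)}), (P : Set S) := by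
      rw [biUnion_associatedPrimes_eq_zero_divisors]
      exact ⟨m, hm0, hm⟩
    simp only [Set.mem_iUnion, SetLike.mem_coe, exists_prop] at hzd
    obtain ⟨P, hP, hmem⟩ := hzd
    have hPp : P.IsPrime := hP.isPrime
    exact hyP P hP (hPp.mem_of_pow_mem M hmem)
  have h1 : Ideal.Quotient.mk (Ideal.span {algebraMap C S (c * x₀)}) (algebraMap C S t) = 0 := by
    apply hreg
    rw [← Ideal.Quotient.mk_eq_mk, ← Submodule.Quotient.mk_smul, Ideal.Quotient.mk_eq_mk,
      Ideal.Quotient.eq_zero_iff_mem, smul_eq_mul, ← map_pow, ← map_mul, mul_comm (y ^ M) t, hta,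
      map_mul (algebraMap C S) (c * x₀) a]
    exact Ideal.mul_mem_right _ _ (Ideal.mem_span_singleton_self (algebraMap C S (c * x₀)))
  rw [Ideal.Quotient.eq_zero_iff_mem, Ideal.mem_span_singleton'] at h1
  obtain ⟨z, hz⟩ := h1
  obtain ⟨a', ha'⟩ := hcond z
  refine ⟨a', ?_⟩
  apply hinj
  rw [map_mul, ← hz, map_mul (algebraMap C S) (c * x₀) a', ha']
  ring

theorem exists_good_pair (hdim : (2 : WithBot ℕ∞) ≤ ringKrullDim C)
    [hfin : Module.Finite C (integralClosure C (FractionRing C))]
    [hloc : IsLocalRing (integralClosure C (FractionRing C))] :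
    ∃ c x₀ y : C, c ≠ 0 ∧ x₀ ≠ 0 ∧ x₀ ∈ maximalIdeal C ∧ y ∈ maximalIdeal C ∧
      ∀ (M : ℕ) (t a : C), t * y ^ M = c * x₀ * a → ∃ a' : C, c * t = c * x₀ * a' := by
  have hinj : Function.Injective (algebraMap C (integralClosure C (FractionRing C))) := by
    intro a b hab
    apply IsFractionRing.injective C (FractionRing C)
    exact congrArg Subtype.val hab
  have : IsNoetherianRing (integralClosure C (FractionRing C)) := IsNoetherianRing.of_finite C _
  have : IsIntegrallyClosed (integralClosure C (FractionRing C)) :=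
    integralClosure.isIntegrallyClosedOfFiniteExtension (FractionRing C)
  have : Algebra.IsIntegral C (integralClosure C (FractionRing C)) :=
    Algebra.IsIntegral.of_finite C _
  have hdim' : (2 : WithBot ℕ∞) ≤ ringKrullDim (integralClosure C (FractionRing C)) := by
    rw [Groth.Agent.Lib.Helper11.IntegralDim.ringKrullDim_eq_of_isIntegral_of_injective hinj]
    exact hdim
  obtain ⟨c, hc, hcond⟩ := exists_conductor C
  have hm : maximalIdeal C ≠ ⊥ := by
    intro h
    have hf : IsField C := IsLocalRing.isField_iff_maximalIdeal_eq.mpr h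
    rw [ringKrullDim_eq_zero_of_isField hf] at hdim
    exact absurd hdim (by decide)
  obtain ⟨x₀, y, h⟩ := exists_good_pair_aux C (integralClosure C (FractionRing C)) hinj hdim' hm
    hc hcond
  exact ⟨c, x₀, y, hc, h⟩

end Groth.Agent.Lib.Helper15.C2Pair
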