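import Groth.Agent.Lib.Helper15.C2Flat
import Groth.Agent.Lib.Helper15.C2Pair
import Groth.Agent.Lib.Helper15.FlatQuot
import Groth.Agent.Lib.Helper88.CohenNagata
import Groth.Agent.Lib.Helper88.Japanese10
import Groth.Agent.Lib.Helper37.HenselPi
import Groth.Agent.Lib.Helper37.HenselFinite
import Mathlib

/-!
# The condition `c_2` (all components of dimension ≥ 2) ascends along flat local homomorphisms
out of complete local rings
-/

universe u

namespace Groth.Agent.Lib.Helper15.C2Main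

open IsLocalRing

/-- core lemma, domain case -/
theorem two_le_of_flat_domain (C D : Type u) [CommRing C] [IsDomain C] [IsNoetherianRing C]
    [IsLocalRing C] [Module.Finite C (integralClosure C (FractionRing C))]
    [IsLocalRing (integralClosure C (FractionRing C))]
    (hdim : (2 : WithBot ℕ∞) ≤ ringKrullDim C) [CommRing D] [IsNoetherianRing D] [IsLocalRing D]
    [Algebra C D] [Module.Flat C D] [IsLocalHom (algebraMap C D)] {Q : Ideal D}
    (hQ : Q ∈ minimalPrimes D) : (2 : WithBot ℕ∞) ≤ ringKrullDim (D ⧸ Q) := by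
  obtain ⟨c, x₀, y, hc, hx₀, hx₀m, hym, hgood⟩ := C2Pair.exists_good_pair C hdim
  have hloc : ∀ a ∈ maximalIdeal C, algebraMap C D a ∈ maximalIdeal D := by
    intro a ha hu
    exact ha (isUnit_of_map_unit (algebraMap C D) a hu)
  exact C2Flat.two_le_ringKrullDim_quotient_of_good hc hx₀ (hloc _ hx₀m) (hloc _ hym) hgood hQ

/-- A domain which is a finite product of local rings is local. -/
theorem isLocalRing_of_ringEquiv_pi {S : Type u} [CommRing S] [IsDomain S] {ι : Type u} [Fintype ι]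
    (A : ι → Type u) [∀ i, CommRing (A i)] [∀ i, IsLocalRing (A i)] (e : S ≃+* (∀ i, A i)) :
    IsLocalRing S := by
  classical
  -- ι is nonempty
  have hne : Nonempty ι := by
    by_contra h
    rw [not_nonempty_iff] at h
    have : (1 : S) = 0 := e.injective (Subsingleton.elim _ _)
    exact one_ne_zero this
  obtain ⟨i₀⟩ := hne
  -- all indices equal i₀
  have hall : ∀ i, i = i₀ := by
    intro i
    by_contra hi
    let a : ∀ i, A i := Pi.single i 1
    let b : ∀ i, A i := Pi.single i₀ 1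
    have hab : a * b = 0 := by
      funext j
      simp only [Pi.mul_apply, Pi.zero_apply, a, b]
      by_cases hj : j = i
      · subst hj
        rw [Pi.single_eq_of_ne hi, mul_zero]
      · rw [Pi.single_eq_of_ne hj, zero_mul]
    have h2 : e.symm a * e.symm b = 0 := by rw [← map_mul, hab, map_zero]
    rcases mul_eq_zero.mp h2 with h | h
    · have : a = 0 := by simpa using congrArg e h
      have := congrFun this i
      simp [a] at this
    · have : b = 0 := by simpa using congrArg e h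
      have := congrFun this i₀
      simp [b] at this
  let e' : S ≃+* A i₀ :=
    e.trans
      { toFun := fun f => f i₀
        invFun := fun x => fun i => (hall i) ▸ x
        left_inv := fun f => by
          funext i
          have := hall i
          subst this
          rfl
        right_inv := fun x => rfl
        map_mul' := fun _ _ => rfl
        map_add' := fun _ _ => rfl }
  exact e'.symm.isLocalRing

theorem isLocalHom_mk {D₀ : Type u} [CommRing D₀] [IsLocalRing D₀] (J : Ideal D₀)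
    (hJ : J ≤ maximalIdeal D₀) : IsLocalHom (Ideal.Quotient.mk J) := by
  constructor
  intro x hx
  obtain ⟨y', hy'⟩ := hx.exists_right_inv
  obtain ⟨y, rfl⟩ := Ideal.Quotient.mk_surjective y'
  rw [← map_mul, ← map_one (Ideal.Quotient.mk J), Ideal.Quotient.eq] at hy'
  by_contra hxu
  have hxm : x ∈ maximalIdeal D₀ := (mem_maximalIdeal x).mpr hxu
  have h1 : (1 : D₀) ∈ maximalIdeal D₀ := by
    have h2 := Ideal.sub_mem _ (Ideal.mul_mem_right y _ hxm) (hJ hy')
    simpa using h2
  exact (Ideal.ne_top_iff_one _).mp (maximalIdeal.isMaximal D₀).ne_top h1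

theorem comap_mem_minimalPrimes_of_flat {C₀ D₀ : Type u} [CommRing C₀] [CommRing D₀]
    [Algebra C₀ D₀] [Module.Flat C₀ D₀] {Q : Ideal D₀} (hQ : Q ∈ minimalPrimes D₀) :
    Q.comap (algebraMap C₀ D₀) ∈ minimalPrimes C₀ := by
  have hQp : Q.IsPrime := hQ.1.1
  refine ⟨⟨Ideal.IsPrime.comap _, bot_le⟩, ?_⟩
  rintro p' ⟨hp', -⟩ hle
  have : Q.LiesOver (Q.comap (algebraMap C₀ D₀)) := ⟨rfl⟩
  have : (Q.comap (algebraMap C₀ D₀)).IsPrime := Ideal.IsPrime.comap _
  obtain ⟨P, hPQ, hP, hPover⟩ := Ideal.exists_ideal_le_liesOver_of_le (p := p')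
    (q := Q.comap (algebraMap C₀ D₀)) Q hle
  have hQP : Q ≤ P := hQ.2 ⟨hP, bot_le⟩ hPQ
  have hPeq : P = Q := le_antisymm hPQ hQP
  rw [hPover.over, hPeq]

attribute [local instance] FlatQuot.quotAlgebra

theorem two_le_of_flat_complete (C₀ D₀ : Type u) [CommRing C₀] [IsNoetherianRing C₀]
    [IsLocalRing C₀] [IsAdicComplete (maximalIdeal C₀) C₀] [CommRing D₀] [IsNoetherianRing D₀]
    [IsLocalRing D₀] [Algebra C₀ D₀] [Module.Flat C₀ D₀] [IsLocalHom (algebraMap C₀ D₀)]
    (h : ∀ q ∈ minimalPrimes C₀, (2 : WithBot ℕ∞) ≤ ringKrullDim (C₀ ⧸ q))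
    {Q : Ideal D₀} (hQ : Q ∈ minimalPrimes D₀) : (2 : WithBot ℕ∞) ≤ ringKrullDim (D₀ ⧸ Q) := by
  have hQp : Q.IsPrime := hQ.1.1
  set q : Ideal C₀ := Q.comap (algebraMap C₀ D₀) with hq
  have hqp : q.IsPrime := Ideal.IsPrime.comap _
  have hqmin : q ∈ minimalPrimes C₀ := comap_mem_minimalPrimes_of_flat hQ
  have hdim := h q hqmin
  -- C
  have : IsLocalRing (C₀ ⧸ q) :=
    IsLocalRing.of_surjective' (Ideal.Quotient.mk q) Ideal.Quotient.mk_surjective
  have hN1 : Module.Finite (C₀ ⧸ q) (integralClosure (C₀ ⧸ q) (FractionRing (C₀ ⧸ q))) :=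
    Groth.Agent.Lib.Helper88.isN1_of_isN2
      ((Groth.Agent.Lib.Helper88.CohenNagata.isNagata_of_complete C₀).2 q)
  -- C' local
  have hC'loc : IsLocalRing (integralClosure (C₀ ⧸ q) (FractionRing (C₀ ⧸ q))) := by
    have : HenselianRing C₀ (maximalIdeal C₀) := inferInstance
    have : HenselianLocalRing C₀ := Groth.Agent.Lib.Helper37.henselianLocalRing_of_henselianRing C₀
    have : Module.Finite C₀ (C₀ ⧸ q) := Module.Finite.of_surjective (Ideal.Quotient.mkₐ C₀ q).toLinearMap
      (Ideal.Quotient.mkₐ_surjective C₀ q)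
    have : Module.Finite C₀ (integralClosure (C₀ ⧸ q) (FractionRing (C₀ ⧸ q))) :=
      Module.Finite.trans (C₀ ⧸ q) _
    obtain ⟨ι, _, A, _, hA, ⟨e⟩⟩ := Groth.Agent.Lib.Helper37.exists_pi_isLocalRing_of_finite C₀
      (integralClosure (C₀ ⧸ q) (FractionRing (C₀ ⧸ q)))
    exact isLocalRing_of_ringEquiv_pi A e
  -- D
  set J : Ideal D₀ := q.map (algebraMap C₀ D₀) with hJ
  have hJQ : J ≤ Q := Ideal.map_comap_le
  have hJm : J ≤ maximalIdeal D₀ := hJQ.trans (IsLocalRing.le_maximalIdeal hQp.ne_top)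
  have : Nontrivial (D₀ ⧸ J) := Ideal.Quotient.nontrivial_iff.mpr
    (fun h => (maximalIdeal.isMaximal D₀).ne_top (top_le_iff.mp (h ▸ hJm)))
  have : IsLocalRing (D₀ ⧸ J) :=
    IsLocalRing.of_surjective' (Ideal.Quotient.mk J) Ideal.Quotient.mk_surjective
  have : Module.Flat (C₀ ⧸ q) (D₀ ⧸ J) := FlatQuot.flat_quot q
  have hlocal : IsLocalHom (algebraMap (C₀ ⧸ q) (D₀ ⧸ J)) := by
    constructor
    intro a ha
    obtain ⟨a₀, rfl⟩ := Ideal.Quotient.mk_surjective a
    have h1 : algebraMap (C₀ ⧸ q) (D₀ ⧸ J) (Ideal.Quotient.mk q a₀) =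
        Ideal.Quotient.mk J (algebraMap C₀ D₀ a₀) := rfl
    rw [h1] at ha
    have := isLocalHom_mk J hJm
    have h2 : IsUnit (algebraMap C₀ D₀ a₀) := isUnit_of_map_unit (Ideal.Quotient.mk J) _ ha
    exact (isUnit_of_map_unit (algebraMap C₀ D₀) a₀ h2).map _
  -- Q'
  have hker : RingHom.ker (Ideal.Quotient.mk J) ≤ Q := by rw [Ideal.mk_ker]; exact hJQ
  have hQ'p : (Q.map (Ideal.Quotient.mk J)).IsPrime :=
    Ideal.map_isPrime_of_surjective Ideal.Quotient.mk_surjective hker
  have hcm : (Q.map (Ideal.Quotient.mk J)).comap (Ideal.Quotient.mk J) = Q := by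
    rw [Ideal.comap_map_of_surjective _ Ideal.Quotient.mk_surjective, ← RingHom.ker_eq_comap_bot,
      sup_eq_left.mpr hker]
  have hQ' : Q.map (Ideal.Quotient.mk J) ∈ minimalPrimes (D₀ ⧸ J) := by
    refine ⟨⟨hQ'p, bot_le⟩, ?_⟩
    rintro P' ⟨hP', -⟩ hle
    have h1 : P'.comap (Ideal.Quotient.mk J) ≤ Q := by
      rw [← hcm]; exact Ideal.comap_mono hle
    have h2 : Q ≤ P'.comap (Ideal.Quotient.mk J) := hQ.2 ⟨Ideal.IsPrime.comap _, bot_le⟩ h1
    calc Q.map (Ideal.Quotient.mk J) ≤ (P'.comap (Ideal.Quotient.mk J)).map (Ideal.Quotient.mk J) :=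
          Ideal.map_mono h2
      _ ≤ P' := Ideal.map_comap_le
  have key := two_le_of_flat_domain (C₀ ⧸ q) (D₀ ⧸ J) hdim hQ'
  rwa [ringKrullDim_eq_of_ringEquiv (DoubleQuot.quotQuotEquivQuotOfLE hJQ)] at key

end Groth.Agent.Lib.Helper15.C2Main
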