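import Mathlib
import Groth.Agent.Lib.Helper2.LocalCriterion

set_option autoImplicit false

namespace Groth.Agent.Lib.Helper15.RegFlat

open TensorProduct RingTheory.Sequence

/-- Transport of flatness between two quotient presentations. -/
theorem flat_transport {A S S' M M' : Type*} [CommRing A] [CommRing S] [CommRing S']
    [Algebra A S] [Algebra A S']
    (hS : Function.Surjective (algebraMap A S)) (hS' : Function.Surjective (algebraMap A S'))
    (hker : RingHom.ker (algebraMap A S) ≤ RingHom.ker (algebraMap A S'))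
    [AddCommGroup M] [Module A M] [Module S M] [IsScalarTower A S M]
    [AddCommGroup M'] [Module A M'] [Module S' M'] [IsScalarTower A S' M']
    (g : M ≃ₗ[A] M') (hflat : Module.Flat S M) : Module.Flat S' M' := by
  rw [Module.Flat.iff_forall_isTrivialRelation]
  intro l f x h
  choose f' hf' using fun i => hS' (f i)
  have h0 : ∑ i, f' i • g.symm (x i) = 0 := by
    have : ∑ i, f' i • g.symm (x i) = g.symm (∑ i, f i • x i) := by
      rw [map_sum]
      refine Finset.sum_congr rfl fun i _ => ?_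
      rw [← hf' i, algebraMap_smul, map_smul]
    rw [this, h, map_zero]
  have h1 : ∑ i, (algebraMap A S (f' i)) • g.symm (x i) = 0 := by
    rw [← h0]
    refine Finset.sum_congr rfl fun i _ => ?_
    rw [algebraMap_smul]
  obtain ⟨k, a, y, hxy, hfa⟩ := Module.Flat.isTrivialRelation_of_sum_smul_eq_zero h1
  simp only at hxy hfa
  choose a' ha' using fun i j => hS (a i j)
  refine ⟨k, fun i j => algebraMap A S' (a' i j), fun j => g (y j), ?_, ?_⟩
  · intro i
    have : x i = g (g.symm (x i)) := (g.apply_symm_apply _).symm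
    rw [this, hxy i, map_sum]
    simp only
    refine Finset.sum_congr rfl fun j _ => ?_
    rw [← ha' i j, algebraMap_smul, map_smul, algebraMap_smul]
  · intro j
    have hmem : (∑ i, f' i * a' i j) ∈ RingHom.ker (algebraMap A S) := by
      rw [RingHom.mem_ker, map_sum, ← hfa j]
      refine Finset.sum_congr rfl fun i _ => ?_
      rw [map_mul, ha' i j]
    have := hker hmem
    rw [RingHom.mem_ker, map_sum] at this
    rw [← this]
    refine Finset.sum_congr rfl fun i _ => ?_
    rw [map_mul, hf' i]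

/-- A weakly regular sequence on `P` stays weakly regular on `P ⊗ N` for flat `N`. -/
theorem isWeaklyRegular_tensor_of_flat {S : Type*} [CommRing S] (N : Type*) [AddCommGroup N]
    [Module S N] [Module.Flat S N] (P : Type*) [AddCommGroup P] [Module S P] (fs : List S)
    (h : IsWeaklyRegular P fs) : IsWeaklyRegular (P ⊗[S] N) fs := by
  induction fs generalizing P with
  | nil => simp
  | cons x fs ih =>
    rw [isWeaklyRegular_cons_iff] at h ⊢
    refine ⟨IsSMulRegular.rTensor N h.1, ?_⟩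
    exact ((QuotSMulTop.quotSMulTopTensorEquivQuotSMulTop x N P).isWeaklyRegular_congr fs).mp
      (ih _ h.2)

/-- A weakly regular sequence on the ring is weakly regular on any flat module. -/
theorem isWeaklyRegular_of_flat {S : Type*} [CommRing S] (N : Type*) [AddCommGroup N]
    [Module S N] [Module.Flat S N] (fs : List S)
    (h : IsWeaklyRegular S fs) : IsWeaklyRegular N fs :=
  ((TensorProduct.lid S N).isWeaklyRegular_congr fs).mp (isWeaklyRegular_tensor_of_flat N S fs h)

universe u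


theorem rTensor_span_singleton_injective {R M : Type*} [CommRing R] [AddCommGroup M] [Module R M]
    (f : R) (hreg : IsSMulRegular M f) :
    Function.Injective (LinearMap.rTensor M (Ideal.span {f} : Ideal R).subtype) := by
  have hfI : f ∈ (Ideal.span {f} : Ideal R) := Ideal.subset_span rfl
  have key : ∀ x : (Ideal.span {f} : Ideal R) ⊗[R] M, ∃ m : M,
      x = (⟨f, hfI⟩ : (Ideal.span {f} : Ideal R)) ⊗ₜ[R] m := by
    intro x
    induction x using TensorProduct.induction_on with
    | zero => exact ⟨0, (TensorProduct.tmul_zero _ _).symm⟩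
    | tmul i m =>
      obtain ⟨a, ha⟩ := Ideal.mem_span_singleton'.mp i.2
      refine ⟨a • m, ?_⟩
      rw [← TensorProduct.smul_tmul]
      congr 1
      ext
      simp [ha]
    | add x y hx hy =>
      obtain ⟨m1, rfl⟩ := hx
      obtain ⟨m2, rfl⟩ := hy
      exact ⟨m1 + m2, (TensorProduct.tmul_add _ _ _).symm⟩
  rw [injective_iff_map_eq_zero]
  intro x hx
  obtain ⟨m, rfl⟩ := key x
  rw [LinearMap.rTensor_tmul] at hx
  have h2 := congrArg (TensorProduct.lid R M) hx
  rw [TensorProduct.lid_tmul, map_zero] at h2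
  have : m = 0 := hreg.right_eq_zero_of_smul h2
  rw [this, TensorProduct.tmul_zero]

/-- Local criterion, one regular element. -/
theorem flat_of_isSMulRegular_of_flat_quotient {R S M : Type u} [CommRing R] [CommRing S]
    [IsNoetherianRing R] [IsNoetherianRing S] [Algebra R S] [AddCommGroup M] [Module R M]
    [Module S M] [IsScalarTower R S M] [Module.Finite S M]
    (f : R) (hf : algebraMap R S f ∈ Ideal.jacobson (⊥ : Ideal S)) (hreg : IsSMulRegular M f)
    (h2 : Module.Flat (R ⧸ Ideal.span {f}) ((R ⧸ Ideal.span {f}) ⊗[R] M)) : Module.Flat R M := by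
  refine Groth.Agent.Lib.Helper2.flat_of_rTensor_injective_of_flat_quotient (S := S)
    (Ideal.span {f}) ?_ (rTensor_span_singleton_injective f hreg) h2
  rw [Ideal.map_span, Set.image_singleton, Ideal.span_le, Set.singleton_subset_iff]
  exact hf


section Quot


variable {A : Type*} [CommRing A] (X : Type*) [AddCommGroup X] [Module A X]

/-- `(X/RX)/K(X/RX) ≅ X/QX` when `R ⊔ K = Q`. -/
noncomputable def quotQuotEquiv (R K Q : Ideal A) (h : R ⊔ K = Q) :
    ((X ⧸ R • (⊤ : Submodule A X)) ⧸ (K • (⊤ : Submodule A (X ⧸ R • (⊤ : Submodule A X))))) ≃ₗ[A]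
      X ⧸ Q • (⊤ : Submodule A X) :=
  Submodule.quotEquivOfEq _ ((K • (⊤ : Submodule A X)).map (R • (⊤ : Submodule A X)).mkQ)
      (by rw [Submodule.map_smul'', Submodule.map_top, Submodule.range_mkQ]) ≪≫ₗ
    Submodule.quotientQuotientEquivQuotientSup _ _ ≪≫ₗ
    Submodule.quotEquivOfEq _ _ (by rw [← h, Submodule.sup_smul])

/-- the `A ⧸ R`-level version -/
noncomputable def quotQuotEquiv' (R K Q : Ideal A) (h : R ⊔ K = Q) :
    ((X ⧸ R • (⊤ : Submodule A X)) ⧸ (K.map (Ideal.Quotient.mk R) •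
        (⊤ : Submodule (A ⧸ R) (X ⧸ R • (⊤ : Submodule A X))))) ≃ₗ[A]
      X ⧸ Q • (⊤ : Submodule A X) :=
  (Submodule.Quotient.restrictScalarsEquiv A _).symm ≪≫ₗ
    Submodule.quotEquivOfEq _ _ (by
      have := Ideal.smul_restrictScalars (R := A) (S := A ⧸ R) K
        (⊤ : Submodule (A ⧸ R) (X ⧸ R • (⊤ : Submodule A X)))
      rw [Submodule.restrictScalars_top] at this
      exact this) ≪≫ₗ
    quotQuotEquiv X R K Q h

noncomputable def tensorQuotEquiv (R K Q : Ideal A) (h : R ⊔ K = Q) :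
    (((A ⧸ R) ⧸ K.map (Ideal.Quotient.mk R)) ⊗[A ⧸ R] (X ⧸ R • (⊤ : Submodule A X))) ≃ₗ[A]
      X ⧸ Q • (⊤ : Submodule A X) :=
  (TensorProduct.quotTensorEquivQuotSMul (X ⧸ R • (⊤ : Submodule A X))
    (K.map (Ideal.Quotient.mk R))).restrictScalars A ≪≫ₗ quotQuotEquiv' X R K Q h



theorem ker_algebraMap_quot_quot (R K Q : Ideal A) (h : R ⊔ K = Q) :
    RingHom.ker (algebraMap A ((A ⧸ R) ⧸ K.map (Ideal.Quotient.mk R))) = Q := by
  rw [IsScalarTower.algebraMap_eq A (A ⧸ R) ((A ⧸ R) ⧸ K.map (Ideal.Quotient.mk R)),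
    ← RingHom.comap_ker, Ideal.Quotient.algebraMap_eq, Ideal.Quotient.algebraMap_eq, Ideal.mk_ker,
    Ideal.comap_map_of_surjective _ Ideal.Quotient.mk_surjective, ← RingHom.ker_eq_comap_bot,
    Ideal.mk_ker, sup_comm, h]

theorem surjective_algebraMap_quot_quot (R K : Ideal A) :
    Function.Surjective (algebraMap A ((A ⧸ R) ⧸ K.map (Ideal.Quotient.mk R))) := by
  rw [IsScalarTower.algebraMap_eq A (A ⧸ R) ((A ⧸ R) ⧸ K.map (Ideal.Quotient.mk R))]
  exact Ideal.Quotient.mk_surjective.comp Ideal.Quotient.mk_surjective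

theorem flat_quot_iff (R K Q : Ideal A) (h : R ⊔ K = Q) :
    Module.Flat ((A ⧸ R) ⧸ K.map (Ideal.Quotient.mk R))
      (((A ⧸ R) ⧸ K.map (Ideal.Quotient.mk R)) ⊗[A ⧸ R] (X ⧸ R • (⊤ : Submodule A X))) ↔
    Module.Flat (A ⧸ Q) (X ⧸ Q • (⊤ : Submodule A X)) := by
  have hk := ker_algebraMap_quot_quot R K Q h
  have hk' : RingHom.ker (algebraMap A (A ⧸ Q)) = Q := by
    rw [Ideal.Quotient.algebraMap_eq, Ideal.mk_ker]
  constructor
  · intro hf
    exact flat_transport (surjective_algebraMap_quot_quot R K) Ideal.Quotient.mk_surjective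
      (by rw [hk, hk']) (tensorQuotEquiv X R K Q h) hf
  · intro hf
    exact flat_transport Ideal.Quotient.mk_surjective (surjective_algebraMap_quot_quot R K)
      (by rw [hk, hk']) (tensorQuotEquiv X R K Q h).symm hf

/-- flatness of `(X/RX)/Q(X/RX)` over `A/Q` is flatness of `X/QX`. -/
theorem flat_quotQuot_iff (R Q : Ideal A) (h : R ≤ Q) :
    Module.Flat (A ⧸ Q) ((X ⧸ R • (⊤ : Submodule A X)) ⧸
      (Q • (⊤ : Submodule A (X ⧸ R • (⊤ : Submodule A X))))) ↔
    Module.Flat (A ⧸ Q) (X ⧸ Q • (⊤ : Submodule A X)) := by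
  constructor
  · intro hf
    exact flat_transport (A := A) Ideal.Quotient.mk_surjective Ideal.Quotient.mk_surjective
      le_rfl (quotQuotEquiv X R Q Q (sup_eq_right.mpr h)) hf
  · intro hf
    exact flat_transport (A := A) Ideal.Quotient.mk_surjective Ideal.Quotient.mk_surjective
      le_rfl (quotQuotEquiv X R Q Q (sup_eq_right.mpr h)).symm hf

/-- base change direction -/
theorem flat_quot_sup_of_flat (R K : Ideal A)
    (hf : Module.Flat (A ⧸ R) (X ⧸ R • (⊤ : Submodule A X))) :
    Module.Flat (A ⧸ (R ⊔ K)) (X ⧸ (R ⊔ K) • (⊤ : Submodule A X)) :=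
  (flat_quot_iff X R K (R ⊔ K) rfl).mp inferInstance

theorem mk_mem_jacobson_bot (R : Ideal A) {f : A} (hf : f ∈ (⊥ : Ideal A).jacobson) :
    Ideal.Quotient.mk R f ∈ (⊥ : Ideal (A ⧸ R)).jacobson := by
  rw [Ideal.mem_jacobson_bot] at hf ⊢
  intro y
  obtain ⟨y, rfl⟩ := Ideal.Quotient.mk_surjective y
  rw [← map_mul, ← map_one (Ideal.Quotient.mk R), ← map_add]
  exact (hf y).map _


end Quot

section Noeth

variable {A X : Type u} [CommRing A] [IsNoetherianRing A] [AddCommGroup X] [Module A X]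
  [Module.Finite A X]

instance finite_quot_quot (R : Ideal A) :
    Module.Finite (A ⧸ R) (X ⧸ R • (⊤ : Submodule A X)) :=
  Module.Finite.of_restrictScalars_finite A (A ⧸ R) _

/-- one-step local criterion at the `A`-level -/
theorem flat_quot_of_isSMulRegular (R : Ideal A) (f : A) (hf : f ∈ (⊥ : Ideal A).jacobson)
    (hreg : IsSMulRegular (X ⧸ R • (⊤ : Submodule A X)) f)
    (h : Module.Flat (A ⧸ (R ⊔ Ideal.span {f})) (X ⧸ (R ⊔ Ideal.span {f}) • (⊤ : Submodule A X))) :
    Module.Flat (A ⧸ R) (X ⧸ R • (⊤ : Submodule A X)) := by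
  refine flat_of_isSMulRegular_of_flat_quotient (S := A ⧸ R) (Ideal.Quotient.mk R f)
    (mk_mem_jacobson_bot R hf) ?_ ?_
  · exact (isSMulRegular_algebraMap_iff (A := A ⧸ R) (r := f)).mpr hreg
  · have e : (Ideal.span {f}).map (Ideal.Quotient.mk R) = Ideal.span {Ideal.Quotient.mk R f} := by
      rw [Ideal.map_span, Set.image_singleton]
    rw [← e]
    exact (flat_quot_iff X R (Ideal.span {f}) _ rfl).mpr h

/-- the list version -/
theorem flat_quot_of_isWeaklyRegular (fs : List A) (hfs : ∀ f ∈ fs, f ∈ (⊥ : Ideal A).jacobson)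
    (R : Ideal A) (hreg : IsWeaklyRegular (X ⧸ R • (⊤ : Submodule A X)) fs)
    (h : Module.Flat (A ⧸ (R ⊔ Ideal.ofList fs)) (X ⧸ (R ⊔ Ideal.ofList fs) • (⊤ : Submodule A X))) :
    Module.Flat (A ⧸ R) (X ⧸ R • (⊤ : Submodule A X)) := by
  induction fs generalizing R with
  | nil =>
    rw [Ideal.ofList_nil, sup_bot_eq] at h
    exact h
  | cons f fs ih =>
    rw [isWeaklyRegular_cons_iff] at hreg
    have e : R ⊔ Ideal.ofList (f :: fs) = (R ⊔ Ideal.span {f}) ⊔ Ideal.ofList fs := by
      rw [Ideal.ofList_cons, sup_assoc]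
    rw [e] at h
    refine flat_quot_of_isSMulRegular R f (hfs f List.mem_cons_self) hreg.1 ?_
    refine ih (fun g hg => hfs g (List.mem_cons_of_mem _ hg)) _ ?_ h
    refine (LinearEquiv.isWeaklyRegular_congr ?_ fs).mp hreg.2
    exact Submodule.quotEquivOfEq _ _ (Submodule.ideal_span_singleton_smul f ⊤).symm ≪≫ₗ
      quotQuotEquiv X R (Ideal.span {f}) _ rfl

omit [IsNoetherianRing A] [Module.Finite A X] in
/-- the converse: flat implies regular and flat quotient -/
theorem isWeaklyRegular_quot_of_flat (fs : List A) (R : Ideal A)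
    (hA : IsWeaklyRegular (A ⧸ R) fs)
    (hf : Module.Flat (A ⧸ R) (X ⧸ R • (⊤ : Submodule A X))) :
    IsWeaklyRegular (X ⧸ R • (⊤ : Submodule A X)) fs := by
  rw [← isWeaklyRegular_map_algebraMap_iff (A ⧸ R)] at hA ⊢
  exact isWeaklyRegular_of_flat _ _ hA

theorem flat_quot_iff_of_isWeaklyRegular (fs : List A)
    (hfs : ∀ f ∈ fs, f ∈ (⊥ : Ideal A).jacobson) (R : Ideal A)
    (hA : IsWeaklyRegular (A ⧸ R) fs) :
    Module.Flat (A ⧸ R) (X ⧸ R • (⊤ : Submodule A X)) ↔
      Module.Flat (A ⧸ (R ⊔ Ideal.ofList fs))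
        ((X ⧸ R • (⊤ : Submodule A X)) ⧸
          ((R ⊔ Ideal.ofList fs) • (⊤ : Submodule A (X ⧸ R • (⊤ : Submodule A X))))) ∧
      IsWeaklyRegular (X ⧸ R • (⊤ : Submodule A X)) fs := by
  rw [flat_quotQuot_iff X R _ le_sup_left]
  constructor
  · intro hf
    exact ⟨flat_quot_sup_of_flat X R _ hf, isWeaklyRegular_quot_of_flat fs R hA hf⟩
  · rintro ⟨h1, h2⟩
    exact flat_quot_of_isWeaklyRegular fs hfs R h2 h1

end Noeth

end Groth.Agent.Lib.Helper15.RegFlat
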