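import Mathlib
import Groth.Agent.Lib.Helper15.RegFlat
import Groth.Agent.Lib.Helper15.FlatQuot
import Groth.Agent.Lib.Helper83.CompleteNoeth
import Groth.Agent.Lib.Helper76.PSCRing

/-!
# Flat complete lifts of a ring `B₀` over local rings (towards EGA 0_IV 19.7.2-type statements)

`Liftable C B₀ ε`: there is a complete Noetherian local ring `B`, a flat local homomorphism
`g : C → B` and a surjection `π : B → B₀` with kernel `𝔪_C B` and `π ∘ g = ε`.

Stability: under ring isomorphisms, quotients, and power series (one variable, then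
`MvPowerSeries (Fin r)` by induction).
-/

set_option linter.style.haveILetI false
set_option autoImplicit false

universe u

namespace Groth.Agent.Lib.Helper15.FlatLift

open IsLocalRing TensorProduct

/-- flat complete lift of `B₀` along `ε : C → B₀`. -/
def Liftable (C : Type u) [CommRing C] [IsLocalRing C] (B₀ : Type u) [CommRing B₀]
    (ε : C →+* B₀) : Prop :=
  ∃ (B : Type u) (_ : CommRing B) (_ : IsLocalRing B) (_ : IsNoetherianRing B)
    (g : C →+* B) (π : B →+* B₀),
    IsAdicComplete (maximalIdeal B) B ∧ g.Flat ∧ IsLocalHom g ∧ Function.Surjective π ∧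
      RingHom.ker π = (maximalIdeal C).map g ∧ π.comp g = ε

section Iso

variable {C C' B₀ : Type u} [CommRing C] [IsLocalRing C] [CommRing C'] [IsLocalRing C']
  [CommRing B₀]

theorem map_maximalIdeal_ringEquiv (e : C' ≃+* C) :
    (maximalIdeal C').map (e : C' →+* C) = maximalIdeal C := by
  have h1 : (maximalIdeal C).comap (e : C' →+* C) = maximalIdeal C' := by
    ext x
    simp only [Ideal.mem_comap, mem_maximalIdeal, mem_nonunits_iff, RingHom.coe_coe]
    rw [MulEquiv.isUnit_map]
  rw [← h1]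
  exact Ideal.map_comap_of_surjective (e : C' →+* C) e.surjective _

theorem Liftable.of_ringEquiv (e : C' ≃+* C) (ε : C →+* B₀) (h : Liftable C B₀ ε) :
    Liftable C' B₀ (ε.comp (e : C' →+* C)) := by
  obtain ⟨B, _, _, _, g, π, hc, hfl, hloc, hs, hk, hcomp⟩ := h
  refine ⟨B, inferInstance, inferInstance, inferInstance, g.comp (e : C' →+* C), π, hc,
    RingHom.Flat.comp (RingHom.Flat.of_bijective e.bijective) hfl, ?_, hs, ?_, ?_⟩
  · refine ⟨fun a ha => ?_⟩
    have h1 : IsUnit (e a) := hloc.map_nonunit _ ha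
    exact (MulEquiv.isUnit_map e).mp h1
  · rw [hk, ← Ideal.map_map, map_maximalIdeal_ringEquiv]
  · rw [← RingHom.comp_assoc, hcomp]

end Iso

section Quot

variable {C B₀ : Type u} [CommRing C] [IsLocalRing C] [CommRing B₀] [Nontrivial B₀]

theorem maximalIdeal_quotient_eq {R : Type*} [CommRing R] [IsLocalRing R] (I : Ideal R)
    [IsLocalRing (R ⧸ I)] (hI : I ≠ ⊤) :
    maximalIdeal (R ⧸ I) = (maximalIdeal R).map (Ideal.Quotient.mk I) := by
  have hmax : ((maximalIdeal R).map (Ideal.Quotient.mk I)).IsMaximal :=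
    Ideal.IsMaximal.map_of_surjective_of_ker_le Ideal.Quotient.mk_surjective (by
      rw [Ideal.mk_ker]
      exact IsLocalRing.le_maximalIdeal hI)
  exact (IsLocalRing.eq_maximalIdeal hmax).symm

theorem Liftable.quotient (I : Ideal C) (hI : I ≠ ⊤) [IsLocalRing (C ⧸ I)] (ε' : C ⧸ I →+* B₀)
    (h : Liftable C B₀ (ε'.comp (Ideal.Quotient.mk I))) : Liftable (C ⧸ I) B₀ ε' := by
  obtain ⟨B, _, _, _, g, π, hc, hfl, hloc, hs, hk, hcomp⟩ := h
  letI : Algebra C B := g.toAlgebra
  haveI : Module.Flat C B := hfl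
  set J : Ideal B := I.map (algebraMap C B) with hJ
  have hJπ : J ≤ RingHom.ker π := by
    rw [hJ, Ideal.map_le_iff_le_comap]
    intro x hx
    rw [Ideal.mem_comap, RingHom.mem_ker]
    have h1 : π (g x) = ε' (Ideal.Quotient.mk I x) :=
      congrArg (fun f : C →+* B₀ => f x) hcomp
    change π (g x) = 0
    rw [h1, Ideal.Quotient.eq_zero_iff_mem.mpr hx, map_zero]
  have hkne : RingHom.ker π ≠ ⊤ := RingHom.ker_ne_top π
  have hJne : J ≠ ⊤ := fun h => hkne (top_le_iff.mp (h ▸ hJπ))
  haveI : Nontrivial (B ⧸ J) := Ideal.Quotient.nontrivial_iff.mpr hJne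
  haveI : IsLocalRing (B ⧸ J) :=
    IsLocalRing.of_surjective' (Ideal.Quotient.mk J) Ideal.Quotient.mk_surjective
  have hmBJ := maximalIdeal_quotient_eq J hJne
  have hcompl : IsAdicComplete (maximalIdeal (B ⧸ J)) (B ⧸ J) := by
    rw [hmBJ]
    exact Groth.Agent.Lib.Helper83.isAdicComplete_quotient_of_isNoetherianRing _ J
  let g' : C ⧸ I →+* B ⧸ J := Ideal.quotientMap J (algebraMap C B) Ideal.le_comap_map
  have hg'mk : ∀ x, g' (Ideal.Quotient.mk I x) = Ideal.Quotient.mk J (g x) := fun x => by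
    simp [g', RingHom.algebraMap_toAlgebra]
  let π' : B ⧸ J →+* B₀ := Ideal.Quotient.lift J π (fun a ha => hJπ ha)
  have hmkloc : ∀ b : B, IsUnit (Ideal.Quotient.mk J b) → IsUnit b := by
    intro b hb
    by_contra hnb
    have h1 : b ∈ maximalIdeal B := (mem_maximalIdeal b).mpr hnb
    have h2 : Ideal.Quotient.mk J b ∈ maximalIdeal (B ⧸ J) := by
      rw [hmBJ]; exact Ideal.mem_map_of_mem _ h1
    exact (mem_maximalIdeal _).mp h2 hb
  refine ⟨B ⧸ J, inferInstance, inferInstance, inferInstance, g', π', hcompl, ?_, ?_, ?_, ?_, ?_⟩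
  · exact Groth.Agent.Lib.Helper15.FlatQuot.flat_quot (S := B) I
  · refine ⟨fun a ha => ?_⟩
    obtain ⟨x, rfl⟩ := Ideal.Quotient.mk_surjective a
    rw [hg'mk] at ha
    have h1 : IsUnit (g x) := hmkloc _ ha
    exact (hloc.map_nonunit x h1).map _
  · exact Ideal.Quotient.lift_surjective_of_surjective J _ hs
  · have h1 : RingHom.ker π' = (RingHom.ker π).map (Ideal.Quotient.mk J) :=
      Ideal.ker_quotient_lift π _
    rw [h1, hk, maximalIdeal_quotient_eq I hI, Ideal.map_map, Ideal.map_map]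
    congr 1
  · apply Ideal.Quotient.ringHom_ext
    ext x
    simp only [RingHom.comp_apply, hg'mk]
    exact congrArg (fun f : C →+* B₀ => f x) hcomp

end Quot

end Groth.Agent.Lib.Helper15.FlatLift
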