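import Mathlib
import Groth.Agent.Lib.Helper15.FlatLift

/-!
# Flat complete lifts: the power series step
-/

set_option linter.style.haveILetI false
set_option linter.unusedSectionVars false
set_option autoImplicit false

universe u

namespace Groth.Agent.Lib.Helper15.FlatLift

open IsLocalRing TensorProduct

section Abstract

/-- Abstract local criterion: `R → S` is flat if `f ∈ R` is `S`-regular, lies in the radical of
`S`, and `R/f → S/f` (presented as `R₀ → S₀`) is flat. -/
theorem flat_of_regular_of_flat_mod {R S R₀ S₀ : Type u} [CommRing R] [CommRing S]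
    [IsNoetherianRing R] [IsNoetherianRing S] [Algebra R S] [CommRing R₀] [CommRing S₀]
    [Algebra R₀ S₀] [Module.Flat R₀ S₀] (f : R)
    (hf : algebraMap R S f ∈ Ideal.jacobson (⊥ : Ideal S)) (hreg : IsSMulRegular S f)
    (p : R →+* R₀) (q : S →+* S₀) (hp : Function.Surjective p) (hq : Function.Surjective q)
    (hkp : RingHom.ker p = Ideal.span {f}) (hkq : RingHom.ker q = Ideal.span {algebraMap R S f})
    (hcomm : ∀ r, q (algebraMap R S r) = algebraMap R₀ S₀ (p r)) : Module.Flat R S := by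
  refine Groth.Agent.Lib.Helper15.RegFlat.flat_of_isSMulRegular_of_flat_quotient (R := R)
    (S := S) (M := S) f hf hreg ?_
  letI algR₀ : Algebra R R₀ := p.toAlgebra
  letI modS₀ : Module R S₀ := Module.compHom S₀ p
  have hsmul : ∀ (a : R) (b : S₀), a • b = p a • b := fun a b => rfl
  haveI : IsScalarTower R R₀ S₀ := ⟨fun a c b => by
    change (p a * c) • b = p a • (c • b)
    rw [mul_smul]⟩
  let cc : S →ₗ[R] S₀ :=
    { toFun := fun F => q F
      map_add' := fun F G => map_add _ F G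
      map_smul' := fun a F => by
        simp only [RingHom.id_apply]
        rw [Algebra.smul_def, map_mul, hcomm, hsmul, Algebra.smul_def] }
  have hcc : ∀ F, cc F = q F := fun F => rfl
  have hker : LinearMap.ker cc = (Ideal.span {f}) • (⊤ : Submodule R S) := by
    ext F
    rw [LinearMap.mem_ker, hcc, ← RingHom.mem_ker, hkq, Ideal.mem_span_singleton]
    constructor
    · rintro ⟨G, rfl⟩
      rw [← Algebra.smul_def]
      exact Submodule.smul_mem_smul (Ideal.subset_span rfl) trivial
    · intro hF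
      refine Submodule.smul_induction_on hF ?_ ?_
      · intro r hr n _
        obtain ⟨s, rfl⟩ := Ideal.mem_span_singleton'.mp hr
        rw [Algebra.smul_def, map_mul, mul_comm (algebraMap R S s), mul_assoc]
        exact Dvd.intro _ rfl
      · intro x y hx hy
        exact dvd_add hx hy
  let e1 : (R ⧸ Ideal.span {f}) ⊗[R] S ≃ₗ[R] S ⧸ ((Ideal.span {f}) • (⊤ : Submodule R S)) :=
    TensorProduct.quotTensorEquivQuotSMul S (Ideal.span {f})
  let e2 : (S ⧸ LinearMap.ker cc) ≃ₗ[R] S₀ := cc.quotKerEquivOfSurjective hq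
  let e3 : (S ⧸ ((Ideal.span {f}) • (⊤ : Submodule R S))) ≃ₗ[R] (S ⧸ LinearMap.ker cc) :=
    Submodule.quotEquivOfEq _ _ hker.symm
  let e : S₀ ≃ₗ[R] (R ⧸ Ideal.span {f}) ⊗[R] S := (e1.trans (e3.trans e2)).symm
  refine Groth.Agent.Lib.Helper15.RegFlat.flat_transport (A := R) (S := R₀)
    (S' := R ⧸ Ideal.span {f}) (M := S₀) (M' := (R ⧸ Ideal.span {f}) ⊗[R] S) ?_ ?_ ?_ e
    inferInstance
  · exact hp
  · exact Ideal.Quotient.mk_surjective
  · intro F hF
    have h1 : F ∈ RingHom.ker p := hF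
    rw [hkp] at h1
    rw [RingHom.mem_ker, Ideal.Quotient.algebraMap_eq, Ideal.Quotient.eq_zero_iff_mem]
    exact h1

end Abstract

section FlatPS

open PowerSeries

variable {A B : Type u} [CommRing A] [CommRing B] [IsNoetherianRing A] [IsNoetherianRing B]
  [IsLocalRing B] [Algebra A B]

theorem X_mem_maximalIdeal : (X : B⟦X⟧) ∈ maximalIdeal B⟦X⟧ := by
  rw [mem_maximalIdeal, mem_nonunits_iff, PowerSeries.isUnit_iff_constantCoeff, constantCoeff_X]
  exact not_isUnit_zero

theorem ker_constantCoeff (A : Type*) [CommRing A] :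
    RingHom.ker (constantCoeff : A⟦X⟧ →+* A) = Ideal.span {(X : A⟦X⟧)} := by
  ext F
  rw [RingHom.mem_ker, ← X_dvd_iff, Ideal.mem_span_singleton]

/-- `A⟦X⟧ → B⟦X⟧` is flat when `A → B` is (Noetherian rings, `B` local). -/
theorem flat_powerSeries [Module.Flat A B] : Module.Flat A⟦X⟧ B⟦X⟧ := by
  have hX : algebraMap A⟦X⟧ B⟦X⟧ X = X := by
    rw [RingHom.algebraMap_toAlgebra, map_X]
  refine flat_of_regular_of_flat_mod (R := A⟦X⟧) (S := B⟦X⟧) (R₀ := A) (S₀ := B) (X : A⟦X⟧)
    ?_ ?_ constantCoeff constantCoeff ?_ ?_ (ker_constantCoeff A) ?_ ?_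
  · rw [IsLocalRing.jacobson_eq_maximalIdeal ⊥ bot_ne_top, hX]
    exact X_mem_maximalIdeal
  · intro a b hab
    simp only [Algebra.smul_def, hX] at hab
    exact X_mul_cancel hab
  · exact fun a => ⟨PowerSeries.C a, by simp⟩
  · exact fun a => ⟨PowerSeries.C a, by simp⟩
  · rw [hX, ker_constantCoeff]
  · intro r
    rw [RingHom.algebraMap_toAlgebra]
    change constantCoeff (map (algebraMap A B) r) = _
    rw [← coeff_zero_eq_constantCoeff_apply, coeff_map, coeff_zero_eq_constantCoeff_apply]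

end FlatPS

section Step

open PowerSeries

variable {A B₀ : Type u} [CommRing A] [IsLocalRing A] [IsNoetherianRing A] [CommRing B₀]

theorem mem_maximalIdeal_powerSeries_iff {R : Type*} [CommRing R] [IsLocalRing R] (F : R⟦X⟧) :
    F ∈ maximalIdeal R⟦X⟧ ↔ constantCoeff F ∈ maximalIdeal R := by
  rw [mem_maximalIdeal, mem_maximalIdeal, mem_nonunits_iff, mem_nonunits_iff,
    PowerSeries.isUnit_iff_constantCoeff]

theorem Liftable.powerSeries (ε₁ : A⟦X⟧ →+* B₀) (hX : ε₁ X = 0)
    (h : Liftable A B₀ (ε₁.comp (PowerSeries.C : A →+* A⟦X⟧))) : Liftable A⟦X⟧ B₀ ε₁ := by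
  obtain ⟨B, _, _, _, g, π, hc, hfl, hloc, hs, hk, hcomp⟩ := h
  letI : Algebra A B := g.toAlgebra
  haveI : Module.Flat A B := hfl
  have hε : ∀ F : A⟦X⟧, ε₁ F = ε₁ (PowerSeries.C (constantCoeff F)) := by
    intro F
    have h1 : (X : A⟦X⟧) ∣ F - PowerSeries.C (constantCoeff F) := by
      rw [X_dvd_iff]; simp
    obtain ⟨G, hG⟩ := h1
    have h2 : F = PowerSeries.C (constantCoeff F) + X * G := by rw [← hG]; ring
    conv_lhs => rw [h2]
    rw [map_add, map_mul, hX, zero_mul, add_zero]
  have hπg : ∀ a : A, π (g a) = ε₁ (PowerSeries.C a) := fun a =>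
    congrArg (fun f : A →+* B₀ => f a) hcomp
  refine ⟨B⟦X⟧, inferInstance, inferInstance, inferInstance, PowerSeries.map g,
    π.comp (constantCoeff : B⟦X⟧ →+* B), inferInstance, ?_, ?_, ?_, ?_, ?_⟩
  · exact flat_powerSeries (A := A) (B := B)
  · refine ⟨fun F hF => ?_⟩
    rw [PowerSeries.isUnit_iff_constantCoeff] at hF ⊢
    have h1 : constantCoeff (PowerSeries.map g F) = g (constantCoeff F) := by
      rw [← coeff_zero_eq_constantCoeff_apply, coeff_map, coeff_zero_eq_constantCoeff_apply]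
    rw [h1] at hF
    exact hloc.map_nonunit _ hF
  · intro b
    obtain ⟨c, rfl⟩ := hs b
    exact ⟨PowerSeries.C c, by simp⟩
  · apply le_antisymm
    · intro G hG
      rw [RingHom.mem_ker, RingHom.comp_apply, ← RingHom.mem_ker, hk] at hG
      have h1 : (X : B⟦X⟧) ∣ G - PowerSeries.C (constantCoeff G) := by
        rw [X_dvd_iff]; simp
      obtain ⟨G', hG'⟩ := h1
      have h2 : G = PowerSeries.C (constantCoeff G) + X * G' := by rw [← hG']; ring
      rw [h2]
      refine Ideal.add_mem _ ?_ (Ideal.mul_mem_right _ _ ?_)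
      · have h3 : ((maximalIdeal A).map g).map (PowerSeries.C : B →+* B⟦X⟧) ≤
            (maximalIdeal A⟦X⟧).map (PowerSeries.map g) := by
          rw [Ideal.map_map]
          have h4 : (PowerSeries.C : B →+* B⟦X⟧).comp g =
              (PowerSeries.map g).comp (PowerSeries.C : A →+* A⟦X⟧) := by
            ext a : 1
            simp
          rw [h4, ← Ideal.map_map]
          refine Ideal.map_mono ?_
          rw [Ideal.map_le_iff_le_comap]
          intro a ha
          rw [Ideal.mem_comap, mem_maximalIdeal_powerSeries_iff]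
          simpa using ha
        exact h3 (Ideal.mem_map_of_mem _ hG)
      · have h5 : (X : B⟦X⟧) = PowerSeries.map g X := by rw [map_X]
        rw [h5]
        refine Ideal.mem_map_of_mem _ ?_
        rw [mem_maximalIdeal_powerSeries_iff, constantCoeff_X]
        exact zero_mem _
    · rw [Ideal.map_le_iff_le_comap]
      intro F hF
      rw [Ideal.mem_comap, RingHom.mem_ker, RingHom.comp_apply]
      have h1 : constantCoeff (PowerSeries.map g F) = g (constantCoeff F) := by
        rw [← coeff_zero_eq_constantCoeff_apply, coeff_map, coeff_zero_eq_constantCoeff_apply]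
      rw [h1, ← RingHom.mem_ker, hk]
      exact Ideal.mem_map_of_mem _ ((mem_maximalIdeal_powerSeries_iff F).mp hF)
  · ext F : 1
    have h1 : constantCoeff (PowerSeries.map g F) = g (constantCoeff F) := by
      rw [← coeff_zero_eq_constantCoeff_apply, coeff_map, coeff_zero_eq_constantCoeff_apply]
    rw [RingHom.comp_apply, RingHom.comp_apply, h1, hπg, ← hε]

end Step

section MvPS

open MvPowerSeries

variable {Λ B₀ : Type u} [CommRing Λ] [IsLocalRing Λ] [IsNoetherianRing Λ] [CommRing B₀]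

theorem Liftable.mvPowerSeries : ∀ (r : ℕ) (ε : MvPowerSeries (Fin r) Λ →+* B₀),
    (∀ i, ε (MvPowerSeries.X i) = 0) →
    Liftable Λ B₀ (ε.comp (MvPowerSeries.C : Λ →+* MvPowerSeries (Fin r) Λ)) →
    Liftable (MvPowerSeries (Fin r) Λ) B₀ ε := by
  intro r
  induction r with
  | zero =>
    intro ε _ h
    let e : MvPowerSeries (Fin 0) Λ ≃+* Λ := (MvPowerSeries.isEmptyEquiv (Fin 0) Λ).toRingEquiv
    have h1 := Liftable.of_ringEquiv e _ h
    have h2 : (ε.comp (MvPowerSeries.C : Λ →+* MvPowerSeries (Fin 0) Λ)).comp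
        (e : MvPowerSeries (Fin 0) Λ →+* Λ) = ε := by
      ext F : 1
      rw [RingHom.comp_apply, RingHom.comp_apply]
      congr 1
      exact (MvPowerSeries.isEmptyEquiv (Fin 0) Λ).left_inv F
    rwa [h2] at h1
  | succ r ih =>
    intro ε hεX h
    let e : MvPowerSeries (Fin (r + 1)) Λ ≃+* PowerSeries (MvPowerSeries (Fin r) Λ) :=
      (MvPowerSeries.finSuccEquiv Λ r).toRingEquiv
    have heX0 : e (MvPowerSeries.X 0) = PowerSeries.X := MvPowerSeries.finSuccEquiv_X_zero
    have heXs : ∀ j : Fin r, e (MvPowerSeries.X j.succ) = PowerSeries.C (MvPowerSeries.X j) :=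
      fun j => MvPowerSeries.finSuccEquiv_X_succ j
    have heC : ∀ c : Λ, e (MvPowerSeries.C c) = PowerSeries.C (MvPowerSeries.C c) :=
      fun c => MvPowerSeries.finSuccEquiv_C c
    let ε₁ : PowerSeries (MvPowerSeries (Fin r) Λ) →+* B₀ :=
      ε.comp (e.symm : PowerSeries (MvPowerSeries (Fin r) Λ) →+* MvPowerSeries (Fin (r + 1)) Λ)
    have hε₁ : ∀ F, ε₁ (e F) = ε F := fun F => by
      change ε (e.symm (e F)) = ε F
      rw [RingEquiv.symm_apply_apply]
    have hε₁X : ε₁ PowerSeries.X = 0 := by rw [← heX0, hε₁, hεX]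
    let ε₂ : MvPowerSeries (Fin r) Λ →+* B₀ :=
      ε₁.comp (PowerSeries.C : MvPowerSeries (Fin r) Λ →+* _)
    have hε₂X : ∀ j, ε₂ (MvPowerSeries.X j) = 0 := fun j => by
      change ε₁ (PowerSeries.C (MvPowerSeries.X j)) = 0
      rw [← heXs, hε₁, hεX]
    have hε₂C : ε₂.comp (MvPowerSeries.C : Λ →+* MvPowerSeries (Fin r) Λ) =
        ε.comp (MvPowerSeries.C : Λ →+* MvPowerSeries (Fin (r + 1)) Λ) := by
      ext c : 1
      change ε₁ (PowerSeries.C (MvPowerSeries.C c)) = ε (MvPowerSeries.C c)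
      rw [← heC, hε₁]
    have h2 : Liftable (MvPowerSeries (Fin r) Λ) B₀ ε₂ := ih ε₂ hε₂X (by rw [hε₂C]; exact h)
    have h1 : Liftable (PowerSeries (MvPowerSeries (Fin r) Λ)) B₀ ε₁ :=
      Liftable.powerSeries ε₁ hε₁X h2
    have h0 := Liftable.of_ringEquiv e ε₁ h1
    have h3 : ε₁.comp (e : MvPowerSeries (Fin (r + 1)) Λ →+* _) = ε := by
      ext F : 1
      exact hε₁ F
    rwa [h3] at h0

end MvPS

end Groth.Agent.Lib.Helper15.FlatLift
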