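import Mathlib
import Groth.Agent.Lib.Helper15.FlatLift2
import Groth.Agent.Lib.Helper88.CohenStruct
import Groth.Agent.Lib.Helper76.PSDim

/-!
# Flat complete lifts: base cases (fields and Cohen rings)
-/

set_option linter.style.haveILetI false
set_option linter.unusedSectionVars false
set_option linter.overlappingInstances false
set_option autoImplicit false

universe u

namespace Groth.Agent.Lib.Helper15.FlatLift

open IsLocalRing TensorProduct

section Field

variable {Λ B₀ : Type u} [CommRing Λ] [IsLocalRing Λ] [CommRing B₀] [IsLocalRing B₀]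
  [IsNoetherianRing B₀] [IsAdicComplete (maximalIdeal B₀) B₀]

theorem Liftable.of_isField (hΛ : IsField Λ) (ε : Λ →+* B₀) : Liftable Λ B₀ ε := by
  refine ⟨B₀, inferInstance, inferInstance, inferInstance, ε, RingHom.id B₀, inferInstance,
    RingHom.Flat.of_isField hΛ ε, ?_, Function.surjective_id, ?_, RingHom.id_comp ε⟩
  · refine ⟨fun a ha => ?_⟩
    have hne : a ≠ 0 := by
      rintro rfl
      rw [map_zero] at ha
      exact not_isUnit_zero ha
    obtain ⟨b, hb⟩ := hΛ.mul_inv_cancel hne
    exact IsUnit.of_mul_eq_one _ hb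
  · rw [(IsLocalRing.isField_iff_maximalIdeal_eq).mp hΛ, Ideal.map_bot]
    ext x
    simp [RingHom.mem_ker]

end Field

section MapKer

open MvPowerSeries

variable {σ : Type*} {R K : Type*} [CommRing R] [CommRing K]

theorem map_surjective_of_surjective (ρ : R →+* K) (hρ : Function.Surjective ρ) :
    Function.Surjective (MvPowerSeries.map (σ := σ) ρ) := by
  intro F
  let G : MvPowerSeries σ R := fun d => Function.surjInv hρ (coeff d F)
  have hG : ∀ d, coeff d G = Function.surjInv hρ (coeff d F) := fun d => rfl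
  refine ⟨G, ?_⟩
  ext d
  rw [coeff_map, hG]
  exact Function.surjInv_eq hρ _

theorem ker_map_eq_span (ρ : R →+* K) (ϖ : R) (hker : RingHom.ker ρ = Ideal.span {ϖ}) :
    RingHom.ker (MvPowerSeries.map (σ := σ) ρ) = Ideal.span {(C ϖ : MvPowerSeries σ R)} := by
  apply le_antisymm
  · intro F hF
    rw [RingHom.mem_ker] at hF
    have h1 : ∀ d, ∃ c, ϖ * c = coeff d F := by
      intro d
      have h2 : ρ (coeff d F) = 0 := by
        rw [← coeff_map, hF, map_zero]
      have h3 : coeff d F ∈ Ideal.span {ϖ} := by rw [← hker]; exact h2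
      obtain ⟨c, hc⟩ := Ideal.mem_span_singleton'.mp h3
      exact ⟨c, by rw [mul_comm]; exact hc⟩
    choose c hc using h1
    rw [Ideal.mem_span_singleton]
    let G : MvPowerSeries σ R := fun d => c d
    have hG : ∀ d, coeff d G = c d := fun d => rfl
    refine ⟨G, ?_⟩
    ext d
    rw [coeff_C_mul, hG]
    exact (hc d).symm
  · rw [Ideal.span_le, Set.singleton_subset_iff, SetLike.mem_coe, RingHom.mem_ker, map_C]
    have : ρ ϖ = 0 := by
      have : ϖ ∈ RingHom.ker ρ := by rw [hker]; exact Ideal.subset_span rfl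
      exact this
    rw [this, map_zero]

end MapKer

section Structure

open MvPowerSeries Groth.Agent.Lib.Helper76.PSComplete

variable {A : Type u} [CommRing A] [IsLocalRing A] [IsNoetherianRing A]
  [IsAdicComplete (maximalIdeal A) A]

/-- Cohen: a complete Noetherian local ring with a coefficient field is a quotient of the power
series ring in `dim 𝔪/𝔪²` variables. -/
theorem exists_surjective_of_section' (σ : ResidueField A →+* A)
    (hσ : ∀ x : ResidueField A, residue A (σ x) = x) :
    ∃ (f : MvPowerSeries (Fin (Module.finrank (ResidueField A) (CotangentSpace A)))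
      (ResidueField A) →+* A), Function.Surjective f := by
  classical
  letI : Algebra (ResidueField A) A := σ.toAlgebra
  let d := Module.finrank (ResidueField A) (CotangentSpace A)
  let bas : Module.Basis (Fin d) (ResidueField A) (CotangentSpace A) :=
    Module.finBasis (ResidueField A) (CotangentSpace A)
  choose b hb using fun i => Ideal.toCotangent_surjective (maximalIdeal A) (bas i)
  let ψ : MvPowerSeries (Fin d) (ResidueField A) →ₐ[ResidueField A] A :=
    evC (maximalIdeal A) (fun i => (b i : A)) (fun i => (b i).2)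
  have hψX : ∀ i, ψ (X i) = (b i : A) := fun i => evC_X _ _ _ i
  have hψ : ∀ i : Fin d, ψ (X i) ∈ maximalIdeal A := fun i => by rw [hψX]; exact (b i).2
  have hfam : (fun i : Fin d => (maximalIdeal A).toCotangent ⟨ψ (X i), hψ i⟩) = bas := by
    funext i
    rw [← hb i]
    congr 1
    exact Subtype.ext (hψX i)
  refine ⟨ψ.toRingHom, ?_⟩
  refine surjective_of_cotangent_span ?_ ψ hψ ?_
  · intro x
    exact ⟨x, hσ x⟩
  · rw [hfam]
    exact bas.span_eq

/-- a complete regular local ring with a coefficient field is a power series ring. -/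
theorem exists_bijective_of_section [IsRegularLocalRing A] (σ : ResidueField A →+* A)
    (hσ : ∀ x : ResidueField A, residue A (σ x) = x) :
    ∃ (d : ℕ) (f : MvPowerSeries (Fin d) (ResidueField A) →+* A), Function.Bijective f := by
  obtain ⟨f, hf⟩ := exists_surjective_of_section' σ hσ
  refine ⟨_, f, ?_, hf⟩
  refine injective_of_surjective_of_dim (ResidueField A) _ f hf ?_
  rw [(IsRegularLocalRing.iff_finrank_cotangentSpace A).mp inferInstance]

end Structure

section Cohen

open MvPowerSeries Groth.Agent.Lib.Helper96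

variable {Λ B₀ : Type u} [CommRing Λ] [IsDomain Λ] [IsDiscreteValuationRing Λ]
  [IsAdicComplete (maximalIdeal Λ) Λ] [CommRing B₀] [IsRegularLocalRing B₀]
  [IsAdicComplete (maximalIdeal B₀) B₀]

theorem Liftable.of_cohenRing (p : ℕ) (hp : p.Prime)
    (hm : maximalIdeal Λ = Ideal.span {(p : Λ)})
    (ε : Λ →+* B₀) (hε : RingHom.ker ε = maximalIdeal Λ) : Liftable Λ B₀ ε := by
  classical
  haveI : Fact p.Prime := ⟨hp⟩
  have hpΛ : (p : Λ) ∈ maximalIdeal Λ := by rw [hm]; exact Ideal.mem_span_singleton_self _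
  have hp0 : (p : B₀) = 0 := by
    have : ε (p : Λ) = 0 := by rw [← RingHom.mem_ker, hε]; exact hpΛ
    rwa [map_natCast] at this
  haveI : CharP (ResidueField B₀) p := by
    refine (CharP.charP_iff_prime_eq_zero hp).mpr ?_
    have := congrArg (residue B₀) hp0
    rwa [map_natCast, map_zero] at this
  obtain ⟨σ, hσ⟩ :=
    Groth.Agent.Lib.Helper13.CohenEq.exists_section_of_natCast_eq_zero (A := B₀) p hp0
  obtain ⟨d, ψ, hψ⟩ := exists_bijective_of_section σ hσ
  obtain ⟨ΛK, _, _, ⟨hdom, hdvr, hcompK, p', hp', hmK⟩, ⟨eK⟩⟩ :=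
    Groth.Agent.Lib.Helper88.CohenExist.exists_cohenRing p (ResidueField B₀)
  haveI := hdom
  haveI := hdvr
  haveI := hcompK
  have hpp : p' = p := by
    have h1 : (p' : ΛK) ∈ maximalIdeal ΛK := by rw [hmK]; exact Ideal.mem_span_singleton_self _
    have h2 : residue ΛK (p' : ΛK) = 0 := (residue_eq_zero_iff _).mpr h1
    have h3 : eK (residue ΛK (p' : ΛK)) = 0 := by rw [h2, map_zero]
    rw [map_natCast, map_natCast] at h3
    have h4 : p ∣ p' := (CharP.cast_eq_zero_iff (ResidueField B₀) p p').mp h3
    exact ((Nat.prime_dvd_prime_iff_eq hp hp').mp h4).symm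
  subst hpp
  let ρ : ΛK →+* ResidueField B₀ := (eK : ResidueField ΛK →+* ResidueField B₀).comp (residue ΛK)
  have hρs : Function.Surjective ρ := eK.surjective.comp residue_surjective
  have hρk : RingHom.ker ρ = Ideal.span {(p' : ΛK)} := by
    rw [← hmK]
    ext x
    rw [RingHom.mem_ker]
    change eK (residue ΛK x) = 0 ↔ _
    rw [map_eq_zero_iff _ eK.injective, residue_eq_zero_iff]
  let S := MvPowerSeries (Fin d) ΛK
  let π : S →+* B₀ := ψ.comp (MvPowerSeries.map ρ)
  have hπs : Function.Surjective π := hψ.2.comp (map_surjective_of_surjective ρ hρs)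
  have hpS : (C (p' : ΛK) : S) = (p' : S) := map_natCast C p'
  have hkerπ : RingHom.ker π = Ideal.span {(p' : S)} := by
    rw [← hpS, ← ker_map_eq_span ρ _ hρk]
    exact RingHom.ker_comp_of_injective _ hψ.1
  have hJne : RingHom.ker π ≠ ⊤ := RingHom.ker_ne_top π
  let u : Λ →+* S ⧸ RingHom.ker π :=
    ((RingHom.quotientKerEquivOfSurjective hπs).symm : B₀ →+* S ⧸ RingHom.ker π).comp ε
  have hW : LiftSq.{u, u} Λ (maximalIdeal Λ) := liftSq_cohenRing Λ p' hp hm
  have hu : ∀ x ∈ maximalIdeal Λ, u x ∈
      (maximalIdeal S).map (Ideal.Quotient.mk (RingHom.ker π)) := by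
    intro x hx
    have h1 : ε x = 0 := by rw [← RingHom.mem_ker, hε]; exact hx
    have h2 : u x = 0 := by
      change (RingHom.quotientKerEquivOfSurjective hπs).symm (ε x) = 0
      rw [h1, map_zero]
    rw [h2]
    exact zero_mem _
  obtain ⟨g, hg⟩ := exists_lift_of_liftSq (C := S) hW hJne hu
  have hπg : ∀ x, π (g x) = ε x := by
    intro x
    have h1 : Ideal.Quotient.mk (RingHom.ker π) (g x) = u x :=
      congrArg (fun f : Λ →+* S ⧸ RingHom.ker π => f x) hg
    have h2 := congrArg (RingHom.quotientKerEquivOfSurjective hπs) h1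
    rw [RingHom.quotientKerEquivOfSurjective_apply_mk] at h2
    rw [h2]
    change (RingHom.quotientKerEquivOfSurjective hπs)
      ((RingHom.quotientKerEquivOfSurjective hπs).symm (ε x)) = ε x
    rw [RingEquiv.apply_symm_apply]
  have hgp : g (p' : Λ) = (p' : S) := map_natCast g p'
  have hpmS : (p' : S) ∈ maximalIdeal S := by
    rw [Groth.Agent.Lib.Helper76.PSCRing.mem_maximalIdeal_iff, ← hpS, constantCoeff_C, hmK]
    exact Ideal.mem_span_singleton_self _
  have hpK0 : (p' : ΛK) ≠ 0 := by
    intro h0
    apply IsDiscreteValuationRing.not_a_field ΛK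
    rw [hmK, h0, Ideal.span_singleton_eq_bot]
  have hpS0 : (p' : S) ≠ 0 := by
    rw [← hpS]
    intro h0
    apply hpK0
    have := congrArg (constantCoeff (σ := Fin d) (R := ΛK)) h0
    rwa [constantCoeff_C, map_zero] at this
  refine ⟨S, inferInstance, inferInstance, inferInstance, g, π, inferInstance, ?_, ?_, hπs, ?_,
    RingHom.ext hπg⟩
  · letI : Algebra Λ S := g.toAlgebra
    change Module.Flat Λ S
    have halg : algebraMap Λ S (p' : Λ) = (p' : S) := hgp
    refine Groth.Agent.Lib.Helper15.RegFlat.flat_of_isSMulRegular_of_flat_quotient (R := Λ)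
      (S := S) (M := S) (p' : Λ) ?_ ?_ ?_
    · rw [IsLocalRing.jacobson_eq_maximalIdeal ⊥ bot_ne_top, halg]
      exact hpmS
    · intro a b hab
      simp only [Algebra.smul_def, halg] at hab
      exact mul_left_cancel₀ hpS0 hab
    · haveI : (Ideal.span {(p' : Λ)}).IsMaximal := hm ▸ maximalIdeal.isMaximal Λ
      letI := Ideal.Quotient.field (Ideal.span {(p' : Λ)})
      infer_instance
  · refine ⟨fun a ha => ?_⟩
    by_contra hna
    have h1 : a ∈ maximalIdeal Λ := (mem_maximalIdeal a).mpr hna
    rw [hm] at h1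
    obtain ⟨b, rfl⟩ := Ideal.mem_span_singleton'.mp h1
    rw [map_mul, hgp] at ha
    have h2 : g b * (p' : S) ∈ maximalIdeal S := Ideal.mul_mem_left _ _ hpmS
    exact (mem_maximalIdeal _).mp h2 ha
  · rw [hkerπ, hm, Ideal.map_span, Set.image_singleton, hgp]

end Cohen

end Groth.Agent.Lib.Helper15.FlatLift
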