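import Mathlib
import Groth.Agent.Lib.Helper15.FlatLift3
import Groth.Agent.Lib.Helper15.CompleteUCat

/-!
# Cohen factorizations of local homomorphisms of complete local rings

`Fac Λ' C φ` (for `φ : C → B`): there are `m`, a surjection `σ : Λ'⟦y₁..y_m⟧ → B`, a flat
`τ : C → Λ'⟦y⟧` with `σ ∘ τ = φ`, and a regular ring `F` with a surjection `π : Λ'⟦y⟧ → F` of
kernel `𝔪_C Λ'⟦y⟧`.
-/

set_option linter.style.haveILetI false
set_option linter.unusedSectionVars false
set_option linter.overlappingInstances false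
set_option autoImplicit false

universe u

namespace Groth.Agent.Lib.Helper15.CohenFac

open IsLocalRing Groth.Agent.Lib.Helper15.FlatLift

section Ker

open PowerSeries

theorem ker_comp_constantCoeff {A B B₀ : Type*} [CommRing A] [IsLocalRing A] [CommRing B]
    [CommRing B₀] (g : A →+* B) (π : B →+* B₀) (hk : RingHom.ker π = (maximalIdeal A).map g) :
    RingHom.ker (π.comp (constantCoeff : B⟦X⟧ →+* B)) =
      (maximalIdeal A⟦X⟧).map (PowerSeries.map g) := by
  apply le_antisymm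
  · intro G hG
    rw [RingHom.mem_ker, RingHom.comp_apply, ← RingHom.mem_ker, hk] at hG
    have h1 : (X : B⟦X⟧) ∣ G - PowerSeries.C (constantCoeff G) := by
      rw [X_dvd_iff]; simp
    obtain ⟨G', hG'⟩ := h1
    have h2 : G = PowerSeries.C (constantCoeff G) + X * G' := by rw [← hG']; ring
    rw [h2]
    refine Ideal.add_mem _ ?_ (Ideal.mul_mem_right _ _ ?_)
    · have h3 : ((maximalIdeal A).map g).map (PowerSeries.C : B →+* B⟦X⟧) ≤
          (maximalIdeal A⟦X⟧).map (PowerSeries.map g) := by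
        rw [Ideal.map_map]
        have h4 : (PowerSeries.C : B →+* B⟦X⟧).comp g =
            (PowerSeries.map g).comp (PowerSeries.C : A →+* A⟦X⟧) := by
          ext a : 1
          simp
        rw [h4, ← Ideal.map_map]
        refine Ideal.map_mono ?_
        rw [Ideal.map_le_iff_le_comap]
        intro a ha
        rw [Ideal.mem_comap, mem_maximalIdeal_powerSeries_iff]
        simpa using ha
      exact h3 (Ideal.mem_map_of_mem _ hG)
    · have h5 : (X : B⟦X⟧) = PowerSeries.map g X := by rw [map_X]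
      rw [h5]
      refine Ideal.mem_map_of_mem _ ?_
      rw [mem_maximalIdeal_powerSeries_iff, constantCoeff_X]
      exact zero_mem _
  · rw [Ideal.map_le_iff_le_comap]
    intro F hF
    rw [Ideal.mem_comap, RingHom.mem_ker, RingHom.comp_apply]
    have h1 : constantCoeff (PowerSeries.map g F) = g (constantCoeff F) := by
      rw [← coeff_zero_eq_constantCoeff_apply, coeff_map, coeff_zero_eq_constantCoeff_apply]
    rw [h1, ← RingHom.mem_ker, hk]
    exact Ideal.mem_map_of_mem _ ((mem_maximalIdeal_powerSeries_iff F).mp hF)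

end Ker

section Def

variable {B : Type u} [CommRing B]

/-- a Cohen factorization of `φ : C → B` through a power series ring over `Λ'`. -/
def Fac (Λ' : Type u) [CommRing Λ'] (C : Type u) [CommRing C] [IsLocalRing C] (φ : C →+* B) :
    Prop :=
  ∃ (m : ℕ) (σ : MvPowerSeries (Fin m) Λ' →+* B) (τ : C →+* MvPowerSeries (Fin m) Λ')
    (F : Type u) (_ : CommRing F) (π : MvPowerSeries (Fin m) Λ' →+* F),
    Function.Surjective σ ∧ σ.comp τ = φ ∧ τ.Flat ∧ Function.Surjective π ∧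
      RingHom.ker π = (maximalIdeal C).map τ ∧ IsRegularRing F

variable {Λ' : Type u} [CommRing Λ'] {C C' : Type u} [CommRing C] [IsLocalRing C] [CommRing C']
  [IsLocalRing C']

theorem Fac.of_ringEquiv (e : C' ≃+* C) (φ : C →+* B) (h : Fac Λ' C φ) :
    Fac Λ' C' (φ.comp (e : C' →+* C)) := by
  obtain ⟨m, σ, τ, F, _, π, hσ, hcomp, hfl, hπ, hk, hreg⟩ := h
  refine ⟨m, σ, τ.comp (e : C' →+* C), F, inferInstance, π, hσ, ?_,
    RingHom.Flat.comp (RingHom.Flat.of_bijective e.bijective) hfl, hπ, ?_, hreg⟩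
  · rw [← RingHom.comp_assoc, hcomp]
  · rw [hk, ← Ideal.map_map, map_maximalIdeal_ringEquiv]

end Def

section Step

open PowerSeries

variable {B : Type u} [CommRing B] [IsLocalRing B] [IsAdicComplete (maximalIdeal B) B]
  {Λ' : Type u} [CommRing Λ'] [IsLocalRing Λ'] [IsNoetherianRing Λ']
  {C : Type u} [CommRing C] [IsLocalRing C] [IsNoetherianRing C]

theorem Fac.powerSeries (φ : C⟦X⟧ →+* B) (hX : φ X ∈ maximalIdeal B)
    (h : Fac Λ' C (φ.comp (PowerSeries.C : C →+* C⟦X⟧))) : Fac Λ' C⟦X⟧ φ := by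
  obtain ⟨m, σ, τ, F, _, π, hσ, hcomp, hfl, hπ, hk, hreg⟩ := h
  let S := MvPowerSeries (Fin m) Λ'
  let e : MvPowerSeries (Fin (m + 1)) Λ' ≃+* PowerSeries S :=
    (MvPowerSeries.finSuccEquiv Λ' m).toRingEquiv
  obtain ⟨σ₁, hσ₁X, hσ₁C⟩ := Groth.Agent.Lib.Helper76.PSCRing.exists_ringHom (R := S)
    (σ := Unit) (maximalIdeal B) σ (fun _ => φ X) (fun _ => hX)
  have hσ₁X' : σ₁ (X : PowerSeries S) = φ X := hσ₁X ()
  have hσ₁C' : ∀ s : S, σ₁ (PowerSeries.C s) = σ s := hσ₁C
  letI : Algebra C S := τ.toAlgebra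
  haveI : Module.Flat C S := hfl
  let τ₁ : C⟦X⟧ →+* PowerSeries S := PowerSeries.map τ
  have hτ₁fl : τ₁.Flat := flat_powerSeries (A := C) (B := S)
  have hστ : σ₁.comp τ₁ = φ := by
    refine Groth.Agent.Lib.Helper76.PSCRing.ringHom_ext (R := C) (σ := Unit) (maximalIdeal B)
      (σ₁.comp τ₁) φ ?_ ?_ ?_
    · intro s
      change σ₁ (PowerSeries.map τ (X : C⟦X⟧)) ∈ _
      rw [map_X, hσ₁X']
      exact hX
    · intro s
      change σ₁ (PowerSeries.map τ (X : C⟦X⟧)) = φ (X : C⟦X⟧)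
      rw [map_X, hσ₁X']
    · intro c
      change σ₁ (PowerSeries.map τ (PowerSeries.C c)) = φ (PowerSeries.C c)
      rw [map_C, hσ₁C']
      exact congrArg (fun f : C →+* B => f c) hcomp
  refine ⟨m + 1, σ₁.comp (e : MvPowerSeries (Fin (m + 1)) Λ' →+* PowerSeries S),
    (e.symm : PowerSeries S →+* MvPowerSeries (Fin (m + 1)) Λ').comp τ₁, F, inferInstance,
    (π.comp (constantCoeff : PowerSeries S →+* S)).comp
      (e : MvPowerSeries (Fin (m + 1)) Λ' →+* PowerSeries S), ?_, ?_, ?_, ?_, ?_, hreg⟩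
  · intro b
    obtain ⟨s, rfl⟩ := hσ b
    refine ⟨e.symm (PowerSeries.C s), ?_⟩
    change σ₁ (e (e.symm (PowerSeries.C s))) = σ s
    rw [RingEquiv.apply_symm_apply, hσ₁C']
  · rw [← hστ]
    ext F : 1
    change σ₁ (e (e.symm (τ₁ F))) = σ₁ (τ₁ F)
    rw [RingEquiv.apply_symm_apply]
  · exact RingHom.Flat.comp hτ₁fl (RingHom.Flat.of_bijective e.symm.bijective)
  · intro f
    obtain ⟨s, rfl⟩ := hπ f
    refine ⟨e.symm (PowerSeries.C s), ?_⟩
    change π (constantCoeff (e (e.symm (PowerSeries.C s)))) = π s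
    rw [RingEquiv.apply_symm_apply, constantCoeff_C]
  · have h1 := ker_comp_constantCoeff τ π hk
    ext G
    rw [RingHom.mem_ker, RingHom.comp_apply, ← RingHom.mem_ker, h1, ← Ideal.map_map]
    constructor
    · intro hG
      have := Ideal.mem_map_of_mem (e.symm : PowerSeries S →+* MvPowerSeries (Fin (m + 1)) Λ') hG
      change e.symm (e G) ∈ _ at this
      rwa [RingEquiv.symm_apply_apply] at this
    · intro hG
      have h2 : Ideal.map (e.symm : PowerSeries S →+* MvPowerSeries (Fin (m + 1)) Λ')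
          (Ideal.map (PowerSeries.map τ) (maximalIdeal C⟦X⟧)) =
          Ideal.comap (e : MvPowerSeries (Fin (m + 1)) Λ' →+* PowerSeries S)
            (Ideal.map (PowerSeries.map τ) (maximalIdeal C⟦X⟧)) :=
        Ideal.map_symm e
      rw [h2] at hG
      exact hG

end Step

section MvPS

open MvPowerSeries

variable {B : Type u} [CommRing B] [IsLocalRing B] [IsAdicComplete (maximalIdeal B) B]
  {Λ' : Type u} [CommRing Λ'] [IsLocalRing Λ'] [IsNoetherianRing Λ']
  {Λ : Type u} [CommRing Λ] [IsLocalRing Λ] [IsNoetherianRing Λ]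

theorem Fac.mvPowerSeries : ∀ (r : ℕ) (φ : MvPowerSeries (Fin r) Λ →+* B),
    (∀ i, φ (MvPowerSeries.X i) ∈ maximalIdeal B) →
    Fac Λ' Λ (φ.comp (MvPowerSeries.C : Λ →+* MvPowerSeries (Fin r) Λ)) →
    Fac Λ' (MvPowerSeries (Fin r) Λ) φ := by
  intro r
  induction r with
  | zero =>
    intro φ _ h
    let e : MvPowerSeries (Fin 0) Λ ≃+* Λ := (MvPowerSeries.isEmptyEquiv (Fin 0) Λ).toRingEquiv
    have h1 := Fac.of_ringEquiv e _ h
    have h2 : (φ.comp (MvPowerSeries.C : Λ →+* MvPowerSeries (Fin 0) Λ)).comp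
        (e : MvPowerSeries (Fin 0) Λ →+* Λ) = φ := by
      ext F : 1
      rw [RingHom.comp_apply, RingHom.comp_apply]
      congr 1
      exact (MvPowerSeries.isEmptyEquiv (Fin 0) Λ).left_inv F
    rwa [h2] at h1
  | succ r ih =>
    intro φ hφX h
    let e : MvPowerSeries (Fin (r + 1)) Λ ≃+* PowerSeries (MvPowerSeries (Fin r) Λ) :=
      (MvPowerSeries.finSuccEquiv Λ r).toRingEquiv
    have heX0 : e (MvPowerSeries.X 0) = PowerSeries.X := MvPowerSeries.finSuccEquiv_X_zero
    have heXs : ∀ j : Fin r, e (MvPowerSeries.X j.succ) = PowerSeries.C (MvPowerSeries.X j) :=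
      fun j => MvPowerSeries.finSuccEquiv_X_succ j
    have heC : ∀ c : Λ, e (MvPowerSeries.C c) = PowerSeries.C (MvPowerSeries.C c) :=
      fun c => MvPowerSeries.finSuccEquiv_C c
    let φ₁ : PowerSeries (MvPowerSeries (Fin r) Λ) →+* B :=
      φ.comp (e.symm : PowerSeries (MvPowerSeries (Fin r) Λ) →+* MvPowerSeries (Fin (r + 1)) Λ)
    have hφ₁ : ∀ F, φ₁ (e F) = φ F := fun F => by
      change φ (e.symm (e F)) = φ F
      rw [RingEquiv.symm_apply_apply]
    have hφ₁X : φ₁ PowerSeries.X ∈ maximalIdeal B := by rw [← heX0, hφ₁]; exact hφX 0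
    let φ₂ : MvPowerSeries (Fin r) Λ →+* B :=
      φ₁.comp (PowerSeries.C : MvPowerSeries (Fin r) Λ →+* _)
    have hφ₂X : ∀ j, φ₂ (MvPowerSeries.X j) ∈ maximalIdeal B := fun j => by
      change φ₁ (PowerSeries.C (MvPowerSeries.X j)) ∈ _
      rw [← heXs, hφ₁]
      exact hφX j.succ
    have hφ₂C : φ₂.comp (MvPowerSeries.C : Λ →+* MvPowerSeries (Fin r) Λ) =
        φ.comp (MvPowerSeries.C : Λ →+* MvPowerSeries (Fin (r + 1)) Λ) := by
      ext c : 1
      change φ₁ (PowerSeries.C (MvPowerSeries.C c)) = φ (MvPowerSeries.C c)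
      rw [← heC, hφ₁]
    have h2 : Fac Λ' (MvPowerSeries (Fin r) Λ) φ₂ := ih φ₂ hφ₂X (by rw [hφ₂C]; exact h)
    have h1 : Fac Λ' (PowerSeries (MvPowerSeries (Fin r) Λ)) φ₁ :=
      Fac.powerSeries φ₁ hφ₁X h2
    have h0 := Fac.of_ringEquiv e φ₁ h1
    have h3 : φ₁.comp (e : MvPowerSeries (Fin (r + 1)) Λ →+* _) = φ := by
      ext F : 1
      exact hφ₁ F
    rwa [h3] at h0

end MvPS

section Base

open MvPowerSeries Groth.Agent.Lib.Helper96 Groth.Agent.Lib.Helper76.PSComplete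

variable {B : Type u} [CommRing B] [IsLocalRing B] [IsNoetherianRing B]
  [IsAdicComplete (maximalIdeal B) B]
  {Λ' : Type u} [CommRing Λ'] [IsLocalRing Λ'] [IsNoetherianRing Λ']
  [IsAdicComplete (maximalIdeal Λ') Λ']
  {Λ : Type u} [CommRing Λ] [IsLocalRing Λ]

/-- the common part of the base case: a surjection `σ₀ : Λ'⟦y⟧ → B` and a lift `τ₀ : Λ → Λ'⟦y⟧`
of `φ₀ : Λ → B`. -/
theorem exists_lift_base (v' : Λ' →+* B) (hv' : Function.Surjective ((residue B).comp v'))
    (hW : LiftSq.{u, u} Λ (maximalIdeal Λ)) (φ₀ : Λ →+* B)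
    (hφ₀ : ∀ x ∈ maximalIdeal Λ, φ₀ x ∈ maximalIdeal B) :
    ∃ (m : ℕ) (σ : MvPowerSeries (Fin m) Λ' →+* B) (τ : Λ →+* MvPowerSeries (Fin m) Λ'),
      Function.Surjective σ ∧ σ.comp τ = φ₀ := by
  classical
  have hfg : (maximalIdeal B).FG := IsNoetherian.noetherian _
  obtain ⟨m, b, hb⟩ := Submodule.fg_iff_exists_fin_generating_family.mp hfg
  have hbm : ∀ i, b i ∈ maximalIdeal B := by
    intro i
    rw [← hb]
    exact Submodule.subset_span ⟨i, rfl⟩
  letI : Algebra Λ' B := v'.toAlgebra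
  let σ : MvPowerSeries (Fin m) Λ' →+* B :=
    (evC (maximalIdeal B) b hbm : MvPowerSeries (Fin m) Λ' →ₐ[_] B).toRingHom
  have hσ : Function.Surjective σ := evC_surjective (maximalIdeal B) b hbm hb hv'
  let S := MvPowerSeries (Fin m) Λ'
  have hJne : RingHom.ker σ ≠ ⊤ := RingHom.ker_ne_top σ
  let u : Λ →+* S ⧸ RingHom.ker σ :=
    ((RingHom.quotientKerEquivOfSurjective hσ).symm : B →+* S ⧸ RingHom.ker σ).comp φ₀
  have hu : ∀ x ∈ maximalIdeal Λ, u x ∈
      (maximalIdeal S).map (Ideal.Quotient.mk (RingHom.ker σ)) := by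
    intro x hx
    obtain ⟨s, hs⟩ := hσ (φ₀ x)
    have h1 : u x = Ideal.Quotient.mk (RingHom.ker σ) s := by
      change (RingHom.quotientKerEquivOfSurjective hσ).symm (φ₀ x) = _
      rw [← hs]
      exact RingHom.quotientKerEquivOfSurjective_symm_apply hσ s
    rw [h1]
    refine Ideal.mem_map_of_mem _ ?_
    rw [mem_maximalIdeal, mem_nonunits_iff]
    intro hsu
    have h2 : IsUnit (σ s) := hsu.map σ
    rw [hs] at h2
    exact (mem_maximalIdeal _).mp (hφ₀ x hx) h2
  obtain ⟨τ, hτ⟩ := exists_lift_of_liftSq (C := S) hW hJne hu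
  refine ⟨m, σ, τ, hσ, ?_⟩
  ext x : 1
  have h1 : Ideal.Quotient.mk (RingHom.ker σ) (τ x) = u x :=
    congrArg (fun f : Λ →+* S ⧸ RingHom.ker σ => f x) hτ
  have h2 := congrArg (RingHom.quotientKerEquivOfSurjective hσ) h1
  rw [RingHom.quotientKerEquivOfSurjective_apply_mk] at h2
  rw [RingHom.comp_apply, h2]
  change (RingHom.quotientKerEquivOfSurjective hσ)
    ((RingHom.quotientKerEquivOfSurjective hσ).symm (φ₀ x)) = φ₀ x
  rw [RingEquiv.apply_symm_apply]

/-- base case, fields. -/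
theorem Fac.of_isField (hΛ : IsField Λ) (hΛ' : IsField Λ') (v' : Λ' →+* B)
    (hv' : Function.Surjective ((residue B).comp v'))
    (hW : LiftSq.{u, u} Λ (maximalIdeal Λ)) (φ₀ : Λ →+* B) : Fac Λ' Λ φ₀ := by
  have hm0 : maximalIdeal Λ = ⊥ := (IsLocalRing.isField_iff_maximalIdeal_eq).mp hΛ
  obtain ⟨m, σ, τ, hσ, hcomp⟩ := exists_lift_base v' hv' hW φ₀ (by
    intro x hx
    rw [hm0, Ideal.mem_bot] at hx
    rw [hx, map_zero]
    exact zero_mem _)
  refine ⟨m, σ, τ, MvPowerSeries (Fin m) Λ', inferInstance, RingHom.id _, hσ, hcomp,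
    RingHom.Flat.of_isField hΛ τ, Function.surjective_id, ?_, ?_⟩
  · rw [hm0, Ideal.map_bot]
    ext x
    simp [RingHom.mem_ker]
  · letI := hΛ'.toField
    haveI : IsRegularLocalRing (MvPowerSeries (Fin m) Λ') :=
      isRegularLocalRing_mvPowerSeries Λ' m
    exact Groth.Agent.Lib.Helper15.CompleteUCat.isRegularRing_of_isRegularLocalRing _

/-- base case, Cohen rings. -/
theorem Fac.of_cohenRing [IsDomain Λ] [IsDiscreteValuationRing Λ]
    [IsAdicComplete (maximalIdeal Λ) Λ] [IsDomain Λ'] [IsDiscreteValuationRing Λ']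
    (p : ℕ) (hp : p.Prime) (hm : maximalIdeal Λ = Ideal.span {(p : Λ)})
    (hm' : maximalIdeal Λ' = Ideal.span {(p : Λ')}) (v' : Λ' →+* B)
    (hv' : Function.Surjective ((residue B).comp v')) (φ₀ : Λ →+* B)
    (hpB : (p : B) ∈ maximalIdeal B) : Fac Λ' Λ φ₀ := by
  classical
  have hW : LiftSq.{u, u} Λ (maximalIdeal Λ) := liftSq_cohenRing Λ p hp hm
  obtain ⟨m, σ, τ, hσ, hcomp⟩ := exists_lift_base v' hv' hW φ₀ (by
    intro x hx
    rw [hm] at hx
    obtain ⟨y, rfl⟩ := Ideal.mem_span_singleton'.mp hx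
    rw [map_mul, map_natCast]
    exact Ideal.mul_mem_left _ _ hpB)
  let S := MvPowerSeries (Fin m) Λ'
  have hτp : τ (p : Λ) = (p : S) := map_natCast τ p
  have hpS : (C (p : Λ') : S) = (p : S) := map_natCast C p
  have hpmS : (p : S) ∈ maximalIdeal S := by
    rw [Groth.Agent.Lib.Helper76.PSCRing.mem_maximalIdeal_iff, ← hpS, constantCoeff_C, hm']
    exact Ideal.mem_span_singleton_self _
  have hpK0 : (p : Λ') ≠ 0 := by
    intro h0
    apply IsDiscreteValuationRing.not_a_field Λ'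
    rw [hm', h0, Ideal.span_singleton_eq_bot]
  have hpS0 : (p : S) ≠ 0 := by
    rw [← hpS]
    intro h0
    apply hpK0
    have := congrArg (constantCoeff (σ := Fin m) (R := Λ')) h0
    rwa [constantCoeff_C, map_zero] at this
  let π : S →+* MvPowerSeries (Fin m) (ResidueField Λ') := MvPowerSeries.map (residue Λ')
  have hπ : Function.Surjective π := map_surjective_of_surjective _ residue_surjective
  have hkπ : RingHom.ker π = Ideal.span {(p : S)} := by
    rw [← hpS]
    refine ker_map_eq_span (residue Λ') (p : Λ') ?_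
    rw [IsLocalRing.ker_residue, hm']
  refine ⟨m, σ, τ, MvPowerSeries (Fin m) (ResidueField Λ'), inferInstance, π, hσ, hcomp, ?_, hπ,
    ?_, ?_⟩
  · letI : Algebra Λ S := τ.toAlgebra
    change Module.Flat Λ S
    have halg : algebraMap Λ S (p : Λ) = (p : S) := hτp
    refine Groth.Agent.Lib.Helper15.RegFlat.flat_of_isSMulRegular_of_flat_quotient (R := Λ)
      (S := S) (M := S) (p : Λ) ?_ ?_ ?_
    · rw [IsLocalRing.jacobson_eq_maximalIdeal ⊥ bot_ne_top, halg]
      exact hpmS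
    · intro a b hab
      simp only [Algebra.smul_def, halg] at hab
      exact mul_left_cancel₀ hpS0 hab
    · haveI : (Ideal.span {(p : Λ)}).IsMaximal := hm ▸ maximalIdeal.isMaximal Λ
      letI := Ideal.Quotient.field (Ideal.span {(p : Λ)})
      infer_instance
  · rw [hkπ, hm, Ideal.map_span, Set.image_singleton, hτp]
  · haveI : IsRegularLocalRing (MvPowerSeries (Fin m) (ResidueField Λ')) :=
      isRegularLocalRing_mvPowerSeries (ResidueField Λ') m
    exact Groth.Agent.Lib.Helper15.CompleteUCat.isRegularRing_of_isRegularLocalRing _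

end Base

end Groth.Agent.Lib.Helper15.CohenFac
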