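import Mathlib
import Groth.Agent.S2053
import Groth.Agent.Lib.Helper15.CohenFac

/-!
# Cohen factorizations (Avramov–Foxby–Herzog): `A → A' → B` with `A → A'` flat with regular
closed fibre, `A' → B` surjective, `A'` complete.
-/

set_option linter.style.haveILetI false
set_option linter.unusedSectionVars false
set_option linter.overlappingInstances false
set_option autoImplicit false

universe u

namespace Groth.Agent.Lib.Helper15.CohenFac

open IsLocalRing Groth.Agent.Lib.Helper15.FlatLift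

theorem map_maximalIdeal_of_surjective {P A : Type*} [CommRing P] [CommRing A] [IsLocalRing P]
    [IsLocalRing A] (ρ : P →+* A) (hρ : Function.Surjective ρ) :
    (maximalIdeal P).map ρ = maximalIdeal A := by
  have hmax : ((maximalIdeal P).map ρ).IsMaximal :=
    Ideal.IsMaximal.map_of_surjective_of_ker_le hρ
      (IsLocalRing.le_maximalIdeal (RingHom.ker_ne_top ρ))
  exact IsLocalRing.eq_maximalIdeal hmax

/-- **Cohen factorization.** -/
theorem exists_cohen_factorization {A B : Type u} [CommRing A] [CommRing B]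
    [IsLocalRing A] [IsLocalRing B] [IsNoetherianRing A] [IsNoetherianRing B]
    [IsAdicComplete (maximalIdeal A) A] [IsAdicComplete (maximalIdeal B) B]
    (α : A →+* B) [IsLocalHom α] :
    ∃ (A' : Type u) (_ : CommRing A') (_ : IsLocalRing A') (_ : IsNoetherianRing A')
      (g : A →+* A') (s : A' →+* B),
      IsAdicComplete (maximalIdeal A') A' ∧ g.Flat ∧ IsLocalHom g ∧ Function.Surjective s ∧
        s.comp g = α ∧ IsRegularLocalRing (A' ⧸ (maximalIdeal A).map g) := by
  classical
  letI : Algebra A B := α.toAlgebra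
  haveI : IsLocalHom (algebraMap A B) := ‹IsLocalHom α›
  obtain ⟨Λ, Λ', _, _, _, n, m, ρ, σ, τ, hΛ, hρ, hσ, hcomp, hfl, hreg⟩ :=
    Groth.Agent.S2053.result (A := A) (B := B)
  have hcomp' : ∀ x, σ (τ x) = α (ρ x) := fun x =>
    congrArg (fun f : MvPowerSeries (Fin n) Λ →+* B => f x) hcomp
  -- instances on Λ'
  have hΛ' : IsField Λ' ∨ CAlg.IsCohenRing Λ' := by
    rcases hΛ with ⟨-, -, h⟩ | ⟨-, -, h⟩
    · exact Or.inl h
    · exact Or.inr h
  haveI hloc' : IsLocalRing Λ' := by
    rcases hΛ' with h | ⟨hdom, hdvr, -⟩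
    · letI := h.toField
      infer_instance
    · infer_instance
  haveI hnoeth' : IsNoetherianRing Λ' := by
    rcases hΛ' with h | ⟨hdom, hdvr, -⟩
    · letI := h.toField
      infer_instance
    · infer_instance
  haveI hcompl' : IsAdicComplete (maximalIdeal Λ') Λ' := by
    rcases hΛ' with h | ⟨hdom, hdvr, hc, -⟩
    · rw [(IsLocalRing.isField_iff_maximalIdeal_eq).mp h]
      infer_instance
    · exact hc
  let P := MvPowerSeries (Fin n) Λ
  let S := MvPowerSeries (Fin m) Λ'
  letI : Algebra P S := τ.toAlgebra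
  haveI : Module.Flat P S := hfl
  let I : Ideal P := RingHom.ker ρ
  set J : Ideal S := I.map (algebraMap P S) with hJ
  have hJσ : J ≤ RingHom.ker σ := by
    rw [hJ, Ideal.map_le_iff_le_comap]
    intro x hx
    rw [Ideal.mem_comap, RingHom.mem_ker]
    change σ (τ x) = 0
    rw [hcomp']
    have : ρ x = 0 := hx
    rw [this, map_zero]
  have hJne : J ≠ ⊤ := fun h => RingHom.ker_ne_top σ (top_le_iff.mp (h ▸ hJσ))
  haveI : Nontrivial (S ⧸ J) := Ideal.Quotient.nontrivial_iff.mpr hJne
  haveI : IsLocalRing (S ⧸ J) :=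
    IsLocalRing.of_surjective' (Ideal.Quotient.mk J) Ideal.Quotient.mk_surjective
  have hmSJ := maximalIdeal_quotient_eq J hJne
  have hcompl : IsAdicComplete (maximalIdeal (S ⧸ J)) (S ⧸ J) := by
    rw [hmSJ]
    exact Groth.Agent.Lib.Helper83.isAdicComplete_quotient_of_isNoetherianRing _ J
  let g₀ : P ⧸ I →+* S ⧸ J := Ideal.quotientMap J (algebraMap P S) Ideal.le_comap_map
  have hg₀fl : g₀.Flat := Groth.Agent.Lib.Helper15.FlatQuot.flat_quot (S := S) I
  let e : P ⧸ I ≃+* A := RingHom.quotientKerEquivOfSurjective hρ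
  let g : A →+* S ⧸ J := g₀.comp (e.symm : A →+* P ⧸ I)
  have hgρ : ∀ x : P, g (ρ x) = Ideal.Quotient.mk J (τ x) := by
    intro x
    change g₀ (e.symm (ρ x)) = _
    rw [RingHom.quotientKerEquivOfSurjective_symm_apply hρ x]
    exact Ideal.quotientMap_mk
  let s : S ⧸ J →+* B := Ideal.Quotient.lift J σ (fun a ha => hJσ ha)
  have hsg : s.comp g = α := by
    ext a : 1
    obtain ⟨x, rfl⟩ := hρ a
    rw [RingHom.comp_apply, hgρ]
    change σ (τ x) = _
    exact hcomp' x
  have hmA : (maximalIdeal P).map ρ = maximalIdeal A := map_maximalIdeal_of_surjective ρ hρ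
  have hmapg : (maximalIdeal A).map g =
      ((maximalIdeal P).map (algebraMap P S)).map (Ideal.Quotient.mk J) := by
    rw [← hmA, Ideal.map_map, Ideal.map_map]
    congr 1
    ext x : 1
    exact hgρ x
  have hIle : I ≤ maximalIdeal P := IsLocalRing.le_maximalIdeal (RingHom.ker_ne_top ρ)
  refine ⟨S ⧸ J, inferInstance, inferInstance, inferInstance, g, s, hcompl, ?_, ?_, ?_, hsg, ?_⟩
  · exact RingHom.Flat.comp (RingHom.Flat.of_bijective e.symm.bijective) hg₀fl
  · refine ⟨fun a ha => ?_⟩
    have h1 : IsUnit (s (g a)) := ha.map s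
    have h2 : s (g a) = α a := congrArg (fun f : A →+* B => f a) hsg
    rw [h2] at h1
    exact isUnit_of_map_unit α a h1
  · exact Ideal.Quotient.lift_surjective_of_surjective J _ hσ
  · rw [hmapg]
    let 𝔪 : Ideal S := (maximalIdeal P).map (algebraMap P S)
    have hJ𝔪 : J ≤ 𝔪 := Ideal.map_mono hIle
    let e1 : (S ⧸ J) ⧸ 𝔪.map (Ideal.Quotient.mk J) ≃+* S ⧸ 𝔪 :=
      (DoubleQuot.quotQuotEquivQuotSup J 𝔪).trans
        (Ideal.quotEquivOfEq (sup_eq_right.mpr hJ𝔪))
    haveI : IsRegularRing (S ⧸ 𝔪) := hreg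
    haveI : IsRegularRing ((S ⧸ J) ⧸ 𝔪.map (Ideal.Quotient.mk J)) :=
      IsRegularRing.of_ringEquiv e1.symm
    have hne : 𝔪.map (Ideal.Quotient.mk J) ≠ ⊤ := by
      rw [← hmapg]
      intro h
      have h1 : (maximalIdeal A).map g ≤ maximalIdeal (S ⧸ J) := by
        rw [Ideal.map_le_iff_le_comap]
        intro a ha
        rw [Ideal.mem_comap, mem_maximalIdeal, mem_nonunits_iff]
        intro hu
        have h1 : IsUnit (s (g a)) := hu.map s
        have h2 : s (g a) = α a := congrArg (fun f : A →+* B => f a) hsg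
        rw [h2] at h1
        exact (mem_maximalIdeal a).mp ha (isUnit_of_map_unit α a h1)
      rw [h] at h1
      exact (maximalIdeal.isMaximal (S ⧸ J)).ne_top (top_le_iff.mp h1)
    haveI : Nontrivial ((S ⧸ J) ⧸ 𝔪.map (Ideal.Quotient.mk J)) :=
      Ideal.Quotient.nontrivial_iff.mpr hne
    haveI : IsLocalRing ((S ⧸ J) ⧸ 𝔪.map (Ideal.Quotient.mk J)) :=
      IsLocalRing.of_surjective' (Ideal.Quotient.mk _) Ideal.Quotient.mk_surjective
    exact IsRegularLocalRing.of_isRegularRing_of_isLocalRing _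

end Groth.Agent.Lib.Helper15.CohenFac
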