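import Mathlib
import Groth.Agent.Lib.Helper15.CohenFac2
import Groth.Agent.Lib.Helper29.FlatRegular
import Groth.Agent.Lib.Helper29.RegSeqPow
import Groth.Agent.Lib.Helper83.RegQuot
import Groth.Agent.Lib.Helper29.Linkage4
import Groth.Agent.S0342

/-!
# Artinian Cohen factorization with Gorenstein closed fibre
-/

set_option linter.style.haveILetI false
set_option linter.unusedSectionVars false
set_option linter.overlappingInstances false
set_option autoImplicit false

universe u

namespace Groth.Agent.Lib.Helper15.CohenFac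

open IsLocalRing RingTheory.Sequence

theorem exists_artinian_factorization (R S : Type u) [CommRing R] [CommRing S]
    [IsArtinianRing R] [IsLocalRing R] [IsArtinianRing S] [IsLocalRing S] [Algebra R S]
    [IsLocalHom (algebraMap R S)] :
    ∃ (R' : Type u) (_ : CommRing R') (_ : Algebra R R'), IsArtinianRing R' ∧ IsLocalRing R' ∧
      Module.Flat R R' ∧ IsLocalHom (algebraMap R R') ∧
      LocCoh.IsGorensteinLocalRing (R' ⧸ (IsLocalRing.maximalIdeal R).map (algebraMap R R')) ∧
      ∃ g : R' →ₐ[R] S, Function.Surjective g := by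
  classical
  let α : R →+* S := algebraMap R S
  obtain ⟨A', _, _, _, g, s, hc, hfl, hloc, hs, hsg, hregF⟩ := exists_cohen_factorization α
  have hsg' : ∀ a, s (g a) = α a := fun a => congrArg (fun f : R →+* S => f a) hsg
  letI : Algebra R A' := g.toAlgebra
  haveI : Module.Flat R A' := hfl
  haveI : IsLocalHom (algebraMap R A') := hloc
  set 𝔪 : Ideal A' := (maximalIdeal R).map (algebraMap R A') with h𝔪
  let F := A' ⧸ 𝔪
  haveI : IsRegularLocalRing F := hregF
  haveI : IsRegularLocalRing (F ⧸ maximalIdeal F) :=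
    (inferInstance : IsRegularLocalRing (ResidueField F))
  obtain ⟨rs, hrs, hof⟩ :=
    Groth.Agent.Lib.Helper83.RegQuot.exists_isRegular_of_isRegularLocalRing_quotient (maximalIdeal F)
  let d := rs.length
  let f : Fin d → F := rs.get
  have hrsf : rs = List.ofFn f := (List.ofFn_get rs).symm
  have hfm : ∀ i, f i ∈ maximalIdeal F := by
    intro i
    rw [← hof]
    exact Ideal.subset_span (List.get_mem rs i)
  choose y hy using fun i => Ideal.Quotient.mk_surjective (I := 𝔪) (f i)
  have hym : ∀ i, y i ∈ maximalIdeal A' := by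
    intro i
    rw [mem_maximalIdeal, mem_nonunits_iff]
    intro hu
    have h1 : IsUnit (f i) := hy i ▸ hu.map (Ideal.Quotient.mk 𝔪)
    exact (mem_maximalIdeal _).mp (hfm i) h1
  -- nilpotency in `S`
  obtain ⟨N, hN⟩ := (isArtinianRing_iff_isNilpotent_maximalIdeal S).mp inferInstance
  have hms : (maximalIdeal A').map s = maximalIdeal S := map_maximalIdeal_of_surjective s hs
  let z : Fin d → A' := fun i => y i ^ (N + 1)
  have hsz : ∀ i, s (z i) = 0 := by
    intro i
    have h1 : s (y i) ∈ maximalIdeal S := by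
      rw [← hms]; exact Ideal.mem_map_of_mem s (hym i)
    have h2 : s (y i) ^ (N + 1) ∈ maximalIdeal S ^ N :=
      Ideal.pow_le_pow_right (Nat.le_succ N) (Ideal.pow_mem_pow h1 (N + 1))
    rw [hN] at h2
    change s (y i ^ (N + 1)) = 0
    rw [map_pow]
    exact h2
  let zs : List A' := List.ofFn z
  let Z : Ideal A' := Ideal.ofList zs
  have hZs : Z ≤ RingHom.ker s := by
    rw [Ideal.span_le]
    intro x hx
    obtain ⟨i, rfl⟩ := (List.mem_ofFn' z x).mp hx
    exact hsz i
  let ws : List F := List.ofFn fun i => f i ^ (N + 1)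
  have hws : IsWeaklyRegular F ws :=
    Groth.Agent.Lib.Helper29.isWeaklyRegular_ofFn_pow d f (fun _ => N + 1) (fun _ => by omega)
      (hrsf ▸ hrs.toIsWeaklyRegular)
  have hzsmap : zs.map (algebraMap A' F) = ws := by
    change (List.ofFn z).map (Ideal.Quotient.mk 𝔪) = _
    rw [List.map_ofFn]
    congr 1
    funext i
    change Ideal.Quotient.mk 𝔪 (y i ^ (N + 1)) = f i ^ (N + 1)
    rw [map_pow, hy]
  have hZmap : Z.map (Ideal.Quotient.mk 𝔪) = Ideal.ofList ws := by
    rw [Ideal.map_ofList]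
    exact congrArg Ideal.ofList hzsmap
  -- flatness
  have hfib : IsWeaklyRegular (A' ⧸ (𝔪 • (⊤ : Submodule A' A'))) zs := by
    have h1 : IsWeaklyRegular F zs :=
      (isWeaklyRegular_map_algebraMap_iff F F zs).mp (hzsmap ▸ hws)
    have e : F ≃ₗ[A'] (A' ⧸ (𝔪 • (⊤ : Submodule A' A'))) :=
      Submodule.quotEquivOfEq _ _ (by simp)
    exact (e.isWeaklyRegular_congr zs).mp h1
  obtain ⟨-, hflat⟩ := Groth.Agent.Lib.Helper29.FlatRegular.isWeaklyRegular_and_flat_of_fibre
    R A' zs A' hfib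
  have hflat' : Module.Flat R (A' ⧸ (Ideal.ofList zs • (⊤ : Submodule A' A'))) := by
    have := hflat zs.length le_rfl
    rwa [List.take_length] at this
  let R' := A' ⧸ Z
  have hflatR' : Module.Flat R R' := by
    have e : (A' ⧸ (Ideal.ofList zs • (⊤ : Submodule A' A'))) ≃ₗ[A'] R' :=
      Submodule.quotEquivOfEq _ _ (by simp [Z])
    exact Module.Flat.of_linearEquiv (e.restrictScalars R).symm
  have hZne : Z ≠ ⊤ := fun h => RingHom.ker_ne_top s (top_le_iff.mp (h ▸ hZs))
  haveI : Nontrivial R' := Ideal.Quotient.nontrivial_iff.mpr hZne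
  haveI hlocR' : IsLocalRing R' :=
    IsLocalRing.of_surjective' (Ideal.Quotient.mk Z) Ideal.Quotient.mk_surjective
  let s' : R' →+* S := Ideal.Quotient.lift Z s (fun a ha => hZs ha)
  have hs'mk : ∀ a : A', s' (Ideal.Quotient.mk Z a) = s a := fun a => rfl
  have halg : ∀ a : R, algebraMap R R' a = Ideal.Quotient.mk Z (g a) := fun a => rfl
  have hlocalg : IsLocalHom (algebraMap R R') := by
    refine ⟨fun a ha => ?_⟩
    have h1 : IsUnit (s' (algebraMap R R' a)) := ha.map s'
    rw [halg, hs'mk, hsg'] at h1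
    exact isUnit_of_map_unit α a h1
  -- the ideal `𝔫 = 𝔪 R'`
  have h𝔫 : (maximalIdeal R).map (algebraMap R R') = 𝔪.map (Ideal.Quotient.mk Z) := by
    rw [h𝔪, Ideal.map_map]
    rfl
  -- Gorenstein fibre
  have hgor : LocCoh.IsGorensteinLocalRing
      (R' ⧸ (maximalIdeal R).map (algebraMap R R')) := by
    have hF : LocCoh.IsGorensteinLocalRing F := Groth.Agent.S0342.result F
    have hmem : ∀ w ∈ ws, w ∈ maximalIdeal F := by
      intro w hw
      obtain ⟨i, rfl⟩ := (List.mem_ofFn' _ w).mp hw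
      exact Ideal.pow_mem_of_mem _ (hfm i) _ (Nat.succ_pos N)
    have h1 : LocCoh.IsGorensteinLocalRing (F ⧸ Ideal.ofList ws) :=
      (Groth.Agent.Lib.Helper29.Linkage.gorenstein_iff_quotient_ofList ws.length F ws rfl hws hmem).mp hF
    let e2 : (A' ⧸ 𝔪) ⧸ Z.map (Ideal.Quotient.mk 𝔪) ≃+* (A' ⧸ Z) ⧸ 𝔪.map (Ideal.Quotient.mk Z) :=
      DoubleQuot.quotQuotEquivComm 𝔪 Z
    let e3 : F ⧸ Ideal.ofList ws ≃+* R' ⧸ (maximalIdeal R).map (algebraMap R R') :=
      (Ideal.quotEquivOfEq hZmap.symm).trans (e2.trans (Ideal.quotEquivOfEq h𝔫.symm))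
    exact Groth.Agent.Lib.Helper33.GorTransfer.gorenstein_of_ringEquiv e3 h1
  -- Artinian
  have hart : IsArtinianRing R' := by
    rw [isArtinianRing_iff_isNilpotent_maximalIdeal,
      Ideal.FG.isNilpotent_iff_le_nilradical (IsNoetherian.noetherian _)]
    obtain ⟨b, hb⟩ := (isArtinianRing_iff_isNilpotent_maximalIdeal R).mp inferInstance
    have h𝔫nil : ((maximalIdeal R).map (algebraMap R R')) ^ b = ⊥ := by
      rw [← Ideal.map_pow, hb, Ideal.zero_eq_bot, Ideal.map_bot]
    intro x' hx'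
    obtain ⟨x, rfl⟩ := Ideal.Quotient.mk_surjective x'
    have hx : x ∈ maximalIdeal A' := by
      rw [mem_maximalIdeal, mem_nonunits_iff]
      intro hu
      exact (mem_maximalIdeal _).mp hx' (hu.map _)
    have h1 : Ideal.Quotient.mk 𝔪 x ∈ maximalIdeal F := by
      rw [mem_maximalIdeal, mem_nonunits_iff]
      intro hu
      have h2 : 𝔪 ≤ maximalIdeal A' := by
        rw [h𝔪, Ideal.map_le_iff_le_comap]
        intro a ha
        rw [Ideal.mem_comap, mem_maximalIdeal, mem_nonunits_iff]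
        exact fun h => (mem_maximalIdeal a).mp ha (isUnit_of_map_unit (algebraMap R A') a h)
      obtain ⟨v, hv⟩ := hu.exists_right_inv
      obtain ⟨v, rfl⟩ := Ideal.Quotient.mk_surjective v
      rw [← map_mul, ← map_one (Ideal.Quotient.mk 𝔪), Ideal.Quotient.eq] at hv
      have h3 : x * v - 1 ∈ maximalIdeal A' := h2 hv
      have h4 : x * v ∈ maximalIdeal A' := Ideal.mul_mem_right _ _ hx
      have h5 : (1 : A') ∈ maximalIdeal A' := by
        have := Ideal.sub_mem _ h4 h3
        simp at this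
      exact (Ideal.ne_top_iff_one _).mp (maximalIdeal.isMaximal A').ne_top h5
    have h2 : maximalIdeal F ≤ (Ideal.ofList ws).radical := by
      rw [← hof, Ideal.span_le]
      intro w hw
      obtain ⟨i, hi⟩ := List.get_of_mem hw
      refine ⟨N + 1, ?_⟩
      rw [← hi]
      exact Ideal.subset_span ((List.mem_ofFn' _ _).mpr ⟨i, rfl⟩)
    obtain ⟨a, ha⟩ := h2 h1
    rw [← hZmap, ← map_pow, Ideal.mem_map_iff_of_surjective _ Ideal.Quotient.mk_surjective] at ha
    obtain ⟨t, ht, hteq⟩ := ha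
    have h3 : t - x ^ a ∈ 𝔪 := Ideal.Quotient.eq.mp hteq
    have h4 : Ideal.Quotient.mk Z (x ^ a) ∈ (maximalIdeal R).map (algebraMap R R') := by
      rw [h𝔫]
      have h5 : Ideal.Quotient.mk Z (x ^ a) = Ideal.Quotient.mk Z (x ^ a - t) := by
        rw [map_sub, Ideal.Quotient.eq_zero_iff_mem.mpr ht, sub_zero]
      rw [h5]
      refine Ideal.mem_map_of_mem _ ?_
      have := Ideal.neg_mem_iff 𝔪 |>.mpr h3
      simpa using this
    have h5 : (Ideal.Quotient.mk Z (x ^ a)) ^ b ∈ ((maximalIdeal R).map (algebraMap R R')) ^ b :=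
      Ideal.pow_mem_pow h4 b
    rw [h𝔫nil, Ideal.mem_bot, map_pow, ← pow_mul] at h5
    exact ⟨a * b, h5⟩
  refine ⟨R', inferInstance, inferInstance, hart, hlocR', hflatR', hlocalg, hgor, ?_⟩
  refine ⟨{ s' with commutes' := fun a => ?_ }, ?_⟩
  · change s' (algebraMap R R' a) = algebraMap R S a
    rw [halg, hs'mk, hsg']
  · exact Ideal.Quotient.lift_surjective_of_surjective Z _ hs

end Groth.Agent.Lib.Helper15.CohenFac
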