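import Mathlib
import Groth.Prelude.Def_FSch3
import Groth.Agent.Lib.Helper15.AdicLift

/-!
# The completion maps `FSch.complMap`: cofinal topologies and finiteness
-/

set_option autoImplicit false
set_option linter.style.haveILetI false

universe u

namespace Groth.Agent.Lib.Helper15.ComplMap

open AdicCompletion

variable {S T : Type u} [CommRing S] [CommRing T]

theorem complMap_compat (I : Ideal S) (K : Ideal T) (g : S →+* T) (h : I.map g ≤ K) :
    ∀ {m n : ℕ} (hle : m ≤ n), (Ideal.Quotient.factorPow K hle).comp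
      ((Ideal.quotientMap (K ^ n) g (FSch.pow_le_comap_pow_of_map_le I K g h n)).comp
        (evalₐ I n).toRingHom) =
      (Ideal.quotientMap (K ^ m) g (FSch.pow_le_comap_pow_of_map_le I K g h m)).comp
        (evalₐ I m).toRingHom := by
  intro m n hle
  apply RingHom.ext
  intro y
  obtain ⟨a, ha⟩ := Ideal.Quotient.mk_surjective (evalₐ I n y)
  have ha' : Ideal.Quotient.mk (I ^ m) a = evalₐ I m y := by
    rw [← Groth.Agent.Lib.Helper15.AdicLift.factor_evalₐ I hle y, ← ha, Ideal.Quotient.factor_mk]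
  show Ideal.Quotient.factorPow K hle (Ideal.quotientMap (K ^ n) g
      (FSch.pow_le_comap_pow_of_map_le I K g h n) (evalₐ I n y)) =
    Ideal.quotientMap (K ^ m) g (FSch.pow_le_comap_pow_of_map_le I K g h m) (evalₐ I m y)
  rw [← ha, ← ha', Ideal.quotientMap_mk, Ideal.quotientMap_mk]
  rfl

theorem evalₐ_complMap (I : Ideal S) (K : Ideal T) (g : S →+* T) (h : I.map g ≤ K) (n : ℕ)
    (x : AdicCompletion I S) :
    evalₐ K n (FSch.complMap I K g h x) =
      Ideal.quotientMap (K ^ n) g (FSch.pow_le_comap_pow_of_map_le I K g h n) (evalₐ I n x) :=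
  evalₐ_liftRingHom K _ (complMap_compat I K g h) n x

theorem evalₐ_complMap_of_mk (I : Ideal S) (K : Ideal T) (g : S →+* T) (h : I.map g ≤ K) (n : ℕ)
    (x : AdicCompletion I S) (a : S) (ha : Ideal.Quotient.mk (I ^ n) a = evalₐ I n x) :
    evalₐ K n (FSch.complMap I K g h x) = Ideal.Quotient.mk (K ^ n) (g a) := by
  rw [evalₐ_complMap, ← ha, Ideal.quotientMap_mk]

/-- If `I ≤ K` and `K ^ k ≤ I` the two adic completions agree. -/
theorem complMap_id_bijective (I K : Ideal S) (h : I.map (RingHom.id S) ≤ K) (k : ℕ)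
    (hk : K ^ k ≤ I) : Function.Bijective (FSch.complMap I K (RingHom.id S) h) := by
  have hk1 : K ^ (k + 1) ≤ I := (Ideal.pow_le_pow_right (Nat.le_succ k)).trans hk
  have hIK : I ≤ K := by simpa using h
  have hpow : ∀ j : ℕ, K ^ (j * (k + 1)) ≤ I ^ j := by
    intro j
    rw [mul_comm, pow_mul]
    exact Ideal.pow_right_mono hk1 j
  constructor
  · rw [injective_iff_map_eq_zero]
    intro x hx
    apply ext_evalₐ
    intro j
    rw [_root_.map_zero]
    have hj : j ≤ j * (k + 1) := Nat.le_mul_of_pos_right j (Nat.succ_pos k)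
    obtain ⟨a, ha⟩ := Ideal.Quotient.mk_surjective (evalₐ I (j * (k + 1)) x)
    have h1 := evalₐ_complMap_of_mk I K (RingHom.id S) h (j * (k + 1)) x a ha
    rw [hx, _root_.map_zero] at h1
    have h2 : a ∈ K ^ (j * (k + 1)) := by
      rw [← Ideal.Quotient.eq_zero_iff_mem]
      exact h1.symm
    rw [← Groth.Agent.Lib.Helper15.AdicLift.factor_evalₐ I hj x, ← ha, Ideal.Quotient.factor_mk,
      Ideal.Quotient.eq_zero_iff_mem]
    exact hpow j h2
  · intro y
    obtain ⟨s, rfl⟩ := AdicCompletion.mk_surjective K S y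
    have hr : IsAdicCauchy I S (fun j => s (j * (k + 1))) := by
      intro i j hij
      have h1 := s.2 (Nat.mul_le_mul_right (k + 1) hij)
      rw [SModEq.sub_mem, smul_eq_mul, Ideal.mul_top] at h1 ⊢
      exact hpow i h1
    let r : AdicCauchySequence I S := ⟨fun j => s (j * (k + 1)), hr⟩
    have hrn : ∀ n, r n = s (n * (k + 1)) := fun _ => rfl
    refine ⟨AdicCompletion.mk I S r, ?_⟩
    apply ext_evalₐ
    intro n
    have e1 : Ideal.Quotient.mk (I ^ n) (s (n * (k + 1))) = evalₐ I n (AdicCompletion.mk I S r) := by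
      rw [evalₐ_mk, hrn]
    rw [evalₐ_complMap_of_mk I K (RingHom.id S) h n _ (s (n * (k + 1))) e1,
      evalₐ_mk, RingHom.id_apply, Ideal.Quotient.eq]
    have hn : n ≤ n * (k + 1) := Nat.le_mul_of_pos_right n (Nat.succ_pos k)
    have h1 := s.2 hn
    rw [SModEq.sub_mem, smul_eq_mul, Ideal.mul_top] at h1
    rw [← neg_sub]
    exact (K ^ n).neg_mem h1


open IsLocalRing TensorProduct in
/-- The `R`-algebra isomorphism `S ⧸ 𝔪S ≃ κ(𝔪) ⊗ S`. -/
noncomputable def quotEquivFiber (R S : Type u) [CommRing R] [CommRing S] [IsLocalRing R]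
    [Algebra R S] :
    (S ⧸ (maximalIdeal R).map (algebraMap R S)) ≃ₐ[R] (maximalIdeal R).Fiber S :=
  (((Algebra.TensorProduct.quotIdealMapEquivTensorQuot S (maximalIdeal R)).restrictScalars R).trans
    (Algebra.TensorProduct.congr (AlgEquiv.refl : S ≃ₐ[R] S)
      (AlgEquiv.ofBijective
        (IsScalarTower.toAlgHom R (R ⧸ maximalIdeal R) (maximalIdeal R).ResidueField)
        (maximalIdeal R).bijective_algebraMap_quotient_residueField))).trans
    (Algebra.TensorProduct.comm R S (maximalIdeal R).ResidueField)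

open IsLocalRing in
theorem finite_quot (R S : Type u) [CommRing R] [CommRing S] [IsLocalRing R] [Algebra R S]
    (hfib : Module.Finite (maximalIdeal R).ResidueField ((maximalIdeal R).Fiber S)) :
    Module.Finite R (S ⧸ (maximalIdeal R).map (algebraMap R S)) := by
  haveI : Module.Finite R ((maximalIdeal R).Fiber S) :=
    Module.Finite.trans (maximalIdeal R).ResidueField _
  exact Module.Finite.equiv (quotEquivFiber R S).symm.toLinearEquiv

open IsLocalRing in
theorem exists_pow_le (R S : Type u) [CommRing R] [CommRing S] [IsLocalRing R] [IsLocalRing S]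
    [Algebra R S]
    (hfib : Module.Finite (maximalIdeal R).ResidueField ((maximalIdeal R).Fiber S))
    (h : (maximalIdeal R).map (algebraMap R S) ≤ maximalIdeal S) :
    ∃ k, maximalIdeal S ^ k ≤ (maximalIdeal R).map (algebraMap R S) := by
  set I := (maximalIdeal R).map (algebraMap R S) with hI
  haveI : IsArtinianRing ((maximalIdeal R).Fiber S) :=
    IsArtinianRing.of_finite (maximalIdeal R).ResidueField _
  haveI : IsArtinianRing (S ⧸ I) := (quotEquivFiber R S).symm.toRingEquiv.isArtinianRing
  have hne : I ≠ ⊤ := (h.trans_lt (maximalIdeal.isMaximal S).ne_top.lt_top).ne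
  haveI : Nontrivial (S ⧸ I) := Ideal.Quotient.nontrivial_iff.mpr hne
  haveI : IsLocalRing (S ⧸ I) :=
    IsLocalRing.of_surjective' (Ideal.Quotient.mk I) Ideal.Quotient.mk_surjective
  obtain ⟨k, hk⟩ := IsArtinianRing.isNilpotent_jacobson_bot (R := S ⧸ I)
  rw [IsLocalRing.jacobson_eq_maximalIdeal ⊥ bot_ne_top] at hk
  refine ⟨k, ?_⟩
  have hcomap : (maximalIdeal (S ⧸ I)).comap (Ideal.Quotient.mk I) = maximalIdeal S :=
    IsLocalRing.eq_maximalIdeal
      (Ideal.comap_isMaximal_of_surjective (Ideal.Quotient.mk I) Ideal.Quotient.mk_surjective)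
  have h1 : (maximalIdeal S).map (Ideal.Quotient.mk I) ≤ maximalIdeal (S ⧸ I) := by
    rw [Ideal.map_le_iff_le_comap, hcomap]
  have h2 : (maximalIdeal S ^ k).map (Ideal.Quotient.mk I) = ⊥ := by
    rw [Ideal.map_pow, eq_bot_iff, ← Ideal.zero_eq_bot, ← hk]
    exact Ideal.pow_right_mono h1 k
  rw [Ideal.map_eq_bot_iff_le_ker, Ideal.mk_ker] at h2
  exact h2


theorem complMap_comp_id (I : Ideal S) (J K : Ideal T) (g : S →+* T) (h : I.map g ≤ K)
    (h0 : I.map g ≤ J) (h' : J.map (RingHom.id T) ≤ K) :
    FSch.complMap I K g h = (FSch.complMap J K (RingHom.id T) h').comp (FSch.complMap I J g h0) := by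
  apply RingHom.ext
  intro x
  apply ext_evalₐ
  intro j
  obtain ⟨a, ha⟩ := Ideal.Quotient.mk_surjective (evalₐ I j x)
  have h1 := evalₐ_complMap_of_mk I J g h0 j x a ha
  rw [evalₐ_complMap_of_mk I K g h j x a ha, RingHom.comp_apply,
    evalₐ_complMap_of_mk J K (RingHom.id T) h' j _ (g a) h1.symm, RingHom.id_apply]

open IsLocalRing in
/-- The completion map `R^ → S^` (for the `𝔪S`-adic topology on `S`) is finite when the closed
fibre is finite. -/
theorem finite_complMap_map (R S : Type u) [CommRing R] [CommRing S] [IsLocalRing R] [Algebra R S]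
    (hm : (maximalIdeal R).FG)
    (hfib : Module.Finite (maximalIdeal R).ResidueField ((maximalIdeal R).Fiber S)) :
    (FSch.complMap (maximalIdeal R) ((maximalIdeal R).map (algebraMap R S)) (algebraMap R S)
      le_rfl).Finite := by
  set I := (maximalIdeal R).map (algebraMap R S) with hI
  let φ : AdicCompletion (maximalIdeal R) R →ₐ[R] AdicCompletion I S :=
    { FSch.complMap (maximalIdeal R) I (algebraMap R S) le_rfl with
      commutes' := by
        intro r
        apply ext_evalₐ
        intro j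
        show evalₐ I j (FSch.complMap (maximalIdeal R) I (algebraMap R S) le_rfl
          (algebraMap R (AdicCompletion (maximalIdeal R) R) r)) =
          evalₐ I j (algebraMap R (AdicCompletion I S) r)
        rw [evalₐ_complMap_of_mk (maximalIdeal R) I (algebraMap R S) le_rfl j _ r
          (by rw [AdicCompletion.algebraMap_apply, evalₐ_of]; rfl),
          AdicCompletion.algebraMap_apply, evalₐ_of] }
  let φ₀ : (R ⧸ maximalIdeal R) →ₐ[R] (S ⧸ I) :=
    Ideal.quotientMapₐ I (Algebra.ofId R S) Ideal.le_comap_map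
  have hφ₀ : φ₀.toRingHom.Finite := by
    letI := φ₀.toRingHom.toAlgebra
    show Module.Finite (R ⧸ maximalIdeal R) (S ⧸ I)
    haveI : IsScalarTower R (R ⧸ maximalIdeal R) (S ⧸ I) :=
      IsScalarTower.of_algebraMap_eq (fun r => rfl)
    haveI := finite_quot R S hfib
    exact Module.Finite.of_restrictScalars_finite R (R ⧸ maximalIdeal R) (S ⧸ I)
  have hφ : ∀ x, evalOneₐ I (φ x) = φ₀ (evalOneₐ (maximalIdeal R) x) := by
    intro x
    obtain ⟨a, ha⟩ := Ideal.Quotient.mk_surjective (evalₐ (maximalIdeal R) 1 x)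
    have h1 : evalOneₐ (maximalIdeal R) x = Ideal.Quotient.mk (maximalIdeal R) a := by
      rw [← factorₐ_evalₐ_one, ← ha, Ideal.Quotient.factor_mk]
    have h2 := evalₐ_complMap_of_mk (maximalIdeal R) I (algebraMap R S) le_rfl 1 x a ha
    rw [h1, ← factorₐ_evalₐ_one]
    show Ideal.Quotient.factor _ (evalₐ I 1 (FSch.complMap (maximalIdeal R) I (algebraMap R S)
      le_rfl x)) = _
    rw [h2, Ideal.Quotient.factor_mk]
    rfl
  exact Groth.Agent.Lib.Helper15.AdicLift.finite_of_lift R (maximalIdeal R) R S (maximalIdeal R) I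
    (by rw [Algebra.algebraMap_self, Ideal.map_id]) rfl hm (hm.map _) φ₀ hφ₀ φ hφ

open IsLocalRing in
theorem finite_complMap (R S : Type u) [CommRing R] [CommRing S] [IsLocalRing R] [IsLocalRing S]
    [Algebra R S] (hm : (maximalIdeal R).FG)
    (hfib : Module.Finite (maximalIdeal R).ResidueField ((maximalIdeal R).Fiber S))
    (h : (maximalIdeal R).map (algebraMap R S) ≤ maximalIdeal S)
    (h' : ((maximalIdeal R).map (algebraMap R S)).map (RingHom.id S) ≤ maximalIdeal S) :
    Function.Bijective (FSch.complMap ((maximalIdeal R).map (algebraMap R S)) (maximalIdeal S)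
      (RingHom.id S) h') ∧
    (FSch.complMap (maximalIdeal R) (maximalIdeal S) (algebraMap R S) h).Finite := by
  obtain ⟨k, hk⟩ := exists_pow_le R S hfib h
  have hbij := complMap_id_bijective _ _ h' k hk
  refine ⟨hbij, ?_⟩
  rw [complMap_comp_id (maximalIdeal R) ((maximalIdeal R).map (algebraMap R S)) (maximalIdeal S)
    (algebraMap R S) h le_rfl h']
  exact RingHom.Finite.comp (RingHom.Finite.of_surjective _ hbij.surjective)
    (finite_complMap_map R S hm hfib)

end Groth.Agent.Lib.Helper15.ComplMap
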