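import Mathlib
import Groth.Agent.Lib.Helper16.FinHopfTruncGen

/-!
# Auxiliary lemmas for the structure of connected finite flat group schemes over a complete DVR
(helper15)

* `linearIndependent_truncMonG`: the monomials with exponents `< n i` are linearly independent in
  `k[X]/(X_i^{n_i})`, hence form a basis `truncBasis`.
* `mem_span_X_pow_of_coeff_eq_zero`: formal division in a power series ring by the powers
  `X_i^{q_i}`.
* `isAdicComplete_of_le_of_pow_le`: adic completeness only depends on the topology.
-/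

set_option autoImplicit false

namespace Groth.Agent.Lib.Helper15.ConnFFAux

open Groth.Agent.Lib.Helper16.FinHopf

universe u

section Trunc

open MvPolynomial

variable {d : ℕ} (n : Fin d → ℕ)

/-- exponent vector as a finsupp -/
noncomputable def fs (α : ∀ i, Fin (n i)) : Fin d →₀ ℕ :=
  Finsupp.equivFunOnFinite.symm (fun i => ((α i : Fin (n i)) : ℕ))

@[simp] lemma fs_apply (α : ∀ i, Fin (n i)) (i : Fin d) : fs n α i = (α i : ℕ) := rfl

lemma fs_injective : Function.Injective (fs n) := by
  intro α β h
  funext i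
  apply Fin.ext
  have := DFunLike.congr_fun h i
  simpa using this

lemma fs_lt (α : ∀ i, Fin (n i)) (i : Fin d) : fs n α i < n i := (α i).2

lemma exists_fs_eq (s : Fin d →₀ ℕ) (hs : ∀ i, s i < n i) : ∃ α, fs n α = s :=
  ⟨fun i => ⟨s i, hs i⟩, by ext i; simp⟩

variable (k : Type u) [CommRing k]

lemma prod_X_pow_eq_monomial (α : ∀ i, Fin (n i)) :
    ∏ i, (X i : MvPolynomial (Fin d) k) ^ ((α i : Fin (n i)) : ℕ) = monomial (fs n α) 1 := by
  rw [MvPolynomial.monomial_eq, Finsupp.prod_fintype _ _ (fun i => pow_zero _)]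
  simp

end Trunc

section TruncField

open MvPolynomial

variable (k : Type u) [Field k] {d : ℕ} (n : Fin d → ℕ)

lemma truncIdealG_eq : truncIdealG k n = Ideal.span ((fun s => monomial s (1 : k)) ''
    (Set.range fun i : Fin d => Finsupp.single i (n i))) := by
  unfold truncIdealG
  congr 1
  ext x
  constructor
  · rintro ⟨i, rfl⟩
    exact ⟨_, ⟨i, rfl⟩, (MvPolynomial.X_pow_eq_monomial).symm⟩
  · rintro ⟨_, ⟨i, rfl⟩, rfl⟩
    exact ⟨i, MvPolynomial.X_pow_eq_monomial⟩

theorem linearIndependent_truncMonG : LinearIndependent k (truncMonG k n) := by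
  classical
  rw [Fintype.linearIndependent_iff]
  intro c hc α
  have h1 : ∑ β, c β • truncMonG k n β =
      Ideal.Quotient.mk (truncIdealG k n) (∑ β, monomial (fs n β) (c β)) := by
    rw [map_sum]
    refine Finset.sum_congr rfl fun β _ => ?_
    rw [truncMonG, prod_X_pow_eq_monomial, ← Ideal.Quotient.mkₐ_eq_mk k, ← map_smul,
      smul_monomial, smul_eq_mul, mul_one]
  rw [h1, Ideal.Quotient.eq_zero_iff_mem, truncIdealG_eq, mem_ideal_span_monomial_image] at hc
  by_contra hne
  have hmem : fs n α ∈ (∑ β, monomial (fs n β) (c β)).support := by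
    rw [mem_support_iff, coeff_sum]
    simp only [coeff_monomial]
    rw [Finset.sum_eq_single α]
    · simpa using hne
    · intro b _ hb
      rw [if_neg]
      exact fun h => hb (fs_injective n h)
    · simp
  obtain ⟨s, ⟨i, rfl⟩, hs⟩ := hc _ hmem
  have h2 := hs i
  simp only [Finsupp.single_eq_same, fs_apply] at h2
  exact absurd (α i).2 (not_lt.2 h2)

/-- The monomial basis of `k[X]/(X_i^{n_i})`. -/
noncomputable def truncBasis : Module.Basis (∀ i, Fin (n i)) k
    (MvPolynomial (Fin d) k ⧸ truncIdealG k n) :=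
  Module.Basis.mk (linearIndependent_truncMonG k n) (span_truncMonG k n).ge

@[simp] lemma truncBasis_apply (α : ∀ i, Fin (n i)) : truncBasis k n α = truncMonG k n α := by
  simp [truncBasis]

end TruncField

section FormalDiv

open MvPowerSeries

variable {σ : Type*} {R : Type*} [CommRing R]

/-- **Formal division** by the powers `X_i ^ q_i`, `i ∈ T`. -/
theorem mem_span_X_pow_of_coeff_eq_zero (q : σ → ℕ) (T : Finset σ) :
    ∀ (s : MvPowerSeries σ R), (∀ d : σ →₀ ℕ, (∀ i ∈ T, d i < q i) → coeff d s = 0) →
      s ∈ Ideal.span ((fun i => (X i : MvPowerSeries σ R) ^ q i) '' (T : Set σ)) := by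
  classical
  induction T using Finset.induction_on with
  | empty =>
    intro s hs
    have : s = 0 := by
      ext d
      rw [hs d (by simp)]
      simp
    rw [this]
    exact Submodule.zero_mem _
  | insert j T hj ih =>
    intro s hs
    let s' : MvPowerSeries σ R := fun d => if q j ≤ d j then coeff d s else 0
    let s'' : MvPowerSeries σ R := fun d => if q j ≤ d j then 0 else coeff d s
    have hs' : ∀ d, coeff d s' = if q j ≤ d j then coeff d s else 0 := fun d => rfl
    have hs'' : ∀ d, coeff d s'' = if q j ≤ d j then 0 else coeff d s := fun d => rfl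
    have hsum : s = s' + s'' := by
      ext d
      rw [map_add, hs', hs'']
      split_ifs <;> simp
    have hsub : ((fun i => (X i : MvPowerSeries σ R) ^ q i) '' (T : Set σ)) ⊆
        ((fun i => (X i : MvPowerSeries σ R) ^ q i) '' ((insert j T : Finset σ) : Set σ)) :=
      Set.image_mono (Finset.coe_subset.2 (Finset.subset_insert _ _))
    rw [hsum]
    refine Submodule.add_mem _ ?_ (Ideal.span_mono hsub (ih s'' ?_))
    · have hdvd : (X j : MvPowerSeries σ R) ^ q j ∣ s' := by
        rw [MvPowerSeries.X_pow_dvd_iff]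
        intro m hm
        rw [hs', if_neg (not_le.2 hm)]
      obtain ⟨t, ht⟩ := hdvd
      rw [ht]
      exact Ideal.mul_mem_right _ _ (Ideal.subset_span ⟨j, by simp, rfl⟩)
    · intro d hd
      rw [hs'']
      split_ifs with h
      · rfl
      · refine hs d fun i hi => ?_
        rcases Finset.mem_insert.1 hi with rfl | hi'
        · exact not_le.1 h
        · exact hd i hi'

theorem mem_span_range_X_pow_of_coeff_eq_zero [Fintype σ] (q : σ → ℕ) (s : MvPowerSeries σ R)
    (hs : ∀ d : σ →₀ ℕ, (∀ i, d i < q i) → coeff d s = 0) :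
    s ∈ Ideal.span (Set.range fun i => (X i : MvPowerSeries σ R) ^ q i) := by
  have := mem_span_X_pow_of_coeff_eq_zero q Finset.univ s (fun d hd => hs d fun i => hd i (by simp))
  rwa [Finset.coe_univ, Set.image_univ] at this

end FormalDiv

section Cofinal

/-- Adic completeness only depends on the topology: if `I ≤ J` and `J ^ N ≤ I`, then `I`-adic
completeness implies `J`-adic completeness. -/
theorem isAdicComplete_of_le_of_pow_le {R : Type*} [CommRing R] (I J : Ideal R) (M : Type*)
    [AddCommGroup M] [Module R M] (hIJ : I ≤ J) (N : ℕ) (hN : J ^ N ≤ I) [IsAdicComplete I M] :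
    IsAdicComplete J M := by
  have hN' : J ^ (N + 1) ≤ I := le_trans (Ideal.pow_le_pow_right (Nat.le_succ N)) hN
  have hpow : ∀ n, (J ^ ((N + 1) * n) • ⊤ : Submodule R M) ≤ I ^ n • ⊤ := fun n => by
    rw [pow_mul]
    exact Submodule.smul_mono (Ideal.pow_right_mono hN' n) le_rfl
  have hpow' : ∀ n, (I ^ n • ⊤ : Submodule R M) ≤ J ^ n • ⊤ := fun n =>
    Submodule.smul_mono (Ideal.pow_right_mono hIJ n) le_rfl
  have hle : ∀ n, n ≤ (N + 1) * n := fun n => Nat.le_mul_of_pos_left n (Nat.succ_pos N)
  refine { haus' := fun x hx => ?_, prec' := fun f hf => ?_ }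
  · refine IsHausdorff.haus (I := I) inferInstance x fun n => ?_
    rw [SModEq.zero]
    have := hx ((N + 1) * n)
    rw [SModEq.zero] at this
    exact hpow n this
  · have hg : ∀ {m n : ℕ}, m ≤ n →
        f ((N + 1) * m) ≡ f ((N + 1) * n) [SMOD (I ^ m • ⊤ : Submodule R M)] := by
      intro m n hmn
      have := hf (Nat.mul_le_mul_left (N + 1) hmn)
      rw [SModEq.sub_mem] at this ⊢
      exact hpow m this
    obtain ⟨L, hL⟩ := IsPrecomplete.prec (I := I) inferInstance hg
    refine ⟨L, fun n => ?_⟩
    have h1 := hf (hle n)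
    have h2 := hL n
    rw [SModEq.sub_mem] at h1 h2 ⊢
    have h3 : f n - L = (f n - f ((N + 1) * n)) + (f ((N + 1) * n) - L) := by abel
    rw [h3]
    exact add_mem h1 (hpow' n h2)

end Cofinal

end Groth.Agent.Lib.Helper15.ConnFFAux
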