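import Mathlib
import Groth.Agent.Lib.Helper15.ConnFFAux
import Groth.Agent.Lib.Helper76.PSComplete
import Groth.Agent.Lib.Helper60.AdicProj

/-!
# Lifting a truncated polynomial presentation of the special fibre (helper15)

`R` a complete DVR with residue field `κ`, `A` a finite flat local `R`-algebra whose special fibre
`κ ⊗ A` is `κ[T]/(T_i^{q_i})`.  Then `A ≅ R[[x]]/(x_i^{q_i} + g_i)` with `g_i` polynomials with
coefficients in the maximal ideal and all exponents `< q`.
-/

set_option autoImplicit false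
set_option linter.style.haveILetI false

namespace Groth.Agent.Lib.Helper15.ConnFF

open Groth.Agent.Lib.Helper16.FinHopf Groth.Agent.Lib.Helper15.ConnFFAux
open Groth.Agent.Lib.Helper76.PSComplete
open TensorProduct IsLocalRing

universe u v

section Complete

variable (R : Type u) [CommRing R] [IsLocalRing R] [IsAdicComplete (maximalIdeal R) R]
  (A : Type v) [CommRing A] [Algebra R A] [Module.Finite R A] [Module.Flat R A] [IsLocalRing A]

/-- `A` is complete for its maximal ideal. -/
theorem isAdicComplete_maximalIdeal [IsLocalRing (ResidueField R ⊗[R] A)]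
    [IsArtinianRing (ResidueField R ⊗[R] A)] :
    IsAdicComplete (maximalIdeal A) A := by
  have : Module.Free R A := Module.free_of_flat_of_isLocalRing
  have : IsAdicComplete (maximalIdeal R) A :=
    Groth.Agent.Lib.Helper60.AdicProj.isAdicComplete_of_finite_projective (maximalIdeal R)
  have h1 : IsAdicComplete ((maximalIdeal R).map (algebraMap R A)) A :=
    (IsAdicComplete.map_algebraMap_iff (maximalIdeal R) A).2 inferInstance
  let ι : A →+* (ResidueField R ⊗[R] A) :=
    (Algebra.TensorProduct.includeRight : A →ₐ[R] (ResidueField R ⊗[R] A)).toRingHom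
  have hιsurj : Function.Surjective ι :=
    TensorProduct.mk_surjective R A (ResidueField R) Ideal.Quotient.mk_surjective
  have hker : RingHom.ker ι = (maximalIdeal R).map (algebraMap R A) := by
    ext x
    have h3 : x ∈ LinearMap.ker (TensorProduct.mk R (R ⧸ maximalIdeal R) A 1) ↔
        x ∈ (maximalIdeal R).map (algebraMap R A) := by
      rw [LinearMap.ker_tensorProductMk, Ideal.smul_top_eq_map]
      rfl
    exact h3
  have hcomap : (maximalIdeal (ResidueField R ⊗[R] A)).comap ι = maximalIdeal A :=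
    IsLocalRing.eq_maximalIdeal (Ideal.comap_isMaximal_of_surjective ι hιsurj)
  obtain ⟨N, hN⟩ : IsNilpotent (maximalIdeal (ResidueField R ⊗[R] A)) := by
    have := IsArtinianRing.isNilpotent_jacobson_bot (R := ResidueField R ⊗[R] A)
    rwa [IsLocalRing.jacobson_eq_maximalIdeal ⊥ bot_ne_top] at this
  have hpow : maximalIdeal A ^ N ≤ (maximalIdeal R).map (algebraMap R A) := by
    rw [← hker, ← hcomap, RingHom.ker_eq_comap_bot]
    refine (Ideal.le_comap_pow ι N).trans ?_
    rw [hN]
    exact le_of_eq rfl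
  have hle : (maximalIdeal R).map (algebraMap R A) ≤ maximalIdeal A := by
    rw [← hker]
    exact IsLocalRing.le_maximalIdeal (RingHom.ker_ne_top ι)
  exact isAdicComplete_of_le_of_pow_le _ _ A hle N hpow

end Complete

section Main

variable (R : Type u) [CommRing R] [IsDomain R] [IsDiscreteValuationRing R]
  [IsAdicComplete (maximalIdeal R) R]
  (A : Type v) [CommRing A] [Algebra R A] [Module.Finite R A] [Module.Flat R A] [IsLocalRing A]

set_option maxHeartbeats 1600000 in
theorem exists_presentation {r : ℕ} (q : Fin r → ℕ)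
    (φ : (ResidueField R ⊗[R] A) ≃ₐ[ResidueField R]
      (MvPolynomial (Fin r) (ResidueField R) ⧸ truncIdealG (ResidueField R) q)) :
    ∃ g : Fin r → MvPolynomial (Fin r) R,
      (∀ i, (∀ d, (g i).coeff d ∈ maximalIdeal R) ∧ ∀ d ∈ (g i).support, ∀ j, d j < q j) ∧
      Nonempty (A ≃ₐ[R] (MvPowerSeries (Fin r) R ⧸ Ideal.span (Set.range fun i =>
        (MvPowerSeries.X i : MvPowerSeries (Fin r) R) ^ q i + ↑(g i)))) := by
  classical
  -- the special fibre
  let ι : A →ₐ[R] (ResidueField R ⊗[R] A) := Algebra.TensorProduct.includeRight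
  have hιsurj : Function.Surjective ι :=
    TensorProduct.mk_surjective R A (ResidueField R) Ideal.Quotient.mk_surjective
  haveI hnt : Nontrivial (ResidueField R ⊗[R] A) := by
    rw [← not_subsingleton_iff_nontrivial, IsLocalRing.subsingleton_tensorProduct (R := R) (M := A)]
    exact not_subsingleton A
  haveI : IsLocalRing (ResidueField R ⊗[R] A) :=
    IsLocalRing.of_surjective' (ι : A →+* (ResidueField R ⊗[R] A)) hιsurj
  haveI : IsArtinianRing (ResidueField R ⊗[R] A) :=
    IsArtinianRing.of_finite (ResidueField R) _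
  haveI hcompl : IsAdicComplete (maximalIdeal A) A := isAdicComplete_maximalIdeal R A
  -- residue-linearity of `ι`
  have hιsmul : ∀ (c : R) (x : A), ι (c • x) = (residue R c) • ι x := by
    intro c x
    rw [map_smul]
    exact (algebraMap_smul (ResidueField R) c (ι x)).symm
  -- the basis of the special fibre
  let bĀ : Module.Basis (∀ i, Fin (q i)) (ResidueField R) (ResidueField R ⊗[R] A) :=
    (truncBasis (ResidueField R) q).map φ.symm.toLinearEquiv
  let t : Fin r → (ResidueField R ⊗[R] A) := fun i =>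
    φ.symm (Ideal.Quotient.mk _ (MvPolynomial.X i))
  have ht : ∀ i, t i ^ q i = 0 := by
    intro i
    have h0 : Ideal.Quotient.mk (truncIdealG (ResidueField R) q)
        ((MvPolynomial.X i : MvPolynomial (Fin r) (ResidueField R)) ^ q i) = 0 :=
      Ideal.Quotient.eq_zero_iff_mem.2 (Ideal.subset_span ⟨i, rfl⟩)
    rw [← map_pow, ← map_pow, h0, map_zero]
  choose a ha using fun i => hιsurj (t i)
  let mon : (∀ i, Fin (q i)) → A := fun α => ∏ i, a i ^ ((α i : Fin (q i)) : ℕ)
  have hmon : ∀ α, ι (mon α) = bĀ α := by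
    intro α
    simp only [mon, bĀ, map_prod, map_pow, ha, t, Module.Basis.map_apply, truncBasis_apply,
      truncMonG, AlgEquiv.toLinearEquiv_apply]
  -- the lifted basis
  have hli : LinearIndependent R mon := by
    refine Module.IsLocalRing.linearIndependent_of_flat mon ?_
    have : (TensorProduct.mk R (ResidueField R) A 1 ∘ mon) = bĀ := by
      funext α
      exact hmon α
    rw [this]
    exact bĀ.linearIndependent
  have hspan : Submodule.span R (Set.range mon) = ⊤ :=
    IsLocalRing.span_eq_top_of_tmul_eq_basis mon bĀ hmon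
  let bA : Module.Basis (∀ i, Fin (q i)) R A := Module.Basis.mk hli hspan.ge
  have hbA : ∀ α, bA α = mon α := fun α => by simp [bA]
  -- coefficients of a relation that dies in the special fibre lie in the maximal ideal
  have hL1 : ∀ c : (∀ i, Fin (q i)) → R, ι (∑ α, c α • mon α) = 0 →
      ∀ α, c α ∈ maximalIdeal R := by
    intro c hc α
    rw [map_sum] at hc
    simp only [hιsmul, hmon] at hc
    have := Fintype.linearIndependent_iff.1 bĀ.linearIndependent _ hc α
    exact (IsLocalRing.residue_eq_zero_iff _).1 this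
  -- the coefficients of `a i ^ q i`
  let c : Fin r → (∀ i, Fin (q i)) → R := fun i α => bA.repr (a i ^ q i) α
  have hc : ∀ i, a i ^ q i = ∑ α, c i α • mon α := by
    intro i
    conv_lhs => rw [← bA.sum_repr (a i ^ q i)]
    simp only [hbA, c]
  have hιa : ∀ i, ι (a i ^ q i) = 0 := by
    intro i
    rw [map_pow, ha, ht]
  have hcm : ∀ i α, c i α ∈ maximalIdeal R := by
    intro i
    refine hL1 (c i) ?_
    rw [← hc, hιa]
  -- the polynomials `g i`
  let g : Fin r → MvPolynomial (Fin r) R := fun i =>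
    ∑ α, MvPolynomial.monomial (fs q α) (-(c i α))
  have hgcoeff : ∀ i d, (g i).coeff d ∈ maximalIdeal R := by
    intro i d
    simp only [g, MvPolynomial.coeff_sum, MvPolynomial.coeff_monomial]
    refine Ideal.sum_mem _ fun α _ => ?_
    split_ifs
    · exact (maximalIdeal R).neg_mem (hcm i α)
    · exact Ideal.zero_mem _
  have hgsupp : ∀ i, ∀ d ∈ (g i).support, ∀ j, d j < q j := by
    intro i d hd j
    rw [MvPolynomial.mem_support_iff] at hd
    simp only [g, MvPolynomial.coeff_sum, MvPolynomial.coeff_monomial] at hd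
    obtain ⟨α, -, hα⟩ := Finset.exists_ne_zero_of_sum_ne_zero hd
    have hαd : fs q α = d := by
      by_contra hne
      exact hα (if_neg hne)
    rw [← hαd]
    exact fs_lt q α j
  refine ⟨g, fun i => ⟨hgcoeff i, hgsupp i⟩, ?_⟩
  -- the evaluation map
  have haM : ∀ i, a i ∈ maximalIdeal A := by
    intro i
    rw [IsLocalRing.mem_maximalIdeal, mem_nonunits_iff]
    intro hu
    have h1 : IsUnit (t i ^ q i) := by
      rw [← ha i]
      exact (hu.map ι).pow _
    rw [ht i] at h1
    exact not_isUnit_zero h1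
  let Ψ : MvPowerSeries (Fin r) R →ₐ[R] A := evC (maximalIdeal A) a haM
  have hΨX : ∀ i, Ψ (MvPowerSeries.X i) = a i := fun i => evC_X _ a haM i
  have hΨcoe : ∀ P : MvPolynomial (Fin r) R, Ψ (P : MvPowerSeries (Fin r) R) =
      MvPolynomial.aeval a P := fun P => evC_coe _ a haM P
  have haeval_mon : ∀ (α : ∀ i, Fin (q i)) (x : R),
      MvPolynomial.aeval a (MvPolynomial.monomial (fs q α) x) = x • mon α := by
    intro α x
    rw [MvPolynomial.aeval_monomial, Finsupp.prod_fintype _ _ (fun i => pow_zero _),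
      Algebra.smul_def]
    rfl
  have hΨf : ∀ i, Ψ ((MvPowerSeries.X i : MvPowerSeries (Fin r) R) ^ q i + ↑(g i)) = 0 := by
    intro i
    rw [map_add, map_pow, hΨX, hΨcoe, hc i]
    simp only [g, map_sum, haeval_mon, neg_smul, Finset.sum_neg_distrib]
    exact add_neg_cancel _
  have hΨmon : ∀ α, Ψ ((MvPolynomial.monomial (fs q α) (1 : R) : MvPolynomial (Fin r) R) :
      MvPowerSeries (Fin r) R) = mon α := by
    intro α
    rw [hΨcoe, haeval_mon, one_smul]
  have hΨsurj : Function.Surjective Ψ := by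
    intro y
    have hy : y ∈ Submodule.span R (Set.range mon) := hspan ▸ Submodule.mem_top
    have hle : Submodule.span R (Set.range mon) ≤ Subalgebra.toSubmodule Ψ.range := by
      rw [Submodule.span_le]
      rintro _ ⟨α, rfl⟩
      exact ⟨_, hΨmon α⟩
    exact hle hy
  -- the kernel of `Ψ`
  obtain ⟨ϖ, hϖ⟩ := IsDiscreteValuationRing.exists_irreducible R
  have hm : maximalIdeal R = Ideal.span {ϖ} := hϖ.maximalIdeal_eq
  let F : Ideal (MvPowerSeries (Fin r) R) := Ideal.span (Set.range fun i =>
    (MvPowerSeries.X i : MvPowerSeries (Fin r) R) ^ q i + ↑(g i))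
  let 𝔭 : Ideal (MvPowerSeries (Fin r) R) := Ideal.span {MvPowerSeries.C ϖ}
  have hFK : F ≤ RingHom.ker Ψ := by
    rw [Ideal.span_le]
    rintro _ ⟨i, rfl⟩
    exact hΨf i
  have h𝔭 : 𝔭 ≤ Ideal.jacobson ⊥ := by
    rw [IsLocalRing.jacobson_eq_maximalIdeal ⊥ bot_ne_top, Ideal.span_le,
      Set.singleton_subset_iff, SetLike.mem_coe, IsLocalRing.mem_maximalIdeal, mem_nonunits_iff,
      MvPowerSeries.isUnit_iff_constantCoeff, MvPowerSeries.constantCoeff_C]
    exact hϖ.not_isUnit
  have hmon𝔭 : ∀ (d : Fin r →₀ ℕ) (x : R), x ∈ maximalIdeal R →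
      MvPowerSeries.monomial d x ∈ 𝔭 := by
    intro d x hx
    rw [hm, Ideal.mem_span_singleton'] at hx
    obtain ⟨y, rfl⟩ := hx
    have : MvPowerSeries.monomial d (y * ϖ) =
        MvPowerSeries.C ϖ * MvPowerSeries.monomial d y := by
      rw [mul_comm y ϖ, ← smul_eq_mul, map_smul, MvPowerSeries.smul_eq_C_mul]
    rw [this]
    exact Ideal.mul_mem_right _ _ (Ideal.mem_span_singleton_self _)
  have hg𝔭 : ∀ i, ((g i : MvPolynomial (Fin r) R) : MvPowerSeries (Fin r) R) ∈ 𝔭 := by
    intro i
    have : ((g i : MvPolynomial (Fin r) R) : MvPowerSeries (Fin r) R) =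
        ∑ α, MvPowerSeries.monomial (fs q α) (-(c i α)) := by
      change MvPolynomial.coeToMvPowerSeries.ringHom (g i) = _
      simp only [g, map_sum]
      refine Finset.sum_congr rfl fun α _ => ?_
      exact MvPolynomial.coe_monomial _ _
    rw [this]
    exact Ideal.sum_mem _ fun α _ => hmon𝔭 _ _ ((maximalIdeal R).neg_mem (hcm i α))
  have hK : RingHom.ker Ψ ≤ F ⊔ 𝔭 • RingHom.ker Ψ := by
    intro h hh
    rw [RingHom.mem_ker] at hh
    let ρ : MvPowerSeries (Fin r) R :=
      ∑ α, MvPowerSeries.monomial (fs q α) (MvPowerSeries.coeff (fs q α) h)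
    have hρcoeff : ∀ d : Fin r →₀ ℕ, (∀ i, d i < q i) → MvPowerSeries.coeff d (h - ρ) = 0 := by
      intro d hd
      obtain ⟨α, rfl⟩ := exists_fs_eq q d hd
      rw [map_sub, sub_eq_zero]
      simp only [ρ, map_sum, MvPowerSeries.coeff_monomial]
      rw [Finset.sum_eq_single α]
      · simp
      · intro β _ hβ
        rw [if_neg]
        exact fun h => hβ (fs_injective q h).symm
      · simp
    have hs := mem_span_range_X_pow_of_coeff_eq_zero q (h - ρ) hρcoeff
    obtain ⟨u, hu⟩ := (Ideal.mem_span_range_iff_exists_fun).1 hs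
    have hΨρ : Ψ ρ = ∑ α, MvPowerSeries.coeff (fs q α) h • mon α := by
      simp only [ρ, map_sum]
      refine Finset.sum_congr rfl fun α _ => ?_
      rw [← MvPolynomial.coe_monomial, hΨcoe, haeval_mon]
    have h1 : ι (Ψ ρ) = 0 := by
      have h2 : ∀ i, ι (Ψ (u i * (MvPowerSeries.X i : MvPowerSeries (Fin r) R) ^ q i)) = 0 := by
        intro i
        rw [map_mul, map_pow, hΨX, map_mul, hιa, mul_zero]
      have : ρ = h - ∑ i, u i * (MvPowerSeries.X i : MvPowerSeries (Fin r) R) ^ q i := by
        rw [hu]; ring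
      rw [this, map_sub, hh, zero_sub, map_neg, neg_eq_zero, map_sum, map_sum]
      exact Finset.sum_eq_zero fun i _ => h2 i
    rw [hΨρ] at h1
    have hcoeffm := hL1 _ h1
    have hρ𝔭 : ρ ∈ 𝔭 := Ideal.sum_mem _ fun α _ => hmon𝔭 _ _ (hcoeffm α)
    have h3 : h - ∑ i, u i * ((MvPowerSeries.X i : MvPowerSeries (Fin r) R) ^ q i + ↑(g i)) ∈ 𝔭 := by
      have : h - ∑ i, u i * ((MvPowerSeries.X i : MvPowerSeries (Fin r) R) ^ q i + ↑(g i)) =
          ρ - ∑ i, u i * ↑(g i) := by
        simp only [mul_add, Finset.sum_add_distrib, hu]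
        ring
      rw [this]
      exact 𝔭.sub_mem hρ𝔭 (Ideal.sum_mem _ fun i _ => Ideal.mul_mem_left _ _ (hg𝔭 i))
    obtain ⟨h', hh'⟩ := Ideal.mem_span_singleton'.1 h3
    have h4 : Ψ h' = 0 := by
      have h5 : Ψ (h' * MvPowerSeries.C ϖ) = 0 := by
        rw [hh', map_sub, hh, map_sum, zero_sub, neg_eq_zero]
        refine Finset.sum_eq_zero fun i _ => ?_
        rw [map_mul, hΨf, mul_zero]
      rw [mul_comm, ← MvPowerSeries.smul_eq_C_mul, map_smul, smul_eq_zero] at h5
      exact h5.resolve_left hϖ.ne_zero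
    have h6 : h = ∑ i, u i * ((MvPowerSeries.X i : MvPowerSeries (Fin r) R) ^ q i + ↑(g i)) +
        (MvPowerSeries.C ϖ : MvPowerSeries (Fin r) R) • h' := by
      rw [smul_eq_mul, mul_comm, hh']
      ring
    rw [h6]
    refine Submodule.add_mem_sup (Ideal.sum_mem _ fun i _ => Ideal.mul_mem_left _ _
      (Ideal.subset_span ⟨i, rfl⟩)) ?_
    exact Submodule.smul_mem_smul (Ideal.mem_span_singleton_self _) (RingHom.mem_ker.2 h4)
  have hKF : RingHom.ker Ψ = F :=
    le_antisymm (Submodule.le_of_le_smul_of_le_jacobson_bot (IsNoetherian.noetherian _) h𝔭 hK) hFK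
  exact ⟨(Ideal.quotientKerAlgEquivOfSurjective hΨsurj).symm.trans
    (Ideal.quotientEquivAlgOfEq R hKF)⟩

end Main

end Groth.Agent.Lib.Helper15.ConnFF
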