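import Mathlib

/-!
# One-dimensional unibranch local domains stay unibranch after completion (helper15)

* `exists_sub_mem_pow`: if `m_E C = m_C` and `E → C/m_C` is onto, then `E → C/m_C^k` is onto.
* `isUnit_of_integral_relation`: an integrality relation over `E` forces a unit in a domain `D ⊇ E`.
* `eq_of_mem_minimalPrimes`: `E` a Noetherian local domain of dimension `≤ 1` whose integral closure
  is local, `E → C` flat local with `C` Noetherian local of dimension `≤ 1`, `m_E C = m_C` and
  `E → C/m_C` onto: then `C` has only one minimal prime.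
-/

set_option autoImplicit false
universe u

namespace Groth.Agent.Lib.Helper15.DimOneBranch

open IsLocalRing

section Approx

variable {E C : Type*} [CommRing E] [IsLocalRing E] [CommRing C] [IsLocalRing C] [Algebra E C]

/-- Approximation modulo powers of the maximal ideal. -/
theorem exists_sub_mem_pow
    (hm : (maximalIdeal E).map (algebraMap E C) = maximalIdeal C)
    (hres : ∀ c : C, ∃ e : E, c - algebraMap E C e ∈ maximalIdeal C) (k : ℕ) (c : C) :
    ∃ e : E, c - algebraMap E C e ∈ maximalIdeal C ^ k := by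
  induction k generalizing c with
  | zero => exact ⟨0, by simp⟩
  | succ k ih =>
    obtain ⟨e, he⟩ := ih c
    have key : ∀ y ∈ maximalIdeal C ^ k, ∃ e ∈ maximalIdeal E ^ k,
        y - algebraMap E C e ∈ maximalIdeal C ^ (k + 1) := by
      intro y hy
      rw [← hm, ← Ideal.map_pow] at hy
      refine Submodule.span_induction (p := fun y _ => ∃ e ∈ maximalIdeal E ^ k,
        y - algebraMap E C e ∈ maximalIdeal C ^ (k + 1)) ?_ ?_ ?_ ?_ hy
      · rintro _ ⟨g, hg, rfl⟩
        exact ⟨g, hg, by simp⟩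
      · exact ⟨0, zero_mem _, by simp⟩
      · rintro y₁ y₂ _ _ ⟨e₁, h₁, h₁'⟩ ⟨e₂, h₂, h₂'⟩
        refine ⟨e₁ + e₂, add_mem h₁ h₂, ?_⟩
        have : y₁ + y₂ - algebraMap E C (e₁ + e₂) =
            (y₁ - algebraMap E C e₁) + (y₂ - algebraMap E C e₂) := by rw [map_add]; ring
        rw [this]; exact add_mem h₁' h₂'
      · rintro c y _ ⟨e₁, h₁, h₁'⟩
        obtain ⟨ec, hec⟩ := hres c
        refine ⟨ec * e₁, Ideal.mul_mem_left _ _ h₁, ?_⟩
        have : c • y - algebraMap E C (ec * e₁) =
            c * (y - algebraMap E C e₁) + (c - algebraMap E C ec) * algebraMap E C e₁ := by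
          rw [map_mul, smul_eq_mul]; ring
        rw [this]
        refine add_mem (Ideal.mul_mem_left _ _ h₁') ?_
        rw [pow_succ']
        refine Ideal.mul_mem_mul hec ?_
        rw [← hm, ← Ideal.map_pow]; exact Ideal.mem_map_of_mem _ h₁
    obtain ⟨e₁, -, he₁⟩ := key _ he
    exact ⟨e + e₁, by rw [map_add, ← sub_sub]; exact he₁⟩

end Approx

section Rel

/-- An integrality relation over `E` forces `t` to become a unit in a domain `D` containing `E`
in which `n = t ^ N * unit`. -/
theorem isUnit_of_integral_relation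
    {E D : Type*} [CommRing E] [IsDomain E] [CommRing D] [IsDomain D] (φ : E →+* D)
    (hφ : Function.Injective φ)
    (n t : E) (ht : t ≠ 0) (b N : ℕ) (w : FractionRing E) (hw : IsIntegral E w)
    (hrel : algebraMap E (FractionRing E) n ^ b =
      algebraMap E (FractionRing E) t ^ (N * b + 1) * w)
    (υ : D) (hυ : IsUnit υ) (hn : φ n = φ t ^ N * υ) : IsUnit (φ t) := by
  classical
  set F := FractionRing D
  set ψ : E →+* F := (algebraMap D F).comp φ with hψdef
  have hψ : Function.Injective ψ := (IsFractionRing.injective D F).comp hφ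
  set ι : FractionRing E →+* F := IsFractionRing.lift hψ with hιdef
  have hι : ∀ e : E, ι (algebraMap E (FractionRing E) e) = ψ e := fun e =>
    IsFractionRing.lift_algebraMap hψ e
  set τ : F := algebraMap D F (φ t) with hτ
  have hτ0 : τ ≠ 0 := by
    intro h
    have : ψ t = 0 := h
    exact ht (hψ (by rw [this, map_zero]))
  -- apply ι to the relation
  have h1 : ψ n ^ b = ψ t ^ (N * b + 1) * ι w := by
    have := congrArg ι hrel
    rwa [map_pow, map_mul, map_pow, hι, hι] at this
  have h2 : ψ n = τ ^ N * algebraMap D F υ := by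
    show algebraMap D F (φ n) = _
    rw [hn, map_mul, map_pow]
  have h3 : (algebraMap D F υ) ^ b = τ * ι w := by
    have h4 : τ ^ (N * b) * (algebraMap D F υ) ^ b = τ ^ (N * b) * (τ * ι w) := by
      have : ψ t = τ := rfl
      rw [h2, this, mul_pow, ← pow_mul] at h1
      rw [h1, pow_succ]; ring
    exact mul_left_cancel₀ (pow_ne_zero _ hτ0) h4
  -- ι w is integral over D
  have hιw : IsIntegral D (ι w) := by
    obtain ⟨p, hpm, hp⟩ := hw
    refine ⟨p.map φ, hpm.map φ, ?_⟩
    rw [Polynomial.eval₂_map]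
    have hcomp : (algebraMap D F).comp φ = ι.comp (algebraMap E (FractionRing E)) := by
      ext e; exact (hι e).symm
    rw [hcomp, ← Polynomial.hom_eval₂, hp, map_zero]
  obtain ⟨υu, rfl⟩ := hυ
  set x : F := ι w * algebraMap D F ((↑υu⁻¹ : D) ^ b) with hx
  have hxint : IsIntegral D x := hιw.mul isIntegral_algebraMap
  have hτx : τ * x = 1 := by
    rw [hx, ← mul_assoc, ← h3, ← map_pow, ← map_mul, ← mul_pow, Units.mul_inv, one_pow, map_one]
  -- lying over
  by_contra hnu
  obtain ⟨P, hPmax, hPt⟩ := exists_max_ideal_of_mem_nonunits hnu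
  let D' := integralClosure D F
  have hinj : Function.Injective (algebraMap D D') := by
    intro a c hac
    have := congrArg (Subtype.val) hac
    exact IsFractionRing.injective D F this
  have hker : RingHom.ker (algebraMap D D') ≤ P := by
    rw [(RingHom.injective_iff_ker_eq_bot _).1 hinj]; exact bot_le
  obtain ⟨Q, hQmax, hQP⟩ := Ideal.exists_ideal_over_maximal_of_isIntegral (S := D') P hker
  have h5 : algebraMap D D' (φ t) ∈ Q := by
    have : φ t ∈ Q.comap (algebraMap D D') := hQP ▸ hPt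
    exact this
  have h6 : algebraMap D D' (φ t) * (⟨x, hxint⟩ : D') = 1 := by
    apply Subtype.ext
    exact hτx
  exact hQmax.ne_top ((Ideal.eq_top_iff_one _).2 (h6 ▸ Ideal.mul_mem_right _ _ h5))

end Rel

section Dim

/-- In a Noetherian local domain of dimension `≤ 1`, a nonzero prime is the maximal ideal. -/
theorem eq_maximalIdeal_of_ne_bot {E : Type*} [CommRing E] [IsDomain E] [IsLocalRing E]
    [IsNoetherianRing E] (hE : ringKrullDim E ≤ 1) (p : Ideal E) [hp : p.IsPrime] (hp0 : p ≠ ⊥) :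
    p = maximalIdeal E := by
  by_contra hne
  have hlt : p < maximalIdeal E := lt_of_le_of_ne (le_maximalIdeal hp.ne_top) hne
  have h0 : (⊥ : Ideal E) < p := bot_lt_iff_ne_bot.mpr hp0
  have : (⊥ : Ideal E).IsPrime := Ideal.isPrime_bot
  have h1 := Ideal.height_strict_mono_of_isPrime h0
  have h2 := Ideal.height_strict_mono_of_isPrime hlt
  have h3 : ((maximalIdeal E).height : WithBot ℕ∞) ≤ ringKrullDim E :=
    Ideal.height_le_ringKrullDim_of_ne_top Ideal.IsPrime.ne_top'
  have h4 : (2 : ℕ∞) ≤ (maximalIdeal E).height := by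
    have h5 : (1 : ℕ∞) ≤ p.height := Order.one_le_iff_pos.mpr (lt_of_le_of_lt bot_le h1)
    calc (2 : ℕ∞) = 1 + 1 := by norm_num
      _ ≤ p.height + 1 := by gcongr
      _ ≤ (maximalIdeal E).height := Order.add_one_le_of_lt h2
  have h6 : ((2 : ℕ∞) : WithBot ℕ∞) ≤ 1 := (WithBot.coe_le_coe.mpr h4).trans (h3.trans hE)
  have h7 : (2 : ℕ∞) ≤ 1 := by exact_mod_cast h6
  exact absurd h7 (by decide)

/-- In a Noetherian local ring of dimension `≤ 1`, a non-minimal prime is the maximal ideal. -/
theorem eq_maximalIdeal_of_notMem_minimalPrimes {C : Type*} [CommRing C] [IsLocalRing C]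
    [IsNoetherianRing C] (hC : ringKrullDim C ≤ 1) (P : Ideal C) [hP : P.IsPrime]
    (hPmin : P ∉ minimalPrimes C) : P = maximalIdeal C := by
  by_contra hne
  have hlt : P < maximalIdeal C := lt_of_le_of_ne (le_maximalIdeal hP.ne_top) hne
  obtain ⟨Q, hQ, hQP⟩ := Ideal.exists_minimalPrimes_le (bot_le : (⊥ : Ideal C) ≤ P)
  have : Q.IsPrime := hQ.1.1
  have h0 : Q < P := lt_of_le_of_ne hQP (fun h => hPmin (h ▸ hQ))
  have h1 := Ideal.height_strict_mono_of_isPrime h0
  have h2 := Ideal.height_strict_mono_of_isPrime hlt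
  have h3 : ((maximalIdeal C).height : WithBot ℕ∞) ≤ ringKrullDim C :=
    Ideal.height_le_ringKrullDim_of_ne_top Ideal.IsPrime.ne_top'
  have h4 : (2 : ℕ∞) ≤ (maximalIdeal C).height := by
    have h5 : (1 : ℕ∞) ≤ P.height := Order.one_le_iff_pos.mpr (lt_of_le_of_lt bot_le h1)
    calc (2 : ℕ∞) = 1 + 1 := by norm_num
      _ ≤ P.height + 1 := by gcongr
      _ ≤ (maximalIdeal C).height := Order.add_one_le_of_lt h2
  have h6 : ((2 : ℕ∞) : WithBot ℕ∞) ≤ 1 := (WithBot.coe_le_coe.mpr h4).trans (h3.trans hC)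
  have h7 : (2 : ℕ∞) ≤ 1 := by exact_mod_cast h6
  exact absurd h7 (by decide)

end Dim

section Main

variable (E C : Type u) [CommRing E] [IsDomain E] [IsLocalRing E] [IsNoetherianRing E]
  [CommRing C] [IsLocalRing C] [IsNoetherianRing C] [Algebra E C] [Module.Flat E C]

omit [IsDomain E] [IsNoetherianRing E] in
/-- The element `t` of the maximal ideal of `E` is not a unit in the integral closure. -/
theorem not_isUnit_algebraMap_integralClosure (t : E) (ht : t ∈ maximalIdeal E) :
    ¬ IsUnit (algebraMap E (integralClosure E (FractionRing E)) t) := by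
  intro hu
  let V := integralClosure E (FractionRing E)
  have hinj : Function.Injective (algebraMap E V) := by
    intro a c hac
    have := congrArg (Subtype.val) hac
    exact IsFractionRing.injective E (FractionRing E) this
  have hker : RingHom.ker (algebraMap E V) ≤ maximalIdeal E := by
    rw [(RingHom.injective_iff_ker_eq_bot _).1 hinj]; exact bot_le
  obtain ⟨Q, hQmax, hQP⟩ :=
    Ideal.exists_ideal_over_maximal_of_isIntegral (S := V) (maximalIdeal E) hker
  have h5 : algebraMap E V t ∈ Q := by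
    have : t ∈ Q.comap (algebraMap E V) := hQP ▸ ht
    exact this
  exact hQmax.ne_top (Ideal.eq_top_of_isUnit_mem _ h5 hu)

/-- In the (local) integral closure `V` of a one-dimensional local domain, every non-unit has a
power divisible by `t`. -/
theorem exists_pow_eq_mul (hE : ringKrullDim E ≤ 1)
    (hV : IsLocalRing (integralClosure E (FractionRing E))) (t : E) (ht0 : t ≠ 0)
    (v : integralClosure E (FractionRing E)) (hv : ¬ IsUnit v) :
    ∃ (b : ℕ) (w : integralClosure E (FractionRing E)),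
      v ^ b = algebraMap E (integralClosure E (FractionRing E)) t * w := by
  let V := integralClosure E (FractionRing E)
  have hinj : Function.Injective (algebraMap E V) := by
    intro a c hac
    have := congrArg (Subtype.val) hac
    exact IsFractionRing.injective E (FractionRing E) this
  have hrad : v ∈ (Ideal.span {algebraMap E V t}).radical := by
    rw [Ideal.radical_eq_sInf, Submodule.mem_sInf]
    rintro (P : Ideal V) ⟨hle, (hP : P.IsPrime)⟩
    have htP : algebraMap E V t ∈ P := hle (Ideal.mem_span_singleton_self _)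
    have hp0 : Ideal.comap (algebraMap E V) P ≠ ⊥ := by
      intro h
      have : t ∈ Ideal.comap (algebraMap E V) P := htP
      rw [h] at this
      exact ht0 this
    have hpm := eq_maximalIdeal_of_ne_bot hE (Ideal.comap (algebraMap E V) P) hp0
    have hPmax : P.IsMaximal := by
      apply Ideal.isMaximal_of_isIntegral_of_isMaximal_comap (R := E) P
      rw [hpm]; infer_instance
    rw [IsLocalRing.eq_maximalIdeal hPmax]
    exact hv
  obtain ⟨b, hb⟩ := hrad
  obtain ⟨w, hw⟩ := Ideal.mem_span_singleton'.1 hb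
  exact ⟨b, w, by rw [← hw, mul_comm]⟩

/-- **Key lemma.** `E` a Noetherian local domain of dimension `≤ 1` whose integral closure is local;
`E → C` flat with `C` Noetherian local of dimension `≤ 1`, `m_E C = m_C` and `E → C/m_C` onto.
Then `C` has only one minimal prime. -/
theorem eq_of_mem_minimalPrimes (hE : ringKrullDim E ≤ 1)
    (hV : IsLocalRing (integralClosure E (FractionRing E)))
    (hC : ringKrullDim C ≤ 1)
    (hm : (maximalIdeal E).map (algebraMap E C) = maximalIdeal C)
    (hres : ∀ c : C, ∃ e : E, c - algebraMap E C e ∈ maximalIdeal C)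
    {Q₁ Q₂ : Ideal C} (h₁ : Q₁ ∈ minimalPrimes C) (h₂ : Q₂ ∈ minimalPrimes C) : Q₁ = Q₂ := by
  classical
  by_contra hne
  have hloc : IsLocalHom (algebraMap E C) :=
    ((IsLocalRing.local_hom_TFAE (algebraMap E C)).out 0 2).mpr hm.le
  have : Module.FaithfullyFlat E C := Module.FaithfullyFlat.of_flat_of_isLocalHom
  have hQ₁p : Q₁.IsPrime := h₁.1.1
  have hQ₂p : Q₂.IsPrime := h₂.1.1
  by_cases hmE : maximalIdeal E = ⊥
  · have hmC : maximalIdeal C = ⊥ := by rw [← hm, hmE, Ideal.map_bot]
    have hbot : ∀ Q ∈ minimalPrimes C, Q = ⊥ := fun Q hQ =>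
      le_bot_iff.mp (hmC ▸ le_maximalIdeal hQ.1.1.ne_top)
    exact hne ((hbot _ h₁).trans (hbot _ h₂).symm)
  obtain ⟨t, htm, ht0⟩ : ∃ t ∈ maximalIdeal E, t ≠ 0 := by
    by_contra! h
    exact hmE (le_bot_iff.mp fun t ht => h t ht)
  set t' := algebraMap E C t with ht'def
  have ht'm : t' ∈ maximalIdeal C := hm ▸ Ideal.mem_map_of_mem _ htm
  have htreg : IsSMulRegular E t := fun x y h => mul_left_cancel₀ ht0 (by simpa using h)
  have ht'reg : IsSMulRegular C t' := IsSMulRegular.of_flat htreg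
  have ht'nzd : t' ∈ nonZeroDivisors C := by
    rw [mem_nonZeroDivisors_iff_right]
    intro x hx
    exact ht'reg (by simpa [mul_comm] using hx)
  have ht'notmin : ∀ Q ∈ minimalPrimes C, t' ∉ Q := fun Q hQ htQ =>
    Set.disjoint_left.1 (Ideal.disjoint_nonZeroDivisors_of_mem_minimalPrimes hQ) htQ ht'nzd
  have hPt : ∀ P : Ideal C, P.IsPrime → t' ∈ P → P = maximalIdeal C := fun P hP htP =>
    eq_maximalIdeal_of_notMem_minimalPrimes hC P (fun hmin => ht'notmin P hmin htP)
  have hrad : maximalIdeal C ≤ (Ideal.span {t'}).radical := by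
    rw [Ideal.radical_eq_sInf]
    refine le_sInf ?_
    rintro P ⟨hle, hP⟩
    exact (hPt P hP (hle (Ideal.mem_span_singleton_self _))).ge
  -- the ideals `Q₁` and `I₂`
  have hfin : (minimalPrimes C).Finite := minimalPrimes.finite_of_isNoetherianRing C
  set S₂ : Set (Ideal C) := minimalPrimes C \ {Q₁} with hS₂
  have hS₂fin : S₂.Finite := hfin.subset Set.sdiff_subset
  set I₂ : Ideal C := sInf S₂ with hI₂
  have hI₂le : ∀ Q ∈ minimalPrimes C, Q ≠ Q₁ → I₂ ≤ Q := fun Q hQ hQ1 => sInf_le ⟨hQ, hQ1⟩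
  have hI₂Q₂ : I₂ ≤ Q₂ := hI₂le Q₂ h₂ (fun h => hne h.symm)
  have ht'rad : t' ∈ (Q₁ ⊔ I₂).radical := by
    rw [Ideal.radical_eq_sInf, Submodule.mem_sInf]
    rintro (P : Ideal C) ⟨hle, (hP : P.IsPrime)⟩
    have hQ₁P : Q₁ ≤ P := le_sup_left.trans hle
    have hI₂P : I₂ ≤ P := le_sup_right.trans hle
    have hnot : P ∉ minimalPrimes C := by
      intro hPmin
      have hPQ₁ : P = Q₁ := le_antisymm (hPmin.2 ⟨hQ₁p, bot_le⟩ hQ₁P) hQ₁P
      have hinf : hS₂fin.toFinset.inf id ≤ P := by
        rw [Finset.inf_id_eq_sInf, hS₂fin.coe_toFinset]; exact hI₂P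
      obtain ⟨Q, hQ, hQP⟩ := (Ideal.IsPrime.inf_le' hP).1 hinf
      have hQS : Q ∈ S₂ := hS₂fin.mem_toFinset.1 hQ
      have hQle : Q ≤ Q₁ := hPQ₁ ▸ hQP
      have : Q = Q₁ := le_antisymm hQle (h₁.2 ⟨hQS.1.1.1, bot_le⟩ hQle)
      exact hQS.2 this
    rw [eq_maximalIdeal_of_notMem_minimalPrimes hC P hnot]; exact ht'm
  obtain ⟨N, hN⟩ := ht'rad
  obtain ⟨a₁, ha₁, a₂, ha₂, hsum⟩ := Submodule.mem_sup.1 hN
  have hnil : IsNilpotent (a₁ * a₂) := by
    rw [← mem_nilradical, nilradical_eq_sInf, Submodule.mem_sInf]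
    intro (P : Ideal C) (hP : P.IsPrime)
    obtain ⟨Q, hQ, hQP⟩ := Ideal.exists_minimalPrimes_le (bot_le : (⊥ : Ideal C) ≤ P)
    by_cases hQ1 : Q = Q₁
    · exact hQP (hQ1 ▸ Ideal.mul_mem_right _ _ ha₁)
    · exact hQP (Ideal.mul_mem_left _ _ (hI₂le Q hQ hQ1 ha₂))
  obtain ⟨M, hM⟩ := hnil
  have hMpos : 0 < M := by
    rcases Nat.eq_zero_or_pos M with h | h
    · rw [h, pow_zero] at hM; exact absurd hM one_ne_zero
    · exact h
  set L := 2 * N * M + N + 1 with hL
  have hradL : maximalIdeal C ≤ (Ideal.span {t' ^ L}).radical := by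
    rw [← Ideal.span_singleton_pow, Ideal.radical_pow _ (by omega : L ≠ 0)]; exact hrad
  obtain ⟨k, hk⟩ := Ideal.exists_pow_le_of_le_radical_of_fg hradL
    (IsNoetherian.noetherian (maximalIdeal C))
  obtain ⟨ε₀, hε₀⟩ := exists_sub_mem_pow hm hres k a₂
  obtain ⟨c, hc⟩ := Ideal.mem_span_singleton'.1 (hk hε₀)
  -- `ε₀' = a₂ - c * t' ^ L`
  have hε₀' : algebraMap E C ε₀ = a₂ - c * t' ^ L := by rw [hc]; ring
  -- the element `z`
  set z : E := (ε₀ * (t ^ N - ε₀)) ^ M with hz
  have hzmem : algebraMap E C z ∈ Ideal.span {t' ^ L} := by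
    have h1 : algebraMap E C z = (a₁ * a₂ + t' ^ L * (c * a₂ - c * a₁ - c ^ 2 * t' ^ L)) ^ M := by
      rw [hz, map_pow, map_mul, map_sub, map_pow, hε₀', ← ht'def, ← hsum]; ring
    have h2 : Ideal.Quotient.mk (Ideal.span {t' ^ L})
        (a₁ * a₂ + t' ^ L * (c * a₂ - c * a₁ - c ^ 2 * t' ^ L)) =
        Ideal.Quotient.mk (Ideal.span {t' ^ L}) (a₁ * a₂) := by
      rw [Ideal.Quotient.eq]
      have : a₁ * a₂ + t' ^ L * (c * a₂ - c * a₁ - c ^ 2 * t' ^ L) - a₁ * a₂ =
          t' ^ L * (c * a₂ - c * a₁ - c ^ 2 * t' ^ L) := by ring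
      rw [this]; exact Ideal.mul_mem_right _ _ (Ideal.mem_span_singleton_self _)
    rw [h1, ← Ideal.Quotient.eq_zero_iff_mem, map_pow, h2]
    rw [← map_pow (Ideal.Quotient.mk (Ideal.span {t' ^ L})) (a₁ * a₂), hM, map_zero]
  have hzE : z ∈ Ideal.span {t ^ L} := by
    rw [← Ideal.comap_map_eq_self_of_faithfullyFlat (B := C) (Ideal.span {t ^ L}), Ideal.mem_comap,
      Ideal.map_span, Set.image_singleton, map_pow]
    exact hzmem
  obtain ⟨e, he⟩ := Ideal.mem_span_singleton'.1 hzE
  -- pass to the fraction field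
  let K := FractionRing E
  let V := integralClosure E K
  set tK : K := algebraMap E K t with htK
  have htK0 : tK ≠ 0 := by
    intro h
    exact ht0 (IsFractionRing.injective E K (by rw [← htK, h, map_zero]))
  set u₀ : K := algebraMap E K ε₀ / tK ^ N with hu₀
  set y : K := u₀ * (1 - u₀) with hy
  have hu₀t : u₀ * tK ^ N = algebraMap E K ε₀ := div_mul_cancel₀ _ (pow_ne_zero _ htK0)
  have hyM : y ^ M = algebraMap E K (e * t ^ (N + 1)) := by
    have h1 : y * tK ^ (2 * N) = algebraMap E K (ε₀ * (t ^ N - ε₀)) := by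
      rw [map_mul, map_sub, map_pow, ← hu₀t, hy, ← htK]; ring
    have h2 : y ^ M * tK ^ (2 * N * M) = algebraMap E K e * tK ^ L := by
      rw [pow_mul, ← mul_pow, h1, ← map_pow, ← hz, ← he, map_mul, map_pow]
    have h3 : tK ^ L = tK ^ (N + 1) * tK ^ (2 * N * M) := by rw [← pow_add]; congr 1; omega
    rw [h3, ← mul_assoc] at h2
    rw [mul_right_cancel₀ (pow_ne_zero _ htK0) h2, map_mul, map_pow]
  have hyint : IsIntegral E y := IsIntegral.of_pow hMpos (by rw [hyM]; exact isIntegral_algebraMap)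
  have hu₀int : IsIntegral E u₀ := by
    let yV : V := ⟨y, hyint⟩
    have hV' : IsIntegral V u₀ := by
      refine ⟨Polynomial.X ^ 2 + (Polynomial.C (-1) * Polynomial.X + Polynomial.C yV),
        Polynomial.monic_X_pow_add (lt_of_le_of_lt (Polynomial.degree_linear_le) (by norm_num)), ?_⟩
      have hyV : algebraMap V K yV = y := rfl
      simp only [Polynomial.eval₂_add, Polynomial.eval₂_pow, Polynomial.eval₂_X,
        Polynomial.eval₂_mul, Polynomial.eval₂_C, hyV]
      rw [map_neg, map_one, hy]; ring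
    exact isIntegral_trans (A := V) u₀ hV'
  let ū : V := ⟨u₀, hu₀int⟩
  have htV := not_isUnit_algebraMap_integralClosure E t htm
  have hprod : ¬ IsUnit (ū * (1 - ū)) := by
    intro hu
    have h1 : (ū * (1 - ū)) ^ M = algebraMap E V t * algebraMap E V (e * t ^ N) := by
      apply Subtype.ext
      show y ^ M = algebraMap E K t * algebraMap E K (e * t ^ N)
      rw [hyM, ← map_mul]; congr 1; ring
    have h2 : IsUnit (algebraMap E V t * algebraMap E V (e * t ^ N)) := h1 ▸ hu.pow M
    exact htV (isUnit_of_mul_isUnit_left h2)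
  have hmE1 : ∀ p : Ideal E, p.IsPrime → t ∉ p → p = ⊥ := by
    intro p hp htp
    by_contra hp0
    exact htp ((eq_maximalIdeal_of_ne_bot hE p hp0) ▸ htm)
  -- the two cases
  have hcase : ¬ IsUnit ū ∨ ¬ IsUnit (1 - ū) := by
    by_contra! h
    exact hprod (h.1.mul h.2)
  -- common contradiction
  have main : ∀ (Q : Ideal C), Q ∈ minimalPrimes C → ∀ (n : E) (v : V),
      (v : K) * tK ^ N = algebraMap E K n → ¬ IsUnit v →
      (∃ d : C, algebraMap E C n - t' ^ N * (1 - d * t' ^ (2 * N * M + 1)) ∈ Q) → False := by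
    intro Q hQ n v hvn hv ⟨d, hd⟩
    have hQp : Q.IsPrime := hQ.1.1
    obtain ⟨b, w, hbw⟩ := exists_pow_eq_mul E hE hV t ht0 v hv
    let φ : E →+* C ⧸ Q := (Ideal.Quotient.mk Q).comp (algebraMap E C)
    have hφinj : Function.Injective φ := by
      rw [RingHom.injective_iff_ker_eq_bot]
      have hker : RingHom.ker φ = Q.comap (algebraMap E C) := by
        ext x
        rw [RingHom.mem_ker, Ideal.mem_comap]
        exact Ideal.Quotient.eq_zero_iff_mem
      rw [hker]
      exact hmE1 _ (Ideal.comap_isPrime _ _) (fun h => ht'notmin Q hQ h)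
    have hrel : algebraMap E K n ^ b = algebraMap E K t ^ (N * b + 1) * (w : K) := by
      have h1 : (v : K) ^ b = tK * (w : K) := by
        have := congrArg (Subtype.val) hbw
        exact this
      rw [← hvn, mul_pow, h1, ← pow_mul, pow_succ]; ring
    have hunit : IsUnit (Ideal.Quotient.mk Q (1 - d * t' ^ (2 * N * M + 1))) := by
      apply IsUnit.map
      apply IsLocalRing.isUnit_one_sub_self_of_mem_nonunits
      exact Ideal.mul_mem_left _ _ (Ideal.pow_mem_of_mem _ ht'm _ (by omega))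
    have hn : φ n = φ t ^ N * Ideal.Quotient.mk Q (1 - d * t' ^ (2 * N * M + 1)) := by
      show Ideal.Quotient.mk Q (algebraMap E C n) = (Ideal.Quotient.mk Q t') ^ N * _
      rw [← map_pow, ← map_mul]
      exact (Ideal.Quotient.eq).2 hd
    have hu := isUnit_of_integral_relation φ hφinj n t ht0 b N (w : K) w.2 hrel _ hunit hn
    -- `t'` is a unit modulo `Q`
    obtain ⟨s, hs⟩ := hu.exists_right_inv
    obtain ⟨s, rfl⟩ := Ideal.Quotient.mk_surjective s
    have h1 : t' * s - 1 ∈ Q := by
      rw [← Ideal.Quotient.eq, map_mul, map_one]; exact hs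
    have h2 : t' * s - 1 ∈ maximalIdeal C := le_maximalIdeal hQp.ne_top h1
    have h3 : (1 : C) ∈ maximalIdeal C := by
      have := sub_mem (Ideal.mul_mem_right s _ ht'm) h2
      rwa [sub_sub_cancel] at this
    exact (Ideal.ne_top_iff_one _).1 (Ideal.IsPrime.ne_top') h3
  rcases hcase with hcase | hcase
  · refine main Q₁ h₁ ε₀ ū ?_ hcase ⟨c, ?_⟩
    · exact hu₀t
    · have : algebraMap E C ε₀ - t' ^ N * (1 - c * t' ^ (2 * N * M + 1)) = -a₁ := by
        rw [hε₀', hL]; linear_combination hsum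
      rw [this]; exact neg_mem ha₁
  · refine main Q₂ h₂ (t ^ N - ε₀) (1 - ū) ?_ hcase ⟨-c, ?_⟩
    · show (1 - u₀) * tK ^ N = _
      rw [map_sub, map_pow, ← hu₀t, ← htK]; ring
    · have : algebraMap E C (t ^ N - ε₀) - t' ^ N * (1 - -c * t' ^ (2 * N * M + 1)) = -a₂ := by
        rw [map_sub, map_pow, hε₀', ← ht'def, hL]; ring
      rw [this]; exact neg_mem (hI₂Q₂ ha₂)

end Main

end Groth.Agent.Lib.Helper15.DimOneBranch
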