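import Mathlib
import Groth.Prelude.Def_EGA4b
import Groth.Agent.Lib.Helper75.InvAdicB
import Groth.Agent.Lib.Helper98.OlivierLocal
import Groth.Agent.Lib.Helper88.CohenNagata
import Groth.Agent.Lib.Helper88.Japanese10
import Groth.Agent.Lib.Helper86.OlivierE
import Groth.Agent.Lib.Helper11.IntegralDim

/-!
# Finite families of DVR quotients of complete reduced local rings (helper15)
-/

set_option autoImplicit false
set_option linter.style.haveILetI false
set_option linter.unusedSectionVars false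
universe u

namespace Groth.Agent.Lib.Helper15.DvrFamily

open IsLocalRing

section DimOne

variable (R : Type u) [CommRing R] [IsDomain R] [IsNoetherianRing R] [IsLocalRing R]

/-- In a Noetherian domain, a chain `⊥ < P < Q ≤ p` of primes forces `ht p ≥ 2`. -/
theorem not_height_le_one {P Q p : Ideal R} [P.IsPrime] [Q.IsPrime] [p.IsPrime] (hP : P ≠ ⊥)
    (hPQ : P < Q) (hQp : Q ≤ p) (h : p.height ≤ 1) : False := by
  haveI : (⊥ : Ideal R).IsPrime := Ideal.isPrime_bot
  have h0 : (⊥ : Ideal R).height < P.height :=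
    Ideal.height_strict_mono_of_isPrime (bot_lt_iff_ne_bot.mpr hP)
  have h1 : P.height < Q.height := Ideal.height_strict_mono_of_isPrime hPQ
  have h2 : Q.height ≤ 1 := (Ideal.height_mono hQp).trans h
  have h3 : P.height < 1 := lt_of_lt_of_le h1 h2
  rw [Order.lt_one_iff] at h3
  rw [h3] at h0
  exact not_lt_zero h0

/-- A Noetherian local domain in which some `x ≠ 0` lies in every nonzero prime has dimension
`≤ 1`: every nonzero prime is the maximal ideal. -/
theorem eq_maximalIdeal_of_forall_mem (x : R) (hx : x ≠ 0)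
    (h : ∀ Q : Ideal R, Q.IsPrime → Q ≠ ⊥ → x ∈ Q) (Q : Ideal R) [hQp : Q.IsPrime] (hQ : Q ≠ ⊥) :
    Q = maximalIdeal R := by
  by_contra hne
  have hlt : Q < maximalIdeal R := lt_of_le_of_ne (le_maximalIdeal hQp.ne_top) hne
  have hxM : x ∈ maximalIdeal R := hlt.le (h Q hQp hQ)
  set I : Ideal R := Ideal.span {x} with hI
  have hfin := Ideal.finite_minimalPrimes_of_isNoetherianRing R I
  have hIM : I ≤ maximalIdeal R := by
    rw [hI, Ideal.span_singleton_le_iff_mem]; exact hxM
  obtain ⟨p₀, hp₀, -⟩ := Ideal.exists_minimalPrimes_le hIM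
  have hM : ¬ (((maximalIdeal R : Ideal R) : Set R) ⊆
      ⋃ p ∈ (↑hfin.toFinset : Set (Ideal R)), ((id p : Ideal R) : Set R)) := by
    intro hsub
    obtain ⟨p, hp, hMp⟩ := (Ideal.subset_union_prime (s := hfin.toFinset) (f := id)
      (⊥ : Ideal R) ⊥ (fun p hp _ _ => (hfin.mem_toFinset.mp hp).1.1)).mp hsub
    have hp' : p ∈ I.minimalPrimes := hfin.mem_toFinset.mp hp
    haveI : p.IsPrime := hp'.1.1
    have hMp' : maximalIdeal R ≤ p := hMp
    exact not_height_le_one R hQ hlt hMp'
      (Ideal.height_le_one_of_isPrincipal_of_mem_minimalPrimes I p hp')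
  rw [Set.not_subset] at hM
  obtain ⟨y, hyM, hy⟩ := hM
  have hy' : ∀ p ∈ I.minimalPrimes, y ∉ p := by
    intro p hp hyp
    apply hy
    simp only [Set.mem_iUnion]
    exact ⟨p, by simpa using hp, hyp⟩
  have hy0 : y ≠ 0 := by
    rintro rfl
    exact hy' p₀ hp₀ (Ideal.zero_mem _)
  have hyM' : Ideal.span {y} ≤ maximalIdeal R := by
    rw [Ideal.span_singleton_le_iff_mem]; exact hyM
  obtain ⟨p, hp, hpM⟩ := Ideal.exists_minimalPrimes_le hyM'
  haveI hpp : p.IsPrime := hp.1.1
  have hyp : y ∈ p := hp.1.2 (Ideal.mem_span_singleton_self y)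
  have hp0 : p ≠ ⊥ := by
    rintro rfl
    exact hy0 (by simpa using hyp)
  have hph : p.height ≤ 1 :=
    Ideal.height_le_one_of_isPrincipal_of_mem_minimalPrimes (Ideal.span {y}) p hp
  have hxp : x ∈ p := h p hpp hp0
  have hIp : I ≤ p := by
    rw [hI, Ideal.span_singleton_le_iff_mem]; exact hxp
  obtain ⟨p₁, hp₁, hp₁p⟩ := Ideal.exists_minimalPrimes_le hIp
  haveI : p₁.IsPrime := hp₁.1.1
  have hp₁0 : p₁ ≠ ⊥ := by
    rintro rfl
    have : x ∈ (⊥ : Ideal R) := hp₁.1.2 (Ideal.mem_span_singleton_self x)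
    exact hx (by simpa using this)
  rcases eq_or_lt_of_le hp₁p with heq | hlt'
  · exact hy' p₁ hp₁ (heq ▸ hyp)
  · exact not_height_le_one R hp₁0 hlt' le_rfl hph

theorem eq_one_of_le_one_of_not_le_zero {a : WithBot ℕ∞} (h1 : a ≤ 1) (h0 : ¬ a ≤ 0) : a = 1 := by
  refine le_antisymm h1 ?_
  by_contra hc
  apply h0
  rw [not_le] at hc
  induction a using WithBot.recBotCoe with
  | bot => exact bot_le
  | coe m =>
    have h2 : m < 1 := by exact_mod_cast hc
    rw [Order.lt_one_iff] at h2
    rw [h2]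
    rfl

/-- In a Noetherian local domain which is not a field, every nonzero element avoids some prime
`P` with `dim R/P = 1`. -/
theorem exists_prime_dim_one_not_mem (hR : ¬ IsField R) (x : R) (hx : x ≠ 0) :
    ∃ P : Ideal R, P.IsPrime ∧ ringKrullDim (R ⧸ P) = 1 ∧ x ∉ P := by
  classical
  -- replace `x` by a nonzero element of the maximal ideal
  obtain ⟨y, hy0, hyM, hyx⟩ : ∃ y : R, y ≠ 0 ∧ y ∈ maximalIdeal R ∧
      ∀ P : Ideal R, P.IsPrime → y ∉ P → x ∉ P := by
    by_cases hu : IsUnit x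
    · obtain ⟨z, hzM, hz0⟩ : ∃ z ∈ maximalIdeal R, z ≠ (0 : R) := by
        by_contra hcon
        push Not at hcon
        apply hR
        rw [IsLocalRing.isField_iff_maximalIdeal_eq]
        exact eq_bot_iff.mpr fun z hz => by rw [Ideal.mem_bot]; exact hcon z hz
      exact ⟨z, hz0, hzM, fun P hP _ hxP => hP.ne_top (Ideal.eq_top_of_isUnit_mem P hxP hu)⟩
    · exact ⟨x, hx, hu, fun P _ h => h⟩
  -- a prime maximal among those not containing `y`
  let Sg : Set (Ideal R) := {P | P.IsPrime ∧ y ∉ P}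
  have hne : Sg.Nonempty := ⟨⊥, Ideal.isPrime_bot, by simpa using hy0⟩
  obtain ⟨P, ⟨hPp, hyP⟩, hPmax⟩ := set_has_maximal_iff_noetherian.mpr
    (inferInstance : IsNoetherian R R) Sg hne
  haveI := hPp
  refine ⟨P, hPp, ?_, hyx P hPp hyP⟩
  haveI : IsDomain (R ⧸ P) := Ideal.Quotient.isDomain P
  haveI : IsLocalRing (R ⧸ P) :=
    IsLocalRing.of_surjective' (Ideal.Quotient.mk P) Ideal.Quotient.mk_surjective
  have hy'0 : Ideal.Quotient.mk P y ≠ 0 := by
    rwa [Ne, Ideal.Quotient.eq_zero_iff_mem]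
  have hall : ∀ Q : Ideal (R ⧸ P), Q.IsPrime → Q ≠ ⊥ → Ideal.Quotient.mk P y ∈ Q := by
    intro Q hQp hQ0
    by_contra hyQ
    have hmem : Q.comap (Ideal.Quotient.mk P) ∈ Sg := ⟨Ideal.comap_isPrime _ Q, hyQ⟩
    have hle : P ≤ Q.comap (Ideal.Quotient.mk P) := by
      intro z hz
      rw [Ideal.mem_comap, Ideal.Quotient.eq_zero_iff_mem.mpr hz]
      exact Q.zero_mem
    have hne' : P ≠ Q.comap (Ideal.Quotient.mk P) := by
      intro heq
      apply hQ0
      rw [eq_bot_iff]
      intro z hz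
      obtain ⟨w, rfl⟩ := Ideal.Quotient.mk_surjective z
      have : w ∈ P := heq ▸ (show w ∈ Q.comap (Ideal.Quotient.mk P) from hz)
      rw [Ideal.mem_bot, Ideal.Quotient.eq_zero_iff_mem]
      exact this
    exact hPmax _ hmem (lt_of_le_of_ne hle hne')
  have hle1 : ringKrullDim (R ⧸ P) ≤ 1 := by
    have : Ring.KrullDimLE 1 (R ⧸ P) := by
      rw [Ring.krullDimLE_one_iff_of_noZeroDivisors]
      intro Q hQ0 hQp
      rw [eq_maximalIdeal_of_forall_mem (R ⧸ P) _ hy'0 hall Q hQ0]
      exact IsLocalRing.maximalIdeal.isMaximal _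
    exact Ring.krullDimLE_iff.mp this
  have hnle0 : ¬ ringKrullDim (R ⧸ P) ≤ 0 := by
    intro h0
    have : Ring.KrullDimLE 0 (R ⧸ P) := Ring.krullDimLE_iff.mpr h0
    have hf : IsField (R ⧸ P) := Ring.KrullDimLE.isField_of_isDomain
    have hu : IsUnit (Ideal.Quotient.mk P y) := by
      obtain ⟨b, hb⟩ := hf.mul_inv_cancel hy'0
      exact IsUnit.of_mul_eq_one b hb
    have hnu : ¬ IsUnit y := hyM
    haveI : IsLocalHom (Ideal.Quotient.mk P) :=
      IsLocalHom.of_surjective _ Ideal.Quotient.mk_surjective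
    exact hnu (isUnit_of_map_unit (Ideal.Quotient.mk P) y hu)
  exact eq_one_of_le_one_of_not_le_zero hle1 hnle0

end DimOne

section Reduced

variable (A : Type u) [CommRing A] [IsNoetherianRing A] [IsLocalRing A] [IsReduced A]

/-- In a reduced Noetherian local ring which is not a field, every nonzero element avoids some
prime `P` with `dim A/P = 1`. -/
theorem exists_prime_dim_one_not_mem_of_isReduced (hA : ¬ IsField A) (x : A) (hx : x ≠ 0) :
    ∃ P : Ideal A, P.IsPrime ∧ ringKrullDim (A ⧸ P) = 1 ∧ x ∉ P := by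
  -- a minimal prime avoiding `x`
  obtain ⟨p, hpmin, hxp⟩ : ∃ p ∈ minimalPrimes A, x ∉ p := by
    by_contra hcon
    push Not at hcon
    apply hx
    have h1 : x ∈ sInf (minimalPrimes A) := by
      rw [Ideal.mem_sInf]
      exact fun {p} hp => hcon p hp
    have h2 : sInf (minimalPrimes A) = nilradical A := by
      rw [minimalPrimes, Ideal.sInf_minimalPrimes, nilradical, Ideal.zero_eq_bot]
    rw [h2, nilradical_eq_zero, Ideal.zero_eq_bot, Ideal.mem_bot] at h1
    exact h1
  haveI hpp : p.IsPrime := hpmin.1.1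
  haveI : IsDomain (A ⧸ p) := Ideal.Quotient.isDomain p
  haveI : IsLocalRing (A ⧸ p) :=
    IsLocalRing.of_surjective' (Ideal.Quotient.mk p) Ideal.Quotient.mk_surjective
  have hnf : ¬ IsField (A ⧸ p) := by
    intro hf
    apply hA
    have hpmax : p.IsMaximal := Ideal.Quotient.maximal_of_isField p hf
    have hpm : p = maximalIdeal A := IsLocalRing.eq_maximalIdeal hpmax
    -- every prime equals `𝔪`
    have hall : ∀ q : Ideal A, q.IsPrime → q = maximalIdeal A := by
      intro q hq
      have h1 : q ≤ p := hpm ▸ le_maximalIdeal hq.ne_top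
      exact le_antisymm (le_maximalIdeal hq.ne_top) (hpm ▸ hpmin.2 ⟨hq, bot_le⟩ h1)
    have hnil : nilradical A = maximalIdeal A := by
      rw [nilradical_eq_sInf]
      apply le_antisymm
      · exact sInf_le (show maximalIdeal A ∈ {J : Ideal A | J.IsPrime} from
          (IsLocalRing.maximalIdeal.isMaximal A).isPrime)
      · exact le_sInf fun q hq => (hall q hq).ge
    rw [IsLocalRing.isField_iff_maximalIdeal_eq, ← hnil, nilradical_eq_zero, Ideal.zero_eq_bot]
  have hx' : Ideal.Quotient.mk p x ≠ 0 := by rwa [Ne, Ideal.Quotient.eq_zero_iff_mem]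
  obtain ⟨P', hP'p, hdim, hxP'⟩ := exists_prime_dim_one_not_mem (A ⧸ p) hnf _ hx'
  haveI := hP'p
  refine ⟨P'.comap (Ideal.Quotient.mk p), Ideal.comap_isPrime _ P', ?_, hxP'⟩
  have hle : p ≤ P'.comap (Ideal.Quotient.mk p) := by
    intro z hz
    rw [Ideal.mem_comap, Ideal.Quotient.eq_zero_iff_mem.mpr hz]
    exact P'.zero_mem
  have hmap : (P'.comap (Ideal.Quotient.mk p)).map (Ideal.Quotient.mk p) = P' :=
    Ideal.map_comap_of_surjective _ Ideal.Quotient.mk_surjective P'
  rw [← ringKrullDim_eq_of_ringEquiv (DoubleQuot.quotQuotEquivQuotOfLE hle), hmap]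
  exact hdim

end Reduced

section Filtered

open Groth.Agent.Lib.Helper75.InvAdic

variable {S : Type u} [CommRing S] [IsLocalRing S] [IsNoetherianRing S]

/-- Among finite intersections of members of `Ps`, one is minimal modulo `𝔪^(t+1)`. -/
theorem exists_min_finset (Ps : Set (Ideal S)) (t : ℕ) :
    ∃ F : Finset (Ideal S), (↑F : Set (Ideal S)) ⊆ Ps ∧ ∀ F' : Finset (Ideal S),
      (↑F' : Set (Ideal S)) ⊆ Ps → F ⊆ F' →
      F'.inf id ⊔ maximalIdeal S ^ (t + 1) = F.inf id ⊔ maximalIdeal S ^ (t + 1) := by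
  classical
  haveI := isArtinian_quot_pow (S := S) (N := S) t
  set Q : Submodule S S := (maximalIdeal S ^ (t + 1) • ⊤ : Submodule S S) with hQ
  have hQ' : Q = maximalIdeal S ^ (t + 1) := by rw [hQ, smul_eq_mul, Ideal.mul_top]
  let Ss : Set (Submodule S (S ⧸ Q)) :=
    {M | ∃ F : Finset (Ideal S), (↑F : Set (Ideal S)) ⊆ Ps ∧
      M = Submodule.map Q.mkQ (F.inf id : Ideal S)}
  have hne : Ss.Nonempty := ⟨_, ∅, by simp, rfl⟩
  obtain ⟨M, ⟨F, hF, rfl⟩, hmin⟩ := IsArtinian.set_has_minimal Ss hne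
  refine ⟨F, hF, fun F' hF' hFF' => ?_⟩
  have hle : Submodule.map Q.mkQ (F'.inf id : Ideal S) ≤ Submodule.map Q.mkQ (F.inf id : Ideal S) :=
    Submodule.map_mono (Finset.inf_mono hFF')
  have heq : Submodule.map Q.mkQ (F'.inf id : Ideal S) = Submodule.map Q.mkQ (F.inf id : Ideal S) := by
    by_contra hne'
    exact hmin _ ⟨F', hF', rfl⟩ (lt_of_le_of_ne hle hne')
  have h3 := congrArg (Submodule.comap Q.mkQ) heq
  rw [Submodule.comap_map_eq, Submodule.comap_map_eq, Submodule.ker_mkQ, hQ'] at h3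
  exact h3

/-- **Filtered Chevalley lemma.** In a complete Noetherian local ring, if a family `Ps` of ideals
has zero intersection, then some finite subfamily has intersection inside `𝔪^n`. -/
theorem exists_finset_inf_le [IsAdicComplete (maximalIdeal S) S] (Ps : Set (Ideal S))
    (hPs : ∀ x : S, x ≠ 0 → ∃ P ∈ Ps, x ∉ P) (n : ℕ) :
    ∃ F : Finset (Ideal S), (↑F : Set (Ideal S)) ⊆ Ps ∧ F.inf id ≤ maximalIdeal S ^ n := by
  classical
  choose F hFPs hFmin using exists_min_finset (S := S) Ps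
  let G : ℕ → Finset (Ideal S) := fun t => (Finset.range (t + 1)).biUnion F
  have hGPs : ∀ t, (↑(G t) : Set (Ideal S)) ⊆ Ps := by
    intro t P hP
    simp only [G, Finset.coe_biUnion, Set.mem_iUnion] at hP
    obtain ⟨i, -, hi⟩ := hP
    exact hFPs i hi
  have hFG : ∀ t, F t ⊆ G t := fun t =>
    Finset.subset_biUnion_of_mem F (Finset.self_mem_range_succ t)
  have hGmono : Monotone G := fun a b hab =>
    Finset.biUnion_subset_biUnion_of_subset_left F
      (Finset.range_mono (Nat.succ_le_succ hab))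
  let K : ℕ → Submodule S S := fun t => ((G t).inf id : Ideal S)
  have hK : Antitone K := fun a b hab => Finset.inf_mono (hGmono hab)
  obtain ⟨q, hq⟩ := chevalley (S := S) (N := S) K hK n
  have hinf : (⨅ q, K q) = ⊥ := by
    rw [eq_bot_iff]
    intro x hx
    rw [Submodule.mem_bot]
    by_contra hx0
    obtain ⟨P, hP, hxP⟩ := hPs x hx0
    apply hxP
    apply mem_of_forall_mem_sup_pow (S := S) (N := S) (P : Submodule S S) x
    intro s
    rw [smul_eq_mul, Ideal.mul_top]
    rw [Submodule.mem_iInf] at hx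
    have h1 : x ∈ ((G s).inf id : Ideal S) := hx s
    have h2 := hFmin s (insert P (G s))
      (by
        intro J hJ
        rcases Finset.mem_insert.mp hJ with rfl | hJ
        · exact hP
        · exact hGPs s hJ)
      ((hFG s).trans (Finset.subset_insert _ _))
    have h3 : x ∈ ((F s).inf id : Ideal S) ⊔ maximalIdeal S ^ (s + 1) :=
      Ideal.mem_sup_left
        ((Finset.inf_mono (hFG s) : (G s).inf id ≤ ((F s).inf id : Ideal S)) h1)
    rw [← h2, Finset.inf_insert, id] at h3
    have h4 : P ⊓ (G s).inf id ⊔ maximalIdeal S ^ (s + 1) ≤ P ⊔ maximalIdeal S ^ s :=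
      sup_le_sup inf_le_left (Ideal.pow_le_pow_right (Nat.le_succ s))
    exact h4 h3
  rw [hinf, bot_sup_eq, smul_eq_mul, Ideal.mul_top] at hq
  exact ⟨G q, hGPs q, hq⟩

end Filtered

section DVR

/-- A Noetherian integrally closed local domain of dimension one is a DVR (after helper39). -/
theorem isDiscreteValuationRing_of_dim_one (R : Type*) [CommRing R] [IsDomain R] [IsLocalRing R]
    [IsNoetherianRing R] [IsIntegrallyClosed R] (hdim : ringKrullDim R = 1) :
    IsDiscreteValuationRing R := by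
  have hnf : ¬ IsField R := by
    intro hf
    have := ringKrullDim_eq_zero_of_isField hf
    rw [hdim] at this
    exact one_ne_zero this
  have h1 : Ring.KrullDimLE 1 R := by rw [Ring.krullDimLE_iff, hdim]; rfl
  have hD : Ring.DimensionLEOne R :=
    ⟨fun hp0 hp => Ring.krullDimLE_one_iff_of_noZeroDivisors.mp h1 _ hp0 hp⟩
  have : IsDedekindDomain R := { (inferInstance : IsNoetherianRing R), hD,
    (inferInstance : IsIntegrallyClosed R) with }
  exact ((IsDiscreteValuationRing.TFAE R hnf).out 0 2).mpr this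

/-- A local ring which is adically complete with respect to its maximal ideal is henselian. -/
theorem henselianLocalRing_of_isAdicComplete (R : Type*) [CommRing R] [IsLocalRing R]
    [IsAdicComplete (maximalIdeal R) R] : HenselianLocalRing R where
  is_henselian f hf a₀ h₁ h₂ := by
    refine HenselianRing.is_henselian (I := maximalIdeal R) f hf a₀ h₁ ?_
    exact h₂.map (Ideal.Quotient.mk (maximalIdeal R))

variable (A : Type u) [CommRing A] [IsNoetherianRing A] [IsLocalRing A]
  [IsAdicComplete (maximalIdeal A) A]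

/-- Primes of coheight one. -/
def Pr : Type u := {P : Ideal A // P.IsPrime ∧ ringKrullDim (A ⧸ P) = 1}

instance (Q : Pr A) : Q.1.IsPrime := Q.2.1

/-- The normalization of `A/P`. -/
abbrev V (Q : Pr A) : Type u := integralClosure (A ⧸ Q.1) (FractionRing (A ⧸ Q.1))

theorem finite_V (Q : Pr A) : Module.Finite (A ⧸ Q.1) (V A Q) := by
  have hN := Groth.Agent.Lib.Helper88.CohenNagata.isNagata_of_complete A
  exact Groth.Agent.Lib.Helper88.isN1_of_isN2 (hN.2 Q.1)

theorem isDiscreteValuationRing_V (Q : Pr A) : IsDiscreteValuationRing (V A Q) := by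
  haveI := finite_V A Q
  haveI : HenselianLocalRing A := henselianLocalRing_of_isAdicComplete A
  haveI : HenselianLocalRing (A ⧸ Q.1) :=
    Groth.Agent.Lib.Helper86.Olivier.henselianLocalRing_quotient _ Q.2.1.ne_top
  haveI : IsLocalRing (V A Q) := Groth.Agent.Lib.Helper98.Olivier.isLocalRing_integralClosure
  haveI : IsNoetherianRing (V A Q) := IsNoetherianRing.of_finite (A ⧸ Q.1) (V A Q)
  haveI : IsIntegrallyClosed (V A Q) :=
    integralClosure.isIntegrallyClosedOfFiniteExtension (FractionRing (A ⧸ Q.1))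
  apply isDiscreteValuationRing_of_dim_one
  rw [Groth.Agent.Lib.Helper11.IntegralDim.ringKrullDim_eq_of_isIntegral_of_injective
    (R := A ⧸ Q.1) (FaithfulSMul.algebraMap_injective _ _)]
  exact Q.2.2

/-- The map `A → V`. -/
noncomputable def φ (Q : Pr A) : A →+* V A Q :=
  (algebraMap (A ⧸ Q.1) (V A Q)).comp (Ideal.Quotient.mk Q.1)

theorem ker_φ (Q : Pr A) : RingHom.ker (φ A Q) = Q.1 := by
  ext x
  rw [RingHom.mem_ker]
  show algebraMap (A ⧸ Q.1) (V A Q) (Ideal.Quotient.mk Q.1 x) = 0 ↔ _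
  rw [map_eq_zero_iff _ (FaithfulSMul.algebraMap_injective _ _), Ideal.Quotient.eq_zero_iff_mem]

theorem finite_φ (Q : Pr A) : (φ A Q).Finite := by
  haveI := finite_V A Q
  exact RingHom.Finite.comp (RingHom.finite_algebraMap.mpr inferInstance)
    (RingHom.Finite.of_surjective _ Ideal.Quotient.mk_surjective)

theorem isLocalHom_φ (Q : Pr A) : IsLocalHom (φ A Q) := by
  haveI : IsLocalHom (Ideal.Quotient.mk Q.1) :=
    IsLocalHom.of_surjective _ Ideal.Quotient.mk_surjective
  haveI : IsLocalHom (algebraMap (A ⧸ Q.1) (V A Q)) := inferInstance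
  exact RingHom.isLocalHom_comp _ _

end DVR

end Groth.Agent.Lib.Helper15.DvrFamily
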