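import Mathlib

/-!
# Eakin–Nagata theorem (Formanek's proof)

* `isNoetherian_of_acc_smul_top` : a finite module `M` over a commutative ring `B` such that
  the submodules `I • ⊤` satisfy the ascending chain condition is Noetherian.
* `isNoetherianRing_of_finite` : if `A` is a Noetherian ring which is a finite faithful `B`-module
  then `B` is Noetherian.
-/

set_option autoImplicit false
set_option linter.style.haveILetI false

namespace Groth.Agent.Lib.Helper15.EakinNagata

open Submodule

section core

variable {B M : Type*} [CommRing B] [AddCommGroup M] [Module B M]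

/-- Second half of Formanek's argument. -/
theorem isNoetherian_of_quot [Module.Finite B M]
    (H : ∀ b : B, (∃ m : M, b • m ≠ 0) →
      IsNoetherian B (M ⧸ LinearMap.range (LinearMap.lsmul B M b))) :
    IsNoetherian B M := by
  classical
  by_contra hM
  obtain ⟨s, hs⟩ := (Module.finite_def.mp ‹Module.Finite B M›)
  -- the set Γ
  let Γ : Set (Submodule B M) :=
    {N | ∀ b : B, (∀ m ∈ s, b • m ∈ N) → ∀ m ∈ s, b • m = 0}
  have hbot : (⊥ : Submodule B M) ∈ Γ := fun b hb m hm => by simpa using hb m hm
  obtain ⟨N₀, -, hN₀⟩ := zorn_le_nonempty₀ Γ (by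
    intro c hc hchain y hy
    refine ⟨sSup c, ?_, fun z hz => le_sSup hz⟩
    intro b hb
    have hdir : DirectedOn (· ≤ ·) c := hchain.directedOn
    -- a single member of the chain contains all b • m
    have key : ∀ t : Finset M, t ⊆ s → ∃ N ∈ c, ∀ m ∈ t, b • m ∈ N := by
      intro t
      induction t using Finset.induction_on with
      | empty => intro _; exact ⟨y, hy, by simp⟩
      | insert a t _ ih =>
        intro hts
        obtain ⟨N, hN, hNt⟩ := ih (fun x hx => hts (Finset.mem_insert_of_mem hx))
        obtain ⟨N', hN', ha⟩ := (mem_sSup_of_directed ⟨y, hy⟩ hdir).mp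
          (hb a (hts (Finset.mem_insert_self a t)))
        obtain ⟨N'', hN'', h1, h2⟩ := hdir N hN N' hN'
        refine ⟨N'', hN'', fun m hm => ?_⟩
        rcases Finset.mem_insert.mp hm with rfl | hm
        · exact h2 ha
        · exact h1 (hNt m hm)
    obtain ⟨N, hN, hNs⟩ := key s (Finset.Subset.refl s)
    exact hc hN b hNs) ⊥ hbot
  have hN₀Γ : N₀ ∈ Γ := hN₀.prop
  by_cases hcase : IsNoetherian B (M ⧸ N₀)
  · -- Case A: `M ⧸ N₀` Noetherian; then `B ⧸ Ann M` is Noetherian and so is `M`.
    apply hM
    let ψ : B →ₗ[B] (s → M ⧸ N₀) :=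
      LinearMap.pi fun m => (LinearMap.toSpanSingleton B (M ⧸ N₀) (N₀.mkQ m.1))
    have hker : ∀ b : B, b ∈ LinearMap.ker ψ → ∀ m : M, b • m = 0 := by
      intro b hb
      have h1 : ∀ m ∈ s, b • m ∈ N₀ := by
        intro m hm
        have := congrFun (LinearMap.mem_ker.mp hb) ⟨m, hm⟩
        simp only [ψ, LinearMap.pi_apply, LinearMap.toSpanSingleton_apply, Pi.zero_apply] at this
        rw [← map_smul, mkQ_apply, Submodule.Quotient.mk_eq_zero] at this
        exact this
      have h2 := hN₀Γ b h1
      intro m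
      have hm : m ∈ span B (s : Set M) := hs ▸ mem_top
      induction hm using Submodule.span_induction with
      | mem x hx => exact h2 x hx
      | zero => simp
      | add x y _ _ hx hy => rw [smul_add, hx, hy, add_zero]
      | smul a x _ hx => rw [smul_comm, hx, smul_zero]
    haveI : IsNoetherian B (s → M ⧸ N₀) := isNoetherian_pi'
    have hNoeth : IsNoetherian B (B ⧸ LinearMap.ker ψ) :=
      isNoetherian_of_injective
        ((LinearMap.range ψ).subtype.comp ψ.quotKerEquivRange.toLinearMap)
        (by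
          rw [LinearMap.coe_comp]
          exact (Submodule.injective_subtype _).comp ψ.quotKerEquivRange.injective)
    -- `M` is a quotient of `(B ⧸ ker ψ)^s`
    let φ : (s → B ⧸ LinearMap.ker ψ) →ₗ[B] M :=
      ∑ m : s, ((LinearMap.ker ψ).liftQ (LinearMap.toSpanSingleton B M m.1) (by
        intro b hb
        rw [LinearMap.mem_ker, LinearMap.toSpanSingleton_apply]
        exact hker b hb _)).comp (LinearMap.proj m)
    haveI : IsNoetherian B (s → B ⧸ LinearMap.ker ψ) := isNoetherian_pi'
    refine isNoetherian_of_surjective φ (LinearMap.range_eq_top.mpr ?_)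
    intro x
    have hx : x ∈ span B (s : Set M) := hs ▸ mem_top
    induction hx using Submodule.span_induction with
    | mem x hx =>
      refine ⟨Pi.single ⟨x, hx⟩ ((LinearMap.ker ψ).mkQ 1), ?_⟩
      simp only [φ, LinearMap.sum_apply, LinearMap.comp_apply, LinearMap.proj_apply]
      rw [Finset.sum_eq_single ⟨x, hx⟩]
      · rw [Pi.single_eq_same, mkQ_apply, liftQ_apply, LinearMap.toSpanSingleton_apply, one_smul]
      · intro m _ hm
        rw [Pi.single_eq_of_ne hm, map_zero]
      · intro h; exact absurd (Finset.mem_univ _) h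
    | zero => exact ⟨0, map_zero _⟩
    | add x y _ _ hx hy =>
      obtain ⟨a, rfl⟩ := hx
      obtain ⟨b, rfl⟩ := hy
      exact ⟨a + b, map_add _ _ _⟩
    | smul a x _ hx =>
      obtain ⟨c, rfl⟩ := hx
      exact ⟨a • c, map_smul _ _ _⟩
  · -- Case B
    rw [isNoetherian_def] at hcase
    push Not at hcase
    obtain ⟨N'', hN''⟩ := hcase
    let N' := N''.comap N₀.mkQ
    have hle : N₀ ≤ N' := by
      intro x hx
      change N₀.mkQ x ∈ N''
      rw [mkQ_apply, (Submodule.Quotient.mk_eq_zero N₀).mpr hx]
      exact zero_mem _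
    have hmap : N'.map N₀.mkQ = N'' := map_comap_eq_of_surjective (mkQ_surjective N₀) N''
    apply hN''
    rw [← hmap]
    apply Submodule.FG.map
    -- N' ∉ Γ
    have hN'Γ : N' ∉ Γ := by
      intro h
      have : N' = N₀ := (hN₀.eq_of_ge h hle)
      apply hN''
      rw [← hmap, this]
      have : N₀.map N₀.mkQ = ⊥ := by
        rw [← LinearMap.le_ker_iff_map, ker_mkQ]
      rw [this]
      exact fg_bot
    simp only [Γ, Set.mem_ofPred_eq] at hN'Γ
    push Not at hN'Γ
    obtain ⟨b, hb1, m₀, hm₀, hm₀'⟩ := hN'Γ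
    haveI := H b ⟨m₀, hm₀'⟩
    have hrange : LinearMap.range (LinearMap.lsmul B M b) ≤ N' := by
      rintro _ ⟨m, rfl⟩
      have hm : m ∈ span B (s : Set M) := hs ▸ mem_top
      rw [LinearMap.lsmul_apply]
      induction hm using Submodule.span_induction with
      | mem x hx => exact hb1 x hx
      | zero => simp
      | add x y _ _ hx hy => rw [smul_add]; exact add_mem hx hy
      | smul a x _ hx => rw [smul_comm]; exact N'.smul_mem a hx
    apply fg_of_fg_map_of_fg_inf_ker (LinearMap.range (LinearMap.lsmul B M b)).mkQ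
    · exact IsNoetherian.noetherian _
    · rw [ker_mkQ, inf_eq_right.mpr hrange, LinearMap.range_eq_map]
      exact Submodule.FG.map _ (Module.finite_def.mp inferInstance)

/-- **Formanek's theorem**: a finite module with ACC on the submodules `I • ⊤` is Noetherian. -/
theorem isNoetherian_of_acc_smul_top [Module.Finite B M]
    (hacc : ∀ S : Set (Submodule B M), S.Nonempty →
      (∀ N ∈ S, ∃ I : Ideal B, N = I • (⊤ : Submodule B M)) →
      ∃ P ∈ S, ∀ N ∈ S, P ≤ N → N = P) :
    IsNoetherian B M := by
  classical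
  by_contra hM
  let S : Set (Submodule B M) :=
    {N | (∃ I : Ideal B, N = I • (⊤ : Submodule B M)) ∧ ¬ IsNoetherian B (M ⧸ N)}
  have hS : S.Nonempty := by
    refine ⟨⊥, ⟨⊥, by simp⟩, fun h => hM ?_⟩
    exact isNoetherian_of_linearEquiv (Submodule.quotEquivOfEqBot ⊥ rfl)
  obtain ⟨P, ⟨⟨I₀, hI₀⟩, hPn⟩, hPmax⟩ := hacc S hS (fun N hN => hN.1)
  apply hPn
  apply isNoetherian_of_quot
  rintro b ⟨m', hm'⟩
  obtain ⟨m, rfl⟩ := mkQ_surjective P m'
  let J : Ideal B := I₀ ⊔ Ideal.span {b}
  have hPJ : P ≤ J • (⊤ : Submodule B M) := by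
    rw [hI₀]
    exact Submodule.smul_mono_left le_sup_left
  have hJN : IsNoetherian B (M ⧸ J • (⊤ : Submodule B M)) := by
    by_contra hJ
    have := hPmax (J • ⊤) ⟨⟨J, rfl⟩, hJ⟩ hPJ
    apply hm'
    rw [← map_smul, mkQ_apply, Submodule.Quotient.mk_eq_zero, ← this]
    exact Submodule.smul_mem_smul (Ideal.mem_sup_right (Ideal.mem_span_singleton_self b)) mem_top
  let π : M →ₗ[B] ((M ⧸ P) ⧸ LinearMap.range (LinearMap.lsmul B (M ⧸ P) b)) :=
    (mkQ _).comp (mkQ P)
  have hπ : Function.Surjective π := (mkQ_surjective _).comp (mkQ_surjective P)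
  have hker : J • (⊤ : Submodule B M) ≤ LinearMap.ker π := by
    rw [Submodule.smul_le]
    intro r hr n _
    obtain ⟨i, hi, c, hc, rfl⟩ := Submodule.mem_sup.mp hr
    obtain ⟨d, rfl⟩ := Ideal.mem_span_singleton'.mp hc
    rw [LinearMap.mem_ker, add_smul, map_add]
    have h1 : π (i • n) = 0 := by
      have : P.mkQ (i • n) = 0 := by
        rw [mkQ_apply, Submodule.Quotient.mk_eq_zero, hI₀]
        exact Submodule.smul_mem_smul hi mem_top
      simp only [π, LinearMap.comp_apply, this, map_zero]
    have h2 : π ((d * b) • n) = 0 := by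
      simp only [π, LinearMap.comp_apply]
      rw [mkQ_apply, mkQ_apply, Submodule.Quotient.mk_eq_zero]
      refine ⟨Submodule.Quotient.mk (d • n), ?_⟩
      rw [LinearMap.lsmul_apply, ← Submodule.Quotient.mk_smul, smul_smul, mul_comm]
    rw [h1, h2, add_zero]
  exact isNoetherian_of_surjective ((J • (⊤ : Submodule B M)).liftQ π hker)
    (LinearMap.range_eq_top.mpr (by
      intro x
      obtain ⟨y, rfl⟩ := hπ x
      exact ⟨Submodule.Quotient.mk y, by simp⟩))

end core

/-- **Eakin–Nagata**: if a Noetherian ring `A` is a finite faithful module over a subring `B`,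
then `B` is Noetherian. -/
theorem isNoetherianRing_of_finite (B A : Type*) [CommRing B] [CommRing A] [Algebra B A]
    [Module.Finite B A] [FaithfulSMul B A] [IsNoetherianRing A] : IsNoetherianRing B := by
  have hA : IsNoetherian B A := by
    apply isNoetherian_of_acc_smul_top
    intro S hS hform
    let S' : Set (Ideal A) := {J | J.restrictScalars B ∈ S}
    have hS' : S'.Nonempty := by
      obtain ⟨N, hN⟩ := hS
      obtain ⟨I, rfl⟩ := hform N hN
      exact ⟨I.map (algebraMap B A), by simpa [S', Ideal.smul_top_eq_map] using hN⟩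
    obtain ⟨J, hJ, hJmax⟩ := set_has_maximal_iff_noetherian.mpr
      (inferInstance : IsNoetherian A A) S' hS'
    refine ⟨J.restrictScalars B, hJ, fun N hN hle => ?_⟩
    obtain ⟨I, rfl⟩ := hform N hN
    rw [Ideal.smul_top_eq_map] at hN hle ⊢
    have hle' : J ≤ I.map (algebraMap B A) := fun x hx => hle hx
    by_contra hne
    exact hJmax (I.map (algebraMap B A)) hN (lt_of_le_of_ne hle' (fun h => hne (by rw [h])))
  exact isNoetherian_of_injective (Algebra.linearMap B A)
    (FaithfulSMul.algebraMap_injective B A)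

end Groth.Agent.Lib.Helper15.EakinNagata
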