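import Mathlib

set_option autoImplicit false
set_option linter.style.haveILetI false
universe u

/-! Good reduction of the minimal model from the existence of a good integral model. -/

open WeierstrassCurve IsDiscreteValuationRing IsDedekindDomain.HeightOneSpectrum

namespace Groth.Agent.Lib.Helper15.EllGoodRed

variable (R : Type*) [CommRing R] [IsDomain R] [IsDiscreteValuationRing R]
variable {K : Type*} [Field K] [Algebra R K] [IsFractionRing R K]

theorem hasGoodReduction_minimal_of_exists (W : WeierstrassCurve K) (C' : VariableChange K)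
    [hint : IsIntegral R (C' • W)]
    (hΔ : valuation K (maximalIdeal R) (C' • W).Δ = 1) :
    (W.minimal R).HasGoodReduction R := by
  have hmin : IsMinimal R (W.minimal R) := inferInstance
  have hmax := hmin.val_Δ_maximal
  set Cmin := (W.exists_isMinimal R).choose with hCmin
  have hWmin : W.minimal R = Cmin • W := rfl
  set C := C' * Cmin⁻¹ with hC
  have hCW : C • W.minimal R = C' • W := by
    rw [hWmin, hC, mul_smul, inv_smul_smul]
  have hP : IsIntegral R (C • W.minimal R) := by rw [hCW]; exact hint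
  have hfC : (valuation_Δ_aux R (C • W.minimal R) : WithZero (Multiplicative ℤ)) = 1 := by
    rw [valuation_Δ_aux_eq_of_isIntegral, hCW, hΔ]
  have hle : valuation_Δ_aux R ((1 : VariableChange K) • W.minimal R) ≤
      valuation_Δ_aux R (C • W.minimal R) := by
    rw [← Subtype.coe_le_coe, hfC]
    exact (valuation_Δ_aux R _).2
  have hge : valuation_Δ_aux R (C • W.minimal R) ≤
      valuation_Δ_aux R ((1 : VariableChange K) • W.minimal R) := hmax.2 hP hle
  rw [← Subtype.coe_le_coe, hfC, one_smul, valuation_Δ_aux_eq_of_isIntegral] at hge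
  exact { toIsMinimal := hmin
          goodReduction := le_antisymm (by
            obtain ⟨r, hr⟩ := Δ_integral_of_isIntegral R (W.minimal R)
            rw [← hr]; exact valuation_le_one _ r) hge }

/-- valuation of the image of a unit is one -/
theorem valuation_unit (d : R) (hd : IsUnit d) :
    valuation K (maximalIdeal R) (algebraMap R K d) = 1 := by
  refine le_antisymm (valuation_le_one _ d) ?_
  by_contra h
  push Not at h
  have := (valuation_lt_one_iff_mem (K := K) (maximalIdeal R) d).mp h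
  exact (IsLocalRing.mem_maximalIdeal d).mp this hd

/-- good reduction over a dominating DVR of an extension forces `j` to be integral -/
theorem j_integral_of_goodReduction (W : WeierstrassCurve K) [W.IsElliptic]
    (L : Type*) [Field L] [Algebra K L] (RL : Type*) [CommRing RL] [IsDomain RL]
    [IsDiscreteValuationRing RL] [Algebra RL L] [IsFractionRing RL L] (φ : R →+* RL)
    (hφ : IsLocalHom φ)
    (hcomp : ∀ r : R, algebraMap K L (algebraMap R K r) = algebraMap RL L (φ r))
    (hgood : ((W.baseChange L).minimal RL).HasGoodReduction RL) :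
    ∃ r : R, algebraMap R K r = W.j := by
  set Wmin := (W.baseChange L).minimal RL with hWmin
  haveI : IsMinimal RL Wmin := hgood.toIsMinimal
  have hΔ1 := hgood.goodReduction
  set Wint := integralModel RL Wmin with hWint
  have eΔ : algebraMap RL L Wint.Δ = Wmin.Δ := integralModel_Δ_eq RL Wmin
  have ec4 : algebraMap RL L Wint.c₄ = Wmin.c₄ := integralModel_c₄_eq RL Wmin
  have hunit : IsUnit Wint.Δ := by
    by_contra h
    have hm : Wint.Δ ∈ IsLocalRing.maximalIdeal RL := (IsLocalRing.mem_maximalIdeal _).mpr h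
    have := (valuation_lt_one_iff_mem (K := L) (maximalIdeal RL) Wint.Δ).mpr hm
    change valuation L (maximalIdeal RL) (algebraMap RL L Wint.Δ) < 1 at this
    rw [eΔ, hΔ1] at this
    exact lt_irrefl _ this
  obtain ⟨d, hd⟩ := hunit
  -- j of the minimal model
  haveI : (W.baseChange L).IsElliptic := by
    unfold WeierstrassCurve.baseChange; infer_instance
  haveI : Wmin.IsElliptic := by
    show (((W.baseChange L).exists_isMinimal RL).choose • (W.baseChange L)).IsElliptic
    infer_instance
  have hj1 : Wmin.j = (W.baseChange L).j := by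
    show (((W.baseChange L).exists_isMinimal RL).choose • (W.baseChange L)).j = _
    rw [variableChange_j]
  have hj2 : (W.baseChange L).j = algebraMap K L W.j := by
    unfold WeierstrassCurve.baseChange; rw [map_j]
  have hΔj : Wmin.Δ * Wmin.j = Wmin.c₄ ^ 3 := by
    rw [WeierstrassCurve.j, ← mul_assoc, ← Wmin.coe_Δ', Units.mul_inv, one_mul]
  set y : RL := ((d⁻¹ : RLˣ) : RL) * Wint.c₄ ^ 3 with hy
  have hyj : algebraMap RL L y = algebraMap K L W.j := by
    rw [← hj2, ← hj1]
    have h1 : algebraMap RL L (d : RL) * algebraMap RL L y = Wmin.c₄ ^ 3 := by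
      rw [hy, ← map_mul, ← mul_assoc, Units.mul_inv, one_mul, map_pow, ec4]
    rw [hd, eΔ] at h1
    have hΔne : Wmin.Δ ≠ 0 := Wmin.isUnit_Δ.ne_zero
    exact mul_left_cancel₀ hΔne (h1.trans hΔj.symm)
  by_cases h0 : W.j = 0
  · exact ⟨0, by rw [map_zero, h0]⟩
  rcases ValuationRing.isInteger_or_isInteger R W.j with ⟨r, hr⟩ | ⟨a, ha⟩
  · exact ⟨r, hr⟩
  · have hmul : algebraMap R K a * W.j = 1 := by rw [ha, inv_mul_cancel₀ h0]
    have hL : algebraMap RL L (φ a * y) = 1 := by
      rw [map_mul, ← hcomp, hyj, ← map_mul, hmul, map_one]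
    have hone : φ a * y = 1 := IsFractionRing.injective RL L (by rw [hL, map_one])
    have hau : IsUnit a := hφ.map_nonunit a (IsUnit.of_mul_eq_one _ hone)
    obtain ⟨au, hau'⟩ := hau
    have : W.j = algebraMap R K ((au⁻¹ : Rˣ) : R) := by
      have h1 : algebraMap R K a * algebraMap R K ((au⁻¹ : Rˣ) : R) = 1 := by
        rw [← map_mul, ← hau', Units.mul_inv, map_one]
      have hane : algebraMap R K a ≠ 0 := left_ne_zero_of_mul_eq_one hmul
      exact mul_left_cancel₀ hane (hmul.trans h1.symm)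
    exact ⟨((au⁻¹ : Rˣ) : R), this.symm⟩

section Families

variable {F : Type*} [Field F]

/-- family A: `y² = x³ + a₂ x² - x` -/
def WA (a2 : F) : WeierstrassCurve F := ⟨0, a2, 0, -1, 0⟩

theorem WA_Δ (a2 : F) : (WA a2).Δ = 16 * (a2 ^ 2 + 4) := by
  simp only [WA, WeierstrassCurve.Δ, b₂, b₄, b₆, b₈]; ring

theorem WA_c₄ (a2 : F) : (WA a2).c₄ = 16 * (a2 ^ 2 + 3) := by
  simp only [WA, WeierstrassCurve.c₄, b₂, b₄]; ring

theorem WA_j (a2 jj : F) [(WA a2).IsElliptic]
    (hrel : 256 * (a2 ^ 2 + 3) ^ 3 = jj * (a2 ^ 2 + 4)) : (WA a2).j = jj := by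
  have hΔne : (WA a2).Δ ≠ 0 := (WA a2).isUnit_Δ.ne_zero
  have h1 : (WA a2).Δ * (WA a2).j = (WA a2).c₄ ^ 3 := by
    rw [WeierstrassCurve.j, ← mul_assoc, ← (WA a2).coe_Δ', Units.mul_inv, one_mul]
  apply mul_left_cancel₀ hΔne
  rw [h1, WA_Δ, WA_c₄]
  linear_combination 16 * hrel

/-- family B: `y² + α x y + y = x³` -/
def WB (α : F) : WeierstrassCurve F := ⟨α, 0, 1, 0, 0⟩

theorem WB_Δ (α : F) : (WB α).Δ = α ^ 3 - 27 := by
  simp only [WB, WeierstrassCurve.Δ, b₂, b₄, b₆, b₈]; ring

theorem WB_c₄ (α : F) : (WB α).c₄ = α * (α ^ 3 - 24) := by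
  simp only [WB, WeierstrassCurve.c₄, b₂, b₄]; ring

theorem WB_j (α jj : F) [(WB α).IsElliptic]
    (hrel : α ^ 3 * (α ^ 3 - 24) ^ 3 = jj * (α ^ 3 - 27)) : (WB α).j = jj := by
  have hΔne : (WB α).Δ ≠ 0 := (WB α).isUnit_Δ.ne_zero
  have h1 : (WB α).Δ * (WB α).j = (WB α).c₄ ^ 3 := by
    rw [WeierstrassCurve.j, ← mul_assoc, ← (WB α).coe_Δ', Units.mul_inv, one_mul]
  apply mul_left_cancel₀ hΔne
  rw [h1, WB_Δ, WB_c₄]
  linear_combination hrel

end Families

end Groth.Agent.Lib.Helper15.EllGoodRed
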