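import Groth.Agent.Lib.Helper15.EllGoodRed
import Groth.Agent.Lib.Helper39.DVRDominate

set_option autoImplicit false
set_option linter.style.haveILetI false
set_option linter.unusedVariables false
universe u

/-! Potential good reduction from an integral model over the algebraic closure. -/

open WeierstrassCurve IsDiscreteValuationRing IsDedekindDomain.HeightOneSpectrum

namespace Groth.Agent.Lib.Helper15.EllGoodRed

theorem exists_goodReduction_of_model {R : Type u} [CommRing R] [IsDomain R]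
    [IsDiscreteValuationRing R] {K : Type u} [Field K] [Algebra R K] [IsFractionRing R K]
    (W : WeierstrassCurve K) [W.IsElliptic]
    {Kb : Type u} [Field Kb] [Algebra K Kb] [IsAlgClosed Kb] [Algebra.IsIntegral K Kb]
    [Algebra R Kb] [IsScalarTower R K Kb]
    (W' : WeierstrassCurve Kb) [W'.IsElliptic]
    (h1 : IsIntegral R W'.a₁) (h2 : IsIntegral R W'.a₂) (h3 : IsIntegral R W'.a₃)
    (h4 : IsIntegral R W'.a₄) (h6 : IsIntegral R W'.a₆)
    (e : Kb) (he : IsIntegral R e) (hΔe : W'.Δ * e = 1)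
    (hj : W'.j = algebraMap K Kb W.j) :
    ∃ (L : Type u) (_ : Field L) (_ : Algebra K L) (_ : FiniteDimensional K L) (RL : Type u)
      (_ : CommRing RL) (_ : IsDomain RL) (_ : IsDiscreteValuationRing RL) (_ : Algebra RL L)
      (_ : IsFractionRing RL L) (φ : R →+* RL), IsLocalHom φ ∧
      (∀ r : R, algebraMap K L (algebraMap R K r) = algebraMap RL L (φ r)) ∧
      ((W.baseChange L).minimal RL).HasGoodReduction RL := by
  classical
  obtain ⟨C, hC⟩ := exists_variableChange_of_j_eq (W.map (algebraMap K Kb)) W'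
    (by rw [map_j, hj])
  set S : Set Kb := {W'.a₁, W'.a₂, W'.a₃, W'.a₄, W'.a₆, e, (C.u : Kb), ((C.u⁻¹ : Kbˣ) : Kb),
    C.r, C.s, C.t} with hS
  haveI : Finite S := by rw [hS]; exact Set.toFinite _ |>.to_subtype
  set L : IntermediateField K Kb := IntermediateField.adjoin K S with hL
  haveI hfd : FiniteDimensional K L :=
    IntermediateField.finiteDimensional_adjoin (fun x _ => Algebra.IsIntegral.isIntegral x)
  have hmem : ∀ x ∈ S, x ∈ L := fun x hx => IntermediateField.subset_adjoin K S hx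
  have m1 : W'.a₁ ∈ L := hmem _ (by simp [hS])
  have m2 : W'.a₂ ∈ L := hmem _ (by simp [hS])
  have m3 : W'.a₃ ∈ L := hmem _ (by simp [hS])
  have m4 : W'.a₄ ∈ L := hmem _ (by simp [hS])
  have m6 : W'.a₆ ∈ L := hmem _ (by simp [hS])
  have me : e ∈ L := hmem _ (by simp [hS])
  have mu : (C.u : Kb) ∈ L := hmem _ (by simp [hS])
  have mv : ((C.u⁻¹ : Kbˣ) : Kb) ∈ L := hmem _ (by simp [hS])
  have mr : C.r ∈ L := hmem _ (by simp [hS])
  have ms : C.s ∈ L := hmem _ (by simp [hS])
  have mt : C.t ∈ L := hmem _ (by simp [hS])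
  -- structures on L
  letI : Algebra R L := ((algebraMap K L).comp (algebraMap R K)).toAlgebra
  haveI : IsScalarTower R K L := IsScalarTower.of_algebraMap_eq (fun _ => rfl)
  have hRLb : (L.val : L →+* Kb).comp (algebraMap R L) = algebraMap R Kb := by
    ext r
    show ((algebraMap K L (algebraMap R K r) : L) : Kb) = _
    rw [IsScalarTower.algebraMap_apply R K Kb]; rfl
  have hfg : (⊤ : IntermediateField K L).FG := IntermediateField.fg_of_noetherian ⊤
  have hRnf : ¬ IsField R := IsDiscreteValuationRing.not_isField R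
  obtain ⟨V, hVdvr, hVR, hVdom⟩ :=
    Groth.Agent.Lib.Helper39.KA.exists_dvr_dominating_of_fg R K L hRnf hfg
  haveI := hVdvr
  set φ : R →+* V := (algebraMap R L).codRestrict V hVR with hφ
  have hloc : IsLocalHom φ := by
    refine ⟨fun a ha => ?_⟩
    by_contra hna
    have hm : a ∈ IsLocalRing.maximalIdeal R := (IsLocalRing.mem_maximalIdeal a).mpr hna
    have hlt := hVdom a hm
    have : φ a ∈ IsLocalRing.maximalIdeal V := (V.valuation_lt_one_iff (φ a)).mpr hlt
    exact (IsLocalRing.mem_maximalIdeal _).mp this ha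
  letI : Algebra R V := φ.toAlgebra
  haveI : IsScalarTower R V L := IsScalarTower.of_algebraMap_eq (fun _ => rfl)
  have hintL : ∀ x : L, IsIntegral R (x : Kb) → IsIntegral R x := by
    rintro x ⟨p, hp, hpx⟩
    refine ⟨p, hp, ?_⟩
    apply Subtype.val_injective
    have := Polynomial.hom_eval₂ p (algebraMap R L) (L.val : L →+* Kb) x
    rw [hRLb] at this
    show (L.val : L →+* Kb) (Polynomial.eval₂ (algebraMap R L) x p) = ((0 : L) : Kb)
    rw [this]
    exact hpx
  have hmemV : ∀ x : L, IsIntegral R (x : Kb) → x ∈ V := by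
    intro x hx
    have h1 : IsIntegral V x := (hintL x hx).tower_top
    obtain ⟨y, hy⟩ := IsIntegrallyClosed.isIntegral_iff.mp h1
    rw [← hy]; exact y.2
  -- the model over V
  set W'V : WeierstrassCurve V := ⟨⟨⟨W'.a₁, m1⟩, hmemV ⟨W'.a₁, m1⟩ h1⟩,
    ⟨⟨W'.a₂, m2⟩, hmemV ⟨W'.a₂, m2⟩ h2⟩, ⟨⟨W'.a₃, m3⟩, hmemV ⟨W'.a₃, m3⟩ h3⟩,
    ⟨⟨W'.a₄, m4⟩, hmemV ⟨W'.a₄, m4⟩ h4⟩, ⟨⟨W'.a₆, m6⟩, hmemV ⟨W'.a₆, m6⟩ h6⟩⟩ with hW'V
  set W'L : WeierstrassCurve L := W'V.map (algebraMap V L) with hW'L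
  have hW'Lb : W'L.map (L.val : L →+* Kb) = W' := by
    ext <;> rfl
  set CL : VariableChange L := ⟨⟨⟨(C.u : Kb), mu⟩, ⟨((C.u⁻¹ : Kbˣ) : Kb), mv⟩,
    Subtype.ext C.u.mul_inv, Subtype.ext C.u.inv_mul⟩, ⟨C.r, mr⟩, ⟨C.s, ms⟩, ⟨C.t, mt⟩⟩ with hCL
  have hCLb : CL.map (L.val : L →+* Kb) = C := by
    ext <;> rfl
  have hWLb : (W.baseChange L).map (L.val : L →+* Kb) = W.map (algebraMap K Kb) := by
    unfold WeierstrassCurve.baseChange
    rw [WeierstrassCurve.map_map]
    rfl
  have hCLW : CL • (W.baseChange L) = W'L := by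
    apply WeierstrassCurve.map_injective (f := (L.val : L →+* Kb)) Subtype.val_injective
    dsimp only
    rw [← map_variableChange, hCLb, hWLb, hC, hW'Lb]
  haveI hintg : WeierstrassCurve.IsIntegral V (CL • (W.baseChange L)) := by
    rw [hCLW]
    exact ⟨⟨W'V, rfl⟩⟩
  -- the discriminant is a unit
  have hΔb : ((algebraMap V L W'V.Δ : L) : Kb) = W'.Δ := by
    rw [← map_Δ, ← hW'L]
    show (L.val : L →+* Kb) W'L.Δ = _
    rw [← map_Δ, hW'Lb]
  have heV : (⟨e, me⟩ : L) ∈ V := hmemV ⟨e, me⟩ he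
  have hunit : IsUnit W'V.Δ := by
    refine IsUnit.of_mul_eq_one ⟨⟨e, me⟩, heV⟩ ?_
    apply Subtype.val_injective
    apply Subtype.val_injective
    show ((algebraMap V L W'V.Δ : L) : Kb) * e = 1
    rw [hΔb, hΔe]
  have hval : valuation L (maximalIdeal V) (CL • (W.baseChange L)).Δ = 1 := by
    rw [hCLW, hW'L, map_Δ]
    exact valuation_unit V _ hunit
  refine ⟨L, inferInstance, inferInstance, hfd, V, inferInstance, inferInstance, hVdvr,
    inferInstance, inferInstance, φ, hloc, fun r => rfl, ?_⟩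
  exact hasGoodReduction_minimal_of_exists V (W.baseChange L) CL hval

end Groth.Agent.Lib.Helper15.EllGoodRed
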