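import Groth.Agent.Lib.Helper15.EllGoodRed2

set_option autoImplicit false
set_option linter.style.haveILetI false
set_option linter.unusedVariables false
universe u

/-! Explicit models with good reduction and prescribed integral `j`. -/

open WeierstrassCurve Polynomial

namespace Groth.Agent.Lib.Helper15.EllGoodRed

theorem isIntegral_of_rel3 {R L : Type*} [CommRing R] [CommRing L] [Algebra R L] (x c2 c1 c0 : L)
    (h2 : IsIntegral R c2) (h1 : IsIntegral R c1) (h0 : IsIntegral R c0)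
    (h : x ^ 3 = c2 * x ^ 2 + c1 * x + c0) : IsIntegral R x := by
  let A' := integralClosure R L
  let c2' : A' := ⟨c2, h2⟩
  let c1' : A' := ⟨c1, h1⟩
  let c0' : A' := ⟨c0, h0⟩
  have hx : IsIntegral A' x := by
    refine ⟨X ^ (2 + 1) - (C c2' * X ^ 2 + C c1' * X + C c0'), ?_, ?_⟩
    · apply Polynomial.monic_X_pow_sub
      compute_degree
      all_goals norm_num
    · simp only [eval₂_sub, eval₂_add, eval₂_mul, eval₂_pow, eval₂_X, eval₂_C]
      show x ^ (2 + 1) - (c2 * x ^ 2 + c1 * x + c0) = 0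
      rw [← h]; ring
  exact isIntegral_trans x hx

theorem isIntegral_of_rel4 {R L : Type*} [CommRing R] [CommRing L] [Algebra R L]
    (x c3 c2 c1 c0 : L)
    (h3 : IsIntegral R c3) (h2 : IsIntegral R c2) (h1 : IsIntegral R c1) (h0 : IsIntegral R c0)
    (h : x ^ 4 = c3 * x ^ 3 + c2 * x ^ 2 + c1 * x + c0) : IsIntegral R x := by
  let A' := integralClosure R L
  let c3' : A' := ⟨c3, h3⟩
  let c2' : A' := ⟨c2, h2⟩
  let c1' : A' := ⟨c1, h1⟩
  let c0' : A' := ⟨c0, h0⟩
  have hx : IsIntegral A' x := by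
    refine ⟨X ^ (3 + 1) - (C c3' * X ^ 3 + C c2' * X ^ 2 + C c1' * X + C c0'), ?_, ?_⟩
    · apply Polynomial.monic_X_pow_sub
      compute_degree
      all_goals norm_num
    · simp only [eval₂_sub, eval₂_add, eval₂_mul, eval₂_pow, eval₂_X, eval₂_C]
      show x ^ (3 + 1) - (c3 * x ^ 3 + c2 * x ^ 2 + c1 * x + c0) = 0
      rw [← h]; ring
  exact isIntegral_trans x hx

/-- roots of monic cubics/quartics in an algebraically closed field -/
theorem exists_root3 {F : Type*} [Field F] [IsAlgClosed F] (c2 c1 c0 : F) :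
    ∃ x : F, x ^ 3 = c2 * x ^ 2 + c1 * x + c0 := by
  have hq : (C c2 * X ^ 2 + C c1 * X + C c0 : F[X]).degree < ((3 : ℕ) : WithBot ℕ) := by
    compute_degree
    all_goals norm_num
  have hdeg : (X ^ 3 - (C c2 * X ^ 2 + C c1 * X + C c0) : F[X]).degree ≠ 0 := by
    rw [Polynomial.degree_sub_eq_left_of_degree_lt (by rw [degree_X_pow]; exact hq), degree_X_pow]
    norm_num
  obtain ⟨x, hx⟩ := IsAlgClosed.exists_root _ hdeg
  refine ⟨x, ?_⟩
  simp only [IsRoot.def, eval_sub, eval_add, eval_mul, eval_pow, eval_X, eval_C] at hx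
  linear_combination hx

theorem exists_root4 {F : Type*} [Field F] [IsAlgClosed F] (c3 c2 c1 c0 : F) :
    ∃ x : F, x ^ 4 = c3 * x ^ 3 + c2 * x ^ 2 + c1 * x + c0 := by
  have hq : (C c3 * X ^ 3 + C c2 * X ^ 2 + C c1 * X + C c0 : F[X]).degree <
      ((4 : ℕ) : WithBot ℕ) := by
    compute_degree
    all_goals norm_num
  have hdeg : (X ^ 4 - (C c3 * X ^ 3 + C c2 * X ^ 2 + C c1 * X + C c0) : F[X]).degree ≠ 0 := by
    rw [Polynomial.degree_sub_eq_left_of_degree_lt (by rw [degree_X_pow]; exact hq), degree_X_pow]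
    norm_num
  obtain ⟨x, hx⟩ := IsAlgClosed.exists_root _ hdeg
  refine ⟨x, ?_⟩
  simp only [IsRoot.def, eval_sub, eval_add, eval_mul, eval_pow, eval_X, eval_C] at hx
  linear_combination hx

theorem exists_model {R : Type*} [CommRing R] [IsLocalRing R]
    {Kb : Type*} [Field Kb] [IsAlgClosed Kb] [Algebra R Kb] (r : R) :
    ∃ (W' : WeierstrassCurve Kb) (_ : W'.IsElliptic) (e : Kb),
      IsIntegral R W'.a₁ ∧ IsIntegral R W'.a₂ ∧ IsIntegral R W'.a₃ ∧ IsIntegral R W'.a₄ ∧
      IsIntegral R W'.a₆ ∧ IsIntegral R e ∧ W'.Δ * e = 1 ∧ W'.j = algebraMap R Kb r := by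
  set f := algebraMap R Kb with hf
  have iR : ∀ x : R, IsIntegral R (f x) := fun x => isIntegral_algebraMap
  have i0 : IsIntegral R (0 : Kb) := isIntegral_zero
  have i1 : IsIntegral R (1 : Kb) := isIntegral_one
  by_cases h2 : IsUnit (2 : R)
  · -- family A
    obtain ⟨u2, hu2⟩ := h2
    set i2 : R := ((u2⁻¹ : Rˣ) : R) with hi2
    have h2i : (2 : R) * i2 = 1 := by rw [← hu2, hi2, Units.mul_inv]
    have hf2 : f 2 * f i2 = 1 := by rw [← map_mul, h2i, map_one]
    have hf2' : (2 : Kb) * f i2 = 1 := by rw [← hf2, map_ofNat]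
    set c : R := r * i2 ^ 8 with hc
    set c' : Kb := f c with hc'
    have h256 : (256 : Kb) * c' = f r := by
      rw [hc', hc, map_mul, map_pow]
      linear_combination
        (f r) * (((2 : Kb) * f i2) ^ 7 + (2 * f i2) ^ 6 + (2 * f i2) ^ 5 + (2 * f i2) ^ 4
          + (2 * f i2) ^ 3 + (2 * f i2) ^ 2 + (2 * f i2) + 1) * hf2'
    obtain ⟨z, hz⟩ := exists_root3 (f (-9)) (f (c - 27)) (f (4 * c - 27))
    have hzint : IsIntegral R z := isIntegral_of_rel3 z _ _ _ (iR _) (iR _) (iR _) hz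
    simp only [map_neg, map_sub, map_mul, map_ofNat] at hz
    obtain ⟨a2, ha2⟩ := IsAlgClosed.exists_pow_nat_eq z (n := 2) (by norm_num)
    have ha2int : IsIntegral R a2 := IsIntegral.of_pow (n := 2) (by norm_num) (ha2 ▸ hzint)
    set t : Kb := z + 4 with ht
    have htrel : (t - 1) ^ 3 = c' * t := by rw [ht]; linear_combination hz
    have ht0 : t ≠ 0 := by
      intro h0
      rw [h0] at htrel
      norm_num at htrel
    set s : Kb := t⁻¹ with hs
    have hts : t * s = 1 := mul_inv_cancel₀ ht0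
    have hsrel : s ^ 3 = f (3 - c) * s ^ 2 + f (-3) * s + f 1 := by
      simp only [map_neg, map_sub, map_one, map_ofNat]
      have e1 : t ^ 3 * s ^ 3 = 1 := by rw [← mul_pow, hts, one_pow]
      have e2 : t ^ 2 * s ^ 2 = 1 := by rw [← mul_pow, hts, one_pow]
      linear_combination (-(s ^ 3)) * htrel + e1 - (3 * s) * e2 + (3 * s ^ 2 - c' * s ^ 2) * hts
    have hsint : IsIntegral R s := isIntegral_of_rel3 s _ _ _ (iR _) (iR _) (iR _) hsrel
    set e : Kb := f (i2 ^ 4) * s with he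
    have heint : IsIntegral R e := (iR _).mul hsint
    have hΔ : (EllGoodRed.WA a2).Δ * e = 1 := by
      rw [WA_Δ, ha2, he, map_pow]
      have e16 : (16 : Kb) * f i2 ^ 4 = 1 := by
        have : ((2 : Kb) * f i2) ^ 4 = 1 := by rw [hf2', one_pow]
        linear_combination this
      linear_combination (t * s) * e16 + hts
    haveI hell : (EllGoodRed.WA a2).IsElliptic := ⟨IsUnit.of_mul_eq_one e hΔ⟩
    refine ⟨EllGoodRed.WA a2, hell, e, i0, ha2int, i0, i1.neg, i0, heint, hΔ, ?_⟩
    apply WA_j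
    rw [ha2]
    linear_combination 256 * hz + (z + 4) * h256
  · -- family B
    have h3 : IsUnit (3 : R) := by
      rcases IsLocalRing.isUnit_or_isUnit_of_add_one (a := (3 : R)) (b := -2) (by norm_num) with h | h
      · exact h
      · exact absurd (by simpa using h.neg) h2
    obtain ⟨u3, hu3⟩ := h3
    set i3 : R := ((u3⁻¹ : Rˣ) : R) with hi3
    have h3i : (3 : R) * i3 = 1 := by rw [← hu3, hi3, Units.mul_inv]
    have hf3' : (3 : Kb) * f i3 = 1 := by rw [← map_ofNat f 3, ← map_mul, h3i, map_one]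
    set r' : Kb := f r with hr'
    obtain ⟨w, hw⟩ := exists_root4 (f 72) (f (-1728)) (f (13824 + r)) (f (-27 * r))
    have hwint : IsIntegral R w := isIntegral_of_rel4 w _ _ _ _ (iR _) (iR _) (iR _) (iR _) hw
    simp only [map_neg, map_add, map_mul, map_ofNat] at hw
    obtain ⟨α, hα⟩ := IsAlgClosed.exists_pow_nat_eq w (n := 3) (by norm_num)
    have hαint : IsIntegral R α := IsIntegral.of_pow (n := 3) (by norm_num) (hα ▸ hwint)
    have hwrel : w * (w - 24) ^ 3 = r' * (w - 27) := by linear_combination hw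
    set t : Kb := w - 27 with ht
    have htrel : t ^ 4 + 36 * t ^ 3 + 270 * t ^ 2 + (756 - r') * t + 729 = 0 := by
      rw [ht]; linear_combination hwrel
    have h729 : (729 : Kb) * f i3 ^ 6 = 1 := by
      have : ((3 : Kb) * f i3) ^ 6 = 1 := by rw [hf3', one_pow]
      linear_combination this
    have ht0 : t ≠ 0 := by
      intro h0
      rw [h0] at htrel
      have : (729 : Kb) = 0 := by linear_combination htrel
      rw [this, zero_mul] at h729
      exact zero_ne_one h729
    set s : Kb := t⁻¹ with hs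
    have hts : t * s = 1 := mul_inv_cancel₀ ht0
    have hsrel : s ^ 4 = f (-(i3 ^ 6) * (756 - r)) * s ^ 3 + f (-270 * i3 ^ 6) * s ^ 2
        + f (-36 * i3 ^ 6) * s + f (-(i3 ^ 6)) := by
      simp only [map_neg, map_sub, map_mul, map_pow, map_ofNat]
      have e4 : t ^ 4 * s ^ 4 = 1 := by rw [← mul_pow, hts, one_pow]
      have e3 : t ^ 3 * s ^ 3 = 1 := by rw [← mul_pow, hts, one_pow]
      have e2 : t ^ 2 * s ^ 2 = 1 := by rw [← mul_pow, hts, one_pow]
      have hmain : 729 * s ^ 4 + (756 - r') * s ^ 3 + 270 * s ^ 2 + 36 * s + 1 = 0 := by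
        linear_combination (s ^ 4) * htrel - e4 - (36 * s) * e3 - (270 * s ^ 2) * e2
          - ((756 - r') * s ^ 3) * hts
      linear_combination (f i3 ^ 6) * hmain - (s ^ 4) * h729
    have hsint : IsIntegral R s :=
      isIntegral_of_rel4 s _ _ _ _ (iR _) (iR _) (iR _) (iR _) hsrel
    have hΔ : (EllGoodRed.WB α).Δ * s = 1 := by
      rw [WB_Δ, hα]; exact hts
    haveI hell : (EllGoodRed.WB α).IsElliptic := ⟨IsUnit.of_mul_eq_one s hΔ⟩
    refine ⟨EllGoodRed.WB α, hell, s, hαint, i0, i1, i0, i0, hsint, hΔ, ?_⟩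
    apply WB_j
    rw [hα]
    exact hwrel

end Groth.Agent.Lib.Helper15.EllGoodRed
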