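import Mathlib

set_option autoImplicit false
set_option maxHeartbeats 4000000
set_option linter.unusedVariables false
set_option linter.unusedSimpArgs false

/-! Square-zero lifting of changes of variables between Weierstrass curves with the same `j`
(`c₄`, `c₆`, `Δ` units): explicit certificates. -/

namespace Groth.Agent.Lib.Helper15.EllSmooth

variable {D : Type*} [CommRing D]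

/-- discriminant polynomial -/
def Dl (a1 a2 a3 a4 a6 : D) : D := -a1*a1*a1*a1*a1*a1*a6 + a1*a1*a1*a1*a1*a3*a4 - a1*a1*a1*a1*a2*a3*a3 - 12*a1*a1*a1*a1*a2*a6 + a1*a1*a1*a1*a4*a4 + 8*a1*a1*a1*a2*a3*a4 + a1*a1*a1*a3*a3*a3 + 36*a1*a1*a1*a3*a6 - 8*a1*a1*a2*a2*a3*a3 - 48*a1*a1*a2*a2*a6 + 8*a1*a1*a2*a4*a4 - 30*a1*a1*a3*a3*a4 + 72*a1*a1*a4*a6 + 16*a1*a2*a2*a3*a4 + 36*a1*a2*a3*a3*a3 + 144*a1*a2*a3*a6 - 96*a1*a3*a4*a4 - 16*a2*a2*a2*a3*a3 - 64*a2*a2*a2*a6 + 16*a2*a2*a4*a4 + 72*a2*a3*a3*a4 + 288*a2*a4*a6 - 27*a3*a3*a3*a3 - 216*a3*a3*a6 - 64*a4*a4*a4 - 432*a6*a6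
/-- c4 polynomial -/
def c4p (a1 a2 a3 a4 a6 : D) : D := a1*a1*a1*a1 + 8*a1*a1*a2 - 24*a1*a3 + 16*a2*a2 - 48*a4
/-- c6 polynomial -/
def c6p (a1 a2 a3 a4 a6 : D) : D := -a1*a1*a1*a1*a1*a1 - 12*a1*a1*a1*a1*a2 + 36*a1*a1*a1*a3 - 48*a1*a1*a2*a2 + 72*a1*a1*a4 + 144*a1*a2*a3 - 64*a2*a2*a2 + 288*a2*a4 - 216*a3*a3 - 864*a6
/-- first variation of the discriminant -/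
def dDl (a1 a2 a3 a4 a6 e1 e2 e3 e4 e6 : D) : D := (-6*a1*a1*a1*a1*a1*a6 + 5*a1*a1*a1*a1*a3*a4 - 4*a1*a1*a1*a2*a3*a3 - 48*a1*a1*a1*a2*a6 + 4*a1*a1*a1*a4*a4 + 24*a1*a1*a2*a3*a4 + 3*a1*a1*a3*a3*a3 + 108*a1*a1*a3*a6 - 16*a1*a2*a2*a3*a3 - 96*a1*a2*a2*a6 + 16*a1*a2*a4*a4 - 60*a1*a3*a3*a4 + 144*a1*a4*a6 + 16*a2*a2*a3*a4 + 36*a2*a3*a3*a3 + 144*a2*a3*a6 - 96*a3*a4*a4) * e1 + (-a1*a1*a1*a1*a3*a3 - 12*a1*a1*a1*a1*a6 + 8*a1*a1*a1*a3*a4 - 16*a1*a1*a2*a3*a3 - 96*a1*a1*a2*a6 + 8*a1*a1*a4*a4 + 32*a1*a2*a3*a4 + 36*a1*a3*a3*a3 + 144*a1*a3*a6 - 48*a2*a2*a3*a3 - 192*a2*a2*a6 + 32*a2*a4*a4 + 72*a3*a3*a4 + 288*a4*a6) * e2 + (a1*a1*a1*a1*a1*a4 - 2*a1*a1*a1*a1*a2*a3 + 8*a1*a1*a1*a2*a4 + 3*a1*a1*a1*a3*a3 + 36*a1*a1*a1*a6 - 16*a1*a1*a2*a2*a3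 - 60*a1*a1*a3*a4 + 16*a1*a2*a2*a4 + 108*a1*a2*a3*a3 + 144*a1*a2*a6 - 96*a1*a4*a4 - 32*a2*a2*a2*a3 + 144*a2*a3*a4 - 108*a3*a3*a3 - 432*a3*a6) * e3 + (a1*a1*a1*a1*a1*a3 + 2*a1*a1*a1*a1*a4 + 8*a1*a1*a1*a2*a3 + 16*a1*a1*a2*a4 - 30*a1*a1*a3*a3 + 72*a1*a1*a6 + 16*a1*a2*a2*a3 - 192*a1*a3*a4 + 32*a2*a2*a4 + 72*a2*a3*a3 + 288*a2*a6 - 192*a4*a4) * e4 + (-a1*a1*a1*a1*a1*a1 - 12*a1*a1*a1*a1*a2 + 36*a1*a1*a1*a3 - 48*a1*a1*a2*a2 + 72*a1*a1*a4 + 144*a1*a2*a3 - 64*a2*a2*a2 + 288*a2*a4 - 216*a3*a3 - 864*a6) * e6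
/-- first variation of c4 -/
def dc4 (a1 a2 a3 a4 a6 e1 e2 e3 e4 e6 : D) : D := (4*a1*a1*a1 + 16*a1*a2 - 24*a3) * e1 + (8*a1*a1 + 32*a2) * e2 + (-24*a1) * e3 + (-48) * e4 + (0) * e6
/-- the minors linear form -/
def mm (a1 a2 a3 a4 a6 e1 e2 e3 e4 e6 : D) : D := (-6*a1*a1*a1*a6 + 7*a1*a1*a3*a4 - 8*a1*a2*a3*a3 - 24*a1*a2*a6 + 8*a1*a4*a4 - 4*a2*a3*a4 + 9*a3*a3*a3 + 36*a3*a6) * e1 + (a1*a1*a3*a3 - 12*a1*a1*a6 + 16*a1*a3*a4 - 12*a2*a3*a3 - 48*a2*a6 + 16*a4*a4) * e2 + (-a1*a1*a1*a4 + 2*a1*a1*a2*a3 - 4*a1*a2*a4 - 3*a1*a3*a3 + 36*a1*a6 + 8*a2*a2*a3 - 24*a3*a4) * e3 + (-a1*a1*a1*a3 - 2*a1*a1*a4 - 4*a1*a2*a3 - 8*a2*a4 + 18*a3*a3 + 72*a6) * e4 + (a1*a1*a1*a1 + 8*a1*a1*a2 - 24*a1*a3 + 16*a2*a2 - 48*a4) * e6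

/-- certificate row -/
def gu (a1 a2 a3 a4 a6 e1 e2 e3 e4 e6 : D) : D := (-a1*a1*a1*a1*a1*a6 + a1*a1*a1*a1*a3*a4 - a1*a1*a1*a2*a3*a3 - 8*a1*a1*a1*a2*a6 + a1*a1*a1*a4*a4 + 4*a1*a1*a2*a3*a4 + a1*a1*a3*a3*a3 + 12*a1*a1*a3*a6 - 4*a1*a2*a2*a3*a3 - 16*a1*a2*a2*a6 + 4*a1*a2*a4*a4 - 5*a1*a3*a3*a4 + 12*a1*a4*a6 + 6*a2*a3*a3*a3 + 24*a2*a3*a6 - 8*a3*a4*a4) * e1 + (-2*a1*a1*a1*a1*a6 + 2*a1*a1*a1*a3*a4 - 2*a1*a1*a2*a3*a3 - 16*a1*a1*a2*a6 + 2*a1*a1*a4*a4 + 8*a1*a2*a3*a4 + 3*a1*a3*a3*a3 + 12*a1*a3*a6 - 8*a2*a2*a3*a3 - 32*a2*a2*a6 + 8*a2*a4*a4 + 6*a3*a3*a4 + 24*a4*a6) * e2 + (6*a1*a1*a1*a6 - 7*a1*a1*a3*a4 + 8*a1*a2*a3*a3 + 24*a1*a2*a6 - 8*a1*a4*a4 + 4*a2*a3*a4 - 9*a3*a3*a3 - 36*a3*a6) * e3 + (-a1*a1*a3*a3 + 12*a1*a1*a6 - 16*a1*a3*a4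 + 12*a2*a3*a3 + 48*a2*a6 - 16*a4*a4) * e4 + (a1*a1*a1*a3 + 2*a1*a1*a4 + 4*a1*a2*a3 + 8*a2*a4 - 18*a3*a3 - 72*a6) * e6

/-- certificate row -/
def gr (a1 a2 a3 a4 a6 e1 e2 e3 e4 e6 : D) : D := (-3*a1*a1*a1*a1*a3*a6 + 3*a1*a1*a1*a3*a3*a4 - 8*a1*a1*a1*a4*a6 - 3*a1*a1*a2*a3*a3*a3 - 8*a1*a1*a2*a3*a6 + 11*a1*a1*a3*a4*a4 - 12*a1*a2*a3*a3*a4 - 32*a1*a2*a4*a6 + 3*a1*a3*a3*a3*a3 + 30*a1*a3*a3*a6 + 8*a1*a4*a4*a4 + 72*a1*a6*a6 + 4*a2*a2*a3*a3*a3 + 16*a2*a2*a3*a6 - 4*a2*a3*a4*a4 - 3*a3*a3*a3*a4 - 12*a3*a4*a6) * e1 + (-8*a1*a1*a1*a3*a6 + 8*a1*a1*a3*a3*a4 - 16*a1*a1*a4*a6 - 8*a1*a2*a3*a3*a3 - 32*a1*a2*a3*a6 + 24*a1*a3*a4*a4 - 16*a2*a3*a3*a4 - 64*a2*a4*a6 + 9*a3*a3*a3*a3 + 72*a3*a3*a6 + 16*a4*a4*a4 + 144*a6*a6) * e2 + (a1*a1*a1*a1*a1*a6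 - a1*a1*a1*a1*a3*a4 + a1*a1*a1*a2*a3*a3 + 8*a1*a1*a1*a2*a6 - a1*a1*a1*a4*a4 - 4*a1*a1*a2*a3*a4 - a1*a1*a3*a3*a3 - 12*a1*a1*a3*a6 + 4*a1*a2*a2*a3*a3 + 16*a1*a2*a2*a6 - 4*a1*a2*a4*a4 + 5*a1*a3*a3*a4 - 12*a1*a4*a6 - 6*a2*a3*a3*a3 - 24*a2*a3*a6 + 8*a3*a4*a4) * e3 + (2*a1*a1*a1*a1*a6 - 2*a1*a1*a1*a3*a4 + 2*a1*a1*a2*a3*a3 + 16*a1*a1*a2*a6 - 2*a1*a1*a4*a4 - 8*a1*a2*a3*a4 - 3*a1*a3*a3*a3 - 12*a1*a3*a6 + 8*a2*a2*a3*a3 + 32*a2*a2*a6 - 8*a2*a4*a4 - 6*a3*a3*a4 - 24*a4*a6) * e4 + (a1*a1*a3*a3 - 12*a1*a1*a6 + 16*a1*a3*a4 - 12*a2*a3*a3 - 48*a2*a6 + 16*a4*a4) * e6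

/-- certificate row -/
def gs (a1 a2 a3 a4 a6 e1 e2 e3 e4 e6 : D) : D := (2*a1*a1*a1*a1*a2*a6 - 2*a1*a1*a1*a2*a3*a4 - 9*a1*a1*a1*a3*a6 + 2*a1*a1*a2*a2*a3*a3 + 16*a1*a1*a2*a2*a6 - 2*a1*a1*a2*a4*a4 + 9*a1*a1*a3*a3*a4 - 30*a1*a1*a4*a6 - 8*a1*a2*a2*a3*a4 - 11*a1*a2*a3*a3*a3 - 48*a1*a2*a3*a6 + 40*a1*a3*a4*a4 + 8*a2*a2*a2*a3*a3 + 32*a2*a2*a2*a6 - 8*a2*a2*a4*a4 - 34*a2*a3*a3*a4 - 144*a2*a4*a6 + 9*a3*a3*a3*a3 + 90*a3*a3*a6 + 32*a4*a4*a4 + 216*a6*a6) * e1 + (-a1*a1*a1*a1*a1*a6 + a1*a1*a1*a1*a3*a4 - a1*a1*a1*a2*a3*a3 - 8*a1*a1*a1*a2*a6 + a1*a1*a1*a4*a4 + 4*a1*a1*a2*a3*a4 + a1*a1*a3*a3*a3 + 12*a1*a1*a3*a6 - 4*a1*a2*a2*a3*a3 - 16*a1*a2*a2*a6 + 4*a1*a2*a4*a4 - 5*a1*a3*a3*a4 + 12*a1*a4*a6 + 6*a2*a3*a3*a3 + 24*a2*a3*a6 -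 8*a3*a4*a4) * e2 + (3*a1*a1*a1*a1*a6 - 3*a1*a1*a1*a3*a4 + 3*a1*a1*a2*a3*a3 + 12*a1*a1*a2*a6 - 4*a1*a1*a4*a4 + 4*a1*a2*a3*a4 - 3*a1*a3*a3*a3 - 36*a1*a3*a6 - 4*a2*a2*a3*a3 + 12*a3*a3*a4) * e3 + (6*a1*a1*a1*a6 - 7*a1*a1*a3*a4 + 8*a1*a2*a3*a3 + 24*a1*a2*a6 - 8*a1*a4*a4 + 4*a2*a3*a4 - 9*a3*a3*a3 - 36*a3*a6) * e4 + (a1*a1*a1*a4 - 2*a1*a1*a2*a3 + 4*a1*a2*a4 + 3*a1*a3*a3 - 36*a1*a6 - 8*a2*a2*a3 + 24*a3*a4) * e6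

/-- certificate row -/
def gt (a1 a2 a3 a4 a6 e1 e2 e3 e4 e6 : D) : D := (4*a1*a1*a1*a1*a4*a6 - 8*a1*a1*a1*a2*a3*a6 - 4*a1*a1*a1*a3*a4*a4 + 12*a1*a1*a2*a3*a3*a4 + 16*a1*a1*a2*a4*a6 + 3*a1*a1*a3*a3*a6 - 4*a1*a1*a4*a4*a4 - 36*a1*a1*a6*a6 - 8*a1*a2*a2*a3*a3*a3 - 32*a1*a2*a2*a3*a6 + 8*a1*a2*a3*a4*a4 - 6*a1*a3*a3*a3*a4 + 24*a1*a3*a4*a6 + 9*a2*a3*a3*a3*a3 + 36*a2*a3*a3*a6 - 12*a3*a3*a4*a4) * e1 + (a1*a1*a1*a1*a3*a6 - a1*a1*a1*a3*a3*a4 + 8*a1*a1*a1*a4*a6 + a1*a1*a2*a3*a3*a3 - 8*a1*a1*a2*a3*a6 - 9*a1*a1*a3*a4*a4 + 20*a1*a2*a3*a3*a4 + 32*a1*a2*a4*a6 - 18*a1*a3*a3*a6 - 8*a1*a4*a4*a4 - 72*a1*a6*a6 - 12*a2*a2*a3*a3*a3 - 48*a2*a2*a3*a6 + 12*a2*a3*a4*a4 + 9*a3*a3*a3*a4 + 36*a3*a4*a6) * e2 + (2*a1*a1*a1*a1*a2*a6 - 2*a1*a1*a1*a2*a3*a4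 - 3*a1*a1*a1*a3*a6 + 2*a1*a1*a2*a2*a3*a3 + 16*a1*a1*a2*a2*a6 - 2*a1*a1*a2*a4*a4 + 2*a1*a1*a3*a3*a4 - 30*a1*a1*a4*a6 - 8*a1*a2*a2*a3*a4 - 3*a1*a2*a3*a3*a3 - 24*a1*a2*a3*a6 + 32*a1*a3*a4*a4 + 8*a2*a2*a2*a3*a3 + 32*a2*a2*a2*a6 - 8*a2*a2*a4*a4 - 30*a2*a3*a3*a4 - 144*a2*a4*a6 + 54*a3*a3*a6 + 32*a4*a4*a4 + 216*a6*a6) * e3 + (-a1*a1*a1*a1*a1*a6 + a1*a1*a1*a1*a3*a4 - a1*a1*a1*a2*a3*a3 - 8*a1*a1*a1*a2*a6 + a1*a1*a1*a4*a4 + 4*a1*a1*a2*a3*a4 + 24*a1*a1*a3*a6 - 4*a1*a2*a2*a3*a3 - 16*a1*a2*a2*a6 + 4*a1*a2*a4*a4 - 21*a1*a3*a3*a4 + 12*a1*a4*a6 + 18*a2*a3*a3*a3 + 72*a2*a3*a6 - 24*a3*a4*a4) * e4 + (a1*a1*a1*a3*a3 + 6*a1*a1*a1*a6 - 5*a1*a1*a3*a4 + 12*a1*a2*a3*a3 + 24*a1*a2*a6 - 8*a1*a4*a4 + 12*a2*a3*a4 - 27*a3*a3*a3 - 108*a3*a6)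 * e6

theorem expand_Dl (a1 a2 a3 a4 a6 e1 e2 e3 e4 e6 : D) (h11 : e1 * e1 = 0) (h12 : e1 * e2 = 0) (h13 : e1 * e3 = 0) (h14 : e1 * e4 = 0) (h16 : e1 * e6 = 0) (h22 : e2 * e2 = 0) (h23 : e2 * e3 = 0) (h24 : e2 * e4 = 0) (h26 : e2 * e6 = 0) (h33 : e3 * e3 = 0) (h34 : e3 * e4 = 0) (h36 : e3 * e6 = 0) (h44 : e4 * e4 = 0) (h46 : e4 * e6 = 0) (h66 : e6 * e6 = 0) :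
    Dl (a1+e1) (a2+e2) (a3+e3) (a4+e4) (a6+e6) = Dl a1 a2 a3 a4 a6 + dDl a1 a2 a3 a4 a6 e1 e2 e3 e4 e6 := by
  simp only [Dl, dDl]
  linear_combination (-15*a1*a1*a1*a1*a6 - 15*a1*a1*a1*a1*e6 + 10*a1*a1*a1*a3*a4 + 10*a1*a1*a1*a3*e4 + 10*a1*a1*a1*a4*e3 - 20*a1*a1*a1*a6*e1 - 20*a1*a1*a1*e1*e6 + 10*a1*a1*a1*e3*e4 - 6*a1*a1*a2*a3*a3 - 12*a1*a1*a2*a3*e3 - 72*a1*a1*a2*a6 - 6*a1*a1*a2*e3*e3 - 72*a1*a1*a2*e6 - 6*a1*a1*a3*a3*e2 + 10*a1*a1*a3*a4*e1 + 10*a1*a1*a3*e1*e4 - 12*a1*a1*a3*e2*e3 + 6*a1*a1*a4*a4 + 10*a1*a1*a4*e1*e3 + 12*a1*a1*a4*e4 - 15*a1*a1*a6*e1*e1 - 72*a1*a1*a6*e2 - 15*a1*a1*e1*e1*e6 + 10*a1*a1*e1*e3*e4 - 6*a1*a1*e2*e3*e3 - 72*a1*a1*e2*e6 + 6*a1*a1*e4*e4 - 4*a1*a2*a3*a3*e1 + 24*a1*a2*a3*a4 - 8*a1*a2*a3*e1*e3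 + 24*a1*a2*a3*e4 + 24*a1*a2*a4*e3 - 48*a1*a2*a6*e1 - 4*a1*a2*e1*e3*e3 - 48*a1*a2*e1*e6 + 24*a1*a2*e3*e4 + 3*a1*a3*a3*a3 - 4*a1*a3*a3*e1*e2 + 9*a1*a3*a3*e3 + 5*a1*a3*a4*e1*e1 + 24*a1*a3*a4*e2 + 108*a1*a3*a6 + 5*a1*a3*e1*e1*e4 - 8*a1*a3*e1*e2*e3 + 24*a1*a3*e2*e4 + 9*a1*a3*e3*e3 + 108*a1*a3*e6 + 4*a1*a4*a4*e1 + 5*a1*a4*e1*e1*e3 + 8*a1*a4*e1*e4 + 24*a1*a4*e2*e3 - 6*a1*a6*e1*e1*e1 - 48*a1*a6*e1*e2 + 108*a1*a6*e3 - 6*a1*e1*e1*e1*e6 + 5*a1*e1*e1*e3*e4 - 4*a1*e1*e2*e3*e3 - 48*a1*e1*e2*e6 + 4*a1*e1*e4*e4 + 24*a1*e2*e3*e4 + 3*a1*e3*e3*e3 + 108*a1*e3*e6 - 8*a2*a2*a3*a3 - 16*a2*a2*a3*e3 - 48*a2*a2*a6 - 8*a2*a2*e3*e3 - 48*a2*a2*e6 - a2*a3*a3*e1*e1 - 16*a2*a3*a3*e2 + 8*a2*a3*a4*e1 - 2*a2*a3*e1*e1*e3 + 8*a2*a3*e1*e4 - 32*a2*a3*e2*e3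 + 8*a2*a4*a4 + 8*a2*a4*e1*e3 + 16*a2*a4*e4 - 12*a2*a6*e1*e1 - 96*a2*a6*e2 - a2*e1*e1*e3*e3 - 12*a2*e1*e1*e6 + 8*a2*e1*e3*e4 - 16*a2*e2*e3*e3 - 96*a2*e2*e6 + 8*a2*e4*e4 + a3*a3*a3*e1 - 30*a3*a3*a4 - a3*a3*e1*e1*e2 + 3*a3*a3*e1*e3 - 8*a3*a3*e2*e2 - 30*a3*a3*e4 + a3*a4*e1*e1*e1 + 8*a3*a4*e1*e2 - 60*a3*a4*e3 + 36*a3*a6*e1 + a3*e1*e1*e1*e4 - 2*a3*e1*e1*e2*e3 + 8*a3*e1*e2*e4 + 3*a3*e1*e3*e3 + 36*a3*e1*e6 - 16*a3*e2*e2*e3 - 60*a3*e3*e4 + a4*a4*e1*e1 + 8*a4*a4*e2 + 72*a4*a6 + a4*e1*e1*e1*e3 + 2*a4*e1*e1*e4 + 8*a4*e1*e2*e3 + 16*a4*e2*e4 - 30*a4*e3*e3 + 72*a4*e6 - a6*e1*e1*e1*e1 - 12*a6*e1*e1*e2 + 36*a6*e1*e3 - 48*a6*e2*e2 + 72*a6*e4 - e1*e1*e1*e1*e6 + e1*e1*e1*e3*e4 - e1*e1*e2*e3*e3 - 12*e1*e1*e2*e6 + e1*e1*e4*e4 + 8*e1*e2*e3*e4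 + e1*e3*e3*e3 + 36*e1*e3*e6 - 8*e2*e2*e3*e3 - 48*e2*e2*e6 + 8*e2*e4*e4 - 30*e3*e3*e4 + 72*e4*e6) * h11 + (-4*a1*a1*a1*a3*a3 - 8*a1*a1*a1*a3*e3 - 48*a1*a1*a1*a6 - 4*a1*a1*a1*e3*e3 - 48*a1*a1*a1*e6 + 24*a1*a1*a3*a4 + 24*a1*a1*a3*e4 + 24*a1*a1*a4*e3 + 24*a1*a1*e3*e4 - 32*a1*a2*a3*a3 - 64*a1*a2*a3*e3 - 192*a1*a2*a6 - 32*a1*a2*e3*e3 - 192*a1*a2*e6 - 16*a1*a3*a3*e2 - 32*a1*a3*e2*e3 + 16*a1*a4*a4 + 32*a1*a4*e4 - 96*a1*a6*e2 - 16*a1*e2*e3*e3 - 96*a1*e2*e6 + 16*a1*e4*e4 + 32*a2*a3*a4 + 32*a2*a3*e4 + 32*a2*a4*e3 + 32*a2*e3*e4 + 36*a3*a3*a3 + 108*a3*a3*e3 + 16*a3*a4*e2 + 144*a3*a6 + 16*a3*e2*e4 + 108*a3*e3*e3 + 144*a3*e6 + 16*a4*e2*e3 + 144*a6*e3 + 16*e2*e3*e4 + 36*e3*e3*e3 + 144*e3*e6) * h12 + (5*a1*a1*a1*a1*a4 + 5*a1*a1*a1*a1*e4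 - 8*a1*a1*a1*a2*a3 - 4*a1*a1*a1*a2*e3 + 24*a1*a1*a2*a4 + 24*a1*a1*a2*e4 + 9*a1*a1*a3*a3 + 9*a1*a1*a3*e3 + 108*a1*a1*a6 + 3*a1*a1*e3*e3 + 108*a1*a1*e6 - 32*a1*a2*a2*a3 - 16*a1*a2*a2*e3 - 120*a1*a3*a4 - 120*a1*a3*e4 - 60*a1*a4*e3 - 60*a1*e3*e4 + 16*a2*a2*a4 + 16*a2*a2*e4 + 108*a2*a3*a3 + 108*a2*a3*e3 + 144*a2*a6 + 36*a2*e3*e3 + 144*a2*e6 - 96*a4*a4 - 192*a4*e4 - 96*e4*e4) * h13 + (5*a1*a1*a1*a1*a3 + 8*a1*a1*a1*a4 + 4*a1*a1*a1*e4 + 24*a1*a1*a2*a3 + 32*a1*a2*a4 + 16*a1*a2*e4 - 60*a1*a3*a3 + 144*a1*a6 + 144*a1*e6 + 16*a2*a2*a3 - 192*a3*a4 - 96*a3*e4) * h14 + (-6*a1*a1*a1*a1*a1 - 48*a1*a1*a1*a2 + 108*a1*a1*a3 - 96*a1*a2*a2 + 144*a1*a4 + 144*a2*a3) * h16 + (-8*a1*a1*a3*a3 - 16*a1*a1*a3*e3 - 48*a1*a1*a6 - 8*a1*a1*e3*e3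 - 48*a1*a1*e6 + 16*a1*a3*a4 + 16*a1*a3*e4 + 16*a1*a4*e3 + 16*a1*e3*e4 - 48*a2*a3*a3 - 96*a2*a3*e3 - 192*a2*a6 - 48*a2*e3*e3 - 192*a2*e6 - 16*a3*a3*e2 - 32*a3*e2*e3 + 16*a4*a4 + 32*a4*e4 - 64*a6*e2 - 16*e2*e3*e3 - 64*e2*e6 + 16*e4*e4) * h22 + (-2*a1*a1*a1*a1*a3 - a1*a1*a1*a1*e3 + 8*a1*a1*a1*a4 + 8*a1*a1*a1*e4 - 32*a1*a1*a2*a3 - 16*a1*a1*a2*e3 + 32*a1*a2*a4 + 32*a1*a2*e4 + 108*a1*a3*a3 + 108*a1*a3*e3 + 144*a1*a6 + 36*a1*e3*e3 + 144*a1*e6 - 96*a2*a2*a3 - 48*a2*a2*e3 + 144*a3*a4 + 144*a3*e4 + 72*a4*e3 + 72*e3*e4) * h23 + (8*a1*a1*a1*a3 + 16*a1*a1*a4 + 8*a1*a1*e4 + 32*a1*a2*a3 + 64*a2*a4 + 32*a2*e4 + 72*a3*a3 + 288*a6 + 288*e6) * h24 + (-12*a1*a1*a1*a1 - 96*a1*a1*a2 + 144*a1*a3 - 192*a2*a2 + 288*a4) * h26 + (-a1*a1*a1*a1*a2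 + 3*a1*a1*a1*a3 + a1*a1*a1*e3 - 8*a1*a1*a2*a2 - 30*a1*a1*a4 - 30*a1*a1*e4 + 108*a1*a2*a3 + 36*a1*a2*e3 - 16*a2*a2*a2 + 72*a2*a4 + 72*a2*e4 - 162*a3*a3 - 108*a3*e3 - 216*a6 - 27*e3*e3 - 216*e6) * h33 + (a1*a1*a1*a1*a1 + 8*a1*a1*a1*a2 - 60*a1*a1*a3 + 16*a1*a2*a2 - 192*a1*a4 - 96*a1*e4 + 144*a2*a3) * h34 + (36*a1*a1*a1 + 144*a1*a2 - 432*a3) * h36 + (a1*a1*a1*a1 + 8*a1*a1*a2 - 96*a1*a3 + 16*a2*a2 - 192*a4 - 64*e4) * h44 + (72*a1*a1 + 288*a2) * h46 + (-432) * h66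

theorem expand_c4 (a1 a2 a3 a4 a6 e1 e2 e3 e4 e6 : D) (h11 : e1 * e1 = 0) (h12 : e1 * e2 = 0) (h13 : e1 * e3 = 0) (h14 : e1 * e4 = 0) (h16 : e1 * e6 = 0) (h22 : e2 * e2 = 0) (h23 : e2 * e3 = 0) (h24 : e2 * e4 = 0) (h26 : e2 * e6 = 0) (h33 : e3 * e3 = 0) (h34 : e3 * e4 = 0) (h36 : e3 * e6 = 0) (h44 : e4 * e4 = 0) (h46 : e4 * e6 = 0) (h66 : e6 * e6 = 0) :
    c4p (a1+e1) (a2+e2) (a3+e3) (a4+e4) (a6+e6) = c4p a1 a2 a3 a4 a6 + dc4 a1 a2 a3 a4 a6 e1 e2 e3 e4 e6 := by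
  simp only [c4p, dc4]
  linear_combination (6*a1*a1 + 4*a1*e1 + 8*a2 + e1*e1 + 8*e2) * h11 + (16*a1) * h12 + (-24) * h13 + (16) * h22

theorem ell_eq (a1 a2 a3 a4 a6 e1 e2 e3 e4 e6 : D) :
    c4p a1 a2 a3 a4 a6 * dDl a1 a2 a3 a4 a6 e1 e2 e3 e4 e6 - 3 * Dl a1 a2 a3 a4 a6 * dc4 a1 a2 a3 a4 a6 e1 e2 e3 e4 e6
      = c6p a1 a2 a3 a4 a6 * mm a1 a2 a3 a4 a6 e1 e2 e3 e4 e6 := by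
  simp only [c4p, dDl, Dl, dc4, c6p, mm]
  ring

theorem MG1 (a1 a2 a3 a4 a6 e1 e2 e3 e4 e6 : D) :
    a1*gu a1 a2 a3 a4 a6 e1 e2 e3 e4 e6 - 2*gs a1 a2 a3 a4 a6 e1 e2 e3 e4 e6 = Dl a1 a2 a3 a4 a6 * e1 - (-a3) * mm a1 a2 a3 a4 a6 e1 e2 e3 e4 e6 := by
  simp only [gu, gr, gs, gt, Dl, mm]
  ring

theorem MG2 (a1 a2 a3 a4 a6 e1 e2 e3 e4 e6 : D) :
    a1*gs a1 a2 a3 a4 a6 e1 e2 e3 e4 e6 + 2*a2*gu a1 a2 a3 a4 a6 e1 e2 e3 e4 e6 - 3*gr a1 a2 a3 a4 a6 e1 e2 e3 e4 e6 = Dl a1 a2 a3 a4 a6 * e2 - (-a4) * mm a1 a2 a3 a4 a6 e1 e2 e3 e4 e6 := by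
  simp only [gu, gr, gs, gt, Dl, mm]
  ring

theorem MG3 (a1 a2 a3 a4 a6 e1 e2 e3 e4 e6 : D) :
    -a1*gr a1 a2 a3 a4 a6 e1 e2 e3 e4 e6 + 3*a3*gu a1 a2 a3 a4 a6 e1 e2 e3 e4 e6 - 2*gt a1 a2 a3 a4 a6 e1 e2 e3 e4 e6 = Dl a1 a2 a3 a4 a6 * e3 - (0) * mm a1 a2 a3 a4 a6 e1 e2 e3 e4 e6 := by
  simp only [gu, gr, gs, gt, Dl, mm]
  ring

theorem MG4 (a1 a2 a3 a4 a6 e1 e2 e3 e4 e6 : D) :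
    a1*gt a1 a2 a3 a4 a6 e1 e2 e3 e4 e6 - 2*a2*gr a1 a2 a3 a4 a6 e1 e2 e3 e4 e6 + a3*gs a1 a2 a3 a4 a6 e1 e2 e3 e4 e6 + 4*a4*gu a1 a2 a3 a4 a6 e1 e2 e3 e4 e6 = Dl a1 a2 a3 a4 a6 * e4 - (-(a3*a3) - 6*a6) * mm a1 a2 a3 a4 a6 e1 e2 e3 e4 e6 := by
  simp only [gu, gr, gs, gt, Dl, mm]
  ring

theorem MG6 (a1 a2 a3 a4 a6 e1 e2 e3 e4 e6 : D) :
    a3*gt a1 a2 a3 a4 a6 e1 e2 e3 e4 e6 - a4*gr a1 a2 a3 a4 a6 e1 e2 e3 e4 e6 + 6*a6*gu a1 a2 a3 a4 a6 e1 e2 e3 e4 e6 = Dl a1 a2 a3 a4 a6 * e6 - (-(a1*a1*a6) + a1*a3*a4 - a2*a3*a3 - 4*a2*a6 + a4*a4) * mm a1 a2 a3 a4 a6 e1 e2 e3 e4 e6 := by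
  simp only [gu, gr, gs, gt, Dl, mm]
  ring

theorem fin1 (a1 a2 a3 a4 a6 e u r s t : D) (huu : u*u = 0) (hur : u*r = 0) (hus : u*s = 0) (hut : u*t = 0) (hrr : r*r = 0) (hrs : r*s = 0) (hrt : r*t = 0) (hss : s*s = 0) (hst : s*t = 0) (htt : t*t = 0)
    (hL : a1*u - 2*s = -e) :
    (1 - u)^1 * (a1 + 2*s) = a1 + e := by
  linear_combination (-1) * hL + (-2) * hus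

theorem fin2 (a1 a2 a3 a4 a6 e u r s t : D) (huu : u*u = 0) (hur : u*r = 0) (hus : u*s = 0) (hut : u*t = 0) (hrr : r*r = 0) (hrs : r*s = 0) (hrt : r*t = 0) (hss : s*s = 0) (hst : s*t = 0) (htt : t*t = 0)
    (hL : a1*s + 2*a2*u - 3*r = -e) :
    (1 - u)^2 * (a2 - s*a1 + 3*r - s^2) = a2 + e := by
  linear_combination (-1) * hL + (-1) * hss + (-6) * hur + (2*a1 + 2*s) * hus + (-a1*s + a2 + 3*r - s*s) * huu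

theorem fin3 (a1 a2 a3 a4 a6 e u r s t : D) (huu : u*u = 0) (hur : u*r = 0) (hus : u*s = 0) (hut : u*t = 0) (hrr : r*r = 0) (hrs : r*s = 0) (hrt : r*t = 0) (hss : s*s = 0) (hst : s*t = 0) (htt : t*t = 0)
    (hL : -a1*r + 3*a3*u - 2*t = -e) :
    (1 - u)^3 * (a3 + r*a1 + 2*t) = a3 + e := by
  linear_combination (-1) * hL + (-3*a1) * hur + (-6) * hut + (-a1*u*r + 3*a1*r - a3*u + 3*a3 - 2*u*t + 6*t) * huu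

theorem fin4 (a1 a2 a3 a4 a6 e u r s t : D) (huu : u*u = 0) (hur : u*r = 0) (hus : u*s = 0) (hut : u*t = 0) (hrr : r*r = 0) (hrs : r*s = 0) (hrt : r*t = 0) (hss : s*s = 0) (hst : s*t = 0) (htt : t*t = 0)
    (hL : a1*t - 2*a2*r + a3*s + 4*a4*u = -e) :
    (1 - u)^4 * (a4 - s*a3 + 2*r*a2 - (t + r*s)*a1 + 3*r^2 - 2*s*t) = a4 + e := by
  linear_combination (-1) * hL + (3) * hrr + (-a1) * hrs + (-2) * hst + (4*a1*s - 8*a2 - 12*r) * hur + (4*a3 + 8*t) * hus + (4*a1) * hut + (-a1*u*u*r*s - a1*u*u*t + 4*a1*u*r*s + 4*a1*u*t - 6*a1*r*s - 6*a1*t + 2*a2*u*u*r - 8*a2*u*r + 12*a2*r - a3*u*u*s + 4*a3*u*s - 6*a3*s + a4*u*u - 4*a4*u + 6*a4 + 3*u*u*r*r - 2*u*u*s*t - 12*u*r*r + 8*u*s*t + 18*r*r - 12*s*t) * huu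

theorem fin6 (a1 a2 a3 a4 a6 e u r s t : D) (huu : u*u = 0) (hur : u*r = 0) (hus : u*s = 0) (hut : u*t = 0) (hrr : r*r = 0) (hrs : r*s = 0) (hrt : r*t = 0) (hss : s*s = 0) (hst : s*t = 0) (htt : t*t = 0)
    (hL : a3*t - a4*r + 6*a6*u = -e) :
    (1 - u)^6 * (a6 + r*a4 + r^2*a2 + r^3 - t*a3 - t^2 - r*t*a1) = a6 + e := by
  linear_combination (-1) * hL + (a2 + r) * hrr + (-a1) * hrt + (-1) * htt + (6*a1*t - 6*a2*r - 6*a4 - 6*r*r) * hur + (6*a3 + 6*t) * hut + (-a1*u*u*u*u*r*t + 6*a1*u*u*u*r*t - 15*a1*u*u*r*t + 20*a1*u*r*t - 15*a1*r*t + a2*u*u*u*u*r*r - 6*a2*u*u*u*r*r + 15*a2*u*u*r*r - 20*a2*u*r*r + 15*a2*r*r - a3*u*u*u*u*t + 6*a3*u*u*u*t - 15*a3*u*u*t + 20*a3*u*t - 15*a3*t + a4*u*u*u*u*r - 6*a4*u*u*u*r + 15*a4*u*u*r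 - 20*a4*u*r + 15*a4*r + a6*u*u*u*u - 6*a6*u*u*u + 15*a6*u*u - 20*a6*u + 15*a6 + u*u*u*u*r*r*r - u*u*u*u*t*t - 6*u*u*u*r*r*r + 6*u*u*u*t*t + 15*u*u*r*r*r - 15*u*u*t*t - 20*u*r*r*r + 20*u*t*t + 15*r*r*r - 15*t*t) * huu

open WeierstrassCurve in
/-- Square-zero lifting: two Weierstrass curves congruent modulo a square-zero ideal `N`, with the
same `j` and `Δ, c₄, c₆` units, differ by a change of variables congruent to the identity. -/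
theorem lift_core (N : Ideal D) (hN : ∀ x ∈ N, ∀ y ∈ N, x * y = 0)
    (W W' : WeierstrassCurve D) (hΔ : IsUnit W.Δ)
    (hc4 : IsUnit W.c₄) (hc6 : IsUnit W.c₆)
    (h1 : W'.a₁ - W.a₁ ∈ N) (h2 : W'.a₂ - W.a₂ ∈ N) (h3 : W'.a₃ - W.a₃ ∈ N)
    (h4 : W'.a₄ - W.a₄ ∈ N) (h6 : W'.a₆ - W.a₆ ∈ N)
    (hjj : W'.Δ * W.c₄ ^ 3 = W.Δ * W'.c₄ ^ 3) :
    ∃ C : VariableChange D, C • W = W' ∧ (C.u : D) - 1 ∈ N ∧ C.r ∈ N ∧ C.s ∈ N ∧ C.t ∈ N := by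
  set e1 := W'.a₁ - W.a₁ with he1
  set e2 := W'.a₂ - W.a₂ with he2
  set e3 := W'.a₃ - W.a₃ with he3
  set e4 := W'.a₄ - W.a₄ with he4
  set e6 := W'.a₆ - W.a₆ with he6
  have ha1 : W'.a₁ = W.a₁ + e1 := by rw [he1]; ring
  have ha2 : W'.a₂ = W.a₂ + e2 := by rw [he2]; ring
  have ha3 : W'.a₃ = W.a₃ + e3 := by rw [he3]; ring
  have ha4 : W'.a₄ = W.a₄ + e4 := by rw [he4]; ring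
  have ha6 : W'.a₆ = W.a₆ + e6 := by rw [he6]; ring
  have hWΔ : W.Δ = Dl W.a₁ W.a₂ W.a₃ W.a₄ W.a₆ := by
    simp only [WeierstrassCurve.Δ, b₂, b₄, b₆, b₈, Dl]; ring
  have hW'Δ : W'.Δ = Dl (W.a₁ + e1) (W.a₂ + e2) (W.a₃ + e3) (W.a₄ + e4) (W.a₆ + e6) := by
    rw [← ha1, ← ha2, ← ha3, ← ha4, ← ha6]
    simp only [WeierstrassCurve.Δ, b₂, b₄, b₆, b₈, Dl]; ring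
  have hWc4 : W.c₄ = c4p W.a₁ W.a₂ W.a₃ W.a₄ W.a₆ := by
    simp only [WeierstrassCurve.c₄, b₂, b₄, c4p]; ring
  have hW'c4 : W'.c₄ = c4p (W.a₁ + e1) (W.a₂ + e2) (W.a₃ + e3) (W.a₄ + e4) (W.a₆ + e6) := by
    rw [← ha1, ← ha2, ← ha3, ← ha4, ← ha6]
    simp only [WeierstrassCurve.c₄, b₂, b₄, c4p]; ring
  have hWc6 : W.c₆ = c6p W.a₁ W.a₂ W.a₃ W.a₄ W.a₆ := by
    simp only [WeierstrassCurve.c₆, b₂, b₄, b₆, c6p]; ring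
  have EΔ := expand_Dl W.a₁ W.a₂ W.a₃ W.a₄ W.a₆ e1 e2 e3 e4 e6
    (hN _ h1 _ h1) (hN _ h1 _ h2) (hN _ h1 _ h3) (hN _ h1 _ h4) (hN _ h1 _ h6)
    (hN _ h2 _ h2) (hN _ h2 _ h3) (hN _ h2 _ h4) (hN _ h2 _ h6)
    (hN _ h3 _ h3) (hN _ h3 _ h4) (hN _ h3 _ h6) (hN _ h4 _ h4) (hN _ h4 _ h6) (hN _ h6 _ h6)
  have Ec := expand_c4 W.a₁ W.a₂ W.a₃ W.a₄ W.a₆ e1 e2 e3 e4 e6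
    (hN _ h1 _ h1) (hN _ h1 _ h2) (hN _ h1 _ h3) (hN _ h1 _ h4) (hN _ h1 _ h6)
    (hN _ h2 _ h2) (hN _ h2 _ h3) (hN _ h2 _ h4) (hN _ h2 _ h6)
    (hN _ h3 _ h3) (hN _ h3 _ h4) (hN _ h3 _ h6) (hN _ h4 _ h4) (hN _ h4 _ h6) (hN _ h6 _ h6)
  have mem5 : ∀ k1 k2 k3 k4 k6 : D, k1 * e1 + k2 * e2 + k3 * e3 + k4 * e4 + k6 * e6 ∈ N :=
    fun k1 k2 k3 k4 k6 => N.add_mem (N.add_mem (N.add_mem (N.add_mem (N.mul_mem_left _ h1)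
      (N.mul_mem_left _ h2)) (N.mul_mem_left _ h3)) (N.mul_mem_left _ h4)) (N.mul_mem_left _ h6)
  have hdc4N : dc4 W.a₁ W.a₂ W.a₃ W.a₄ W.a₆ e1 e2 e3 e4 e6 ∈ N := by
    simp only [dc4]; exact mem5 _ _ _ _ _
  have hdc4sq := hN _ hdc4N _ hdc4N
  rw [hW'Δ, hW'c4, hWΔ, hWc4, EΔ, Ec] at hjj
  set Δ₀ := Dl W.a₁ W.a₂ W.a₃ W.a₄ W.a₆ with hΔ₀
  set c₀ := c4p W.a₁ W.a₂ W.a₃ W.a₄ W.a₆ with hc₀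
  set dΔ := dDl W.a₁ W.a₂ W.a₃ W.a₄ W.a₆ e1 e2 e3 e4 e6 with hdΔ
  set dc := dc4 W.a₁ W.a₂ W.a₃ W.a₄ W.a₆ e1 e2 e3 e4 e6 with hdc
  have key : c₀ ^ 2 * (c₀ * dΔ - 3 * Δ₀ * dc) = 0 := by
    linear_combination hjj + (3 * Δ₀ * c₀ + Δ₀ * dc) * hdc4sq
  rw [hc₀, hdΔ, hΔ₀, hdc, ell_eq] at key
  have key' : W.c₄ ^ 2 * (W.c₆ * mm W.a₁ W.a₂ W.a₃ W.a₄ W.a₆ e1 e2 e3 e4 e6) = 0 := by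
    rw [hWc4, hWc6]; exact key
  have hmm : mm W.a₁ W.a₂ W.a₃ W.a₄ W.a₆ e1 e2 e3 e4 e6 = 0 := by
    have k2 := ((hc4.pow 2).mul_right_eq_zero).mp key'
    exact (hc6.mul_right_eq_zero).mp k2
  obtain ⟨dΔu, hdΔu⟩ := hΔ
  set Δi : D := ((dΔu⁻¹ : Dˣ) : D) with hΔi
  have hΔΔi : Δ₀ * Δi = 1 := by
    have h0 : W.Δ * Δi = 1 := by rw [← hdΔu, hΔi, Units.mul_inv]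
    rw [hWΔ] at h0
    exact h0
  set gu' := gu W.a₁ W.a₂ W.a₃ W.a₄ W.a₆ e1 e2 e3 e4 e6 with hgu
  set gr' := gr W.a₁ W.a₂ W.a₃ W.a₄ W.a₆ e1 e2 e3 e4 e6 with hgr
  set gs' := gs W.a₁ W.a₂ W.a₃ W.a₄ W.a₆ e1 e2 e3 e4 e6 with hgs
  set gt' := gt W.a₁ W.a₂ W.a₃ W.a₄ W.a₆ e1 e2 e3 e4 e6 with hgt
  have hguN : gu' ∈ N := by rw [hgu]; simp only [gu]; exact mem5 _ _ _ _ _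
  have hgrN : gr' ∈ N := by rw [hgr]; simp only [gr]; exact mem5 _ _ _ _ _
  have hgsN : gs' ∈ N := by rw [hgs]; simp only [gs]; exact mem5 _ _ _ _ _
  have hgtN : gt' ∈ N := by rw [hgt]; simp only [gt]; exact mem5 _ _ _ _ _
  set u' : D := -Δi * gu' with hu'
  set r' : D := -Δi * gr' with hr'
  set s' : D := -Δi * gs' with hs'
  set t' : D := -Δi * gt' with ht'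
  have huN : u' ∈ N := N.mul_mem_left _ hguN
  have hrN : r' ∈ N := N.mul_mem_left _ hgrN
  have hsN : s' ∈ N := N.mul_mem_left _ hgsN
  have htN : t' ∈ N := N.mul_mem_left _ hgtN
  have M1 := MG1 W.a₁ W.a₂ W.a₃ W.a₄ W.a₆ e1 e2 e3 e4 e6
  have M2 := MG2 W.a₁ W.a₂ W.a₃ W.a₄ W.a₆ e1 e2 e3 e4 e6
  have M3 := MG3 W.a₁ W.a₂ W.a₃ W.a₄ W.a₆ e1 e2 e3 e4 e6
  have M4 := MG4 W.a₁ W.a₂ W.a₃ W.a₄ W.a₆ e1 e2 e3 e4 e6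
  have M6 := MG6 W.a₁ W.a₂ W.a₃ W.a₄ W.a₆ e1 e2 e3 e4 e6
  rw [hmm, mul_zero, sub_zero, ← hgu, ← hgs, ← hΔ₀] at M1
  rw [hmm, mul_zero, sub_zero, ← hgu, ← hgs, ← hgr, ← hΔ₀] at M2
  rw [hmm, mul_zero, sub_zero, ← hgu, ← hgr, ← hgt, ← hΔ₀] at M3
  rw [hmm, mul_zero, sub_zero, ← hgu, ← hgs, ← hgr, ← hgt, ← hΔ₀] at M4
  rw [hmm, mul_zero, sub_zero, ← hgu, ← hgr, ← hgt, ← hΔ₀] at M6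
  have L1 : W.a₁ * u' - 2 * s' = -e1 := by
    rw [hu', hs']; linear_combination (-Δi) * M1 + (-e1) * hΔΔi
  have L2 : W.a₁ * s' + 2 * W.a₂ * u' - 3 * r' = -e2 := by
    rw [hu', hs', hr']; linear_combination (-Δi) * M2 + (-e2) * hΔΔi
  have L3 : -W.a₁ * r' + 3 * W.a₃ * u' - 2 * t' = -e3 := by
    rw [hu', hr', ht']; linear_combination (-Δi) * M3 + (-e3) * hΔΔi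
  have L4 : W.a₁ * t' - 2 * W.a₂ * r' + W.a₃ * s' + 4 * W.a₄ * u' = -e4 := by
    rw [hu', hs', hr', ht']; linear_combination (-Δi) * M4 + (-e4) * hΔΔi
  have L6 : W.a₃ * t' - W.a₄ * r' + 6 * W.a₆ * u' = -e6 := by
    rw [hu', hr', ht']; linear_combination (-Δi) * M6 + (-e6) * hΔΔi
  have huu := hN _ huN _ huN
  have hur := hN _ huN _ hrN
  have hus := hN _ huN _ hsN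
  have hut := hN _ huN _ htN
  have hrr := hN _ hrN _ hrN
  have hrs := hN _ hrN _ hsN
  have hrt := hN _ hrN _ htN
  have hss := hN _ hsN _ hsN
  have hst := hN _ hsN _ htN
  have htt := hN _ htN _ htN
  let uu : Dˣ := ⟨1 + u', 1 - u', by linear_combination (-1) * huu, by linear_combination (-1) * huu⟩
  refine ⟨⟨uu, r', s', t'⟩, ?_, ?_, hrN, hsN, htN⟩
  · ext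
    · show (1 - u') * (W.a₁ + 2 * s') = W'.a₁
      have := fin1 W.a₁ W.a₂ W.a₃ W.a₄ W.a₆ e1 u' r' s' t' huu hur hus hut hrr hrs hrt hss hst htt L1
      rw [pow_one] at this
      rw [this, ha1]
    · show (1 - u') ^ 2 * (W.a₂ - s' * W.a₁ + 3 * r' - s' ^ 2) = W'.a₂
      rw [fin2 W.a₁ W.a₂ W.a₃ W.a₄ W.a₆ e2 u' r' s' t' huu hur hus hut hrr hrs hrt hss hst htt L2,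
        ha2]
    · show (1 - u') ^ 3 * (W.a₃ + r' * W.a₁ + 2 * t') = W'.a₃
      rw [fin3 W.a₁ W.a₂ W.a₃ W.a₄ W.a₆ e3 u' r' s' t' huu hur hus hut hrr hrs hrt hss hst htt L3,
        ha3]
    · show (1 - u') ^ 4 * (W.a₄ - s' * W.a₃ + 2 * r' * W.a₂ - (t' + r' * s') * W.a₁ + 3 * r' ^ 2
        - 2 * s' * t') = W'.a₄
      rw [fin4 W.a₁ W.a₂ W.a₃ W.a₄ W.a₆ e4 u' r' s' t' huu hur hus hut hrr hrs hrt hss hst htt L4,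
        ha4]
    · show (1 - u') ^ 6 * (W.a₆ + r' * W.a₄ + r' ^ 2 * W.a₂ + r' ^ 3 - t' * W.a₃ - t' ^ 2
        - r' * t' * W.a₁) = W'.a₆
      rw [fin6 W.a₁ W.a₂ W.a₃ W.a₄ W.a₆ e6 u' r' s' t' huu hur hus hut hrr hrs hrt hss hst htt L6,
        ha6]
  · show (1 + u') - 1 ∈ N
    rw [add_sub_cancel_left]; exact huN

end Groth.Agent.Lib.Helper15.EllSmooth
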