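import Groth.Agent.Lib.Helper15.EllRigid
import Groth.Agent.Lib.Helper15.EllSmooth

set_option autoImplicit false
set_option linter.style.haveILetI false
set_option linter.unusedSimpArgs false
universe u

/-! The Isom algebra of two Weierstrass curves: `A[u,v,r,s,t]/(uv-1, equations)`, its universal
property, and formal étaleness when `j` and `j - 1728` are units. -/

open WeierstrassCurve MvPolynomial

namespace Groth.Agent.Lib.Helper15.EllIsom

variable {A : Type u} [CommRing A] (W₁ W₂ : WeierstrassCurve A)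

/-- the polynomial ring in `u, v, r, s, t` -/
abbrev Pol (A : Type u) [CommRing A] := MvPolynomial (Fin 5) A

/-- the equations of the Isom scheme -/
noncomputable def gens : Set (Pol A) :=
  {X 0 * X 1 - 1,
   C W₂.a₁ - X 1 * (C W₁.a₁ + 2 * X 3),
   C W₂.a₂ - X 1 ^ 2 * (C W₁.a₂ - X 3 * C W₁.a₁ + 3 * X 2 - X 3 ^ 2),
   C W₂.a₃ - X 1 ^ 3 * (C W₁.a₃ + X 2 * C W₁.a₁ + 2 * X 4),
   C W₂.a₄ - X 1 ^ 4 * (C W₁.a₄ - X 3 * C W₁.a₃ + 2 * X 2 * C W₁.a₂ - (X 4 + X 2 * X 3) * C W₁.a₁
     + 3 * X 2 ^ 2 - 2 * X 3 * X 4),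
   C W₂.a₆ - X 1 ^ 6 * (C W₁.a₆ + X 2 * C W₁.a₄ + X 2 ^ 2 * C W₁.a₂ + X 2 ^ 3 - X 4 * C W₁.a₃
     - X 4 ^ 2 - X 2 * X 4 * C W₁.a₁)}

/-- the ideal of equations -/
noncomputable def Ieq : Ideal (Pol A) := Ideal.span (gens W₁ W₂)

/-- the Isom algebra -/
abbrev B := Pol A ⧸ Ieq W₁ W₂

theorem mk_gen {g : Pol A} (hg : g ∈ gens W₁ W₂) : Ideal.Quotient.mk (Ieq W₁ W₂) g = 0 :=
  Ideal.Quotient.eq_zero_iff_mem.mpr (Ideal.subset_span hg)

/-- tautological unit -/
noncomputable def ut : (B W₁ W₂)ˣ :=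
  ⟨Ideal.Quotient.mk _ (X 0), Ideal.Quotient.mk _ (X 1), by
    have := mk_gen W₁ W₂ (g := X 0 * X 1 - 1) (by simp [gens])
    rw [map_sub, map_mul, map_one, sub_eq_zero] at this
    exact this, by
    have := mk_gen W₁ W₂ (g := X 0 * X 1 - 1) (by simp [gens])
    rw [map_sub, map_mul, map_one, sub_eq_zero, mul_comm] at this
    exact this⟩

/-- tautological change of variables -/
noncomputable def Ct : VariableChange (B W₁ W₂) :=
  ⟨ut W₁ W₂, Ideal.Quotient.mk _ (X 2), Ideal.Quotient.mk _ (X 3), Ideal.Quotient.mk _ (X 4)⟩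

theorem algebraMap_B (a : A) :
    algebraMap A (B W₁ W₂) a = Ideal.Quotient.mk (Ieq W₁ W₂) (C a) := rfl

theorem hCt : Ct W₁ W₂ • W₁.map (algebraMap A (B W₁ W₂)) = W₂.map (algebraMap A (B W₁ W₂)) := by
  ext
  · have := mk_gen W₁ W₂ (g := C W₂.a₁ - X 1 * (C W₁.a₁ + 2 * X 3)) (by simp [gens])
    rw [map_sub, sub_eq_zero] at this
    rw [variableChange_a₁]
    simp only [map_a₁, algebraMap_B]
    rw [this]
    simp [Ct, ut, map_ofNat]
  · have := mk_gen W₁ W₂ (g := C W₂.a₂ - X 1 ^ 2 * (C W₁.a₂ - X 3 * C W₁.a₁ + 3 * X 2 - X 3 ^ 2))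
      (by simp [gens])
    rw [map_sub, sub_eq_zero] at this
    rw [variableChange_a₂]
    simp only [map_a₁, map_a₂, algebraMap_B]
    rw [this]
    simp [Ct, ut, map_ofNat]
  · have := mk_gen W₁ W₂ (g := C W₂.a₃ - X 1 ^ 3 * (C W₁.a₃ + X 2 * C W₁.a₁ + 2 * X 4))
      (by simp [gens])
    rw [map_sub, sub_eq_zero] at this
    rw [variableChange_a₃]
    simp only [map_a₁, map_a₃, algebraMap_B]
    rw [this]
    simp [Ct, ut, map_ofNat]
  · have := mk_gen W₁ W₂ (g := C W₂.a₄ - X 1 ^ 4 * (C W₁.a₄ - X 3 * C W₁.a₃ + 2 * X 2 * C W₁.a₂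
      - (X 4 + X 2 * X 3) * C W₁.a₁ + 3 * X 2 ^ 2 - 2 * X 3 * X 4)) (by simp [gens])
    rw [map_sub, sub_eq_zero] at this
    rw [variableChange_a₄]
    simp only [map_a₁, map_a₂, map_a₃, map_a₄, algebraMap_B]
    rw [this]
    simp [Ct, ut, map_ofNat]
  · have := mk_gen W₁ W₂ (g := C W₂.a₆ - X 1 ^ 6 * (C W₁.a₆ + X 2 * C W₁.a₄ + X 2 ^ 2 * C W₁.a₂
      + X 2 ^ 3 - X 4 * C W₁.a₃ - X 4 ^ 2 - X 2 * X 4 * C W₁.a₁)) (by simp [gens])
    rw [map_sub, sub_eq_zero] at this
    rw [variableChange_a₆]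
    simp only [map_a₁, map_a₂, map_a₃, map_a₄, map_a₆, algebraMap_B]
    rw [this]
    simp [Ct, ut, map_ofNat]

section UP

variable {W₁ W₂} {D : Type u} [CommRing D] [Algebra A D]

/-- evaluation hom from a variable change -/
noncomputable def ev (C : VariableChange D) : Pol A →ₐ[A] D :=
  aeval ![(C.u : D), ((C.u⁻¹ : Dˣ) : D), C.r, C.s, C.t]

theorem ev_gens (C : VariableChange D)
    (h : C • W₁.map (algebraMap A D) = W₂.map (algebraMap A D)) :
    ∀ g ∈ gens W₁ W₂, ev (A := A) C g = 0 := by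
  intro g hg
  simp only [gens, Set.mem_insert_iff, Set.mem_singleton_iff] at hg
  rcases hg with rfl | rfl | rfl | rfl | rfl | rfl
  · simp [ev]
  · have := congrArg WeierstrassCurve.a₁ h
    rw [variableChange_a₁] at this
    simp only [map_a₁, map_a₂, map_a₃, map_a₄, map_a₆] at this
    simp [ev, map_ofNat]
    linear_combination (-1) * this
  · have := congrArg WeierstrassCurve.a₂ h
    rw [variableChange_a₂] at this
    simp only [map_a₁, map_a₂, map_a₃, map_a₄, map_a₆] at this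
    simp [ev, map_ofNat]
    linear_combination (-1) * this
  · have := congrArg WeierstrassCurve.a₃ h
    rw [variableChange_a₃] at this
    simp only [map_a₁, map_a₂, map_a₃, map_a₄, map_a₆] at this
    simp [ev, map_ofNat]
    linear_combination (-1) * this
  · have := congrArg WeierstrassCurve.a₄ h
    rw [variableChange_a₄] at this
    simp only [map_a₁, map_a₂, map_a₃, map_a₄, map_a₆] at this
    simp [ev, map_ofNat]
    linear_combination (-1) * this
  · have := congrArg WeierstrassCurve.a₆ h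
    rw [variableChange_a₆] at this
    simp only [map_a₁, map_a₂, map_a₃, map_a₄, map_a₆] at this
    simp [ev, map_ofNat]
    linear_combination (-1) * this

/-- the algebra hom attached to a variable change between the base-changed curves -/
noncomputable def homOf (C : VariableChange D)
    (h : C • W₁.map (algebraMap A D) = W₂.map (algebraMap A D)) : B W₁ W₂ →ₐ[A] D :=
  Ideal.Quotient.liftₐ (Ieq W₁ W₂) (ev C) (by
    intro x hx
    have hle : Ieq W₁ W₂ ≤ RingHom.ker (ev (A := A) C).toRingHom := by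
      rw [Ieq, Ideal.span_le]
      intro g hg
      exact ev_gens C h g hg
    exact hle hx)

theorem homOf_mk (C : VariableChange D)
    (h : C • W₁.map (algebraMap A D) = W₂.map (algebraMap A D)) (p : Pol A) :
    homOf C h (Ideal.Quotient.mk _ p) = ev C p := rfl

theorem map_homOf (C : VariableChange D)
    (h : C • W₁.map (algebraMap A D) = W₂.map (algebraMap A D)) :
    (Ct W₁ W₂).map (homOf C h : B W₁ W₂ →+* D) = C := by
  ext
  · show homOf C h (Ideal.Quotient.mk _ (X 0)) = (C.u : D)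
    rw [homOf_mk]; simp [ev]
  · show homOf C h (Ideal.Quotient.mk _ (X 2)) = C.r
    rw [homOf_mk]; simp [ev]
  · show homOf C h (Ideal.Quotient.mk _ (X 3)) = C.s
    rw [homOf_mk]; simp [ev]
  · show homOf C h (Ideal.Quotient.mk _ (X 4)) = C.t
    rw [homOf_mk]; simp [ev]

theorem smul_map (f : B W₁ W₂ →ₐ[A] D) :
    (Ct W₁ W₂).map (f : B W₁ W₂ →+* D) • W₁.map (algebraMap A D) = W₂.map (algebraMap A D) := by
  have h1 : ∀ W : WeierstrassCurve A, (W.map (algebraMap A (B W₁ W₂))).map (f : B W₁ W₂ →+* D) =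
      W.map (algebraMap A D) := by
    intro W
    rw [WeierstrassCurve.map_map]
    congr 1
    exact f.comp_algebraMap
  rw [← h1 W₁, map_variableChange, hCt, h1]

theorem hom_ext (f g : B W₁ W₂ →ₐ[A] D)
    (h : (Ct W₁ W₂).map (f : B W₁ W₂ →+* D) = (Ct W₁ W₂).map (g : B W₁ W₂ →+* D)) : f = g := by
  apply Ideal.Quotient.algHom_ext
  apply MvPolynomial.algHom_ext
  intro i
  fin_cases i
  · exact congrArg (fun C : VariableChange D => (C.u : D)) h
  · exact congrArg (fun C : VariableChange D => ((C.u⁻¹ : Dˣ) : D)) h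
  · exact congrArg VariableChange.r h
  · exact congrArg VariableChange.s h
  · exact congrArg VariableChange.t h

end UP

section Units

variable {D : Type u} [CommRing D] (W : WeierstrassCurve D) [W.IsElliptic]

theorem Δ_mul_j : W.Δ * W.j = W.c₄ ^ 3 := by
  rw [WeierstrassCurve.j, ← mul_assoc, ← W.coe_Δ', Units.mul_inv, one_mul]

theorem isUnit_c₄ (hj : IsUnit W.j) : IsUnit W.c₄ := by
  have h : IsUnit (W.c₄ ^ 3) := by rw [← Δ_mul_j]; exact W.isUnit_Δ.mul hj
  exact (isUnit_pow_iff (by norm_num)).mp h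

theorem isUnit_c₆ (hj : IsUnit (W.j - 1728)) : IsUnit W.c₆ := by
  have h : IsUnit (W.c₆ ^ 2) := by
    have : W.c₆ ^ 2 = W.Δ * (W.j - 1728) := by
      rw [mul_sub, Δ_mul_j]; linear_combination W.c_relation
    rw [this]; exact W.isUnit_Δ.mul hj
  exact (isUnit_pow_iff (by norm_num)).mp h

end Units

section Etale

variable [W₁.IsElliptic] [W₂.IsElliptic]

omit [W₁.IsElliptic] [W₂.IsElliptic] in
theorem finitePresentation : Algebra.FinitePresentation A (B W₁ W₂) := by
  apply Algebra.FinitePresentation.quotient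
  rw [Ieq]
  exact Submodule.fg_span (by simp only [gens]; exact Set.toFinite _)

theorem formallyEtale (hj : W₁.j = W₂.j) (h0 : IsUnit W₁.j) (h1728 : IsUnit (W₁.j - 1728)) :
    Algebra.FormallyEtale A (B W₁ W₂) := by
  rw [Algebra.FormallyEtale.iff_comp_bijective]
  intro D _ _ N hN2
  have hN : ∀ x ∈ N, ∀ y ∈ N, x * y = 0 := by
    intro x hx y hy
    have : x * y ∈ N ^ 2 := by rw [pow_two]; exact Ideal.mul_mem_mul hx hy
    rw [hN2] at this
    exact (Submodule.mem_bot D).mp this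
  set mk : D →+* D ⧸ N := Ideal.Quotient.mk N with hmk
  have hmem : ∀ x : D, mk x = 0 ↔ x ∈ N := fun x => Ideal.Quotient.eq_zero_iff_mem
  have hmap1 : ∀ C : VariableChange D, (C.u : D) - 1 ∈ N → C.r ∈ N → C.s ∈ N → C.t ∈ N →
      C.map mk = 1 := by
    intro C hu hr hs ht
    ext
    · show mk (C.u : D) = 1
      rw [← sub_eq_zero, ← map_one mk, ← map_sub, hmem]; exact hu
    · exact (hmem _).mpr hr
    · exact (hmem _).mpr hs
    · exact (hmem _).mpr ht
  have hmap1' : ∀ C : VariableChange D, C.map mk = 1 →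
      (C.u : D) - 1 ∈ N ∧ C.r ∈ N ∧ C.s ∈ N ∧ C.t ∈ N := by
    intro C h
    refine ⟨?_, ?_, ?_, ?_⟩
    · have h' : mk (C.u : D) = 1 := congrArg (fun C : VariableChange (D ⧸ N) => (C.u : D ⧸ N)) h
      rw [← hmem, map_sub, h', map_one, sub_self]
    · exact (hmem _).mp (congrArg VariableChange.r h)
    · exact (hmem _).mp (congrArg VariableChange.s h)
    · exact (hmem _).mp (congrArg VariableChange.t h)
  have emap : ∀ {E : Type u} [CommRing E] (f : D →+* E) (C : VariableChange D),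
      C.map f = VariableChange.mapHom f C := fun _ _ => rfl
  have hcompmap : ∀ f : B W₁ W₂ →ₐ[A] D,
      (Ct W₁ W₂).map (((Ideal.Quotient.mkₐ A N).comp f : B W₁ W₂ →ₐ[A] D ⧸ N) : B W₁ W₂ →+* D ⧸ N)
        = ((Ct W₁ W₂).map (f : B W₁ W₂ →+* D)).map mk := by
    intro f
    rw [VariableChange.map_map]
    rfl
  constructor
  · -- injectivity
    intro f g hfg
    apply hom_ext
    set Cf := (Ct W₁ W₂).map (f : B W₁ W₂ →+* D) with hCf
    set Cg := (Ct W₁ W₂).map (g : B W₁ W₂ →+* D) with hCg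
    have hf : Cf • W₁.map (algebraMap A D) = W₂.map (algebraMap A D) := smul_map f
    have hg : Cg • W₁.map (algebraMap A D) = W₂.map (algebraMap A D) := smul_map g
    have hfix : (Cg * Cf⁻¹) • W₂.map (algebraMap A D) = W₂.map (algebraMap A D) := by
      have h' : Cf⁻¹ • W₂.map (algebraMap A D) = W₁.map (algebraMap A D) := by
        rw [← hf, inv_smul_smul]
      rw [mul_smul, h', hg]
    have hmod : (Cg * Cf⁻¹).map mk = 1 := by
      have e1 : Cf.map mk = Cg.map mk := by
        rw [hCf, hCg, ← hcompmap, ← hcompmap]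
        exact congrArg (fun h : B W₁ W₂ →ₐ[A] D ⧸ N =>
          (Ct W₁ W₂).map (h : B W₁ W₂ →+* D ⧸ N)) hfg
      rw [emap, map_mul, map_inv, ← emap, ← emap, e1, mul_inv_cancel]
    obtain ⟨m1, m2, m3, m4⟩ := hmap1' _ hmod
    have hNjac : N ≤ Ideal.jacobson (⊥ : Ideal D) := by
      intro x hx
      apply Ideal.radical_le_jacobson
      exact ⟨2, by rw [pow_two, hN x hx x hx]; exact Ideal.zero_mem _⟩
    have := EllRigid.rigid (W₂.map (algebraMap A D)) (W₂.map (algebraMap A D)).isUnit_Δ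
      (Cg * Cf⁻¹) hfix (hNjac m1) (hNjac m2) (hNjac m3) (hNjac m4)
    rw [mul_inv_eq_one] at this
    exact this.symm
  · -- surjectivity
    intro fbar
    set Cbar := (Ct W₁ W₂).map (fbar : B W₁ W₂ →+* D ⧸ N) with hCbar
    have hbar : Cbar • W₁.map (algebraMap A (D ⧸ N)) = W₂.map (algebraMap A (D ⧸ N)) :=
      smul_map fbar
    obtain ⟨u0, hu0⟩ := Ideal.Quotient.mk_surjective (I := N) (Cbar.u : D ⧸ N)
    obtain ⟨v0, hv0⟩ := Ideal.Quotient.mk_surjective (I := N) ((Cbar.u⁻¹ : (D ⧸ N)ˣ) : D ⧸ N)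
    obtain ⟨r0, hr0⟩ := Ideal.Quotient.mk_surjective (I := N) Cbar.r
    obtain ⟨s0, hs0⟩ := Ideal.Quotient.mk_surjective (I := N) Cbar.s
    obtain ⟨t0, ht0⟩ := Ideal.Quotient.mk_surjective (I := N) Cbar.t
    have hn : u0 * v0 - 1 ∈ N := by
      rw [← hmem, map_sub, map_mul, map_one, hmk, hu0, hv0, Units.mul_inv, sub_self]
    have hnn := hN _ hn _ hn
    let uu : Dˣ := ⟨u0, v0 * (1 - (u0 * v0 - 1)), by linear_combination (-1) * hnn,
      by linear_combination (-1) * hnn⟩
    set Ctil : VariableChange D := ⟨uu, r0, s0, t0⟩ with hCtil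
    have hCtilmap : Ctil.map mk = Cbar := by
      ext
      · exact hu0
      · exact hr0
      · exact hs0
      · exact ht0
    set W := Ctil • W₁.map (algebraMap A D) with hW
    set W' := W₂.map (algebraMap A D) with hW'
    have hmkalg : ∀ V : WeierstrassCurve A, (V.map (algebraMap A D)).map mk =
        V.map (algebraMap A (D ⧸ N)) := fun V => rfl
    have hWmk : W.map mk = W'.map mk := by
      rw [hW, ← map_variableChange, hCtilmap, hmkalg, hW', hmkalg, hbar]
    have d1 : W'.a₁ - W.a₁ ∈ N := by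
      rw [← hmem, map_sub, sub_eq_zero]
      exact (congrArg WeierstrassCurve.a₁ hWmk).symm
    have d2 : W'.a₂ - W.a₂ ∈ N := by
      rw [← hmem, map_sub, sub_eq_zero]
      exact (congrArg WeierstrassCurve.a₂ hWmk).symm
    have d3 : W'.a₃ - W.a₃ ∈ N := by
      rw [← hmem, map_sub, sub_eq_zero]
      exact (congrArg WeierstrassCurve.a₃ hWmk).symm
    have d4 : W'.a₄ - W.a₄ ∈ N := by
      rw [← hmem, map_sub, sub_eq_zero]
      exact (congrArg WeierstrassCurve.a₄ hWmk).symm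
    have d6 : W'.a₆ - W.a₆ ∈ N := by
      rw [← hmem, map_sub, sub_eq_zero]
      exact (congrArg WeierstrassCurve.a₆ hWmk).symm
    have hWj : W.j = algebraMap A D W₁.j := by
      show (Ctil • W₁.map (algebraMap A D)).j = _
      rw [variableChange_j, map_j]
    have hW'j : W'.j = algebraMap A D W₁.j := by
      show (W₂.map (algebraMap A D)).j = _
      rw [map_j, hj]
    have hc4 : IsUnit W.c₄ := isUnit_c₄ W (by rw [hWj]; exact h0.map _)
    have hc6 : IsUnit W.c₆ := isUnit_c₆ W (by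
      rw [hWj]
      have := h1728.map (algebraMap A D)
      rwa [map_sub, map_ofNat] at this)
    have hjj : W'.Δ * W.c₄ ^ 3 = W.Δ * W'.c₄ ^ 3 := by
      rw [← Δ_mul_j W, ← Δ_mul_j W', hWj, hW'j]; ring
    obtain ⟨C', hC', m1, m2, m3, m4⟩ :=
      EllSmooth.lift_core N hN W W' W.isUnit_Δ hc4 hc6 d1 d2 d3 d4 d6 hjj
    have hC : (C' * Ctil) • W₁.map (algebraMap A D) = W₂.map (algebraMap A D) := by
      rw [mul_smul]; exact hC'
    refine ⟨homOf (C' * Ctil) hC, ?_⟩
    apply hom_ext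
    rw [hcompmap, map_homOf, emap, map_mul, ← emap, ← emap, hmap1 C' m1 m2 m3 m4, one_mul,
      hCtilmap]

theorem etale (hj : W₁.j = W₂.j) (h0 : IsUnit W₁.j) (h1728 : IsUnit (W₁.j - 1728)) :
    Algebra.Etale A (B W₁ W₂) :=
  { formallyEtale := formallyEtale W₁ W₂ hj h0 h1728
    finitePresentation := finitePresentation W₁ W₂ }

end Etale

end Groth.Agent.Lib.Helper15.EllIsom
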