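import Groth.Agent.Lib.Helper15.EllRigid
import Groth.Agent.Lib.Helper37.Hz50

set_option autoImplicit false
set_option linter.style.haveILetI false
set_option linter.unnecessarySimpa false
universe u

/-! Descent of an isomorphism of Weierstrass curves from a finite local domain extension. -/

open WeierstrassCurve IsLocalRing

namespace Groth.Agent.Lib.Helper15.EllLift

open Groth.Agent.Lib.Helper37

theorem descend {R : Type u} [CommRing R] [HenselianLocalRing R] [IsAlgClosed (ResidueField R)]
    (B : Type u) [CommRing B] [IsDomain B] [Algebra R B] [Module.Finite R B]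
    (hinj : Function.Injective (algebraMap R B))
    (W₁ W₂ : WeierstrassCurve R) [W₁.IsElliptic] [W₂.IsElliptic]
    (Cb : VariableChange B) (hCb : Cb • W₁.map (algebraMap R B) = W₂.map (algebraMap R B))
    (hgen : Algebra.adjoin R {(Cb.u : B), ((Cb.u⁻¹ : Bˣ) : B), Cb.r, Cb.s, Cb.t} = ⊤) :
    ∃ C : VariableChange R, C • W₁ = W₂ := by
  haveI : Algebra.IsIntegral R B := Algebra.IsIntegral.of_finite R B
  haveI : IsLocalRing B := Hz.TotNorm.isLocalRing_of_isIntegral_of_isDomain R B
  haveI : FaithfulSMul R B := (faithfulSMul_iff_algebraMap_injective R B).mpr hinj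
  haveI : IsLocalHom (algebraMap R B) := Algebra.IsIntegral.isLocalHom R B
  have hres : Function.Surjective (algebraMap (ResidueField R) (ResidueField B)) :=
    (IsAlgClosed.algebraMap_bijective_of_isIntegral).2
  have happ : ∀ b : B, ∃ x : R, b - algebraMap R B x ∈ maximalIdeal B := by
    intro b
    obtain ⟨y, hy⟩ := hres (residue B b)
    obtain ⟨x, rfl⟩ := residue_surjective y
    refine ⟨x, ?_⟩
    rw [← residue_eq_zero_iff, map_sub, ← hy, ResidueField.algebraMap_residue, sub_self]
  obtain ⟨u0, hu0⟩ := happ Cb.u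
  obtain ⟨r0, hr0⟩ := happ Cb.r
  obtain ⟨s0, hs0⟩ := happ Cb.s
  obtain ⟨t0, ht0⟩ := happ Cb.t
  have hu0unit : IsUnit u0 := by
    have : IsUnit (algebraMap R B u0) := by
      by_contra h
      have hm : algebraMap R B u0 ∈ maximalIdeal B := (mem_maximalIdeal _).mpr h
      have h2 : (Cb.u : B) ∈ maximalIdeal B := by
        have := Ideal.add_mem _ hu0 hm
        simpa using this
      exact (mem_maximalIdeal _).mp h2 Cb.u.isUnit
    exact isUnit_of_map_unit (algebraMap R B) u0 this
  set alg : R →+* B := algebraMap R B with halg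
  set C0 : VariableChange R := ⟨hu0unit.unit, r0, s0, t0⟩ with hC0
  set C0b : VariableChange B := C0.map alg with hC0b
  set Cb' : VariableChange B := Cb * C0b⁻¹ with hCb'
  set W1' : WeierstrassCurve R := C0 • W₁ with hW1'
  have h1 : Cb' • W1'.map alg = W₂.map alg := by
    rw [← hCb, hCb', hW1', ← map_variableChange, mul_smul, inv_smul_smul]
  have emap : ∀ {A : Type u} [CommRing A] (f : B →+* A) (C : VariableChange B),
      C.map f = VariableChange.mapHom f C := fun _ _ => rfl
  have hres1 : Cb.map (residue B) = C0b.map (residue B) := by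
    ext
    · show residue B (Cb.u : B) = residue B (alg u0)
      rw [← sub_eq_zero, ← map_sub, residue_eq_zero_iff]; exact hu0
    · show residue B Cb.r = residue B (alg r0)
      rw [← sub_eq_zero, ← map_sub, residue_eq_zero_iff]; exact hr0
    · show residue B Cb.s = residue B (alg s0)
      rw [← sub_eq_zero, ← map_sub, residue_eq_zero_iff]; exact hs0
    · show residue B Cb.t = residue B (alg t0)
      rw [← sub_eq_zero, ← map_sub, residue_eq_zero_iff]; exact ht0
  have hres2 : Cb'.map (residue B) = 1 := by
    rw [hCb', emap, map_mul, map_inv, ← emap, ← emap, hres1, mul_inv_cancel]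
  have h2 : (W₂.map alg).map (residue B) = (W1'.map alg).map (residue B) := by
    rw [← h1, ← map_variableChange, hres2, one_smul]
  have hcomp : (algebraMap (ResidueField R) (ResidueField B)).comp (residue R) =
      (residue B).comp alg := RingHom.ext fun x => rfl
  have h2k : W₂.map (residue R) = W1'.map (residue R) := by
    apply WeierstrassCurve.map_injective
      (f := algebraMap (ResidueField R) (ResidueField B)) (RingHom.injective _)
    dsimp only
    rw [map_map, map_map, hcomp, ← map_map, ← map_map, h2]
  -- the quotient `D = B / m_R B`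
  set I : Ideal B := (maximalIdeal R).map alg with hI
  set mk : B →+* (B ⧸ I) := Ideal.Quotient.mk I with hmk
  have hIle : I ≤ maximalIdeal B := ((local_hom_TFAE alg).out 0 2 rfl rfl).mp inferInstance
  have hIne : I ≠ ⊤ := fun h => (maximalIdeal.isMaximal B).ne_top (top_le_iff.mp (h ▸ hIle))
  let ψ : ResidueField R →+* (B ⧸ I) :=
    Ideal.Quotient.lift (maximalIdeal R) (mk.comp alg) (fun x hx => by
      show mk (alg x) = 0
      rw [hmk, Ideal.Quotient.eq_zero_iff_mem]
      exact Ideal.mem_map_of_mem _ hx)
  have hψ : ψ.comp (residue R) = mk.comp alg := RingHom.ext fun x => rfl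
  have h3 : (W₂.map alg).map mk = (W1'.map alg).map mk := by
    rw [map_map, map_map, ← hψ, ← map_map, ← map_map, h2k]
  have h4 : (Cb'.map mk) • (W1'.map alg).map mk = (W1'.map alg).map mk := by
    rw [map_variableChange, h1, h3]
  have hjac : ∀ x ∈ maximalIdeal B, mk x ∈ Ideal.jacobson (⊥ : Ideal (B ⧸ I)) := by
    intro x hx
    have e1 : Ideal.map mk I.jacobson = (Ideal.map mk I).jacobson :=
      Ideal.map_jacobson_of_surjective Ideal.Quotient.mk_surjective (by rw [hmk, Ideal.mk_ker])
    rw [jacobson_eq_maximalIdeal I hIne, hmk, Ideal.map_quotient_self] at e1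
    rw [← e1]
    exact Ideal.mem_map_of_mem _ hx
  have hu1 : (Cb'.u : B) - 1 ∈ maximalIdeal B := by
    have := congrArg (fun C : VariableChange (ResidueField B) => (C.u : ResidueField B)) hres2
    have h' : residue B (Cb'.u : B) = 1 := this
    rw [← residue_eq_zero_iff, map_sub, h', map_one, sub_self]
  have hr1 : Cb'.r ∈ maximalIdeal B := by
    have h' : residue B Cb'.r = 0 := congrArg VariableChange.r hres2
    rwa [residue_eq_zero_iff] at h'
  have hs1 : Cb'.s ∈ maximalIdeal B := by
    have h' : residue B Cb'.s = 0 := congrArg VariableChange.s hres2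
    rwa [residue_eq_zero_iff] at h'
  have ht1 : Cb'.t ∈ maximalIdeal B := by
    have h' : residue B Cb'.t = 0 := congrArg VariableChange.t hres2
    rwa [residue_eq_zero_iff] at h'
  have hrig : Cb'.map mk = 1 := by
    refine EllRigid.rigid ((W1'.map alg).map mk) ((W1'.map alg).map mk).isUnit_Δ _ h4 ?_ ?_ ?_ ?_
    · have : (((Cb'.map mk).u : B ⧸ I)) - 1 = mk ((Cb'.u : B) - 1) := by
        rw [map_sub, map_one]; rfl
      rw [this]; exact hjac _ hu1
    · exact hjac _ hr1
    · exact hjac _ hs1
    · exact hjac _ ht1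
  have heq : Cb.map mk = C0b.map mk := by
    rw [hCb', emap, map_mul, map_inv, mul_inv_eq_one] at hrig
    exact hrig
  -- generators lie in `R + I`
  set S' : Subalgebra R B := (⊥ : Subalgebra R (B ⧸ I)).comap (Ideal.Quotient.mkₐ R I) with hS'
  have hmemS : ∀ (b : B) (x : R), mk b = mk (alg x) → b ∈ S' := by
    intro b x h
    rw [hS', Subalgebra.mem_comap, Algebra.mem_bot]
    exact ⟨x, h.symm⟩
  have hS'top : S' = ⊤ := by
    rw [eq_top_iff, ← hgen]
    apply Algebra.adjoin_le
    intro b hb
    simp only [Set.mem_insert_iff, Set.mem_singleton_iff] at hb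
    rcases hb with rfl | rfl | rfl | rfl | rfl
    · exact hmemS _ u0 (congrArg (fun C : VariableChange (B ⧸ I) => (C.u : B ⧸ I)) heq)
    · refine hmemS _ ((hu0unit.unit⁻¹ : Rˣ) : R) ?_
      have := congrArg (fun C : VariableChange (B ⧸ I) => ((C.u⁻¹ : (B ⧸ I)ˣ) : B ⧸ I)) heq
      exact this
    · exact hmemS _ r0 (congrArg VariableChange.r heq)
    · exact hmemS _ s0 (congrArg VariableChange.s heq)
    · exact hmemS _ t0 (congrArg VariableChange.t heq)
  have hall : ∀ b : B, ∃ x : R, b - alg x ∈ I := by
    intro b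
    have hb : b ∈ S' := hS'top ▸ Algebra.mem_top
    rw [hS', Subalgebra.mem_comap, Algebra.mem_bot] at hb
    obtain ⟨x, hx⟩ := hb
    refine ⟨x, ?_⟩
    rw [← Ideal.Quotient.eq_zero_iff_mem, map_sub, sub_eq_zero]
    exact hx.symm
  -- Nakayama
  have hsurj : Function.Surjective alg := by
    have hle : (⊤ : Submodule R B) ≤ LinearMap.range (Algebra.linearMap R B) := by
      apply Submodule.le_of_le_smul_of_le_jacobson_bot (I := maximalIdeal R) Module.Finite.fg_top
        (maximalIdeal_le_jacobson ⊥)
      intro b _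
      obtain ⟨x, hx⟩ := hall b
      have : b = alg x + (b - alg x) := by ring
      rw [this]
      refine Submodule.add_mem_sup ⟨x, rfl⟩ ?_
      rw [Ideal.smul_top_eq_map]
      exact hx
    intro b
    obtain ⟨x, hx⟩ := hle (Submodule.mem_top : b ∈ ⊤)
    exact ⟨x, hx⟩
  let e : R ≃+* B := RingEquiv.ofBijective alg ⟨hinj, hsurj⟩
  refine ⟨Cb.map (e.symm : B →+* R), ?_⟩
  apply WeierstrassCurve.map_injective (f := alg) hinj
  dsimp only
  rw [← map_variableChange, VariableChange.map_map]
  have : alg.comp (e.symm : B →+* R) = RingHom.id B := by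
    ext b
    exact e.apply_symm_apply b
  rw [this, VariableChange.map_id, hCb]

end Groth.Agent.Lib.Helper15.EllLift
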