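import Mathlib

set_option autoImplicit false
set_option maxHeartbeats 4000000

/-! Rigidity of automorphisms of Weierstrass curves with unit discriminant:
explicit certificates `Δ * x ∈ J^2` for the generators `x` of `J = (u-1, r, s, t)`. -/

namespace Groth.Agent.Lib.Helper15.EllRigid

theorem key_u {D : Type*} [CommRing D] (a1 a2 a3 a4 a6 u r s t : D)
    (F1 : (1+u)*a1 = a1 + 2*s)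
    (F2 : (1+u)^2*a2 = a2 - s*a1 + 3*r - s*s)
    (F3 : (1+u)^3*a3 = a3 + r*a1 + 2*t)
    (F4 : (1+u)^4*a4 = a4 - s*a3 + 2*r*a2 - (t + r*s)*a1 + 3*r*r - 2*s*t)
    (F6 : (1+u)^6*a6 = a6 + r*a4 + r*r*a2 + r*r*r - t*a3 - t*t - r*t*a1) :
    (-(a1*a1+4*a2)^2*(a1*a1*a6+4*a2*a6-a1*a3*a4+a2*a3*a3-a4*a4) - 8*(2*a4+a1*a3)^3 - 27*(a3*a3+4*a6)^2 + 9*(a1*a1+4*a2)*(2*a4+a1*a3)*(a3*a3+4*a6)) * u =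
      (a1*a1*a1*a2*a3 + a1*a1*a1*a3*r + 2*a1*a1*a2*a4 - 3*a1*a1*a3*a3 + 2*a1*a1*a4*r + 36*a1*a1*a6 + 4*a1*a2*a2*a3 + 4*a1*a2*a3*r - 48*a1*a3*a4 + 8*a2*a2*a4 + 18*a2*a3*a3 + 8*a2*a4*r + 72*a2*a6 - 18*a3*a3*r - 48*a4*a4 - 72*a6*r) * (r*r)
      + (a1*a1*a1*a3*a3 - 12*a1*a1*a1*a6 + 16*a1*a1*a3*a4 - 12*a1*a2*a3*a3 - 48*a1*a2*a6 + 16*a1*a4*a4) * (r*s)
      + (-a1*a1*a1*a1*a3 - 2*a1*a1*a1*a4 - 4*a1*a1*a2*a3 - 8*a1*a2*a4 + 18*a1*a3*a3 + 72*a1*a6) * (r*t)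
      + (2*a1*a1*a1*a1*a6 - 2*a1*a1*a1*a3*a4 + 2*a1*a1*a2*a3*a3 + 16*a1*a1*a2*a6 - 2*a1*a1*a4*a4 - 8*a1*a2*a3*a4 - 3*a1*a3*a3*a3 - 12*a1*a3*a6 + 8*a2*a2*a3*a3 + 32*a2*a2*a6 - 8*a2*a4*a4 - 6*a3*a3*a4 - 24*a4*a6) * (s*s)
      + (2*a1*a1*a3*a3 - 24*a1*a1*a6 + 32*a1*a3*a4 - 24*a2*a3*a3 - 96*a2*a6 + 32*a4*a4) * (s*t)
      + (-a1*a1*a1*a3 - 2*a1*a1*a4 - 4*a1*a2*a3 - 8*a2*a4 + 18*a3*a3 + 72*a6) * (t*t)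
      + (2*a1*a1*a1*a1*a2*a6 - 2*a1*a1*a1*a2*a3*a4 - a1*a1*a1*a3*a6*u*u*u*u - 6*a1*a1*a1*a3*a6*u*u*u - 15*a1*a1*a1*a3*a6*u*u - 26*a1*a1*a1*a3*a6*u - 33*a1*a1*a1*a3*a6 + 2*a1*a1*a2*a2*a3*a3 + 16*a1*a1*a2*a2*a6 - 2*a1*a1*a2*a4*a4 + a1*a1*a3*a3*a4*u*u + 11*a1*a1*a3*a3*a4*u + 27*a1*a1*a3*a3*a4 - 2*a1*a1*a4*a6*u*u*u*u - 12*a1*a1*a4*a6*u*u*u - 42*a1*a1*a4*a6*u*u - 88*a1*a1*a4*a6*u - 102*a1*a1*a4*a6 - 8*a1*a2*a2*a3*a4 - 8*a1*a2*a3*a3*a3*u - 27*a1*a2*a3*a3*a3 - 4*a1*a2*a3*a6*u*u*u*u - 24*a1*a2*a3*a6*u*u*u - 60*a1*a2*a3*a6*u*u - 104*a1*a2*a3*a6*u - 144*a1*a2*a3*a6 + 16*a1*a3*a4*a4*u*u + 72*a1*a3*a4*a4*u + 120*a1*a3*a4*a4 + 8*a2*a2*a2*a3*a3 + 32*a2*a2*a2*a6 - 8*a2*a2*a4*a4 - 12*a2*a3*a3*a4*u*u - 52*a2*a3*a3*a4*u - 90*a2*a3*a3*a4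 - 8*a2*a4*a6*u*u*u*u - 48*a2*a4*a6*u*u*u - 168*a2*a4*a6*u*u - 352*a2*a4*a6*u - 432*a2*a4*a6 + 9*a3*a3*a3*a3*u + 27*a3*a3*a3*a3 + 18*a3*a3*a6*u*u*u*u + 108*a3*a3*a6*u*u*u + 270*a3*a3*a6*u*u + 396*a3*a3*a6*u + 378*a3*a3*a6 + 16*a4*a4*a4*u*u + 64*a4*a4*a4*u + 96*a4*a4*a4 + 72*a6*a6*u*u*u*u + 432*a6*a6*u*u*u + 1080*a6*a6*u*u + 1440*a6*a6*u + 1080*a6*a6) * (u*u) := by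
  linear_combination (-a1*a1*a1*a1*a1*a6 + a1*a1*a1*a1*a3*a4 - a1*a1*a1*a2*a3*a3 - 8*a1*a1*a1*a2*a6 + a1*a1*a1*a4*a4 + 4*a1*a1*a2*a3*a4 + a1*a1*a3*a3*a3 + 12*a1*a1*a3*a6 - 4*a1*a2*a2*a3*a3 - 16*a1*a2*a2*a6 + 4*a1*a2*a4*a4 - 5*a1*a3*a3*a4 + 12*a1*a4*a6 + 6*a2*a3*a3*a3 + 24*a2*a3*a6 - 8*a3*a4*a4) * F1 + (-2*a1*a1*a1*a1*a6 + 2*a1*a1*a1*a3*a4 - 2*a1*a1*a2*a3*a3 - 16*a1*a1*a2*a6 + 2*a1*a1*a4*a4 + 8*a1*a2*a3*a4 + 3*a1*a3*a3*a3 + 12*a1*a3*a6 - 8*a2*a2*a3*a3 - 32*a2*a2*a6 + 8*a2*a4*a4 + 6*a3*a3*a4 + 24*a4*a6) * F2 + (6*a1*a1*a1*a6 - 7*a1*a1*a3*a4 + 8*a1*a2*a3*a3 + 24*a1*a2*a6 - 8*a1*a4*a4 + 4*a2*a3*a4 - 9*a3*a3*a3 - 36*a3*a6) * F3 + (-a1*a1*a3*a3 + 12*a1*a1*a6 - 16*a1*a3*a4 + 12*a2*a3*a3 + 48*a2*a6 - 16*a4*a4) * F4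 + (a1*a1*a1*a3 + 2*a1*a1*a4 + 4*a1*a2*a3 + 8*a2*a4 - 18*a3*a3 - 72*a6) * F6

theorem key_r {D : Type*} [CommRing D] (a1 a2 a3 a4 a6 u r s t : D)
    (F1 : (1+u)*a1 = a1 + 2*s)
    (F2 : (1+u)^2*a2 = a2 - s*a1 + 3*r - s*s)
    (F3 : (1+u)^3*a3 = a3 + r*a1 + 2*t)
    (F4 : (1+u)^4*a4 = a4 - s*a3 + 2*r*a2 - (t + r*s)*a1 + 3*r*r - 2*s*t)
    (F6 : (1+u)^6*a6 = a6 + r*a4 + r*r*a2 + r*r*r - t*a3 - t*t - r*t*a1) :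
    (-(a1*a1+4*a2)^2*(a1*a1*a6+4*a2*a6-a1*a3*a4+a2*a3*a3-a4*a4) - 8*(2*a4+a1*a3)^3 - 27*(a3*a3+4*a6)^2 + 9*(a1*a1+4*a2)*(2*a4+a1*a3)*(a3*a3+4*a6)) * r =
      (6*a1*a1*a1*a1*a6 - 6*a1*a1*a1*a3*a4 + 7*a1*a1*a2*a3*a3 + 36*a1*a1*a2*a6 + a1*a1*a3*a3*r - 6*a1*a1*a4*a4 - 12*a1*a1*a6*r - 8*a1*a2*a3*a4 - 9*a1*a3*a3*a3 + 16*a1*a3*a4*r - 36*a1*a3*a6 + 12*a2*a2*a3*a3 + 48*a2*a2*a6 - 12*a2*a3*a3*r - 8*a2*a4*a4 - 48*a2*a6*r - 18*a3*a3*a4 + 16*a4*a4*r - 72*a4*a6) * (r*r)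
      + (-2*a1*a1*a1*a1*a1*a6 + 2*a1*a1*a1*a1*a3*a4 - 2*a1*a1*a1*a2*a3*a3 - 16*a1*a1*a1*a2*a6 + 2*a1*a1*a1*a4*a4 + 8*a1*a1*a2*a3*a4 + 3*a1*a1*a3*a3*a3 + 12*a1*a1*a3*a6 - 8*a1*a2*a2*a3*a3 - 32*a1*a2*a2*a6 + 8*a1*a2*a4*a4 + 6*a1*a3*a3*a4 + 24*a1*a4*a6) * (r*s)
      + (-a1*a1*a1*a3*a3 + 12*a1*a1*a1*a6 - 16*a1*a1*a3*a4 + 12*a1*a2*a3*a3 + 48*a1*a2*a6 - 16*a1*a4*a4) * (r*t)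
      + (8*a1*a1*a1*a3*a6 - 8*a1*a1*a3*a3*a4 + 16*a1*a1*a4*a6 + 8*a1*a2*a3*a3*a3 + 32*a1*a2*a3*a6 - 24*a1*a3*a4*a4 + 16*a2*a3*a3*a4 + 64*a2*a4*a6 - 9*a3*a3*a3*a3 - 72*a3*a3*a6 - 16*a4*a4*a4 - 144*a6*a6) * (s*s)
      + (-4*a1*a1*a1*a1*a6 + 4*a1*a1*a1*a3*a4 - 4*a1*a1*a2*a3*a3 - 32*a1*a1*a2*a6 + 4*a1*a1*a4*a4 + 16*a1*a2*a3*a4 + 6*a1*a3*a3*a3 + 24*a1*a3*a6 - 16*a2*a2*a3*a3 - 64*a2*a2*a6 + 16*a2*a4*a4 + 12*a3*a3*a4 + 48*a4*a6) * (s*t)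
      + (-a1*a1*a3*a3 + 12*a1*a1*a6 - 16*a1*a3*a4 + 12*a2*a3*a3 + 48*a2*a6 - 16*a4*a4) * (t*t)
      + (-a1*a1*a1*a1*a1*a3*a6*u - 3*a1*a1*a1*a1*a1*a3*a6 + a1*a1*a1*a1*a3*a3*a4*u + 3*a1*a1*a1*a1*a3*a3*a4 - 2*a1*a1*a1*a1*a4*a6*u*u - 8*a1*a1*a1*a1*a4*a6*u - 12*a1*a1*a1*a1*a4*a6 - a1*a1*a1*a2*a3*a3*a3*u - 3*a1*a1*a1*a2*a3*a3*a3 - 8*a1*a1*a1*a2*a3*a6*u - 16*a1*a1*a1*a2*a3*a6 + 2*a1*a1*a1*a3*a4*a4*u*u + 9*a1*a1*a1*a3*a4*a4*u + 15*a1*a1*a1*a3*a4*a4 - 2*a1*a1*a2*a3*a3*a4*u*u - 4*a1*a1*a2*a3*a3*a4*u - 8*a1*a1*a2*a3*a3*a4 - 16*a1*a1*a2*a4*a6*u*u - 64*a1*a1*a2*a4*a6*u - 80*a1*a1*a2*a4*a6 + a1*a1*a3*a3*a3*a3*u + 3*a1*a1*a3*a3*a3*a3 - a1*a1*a3*a3*a6*u*u*u*u - 6*a1*a1*a3*a3*a6*u*u*u - 15*a1*a1*a3*a3*a6*u*u - 8*a1*a1*a3*a3*a6*u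 + 21*a1*a1*a3*a3*a6 + 2*a1*a1*a4*a4*a4*u*u + 8*a1*a1*a4*a4*a4*u + 12*a1*a1*a4*a4*a4 + 12*a1*a1*a6*a6*u*u*u*u + 72*a1*a1*a6*a6*u*u*u + 180*a1*a1*a6*a6*u*u + 240*a1*a1*a6*a6*u + 180*a1*a1*a6*a6 - 4*a1*a2*a2*a3*a3*a3*u - 4*a1*a2*a2*a3*a3*a3 - 16*a1*a2*a2*a3*a6*u - 16*a1*a2*a2*a3*a6 + 8*a1*a2*a3*a4*a4*u*u + 36*a1*a2*a3*a4*a4*u + 36*a1*a2*a3*a4*a4 + 3*a1*a3*a3*a3*a4*u*u + 7*a1*a3*a3*a3*a4*u + 3*a1*a3*a3*a3*a4 - 16*a1*a3*a4*a6*u*u*u*u - 96*a1*a3*a4*a6*u*u*u - 228*a1*a3*a4*a6*u*u - 260*a1*a3*a4*a6*u - 132*a1*a3*a4*a6 - 8*a2*a2*a3*a3*a4*u*u - 32*a2*a2*a3*a3*a4*u - 32*a2*a2*a3*a3*a4 - 32*a2*a2*a4*a6*u*u - 128*a2*a2*a4*a6*u - 128*a2*a2*a4*a6 + 6*a2*a3*a3*a3*a3*u + 9*a2*a3*a3*a3*a3 + 12*a2*a3*a3*a6*u*u*u*u + 72*a2*a3*a3*a6*u*u*u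 + 180*a2*a3*a3*a6*u*u + 264*a2*a3*a3*a6*u + 180*a2*a3*a3*a6 + 8*a2*a4*a4*a4*u*u + 32*a2*a4*a4*a4*u + 32*a2*a4*a4*a4 + 48*a2*a6*a6*u*u*u*u + 288*a2*a6*a6*u*u*u + 720*a2*a6*a6*u*u + 960*a2*a6*a6*u + 576*a2*a6*a6 + 6*a3*a3*a4*a4*u*u + 16*a3*a3*a4*a4*u + 12*a3*a3*a4*a4 - 16*a4*a4*a6*u*u*u*u - 96*a4*a4*a6*u*u*u - 216*a4*a4*a6*u*u - 224*a4*a4*a6*u - 96*a4*a4*a6) * (u*u) := by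
  linear_combination (-3*a1*a1*a1*a1*a3*a6 + 3*a1*a1*a1*a3*a3*a4 - 8*a1*a1*a1*a4*a6 - 3*a1*a1*a2*a3*a3*a3 - 8*a1*a1*a2*a3*a6 + 11*a1*a1*a3*a4*a4 - 12*a1*a2*a3*a3*a4 - 32*a1*a2*a4*a6 + 3*a1*a3*a3*a3*a3 + 30*a1*a3*a3*a6 + 8*a1*a4*a4*a4 + 72*a1*a6*a6 + 4*a2*a2*a3*a3*a3 + 16*a2*a2*a3*a6 - 4*a2*a3*a4*a4 - 3*a3*a3*a3*a4 - 12*a3*a4*a6) * F1 + (-8*a1*a1*a1*a3*a6 + 8*a1*a1*a3*a3*a4 - 16*a1*a1*a4*a6 - 8*a1*a2*a3*a3*a3 - 32*a1*a2*a3*a6 + 24*a1*a3*a4*a4 - 16*a2*a3*a3*a4 - 64*a2*a4*a6 + 9*a3*a3*a3*a3 + 72*a3*a3*a6 + 16*a4*a4*a4 + 144*a6*a6) * F2 + (a1*a1*a1*a1*a1*a6 - a1*a1*a1*a1*a3*a4 + a1*a1*a1*a2*a3*a3 + 8*a1*a1*a1*a2*a6 - a1*a1*a1*a4*a4 - 4*a1*a1*a2*a3*a4 - a1*a1*a3*a3*a3 - 12*a1*a1*a3*a6 + 4*a1*a2*a2*a3*a3 + 16*a1*a2*a2*a6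 - 4*a1*a2*a4*a4 + 5*a1*a3*a3*a4 - 12*a1*a4*a6 - 6*a2*a3*a3*a3 - 24*a2*a3*a6 + 8*a3*a4*a4) * F3 + (2*a1*a1*a1*a1*a6 - 2*a1*a1*a1*a3*a4 + 2*a1*a1*a2*a3*a3 + 16*a1*a1*a2*a6 - 2*a1*a1*a4*a4 - 8*a1*a2*a3*a4 - 3*a1*a3*a3*a3 - 12*a1*a3*a6 + 8*a2*a2*a3*a3 + 32*a2*a2*a6 - 8*a2*a4*a4 - 6*a3*a3*a4 - 24*a4*a6) * F4 + (a1*a1*a3*a3 - 12*a1*a1*a6 + 16*a1*a3*a4 - 12*a2*a3*a3 - 48*a2*a6 + 16*a4*a4) * F6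

theorem key_s {D : Type*} [CommRing D] (a1 a2 a3 a4 a6 u r s t : D)
    (F1 : (1+u)*a1 = a1 + 2*s)
    (F2 : (1+u)^2*a2 = a2 - s*a1 + 3*r - s*s)
    (F3 : (1+u)^3*a3 = a3 + r*a1 + 2*t)
    (F4 : (1+u)^4*a4 = a4 - s*a3 + 2*r*a2 - (t + r*s)*a1 + 3*r*r - 2*s*t)
    (F6 : (1+u)^6*a6 = a6 + r*a4 + r*r*a2 + r*r*r - t*a3 - t*t - r*t*a1) :
    (-(a1*a1+4*a2)^2*(a1*a1*a6+4*a2*a6-a1*a3*a4+a2*a3*a3-a4*a4) - 8*(2*a4+a1*a3)^3 - 27*(a3*a3+4*a6)^2 + 9*(a1*a1+4*a2)*(2*a4+a1*a3)*(a3*a3+4*a6)) * s =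
      (a1*a1*a1*a2*a4 + a1*a1*a1*a4*r + 18*a1*a1*a1*a6 - 2*a1*a1*a2*a2*a3 - 2*a1*a1*a2*a3*r - 21*a1*a1*a3*a4 + 4*a1*a2*a2*a4 + 27*a1*a2*a3*a3 + 4*a1*a2*a4*r + 36*a1*a2*a6 + 3*a1*a3*a3*r - 24*a1*a4*a4 - 36*a1*a6*r - 8*a2*a2*a2*a3 - 8*a2*a2*a3*r + 36*a2*a3*a4 - 27*a3*a3*a3 + 24*a3*a4*r - 108*a3*a6) * (r*r)
      + (-6*a1*a1*a1*a1*a6 + 7*a1*a1*a1*a3*a4 - 8*a1*a1*a2*a3*a3 - 24*a1*a1*a2*a6 + 8*a1*a1*a4*a4 - 4*a1*a2*a3*a4 + 9*a1*a3*a3*a3 + 36*a1*a3*a6) * (r*s)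
      + (-a1*a1*a1*a1*a4 + 2*a1*a1*a1*a2*a3 - 4*a1*a1*a2*a4 - 3*a1*a1*a3*a3 + 36*a1*a1*a6 + 8*a1*a2*a2*a3 - 24*a1*a3*a4) * (r*t)
      + (a1*a1*a1*a1*a1*a6 - a1*a1*a1*a1*a3*a4 + a1*a1*a1*a2*a3*a3 + 8*a1*a1*a1*a2*a6 - a1*a1*a1*a4*a4 - 4*a1*a1*a2*a3*a4 - a1*a1*a3*a3*a3 - 12*a1*a1*a3*a6 + 4*a1*a2*a2*a3*a3 + 16*a1*a2*a2*a6 - 4*a1*a2*a4*a4 + 5*a1*a3*a3*a4 - 12*a1*a4*a6 - 6*a2*a3*a3*a3 - 24*a2*a3*a6 + 8*a3*a4*a4) * (s*s)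
      + (-12*a1*a1*a1*a6 + 14*a1*a1*a3*a4 - 16*a1*a2*a3*a3 - 48*a1*a2*a6 + 16*a1*a4*a4 - 8*a2*a3*a4 + 18*a3*a3*a3 + 72*a3*a6) * (s*t)
      + (-a1*a1*a1*a4 + 2*a1*a1*a2*a3 - 4*a1*a2*a4 - 3*a1*a3*a3 + 36*a1*a6 + 8*a2*a2*a3 - 24*a3*a4) * (t*t)
      + (a1*a1*a1*a1*a1*a2*a6 - a1*a1*a1*a1*a2*a3*a4 - 3*a1*a1*a1*a1*a3*a6*u - 9*a1*a1*a1*a1*a3*a6 + a1*a1*a1*a2*a2*a3*a3 + 8*a1*a1*a1*a2*a2*a6 - a1*a1*a1*a2*a4*a4 + 3*a1*a1*a1*a3*a3*a4*u + 9*a1*a1*a1*a3*a3*a4 - a1*a1*a1*a4*a6*u*u*u*u - 6*a1*a1*a1*a4*a6*u*u*u - 21*a1*a1*a1*a4*a6*u*u - 44*a1*a1*a1*a4*a6*u - 51*a1*a1*a1*a4*a6 - 4*a1*a1*a2*a2*a3*a4 - 3*a1*a1*a2*a3*a3*a3*u - 10*a1*a1*a2*a3*a3*a3 + 2*a1*a1*a2*a3*a6*u*u*u*u + 12*a1*a1*a2*a3*a6*u*u*u + 30*a1*a1*a2*a3*a6*u*u +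 28*a1*a1*a2*a3*a6*u - 18*a1*a1*a2*a3*a6 + 7*a1*a1*a3*a4*a4*u*u + 32*a1*a1*a3*a4*a4*u + 54*a1*a1*a3*a4*a4 + 4*a1*a2*a2*a2*a3*a3 + 16*a1*a2*a2*a2*a6 - 4*a1*a2*a2*a4*a4 - 8*a1*a2*a3*a3*a4*u*u - 36*a1*a2*a3*a3*a4*u - 55*a1*a2*a3*a3*a4 - 4*a1*a2*a4*a6*u*u*u*u - 24*a1*a2*a4*a6*u*u*u - 84*a1*a2*a4*a6*u*u - 176*a1*a2*a4*a6*u - 216*a1*a2*a4*a6 + 3*a1*a3*a3*a3*a3*u + 9*a1*a3*a3*a3*a3 - 3*a1*a3*a3*a6*u*u*u*u - 18*a1*a3*a3*a6*u*u*u - 45*a1*a3*a3*a6*u*u - 24*a1*a3*a3*a6*u + 63*a1*a3*a3*a6 + 8*a1*a4*a4*a4*u*u + 32*a1*a4*a4*a4*u + 48*a1*a4*a4*a4 + 36*a1*a6*a6*u*u*u*u + 216*a1*a6*a6*u*u*u + 540*a1*a6*a6*u*u + 720*a1*a6*a6*u + 540*a1*a6*a6 + 4*a2*a2*a3*a3*a3*u + 6*a2*a2*a3*a3*a3 + 8*a2*a2*a3*a6*u*u*u*u + 48*a2*a2*a3*a6*u*u*u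 + 120*a2*a2*a3*a6*u*u + 160*a2*a2*a3*a6*u + 96*a2*a2*a3*a6 - 4*a2*a3*a4*a4*u*u - 16*a2*a3*a4*a4*u - 16*a2*a3*a4*a4 + 9*a3*a3*a3*a4*u*u + 24*a3*a3*a3*a4*u + 18*a3*a3*a3*a4 - 24*a3*a4*a6*u*u*u*u - 144*a3*a4*a6*u*u*u - 324*a3*a4*a6*u*u - 336*a3*a4*a6*u - 144*a3*a4*a6) * (u*u) := by
  linear_combination (2*a1*a1*a1*a1*a2*a6 - 2*a1*a1*a1*a2*a3*a4 - 9*a1*a1*a1*a3*a6 + 2*a1*a1*a2*a2*a3*a3 + 16*a1*a1*a2*a2*a6 - 2*a1*a1*a2*a4*a4 + 9*a1*a1*a3*a3*a4 - 30*a1*a1*a4*a6 - 8*a1*a2*a2*a3*a4 - 11*a1*a2*a3*a3*a3 - 48*a1*a2*a3*a6 + 40*a1*a3*a4*a4 + 8*a2*a2*a2*a3*a3 + 32*a2*a2*a2*a6 - 8*a2*a2*a4*a4 - 34*a2*a3*a3*a4 - 144*a2*a4*a6 + 9*a3*a3*a3*a3 + 90*a3*a3*a6 + 32*a4*a4*a4 + 216*a6*a6) * F1 + (-a1*a1*a1*a1*a1*a6 + a1*a1*a1*a1*a3*a4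 - a1*a1*a1*a2*a3*a3 - 8*a1*a1*a1*a2*a6 + a1*a1*a1*a4*a4 + 4*a1*a1*a2*a3*a4 + a1*a1*a3*a3*a3 + 12*a1*a1*a3*a6 - 4*a1*a2*a2*a3*a3 - 16*a1*a2*a2*a6 + 4*a1*a2*a4*a4 - 5*a1*a3*a3*a4 + 12*a1*a4*a6 + 6*a2*a3*a3*a3 + 24*a2*a3*a6 - 8*a3*a4*a4) * F2 + (3*a1*a1*a1*a1*a6 - 3*a1*a1*a1*a3*a4 + 3*a1*a1*a2*a3*a3 + 12*a1*a1*a2*a6 - 4*a1*a1*a4*a4 + 4*a1*a2*a3*a4 - 3*a1*a3*a3*a3 - 36*a1*a3*a6 - 4*a2*a2*a3*a3 + 12*a3*a3*a4) * F3 + (6*a1*a1*a1*a6 - 7*a1*a1*a3*a4 + 8*a1*a2*a3*a3 + 24*a1*a2*a6 - 8*a1*a4*a4 + 4*a2*a3*a4 - 9*a3*a3*a3 - 36*a3*a6) * F4 + (a1*a1*a1*a4 - 2*a1*a1*a2*a3 + 4*a1*a2*a4 + 3*a1*a3*a3 - 36*a1*a6 - 8*a2*a2*a3 + 24*a3*a4) * F6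

theorem key_t {D : Type*} [CommRing D] (a1 a2 a3 a4 a6 u r s t : D)
    (F1 : (1+u)*a1 = a1 + 2*s)
    (F2 : (1+u)^2*a2 = a2 - s*a1 + 3*r - s*s)
    (F3 : (1+u)^3*a3 = a3 + r*a1 + 2*t)
    (F4 : (1+u)^4*a4 = a4 - s*a3 + 2*r*a2 - (t + r*s)*a1 + 3*r*r - 2*s*t)
    (F6 : (1+u)^6*a6 = a6 + r*a4 + r*r*a2 + r*r*r - t*a3 - t*t - r*t*a1) :
    (-(a1*a1+4*a2)^2*(a1*a1*a6+4*a2*a6-a1*a3*a4+a2*a3*a3-a4*a4) - 8*(2*a4+a1*a3)^3 - 27*(a3*a3+4*a6)^2 + 9*(a1*a1+4*a2)*(2*a4+a1*a3)*(a3*a3+4*a6)) * t =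
      (-3*a1*a1*a1*a1*a1*a6 + 3*a1*a1*a1*a1*a3*a4 - 2*a1*a1*a1*a2*a3*a3 - 18*a1*a1*a1*a2*a6 + a1*a1*a1*a3*a3*r + 3*a1*a1*a1*a4*a4 + 6*a1*a1*a1*a6*r + 7*a1*a1*a2*a3*a4 - 5*a1*a1*a3*a4*r + 72*a1*a1*a3*a6 - 24*a1*a2*a2*a6 + 12*a1*a2*a3*a3*r + 4*a1*a2*a4*a4 + 24*a1*a2*a6*r - 63*a1*a3*a3*a4 - 8*a1*a4*a4*r + 36*a1*a4*a6 + 12*a2*a2*a3*a4 + 27*a2*a3*a3*a3 + 12*a2*a3*a4*r + 108*a2*a3*a6 - 27*a3*a3*a3*r - 72*a3*a4*a4 - 108*a3*a6*r) * (r*r)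
      + (a1*a1*a1*a1*a1*a1*a6 - a1*a1*a1*a1*a1*a3*a4 + a1*a1*a1*a1*a2*a3*a3 + 8*a1*a1*a1*a1*a2*a6 - a1*a1*a1*a1*a4*a4 - 4*a1*a1*a1*a2*a3*a4 - 24*a1*a1*a1*a3*a6 + 4*a1*a1*a2*a2*a3*a3 + 16*a1*a1*a2*a2*a6 - 4*a1*a1*a2*a4*a4 + 21*a1*a1*a3*a3*a4 - 12*a1*a1*a4*a6 - 18*a1*a2*a3*a3*a3 - 72*a1*a2*a3*a6 + 24*a1*a3*a4*a4) * (r*s)
      + (-a1*a1*a1*a1*a3*a3 - 6*a1*a1*a1*a1*a6 + 5*a1*a1*a1*a3*a4 - 12*a1*a1*a2*a3*a3 - 24*a1*a1*a2*a6 + 8*a1*a1*a4*a4 - 12*a1*a2*a3*a4 + 27*a1*a3*a3*a3 + 108*a1*a3*a6) * (r*t)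
      + (-a1*a1*a1*a1*a3*a6 + a1*a1*a1*a3*a3*a4 - 8*a1*a1*a1*a4*a6 - a1*a1*a2*a3*a3*a3 + 8*a1*a1*a2*a3*a6 + 9*a1*a1*a3*a4*a4 - 20*a1*a2*a3*a3*a4 - 32*a1*a2*a4*a6 + 18*a1*a3*a3*a6 + 8*a1*a4*a4*a4 + 72*a1*a6*a6 + 12*a2*a2*a3*a3*a3 + 48*a2*a2*a3*a6 - 12*a2*a3*a4*a4 - 9*a3*a3*a3*a4 - 36*a3*a4*a6) * (s*s)
      + (2*a1*a1*a1*a1*a1*a6 - 2*a1*a1*a1*a1*a3*a4 + 2*a1*a1*a1*a2*a3*a3 + 16*a1*a1*a1*a2*a6 - 2*a1*a1*a1*a4*a4 - 8*a1*a1*a2*a3*a4 - 48*a1*a1*a3*a6 + 8*a1*a2*a2*a3*a3 + 32*a1*a2*a2*a6 - 8*a1*a2*a4*a4 + 42*a1*a3*a3*a4 - 24*a1*a4*a6 - 36*a2*a3*a3*a3 - 144*a2*a3*a6 + 48*a3*a4*a4) * (s*t)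
      + (-a1*a1*a1*a3*a3 - 6*a1*a1*a1*a6 + 5*a1*a1*a3*a4 - 12*a1*a2*a3*a3 - 24*a1*a2*a6 + 8*a1*a4*a4 - 12*a2*a3*a4 + 27*a3*a3*a3 + 108*a3*a6) * (t*t)
      + (a1*a1*a1*a1*a1*a4*a6*u*u + 4*a1*a1*a1*a1*a1*a4*a6*u + 6*a1*a1*a1*a1*a1*a4*a6 - 2*a1*a1*a1*a1*a2*a3*a6*u - 7*a1*a1*a1*a1*a2*a3*a6 - a1*a1*a1*a1*a3*a4*a4*u*u - 4*a1*a1*a1*a1*a3*a4*a4*u - 6*a1*a1*a1*a1*a3*a4*a4 + a1*a1*a1*a2*a3*a3*a4*u*u + 6*a1*a1*a1*a2*a3*a3*a4*u + 13*a1*a1*a1*a2*a3*a3*a4 + 8*a1*a1*a1*a2*a4*a6*u*u + 32*a1*a1*a1*a2*a4*a6*u + 40*a1*a1*a1*a2*a4*a6 - a1*a1*a1*a3*a3*a6*u*u*u*u - 6*a1*a1*a1*a3*a3*a6*u*u*u - 15*a1*a1*a1*a3*a3*a6*u*u - 17*a1*a1*a1*a3*a3*a6*u - 6*a1*a1*a1*a3*a3*a6 - a1*a1*a1*a4*a4*a4*u*u - 4*a1*a1*a1*a4*a4*a4*u - 6*a1*a1*a1*a4*a4*a4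 - 6*a1*a1*a1*a6*a6*u*u*u*u - 36*a1*a1*a1*a6*a6*u*u*u - 90*a1*a1*a1*a6*a6*u*u - 120*a1*a1*a1*a6*a6*u - 90*a1*a1*a1*a6*a6 - 2*a1*a1*a2*a2*a3*a3*a3*u - 7*a1*a1*a2*a2*a3*a3*a3 - 16*a1*a1*a2*a2*a3*a6*u - 40*a1*a1*a2*a2*a3*a6 - 4*a1*a1*a2*a3*a4*a4*u*u - 14*a1*a1*a2*a3*a4*a4*u - 9*a1*a1*a2*a3*a4*a4 - 2*a1*a1*a3*a3*a3*a4*u - 6*a1*a1*a3*a3*a3*a4 + 5*a1*a1*a3*a4*a6*u*u*u*u + 30*a1*a1*a3*a4*a6*u*u*u + 51*a1*a1*a3*a4*a6*u*u + 34*a1*a1*a3*a4*a6*u + 21*a1*a1*a3*a4*a6 + 4*a1*a2*a2*a3*a3*a4*u*u + 24*a1*a2*a2*a3*a3*a4*u + 28*a1*a2*a2*a3*a3*a4 + 16*a1*a2*a2*a4*a6*u*u + 64*a1*a2*a2*a4*a6*u + 64*a1*a2*a2*a4*a6 + 3*a1*a2*a3*a3*a3*a3*u + 9*a1*a2*a3*a3*a3*a3 - 12*a1*a2*a3*a3*a6*u*u*u*u - 72*a1*a2*a3*a3*a6*u*u*u - 180*a1*a2*a3*a3*a6*u*u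 - 216*a1*a2*a3*a3*a6*u - 90*a1*a2*a3*a3*a6 - 4*a1*a2*a4*a4*a4*u*u - 16*a1*a2*a4*a4*a4*u - 16*a1*a2*a4*a4*a4 - 24*a1*a2*a6*a6*u*u*u*u - 144*a1*a2*a6*a6*u*u*u - 360*a1*a2*a6*a6*u*u - 480*a1*a2*a6*a6*u - 288*a1*a2*a6*a6 + 21*a1*a3*a3*a4*a4*u*u + 52*a1*a3*a3*a4*a4*u + 30*a1*a3*a3*a4*a4 + 8*a1*a4*a4*a6*u*u*u*u + 48*a1*a4*a4*a6*u*u*u + 108*a1*a4*a4*a6*u*u + 112*a1*a4*a4*a6*u + 48*a1*a4*a4*a6 - 8*a2*a2*a2*a3*a3*a3*u - 12*a2*a2*a2*a3*a3*a3 - 32*a2*a2*a2*a3*a6*u - 48*a2*a2*a2*a3*a6 + 8*a2*a2*a3*a4*a4*u + 12*a2*a2*a3*a4*a4 - 18*a2*a3*a3*a3*a4*u*u - 42*a2*a3*a3*a3*a4*u - 27*a2*a3*a3*a3*a4 - 12*a2*a3*a4*a6*u*u*u*u - 72*a2*a3*a4*a6*u*u*u - 252*a2*a3*a4*a6*u*u - 384*a2*a3*a4*a6*u - 216*a2*a3*a4*a6 + 27*a3*a3*a3*a6*u*u*u*u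 + 162*a3*a3*a3*a6*u*u*u + 405*a3*a3*a3*a6*u*u + 486*a3*a3*a3*a6*u + 243*a3*a3*a3*a6 + 24*a3*a4*a4*a4*u*u + 64*a3*a4*a4*a4*u + 48*a3*a4*a4*a4 + 108*a3*a6*a6*u*u*u*u + 648*a3*a6*a6*u*u*u + 1620*a3*a6*a6*u*u + 1944*a3*a6*a6*u + 972*a3*a6*a6) * (u*u) := by
  linear_combination (4*a1*a1*a1*a1*a4*a6 - 8*a1*a1*a1*a2*a3*a6 - 4*a1*a1*a1*a3*a4*a4 + 12*a1*a1*a2*a3*a3*a4 + 16*a1*a1*a2*a4*a6 + 3*a1*a1*a3*a3*a6 - 4*a1*a1*a4*a4*a4 - 36*a1*a1*a6*a6 - 8*a1*a2*a2*a3*a3*a3 - 32*a1*a2*a2*a3*a6 + 8*a1*a2*a3*a4*a4 - 6*a1*a3*a3*a3*a4 + 24*a1*a3*a4*a6 + 9*a2*a3*a3*a3*a3 + 36*a2*a3*a3*a6 - 12*a3*a3*a4*a4) * F1 + (a1*a1*a1*a1*a3*a6 - a1*a1*a1*a3*a3*a4 + 8*a1*a1*a1*a4*a6 + a1*a1*a2*a3*a3*a3 - 8*a1*a1*a2*a3*a6 - 9*a1*a1*a3*a4*a4 + 20*a1*a2*a3*a3*a4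 + 32*a1*a2*a4*a6 - 18*a1*a3*a3*a6 - 8*a1*a4*a4*a4 - 72*a1*a6*a6 - 12*a2*a2*a3*a3*a3 - 48*a2*a2*a3*a6 + 12*a2*a3*a4*a4 + 9*a3*a3*a3*a4 + 36*a3*a4*a6) * F2 + (2*a1*a1*a1*a1*a2*a6 - 2*a1*a1*a1*a2*a3*a4 - 3*a1*a1*a1*a3*a6 + 2*a1*a1*a2*a2*a3*a3 + 16*a1*a1*a2*a2*a6 - 2*a1*a1*a2*a4*a4 + 2*a1*a1*a3*a3*a4 - 30*a1*a1*a4*a6 - 8*a1*a2*a2*a3*a4 - 3*a1*a2*a3*a3*a3 - 24*a1*a2*a3*a6 + 32*a1*a3*a4*a4 + 8*a2*a2*a2*a3*a3 + 32*a2*a2*a2*a6 - 8*a2*a2*a4*a4 - 30*a2*a3*a3*a4 - 144*a2*a4*a6 + 54*a3*a3*a6 + 32*a4*a4*a4 + 216*a6*a6) * F3 + (-a1*a1*a1*a1*a1*a6 + a1*a1*a1*a1*a3*a4 - a1*a1*a1*a2*a3*a3 - 8*a1*a1*a1*a2*a6 + a1*a1*a1*a4*a4 + 4*a1*a1*a2*a3*a4 + 24*a1*a1*a3*a6 - 4*a1*a2*a2*a3*a3 - 16*a1*a2*a2*a6 + 4*a1*a2*a4*a4 - 21*a1*a3*a3*a4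 + 12*a1*a4*a6 + 18*a2*a3*a3*a3 + 72*a2*a3*a6 - 24*a3*a4*a4) * F4 + (a1*a1*a1*a3*a3 + 6*a1*a1*a1*a6 - 5*a1*a1*a3*a4 + 12*a1*a2*a3*a3 + 24*a1*a2*a6 - 8*a1*a4*a4 + 12*a2*a3*a4 - 27*a3*a3*a3 - 108*a3*a6) * F6

open WeierstrassCurve in
/-- Rigidity: an automorphism (change of variables fixing the curve) of a Weierstrass curve with
unit discriminant which is congruent to the identity modulo the Jacobson radical is the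
identity. -/
theorem rigid {D : Type*} [CommRing D] (W : WeierstrassCurve D) (hΔ : IsUnit W.Δ)
    (C : VariableChange D) (hC : C • W = W)
    (hu : ((C.u : D) - 1) ∈ Ideal.jacobson (⊥ : Ideal D))
    (hr : C.r ∈ Ideal.jacobson (⊥ : Ideal D))
    (hs : C.s ∈ Ideal.jacobson (⊥ : Ideal D))
    (ht : C.t ∈ Ideal.jacobson (⊥ : Ideal D)) : C = 1 := by
  set u' : D := (C.u : D) - 1 with hu'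
  have huu : (C.u : D) = 1 + u' := by rw [hu']; ring
  have hinv : (C.u : D) * ((C.u⁻¹ : Dˣ) : D) = 1 := C.u.mul_inv
  have E1 := congrArg WeierstrassCurve.a₁ hC
  have E2 := congrArg WeierstrassCurve.a₂ hC
  have E3 := congrArg WeierstrassCurve.a₃ hC
  have E4 := congrArg WeierstrassCurve.a₄ hC
  have E6 := congrArg WeierstrassCurve.a₆ hC
  rw [variableChange_a₁] at E1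
  rw [variableChange_a₂] at E2
  rw [variableChange_a₃] at E3
  rw [variableChange_a₄] at E4
  rw [variableChange_a₆] at E6
  have F1 : (1 + u') * W.a₁ = W.a₁ + 2 * C.s := by
    rw [← huu]
    calc (C.u : D) * W.a₁ = (C.u : D) * (((C.u⁻¹ : Dˣ) : D) * (W.a₁ + 2 * C.s)) := by rw [E1]
      _ = ((C.u : D) * ((C.u⁻¹ : Dˣ) : D)) * (W.a₁ + 2 * C.s) := by ring
      _ = _ := by rw [hinv, one_mul]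
  have F2 : (1 + u') ^ 2 * W.a₂ = W.a₂ - C.s * W.a₁ + 3 * C.r - C.s ^ 2 := by
    rw [← huu]
    calc (C.u : D) ^ 2 * W.a₂ = (C.u : D) ^ 2 * (((C.u⁻¹ : Dˣ) : D) ^ 2 *
          (W.a₂ - C.s * W.a₁ + 3 * C.r - C.s ^ 2)) := by rw [E2]
      _ = ((C.u : D) * ((C.u⁻¹ : Dˣ) : D)) ^ 2 * (W.a₂ - C.s * W.a₁ + 3 * C.r - C.s ^ 2) := by
        ring
      _ = _ := by rw [hinv, one_pow, one_mul]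
  have F3 : (1 + u') ^ 3 * W.a₃ = W.a₃ + C.r * W.a₁ + 2 * C.t := by
    rw [← huu]
    calc (C.u : D) ^ 3 * W.a₃ = (C.u : D) ^ 3 * (((C.u⁻¹ : Dˣ) : D) ^ 3 *
          (W.a₃ + C.r * W.a₁ + 2 * C.t)) := by rw [E3]
      _ = ((C.u : D) * ((C.u⁻¹ : Dˣ) : D)) ^ 3 * (W.a₃ + C.r * W.a₁ + 2 * C.t) := by ring
      _ = _ := by rw [hinv, one_pow, one_mul]
  have F4 : (1 + u') ^ 4 * W.a₄ = W.a₄ - C.s * W.a₃ + 2 * C.r * W.a₂ - (C.t + C.r * C.s) * W.a₁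
      + 3 * C.r ^ 2 - 2 * C.s * C.t := by
    rw [← huu]
    calc (C.u : D) ^ 4 * W.a₄ = (C.u : D) ^ 4 * (((C.u⁻¹ : Dˣ) : D) ^ 4 *
          (W.a₄ - C.s * W.a₃ + 2 * C.r * W.a₂ - (C.t + C.r * C.s) * W.a₁
            + 3 * C.r ^ 2 - 2 * C.s * C.t)) := by rw [E4]
      _ = ((C.u : D) * ((C.u⁻¹ : Dˣ) : D)) ^ 4 *
          (W.a₄ - C.s * W.a₃ + 2 * C.r * W.a₂ - (C.t + C.r * C.s) * W.a₁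
            + 3 * C.r ^ 2 - 2 * C.s * C.t) := by ring
      _ = _ := by rw [hinv, one_pow, one_mul]
  have F6 : (1 + u') ^ 6 * W.a₆ = W.a₆ + C.r * W.a₄ + C.r ^ 2 * W.a₂ + C.r ^ 3 - C.t * W.a₃
      - C.t ^ 2 - C.r * C.t * W.a₁ := by
    rw [← huu]
    calc (C.u : D) ^ 6 * W.a₆ = (C.u : D) ^ 6 * (((C.u⁻¹ : Dˣ) : D) ^ 6 *
          (W.a₆ + C.r * W.a₄ + C.r ^ 2 * W.a₂ + C.r ^ 3 - C.t * W.a₃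
            - C.t ^ 2 - C.r * C.t * W.a₁)) := by rw [E6]
      _ = ((C.u : D) * ((C.u⁻¹ : Dˣ) : D)) ^ 6 *
          (W.a₆ + C.r * W.a₄ + C.r ^ 2 * W.a₂ + C.r ^ 3 - C.t * W.a₃
            - C.t ^ 2 - C.r * C.t * W.a₁) := by ring
      _ = _ := by rw [hinv, one_pow, one_mul]
  have hΔeq : W.Δ = (-(W.a₁*W.a₁+4*W.a₂)^2*(W.a₁*W.a₁*W.a₆+4*W.a₂*W.a₆-W.a₁*W.a₃*W.a₄+W.a₂*W.a₃*W.a₃-W.a₄*W.a₄)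
      - 8*(2*W.a₄+W.a₁*W.a₃)^3 - 27*(W.a₃*W.a₃+4*W.a₆)^2
      + 9*(W.a₁*W.a₁+4*W.a₂)*(2*W.a₄+W.a₁*W.a₃)*(W.a₃*W.a₃+4*W.a₆)) := by
    simp only [WeierstrassCurve.Δ, WeierstrassCurve.b₂, WeierstrassCurve.b₄, WeierstrassCurve.b₆,
      WeierstrassCurve.b₈]
    ring
  have F2' : (1 + u') ^ 2 * W.a₂ = W.a₂ - C.s * W.a₁ + 3 * C.r - C.s * C.s := by
    linear_combination F2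
  have F4' : (1 + u') ^ 4 * W.a₄ = W.a₄ - C.s * W.a₃ + 2 * C.r * W.a₂ - (C.t + C.r * C.s) * W.a₁
      + 3 * C.r * C.r - 2 * C.s * C.t := by
    linear_combination F4
  have F6' : (1 + u') ^ 6 * W.a₆ = W.a₆ + C.r * W.a₄ + C.r * C.r * W.a₂ + C.r * C.r * C.r
      - C.t * W.a₃ - C.t * C.t - C.r * C.t * W.a₁ := by
    linear_combination F6
  have Ku := key_u W.a₁ W.a₂ W.a₃ W.a₄ W.a₆ u' C.r C.s C.t F1 F2' F3 F4' F6'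
  have Kr := key_r W.a₁ W.a₂ W.a₃ W.a₄ W.a₆ u' C.r C.s C.t F1 F2' F3 F4' F6'
  have Ks := key_s W.a₁ W.a₂ W.a₃ W.a₄ W.a₆ u' C.r C.s C.t F1 F2' F3 F4' F6'
  have Kt := key_t W.a₁ W.a₂ W.a₃ W.a₄ W.a₆ u' C.r C.s C.t F1 F2' F3 F4' F6'
  rw [← hΔeq] at Ku Kr Ks Kt
  set J : Ideal D := Ideal.span {u', C.r, C.s, C.t} with hJ
  have mu : u' ∈ J := Ideal.subset_span (by simp)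
  have mr : C.r ∈ J := Ideal.subset_span (by simp)
  have ms : C.s ∈ J := Ideal.subset_span (by simp)
  have mt : C.t ∈ J := Ideal.subset_span (by simp)
  have mm : ∀ (q : D) {x y : D}, x ∈ J → y ∈ J → q * (x * y) ∈ J * J := fun q x y hx hy =>
    Ideal.mul_mem_left _ _ (Ideal.mul_mem_mul hx hy)
  have hgen : ∀ x : D, W.Δ * x ∈ J * J → x ∈ J * J := by
    intro x hx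
    obtain ⟨d, hd⟩ := hΔ
    have : x = ((d⁻¹ : Dˣ) : D) * (W.Δ * x) := by
      rw [← hd, ← mul_assoc, Units.inv_mul, one_mul]
    rw [this]
    exact Ideal.mul_mem_left _ _ hx
  have hJJ : J ≤ J * J := by
    rw [hJ, Ideal.span_le]
    intro x hx
    simp only [Set.mem_insert_iff, Set.mem_singleton_iff] at hx
    rcases hx with rfl | rfl | rfl | rfl
    · apply hgen; rw [Ku]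
      repeat' apply Ideal.add_mem
      all_goals first | exact mm _ mu mu | exact mm _ mu mr | exact mm _ mu ms | exact mm _ mu mt
                      | exact mm _ mr mr | exact mm _ mr ms | exact mm _ mr mt | exact mm _ ms ms
                      | exact mm _ ms mt | exact mm _ mt mt
    · apply hgen; rw [Kr]
      repeat' apply Ideal.add_mem
      all_goals first | exact mm _ mu mu | exact mm _ mu mr | exact mm _ mu ms | exact mm _ mu mt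
                      | exact mm _ mr mr | exact mm _ mr ms | exact mm _ mr mt | exact mm _ ms ms
                      | exact mm _ ms mt | exact mm _ mt mt
    · apply hgen; rw [Ks]
      repeat' apply Ideal.add_mem
      all_goals first | exact mm _ mu mu | exact mm _ mu mr | exact mm _ mu ms | exact mm _ mu mt
                      | exact mm _ mr mr | exact mm _ mr ms | exact mm _ mr mt | exact mm _ ms ms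
                      | exact mm _ ms mt | exact mm _ mt mt
    · apply hgen; rw [Kt]
      repeat' apply Ideal.add_mem
      all_goals first | exact mm _ mu mu | exact mm _ mu mr | exact mm _ mu ms | exact mm _ mu mt
                      | exact mm _ mr mr | exact mm _ mr ms | exact mm _ mr mt | exact mm _ ms ms
                      | exact mm _ ms mt | exact mm _ mt mt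
  have hJjac : J ≤ Ideal.jacobson (⊥ : Ideal D) := by
    rw [hJ, Ideal.span_le]
    intro x hx
    simp only [Set.mem_insert_iff, Set.mem_singleton_iff] at hx
    rcases hx with rfl | rfl | rfl | rfl
    · exact hu
    · exact hr
    · exact hs
    · exact ht
  have hfg : J.FG := by
    rw [hJ]
    exact Submodule.fg_span (Set.toFinite _)
  have hbot : J = ⊥ :=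
    Submodule.eq_bot_of_le_smul_of_le_jacobson_bot J J hfg (by rwa [smul_eq_mul]) hJjac
  have z : ∀ x ∈ J, x = 0 := fun x hx => by rw [hbot] at hx; exact (Submodule.mem_bot D).mp hx
  have hu0 := z _ mu
  have hr0 := z _ mr
  have hs0 := z _ ms
  have ht0 := z _ mt
  ext
  · change (C.u : D) = 1
    rw [huu, hu0, add_zero]
  · exact hr0
  · exact hs0
  · exact ht0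

end Groth.Agent.Lib.Helper15.EllRigid
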