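import Mathlib
import Groth.Agent.Lib.Helper37.Hz20
import Groth.Agent.Lib.Helper37.Hz18
import Groth.Agent.Lib.Helper49.FibreSk
import Groth.Agent.Lib.Helper49.RegAscent
import Groth.Agent.Lib.Helper49.Kollar1

/-!
# Fibres of (strict) henselization are fields (helper15)
-/

set_option autoImplicit false
universe u

namespace Groth.Agent.Lib.Helper15.HensFibre

open IsLocalRing Groth.Agent.Lib.Helper37.Hz Groth.Agent.Lib.Helper49.FibreSk

/-- All fibre local rings `S_q / p S_q` are fields, elementwise form. -/
def FibField (R S : Type u) [CommRing R] [CommRing S] [Algebra R S] : Prop :=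
  ∀ (q : Ideal S) [q.IsPrime], ∀ x ∈ q, ∃ s : S, s ∉ q ∧ s * x ∈ (q.under R).map (algebraMap R S)

theorem fibField_of_formallyUnramified (R T : Type u) [CommRing R] [CommRing T] [Algebra R T]
    [Algebra.FormallyUnramified R T] [Algebra.EssFiniteType R T] : FibField R T := by
  intro q hq x hx
  let _ := Localization.AtPrime.algebraOfLiesOver (q.under R) q
  have hunr : Algebra.IsUnramifiedAt R q := Algebra.FormallyUnramified.comp R T _
  have h := ((Algebra.isUnramifiedAt_iff_map_eq R (q.under R) q).mp hunr).2
  apply Groth.Agent.Lib.Helper49.Kollar.exists_mul_mem_of_algebraMap_mem_map q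
  rw [Ideal.map_map, ← IsScalarTower.algebraMap_eq, h]
  rw [← IsLocalization.AtPrime.map_eq_maximalIdeal q (Localization.AtPrime q)]
  exact Ideal.mem_map_of_mem _ hx

theorem fibField_H (R Ω : Type u) [CommRing R] [Field Ω] [Algebra R Ω] : FibField R (H R Ω) := by
  intro q hq x hx
  obtain ⟨i, y, rfl⟩ := exists_of x
  have hy : y ∈ q.comap (of i : G i →+* H R Ω) := hx
  obtain ⟨s, hs, hsy⟩ := fibField_of_formallyUnramified R (G i) (q.comap (of i : G i →+* H R Ω)) y hy
  refine ⟨of i s, hs, ?_⟩
  rw [← map_mul]
  have hunder : (q.comap (of i : G i →+* H R Ω)).under R = q.under R := by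
    ext r
    simp only [Ideal.under_def, Ideal.mem_comap]
    rw [← (of i).commutes r]
    rfl
  rw [hunder] at hsy
  have := Ideal.mem_map_of_mem (of i : G i →+* H R Ω) hsy
  rw [Ideal.map_map] at this
  have hcomp : ((of i : G i →+* H R Ω)).comp (algebraMap R (G i)) = algebraMap R (H R Ω) := by
    ext r
    exact (of i).commutes r
  rw [hcomp] at this
  exact this

theorem fibField_of_algEquiv {R S S' : Type u} [CommRing R] [CommRing S] [CommRing S'] [Algebra R S]
    [Algebra R S'] (e : S ≃ₐ[R] S') (h : FibField R S') : FibField R S := by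
  intro q hq x hx
  have hq' : (q.comap (e.symm : S' →+* S)).IsPrime := Ideal.comap_isPrime _ _
  have hx' : e x ∈ q.comap (e.symm : S' →+* S) := by
    simp [Ideal.mem_comap, hx]
  obtain ⟨s, hs, hsx⟩ := h (q.comap (e.symm : S' →+* S)) (e x) hx'
  refine ⟨e.symm s, hs, ?_⟩
  have hunder : (q.comap (e.symm : S' →+* S)).under R = q.under R := by
    ext r
    simp [Ideal.under_def, Ideal.mem_comap]
  rw [hunder] at hsx
  have := Ideal.mem_map_of_mem (e.symm : S' →+* S) hsx
  rw [Ideal.map_map] at this
  have hcomp : ((e.symm : S' →+* S)).comp (algebraMap R S') = algebraMap R S := by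
    ext r; simp
  rw [hcomp] at this
  simpa using this

theorem fibField_of_isHenselization (R S : Type u) [CommRing R] [IsLocalRing R]
    [CommRing S] [IsLocalRing S] [Algebra R S] [IsLocalHom (algebraMap R S)]
    [Hensel.IsHenselization R S] : FibField R S := by
  obtain ⟨e⟩ := nonempty_algEquiv_Hens R S
  exact fibField_of_algEquiv e (fibField_H R _)

theorem fibField_of_isStrictHenselization (R S : Type u) [CommRing R] [IsLocalRing R]
    [CommRing S] [IsLocalRing S] [Algebra R S] [IsLocalHom (algebraMap R S)]
    [Hensel.IsStrictHenselization R S] : FibField R S := by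
  obtain ⟨e⟩ := nonempty_algEquiv_SHens R S
  exact fibField_of_algEquiv e (fibField_H R _)

section Consequences

variable {R S : Type u} [CommRing R] [CommRing S] [Algebra R S]

theorem map_map_eq_maximalIdeal (h : FibField R S) (q : Ideal S) [q.IsPrime] :
    ((q.under R).map (algebraMap R S)).map (algebraMap S (Localization.AtPrime q)) =
      maximalIdeal (Localization.AtPrime q) := by
  apply le_antisymm (fibLoc_ideal_le (q.under R) q)
  rw [← IsLocalization.AtPrime.map_eq_maximalIdeal q (Localization.AtPrime q),
    Ideal.map_le_iff_le_comap]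
  intro x hx
  obtain ⟨s, hs, hsx⟩ := h q x hx
  rw [Ideal.mem_comap]
  have h1 := Ideal.mem_map_of_mem (algebraMap S (Localization.AtPrime q)) hsx
  rw [map_mul] at h1
  have hu : IsUnit (algebraMap S (Localization.AtPrime q) s) :=
    IsLocalization.map_units (Localization.AtPrime q) (⟨s, hs⟩ : q.primeCompl)
  exact (Ideal.unit_mul_mem_iff_mem _ hu).mp h1

theorem maximalIdeal_fibLoc_eq_bot (h : FibField R S) (q : Ideal S) [q.IsPrime] :
    haveI := isLocalRing_fibLoc (q.under R) q
    maximalIdeal (FibLoc (q.under R) q) = ⊥ := by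
  have := isLocalRing_fibLoc (q.under R) q
  rw [← IsLocalRing.isField_iff_maximalIdeal_eq]
  have hmax : (((q.under R).map (algebraMap R S)).map
      (algebraMap S (Localization.AtPrime q))).IsMaximal := by
    rw [map_map_eq_maximalIdeal h q]; infer_instance
  exact (Ideal.Quotient.maximal_ideal_iff_isField_quotient _).mp hmax

variable [IsNoetherianRing R] [IsNoetherianRing S]

theorem isRegularLocalRing_fibLoc (h : FibField R S) (q : Ideal S) [q.IsPrime] :
    IsRegularLocalRing (FibLoc (q.under R) q) := by
  have := isLocalRing_fibLoc (q.under R) q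
  exact Groth.Agent.Lib.Helper49.Serre.isRegularLocalRing_of_maximalIdeal_eq_bot _
    (maximalIdeal_fibLoc_eq_bot h q)

theorem fibDim_eq_zero (h : FibField R S) (q : Ideal S) [q.IsPrime] :
    fibDim (q.under R) q = 0 := by
  have := isLocalRing_fibLoc (q.under R) q
  unfold fibDim
  rw [maximalIdeal_fibLoc_eq_bot h q]
  exact Ideal.height_bot

variable [Module.Flat R S]

theorem fibDepth_eq_zero (h : FibField R S) (q : Ideal S) [q.IsPrime] :
    fibDepth (q.under R) q = 0 := by
  have := fibDepth_le_fibDim (q.under R) q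
  rw [fibDim_eq_zero h q] at this
  exact le_antisymm this bot_le

theorem height_eq (h : FibField R S) (q : Ideal S) [q.IsPrime] :
    q.height = (q.under R).height := by
  rw [height_eq_add' (q.under R) q, fibDim_eq_zero h q, add_zero]

theorem depth_eq (h : FibField R S) (q : Ideal S) [q.IsPrime] :
    LocCoh.depth (Localization.AtPrime q) (Localization.AtPrime q) =
      LocCoh.depth (Localization.AtPrime (q.under R)) (Localization.AtPrime (q.under R)) := by
  rw [depth_localization_eq_add (q.under R) q, fibDepth_eq_zero h q, add_zero]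

omit [Module.Flat R S] in
/-- `(S_k)` transfers along a faithfully flat map with field fibres. -/
theorem hasSk_iff [Module.FaithfullyFlat R S] (h : FibField R S) (k : ℕ) :
    LocCoh.HasSk k S S ↔ LocCoh.HasSk k R R := by
  rw [Groth.Agent.Lib.Helper49.SkLift.hasSk_self_iff', Groth.Agent.Lib.Helper49.SkLift.hasSk_self_iff']
  constructor
  · intro hS p hp
    obtain ⟨q, hq, hqp⟩ := Ideal.exists_isPrime_liesOver_of_faithfullyFlat (B := S) p
    have hpq : p = q.under R := hqp.over
    subst hpq
    have := hS q
    rwa [height_eq h q, depth_eq h q] at this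
  · intro hR q hq
    rw [height_eq h q, depth_eq h q]
    exact hR (q.under R)

omit [Module.Flat R S] in
/-- `(R_k)` transfers along a faithfully flat map with field fibres. -/
theorem hasRk_iff [Module.FaithfullyFlat R S] (h : FibField R S) (k : ℕ) :
    LocCoh.HasRk k S ↔ LocCoh.HasRk k R := by
  constructor
  · intro hS
    exact Groth.Agent.Lib.Helper49.Serre.hasRk_of_faithfullyFlat R S hS
  · intro hR q hq hht
    rw [height_eq h q] at hht
    exact Groth.Agent.Lib.Helper49.RegAscent.isRegularLocalRing_localization_of_fibLoc (q.under R) q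
      (hR (q.under R) hht) (isRegularLocalRing_fibLoc h q)

end Consequences

section CM

variable (A B : Type u) [CommRing A] [CommRing B] [IsLocalRing A] [IsLocalRing B]
  [IsNoetherianRing A] [IsNoetherianRing B] [Algebra A B] [IsLocalHom (algebraMap A B)]
  [Module.Flat A B]

theorem depth_ringKrullDim_eq_of_map_maximalIdeal
    (hI : (maximalIdeal A).map (algebraMap A B) = maximalIdeal B) :
    LocCoh.depth B B = LocCoh.depth A A ∧ ringKrullDim B = ringKrullDim A := by
  have hloc : IsLocalRing (B ⧸ maximalIdeal B) :=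
    IsLocalRing.of_surjective' (Ideal.Quotient.mk _) Ideal.Quotient.mk_surjective
  have hfield : IsField (B ⧸ maximalIdeal B) :=
    (Ideal.Quotient.maximal_ideal_iff_isField_quotient _).mp inferInstance
  have hdim0 : ringKrullDim (B ⧸ maximalIdeal B) = 0 := by
    letI := hfield.toField
    exact ringKrullDim_eq_zero_of_field _
  have h1 := depth_eq_add_depth_fibre A B (maximalIdeal B) hI.symm
  have h2 := ringKrullDim_eq_add_fibre A B (maximalIdeal B) hI.symm
  have hd := Groth.Agent.Lib.Helper29.DepthLib.depth_le_supportDim (B ⧸ maximalIdeal B)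
    (B ⧸ maximalIdeal B)
  rw [Module.supportDim_self_eq_ringKrullDim, hdim0] at hd
  have hd0 : LocCoh.depth (B ⧸ maximalIdeal B) (B ⧸ maximalIdeal B) = 0 := by
    have : (LocCoh.depth (B ⧸ maximalIdeal B) (B ⧸ maximalIdeal B) : WithBot ℕ∞) ≤
        ((0 : ℕ∞) : WithBot ℕ∞) := hd
    exact le_antisymm (WithBot.coe_le_coe.mp this) bot_le
  rw [hd0, add_zero] at h1
  rw [hdim0, add_zero] at h2
  exact ⟨h1, h2⟩

theorem isCM_iff_of_map_maximalIdeal
    (hI : (maximalIdeal A).map (algebraMap A B) = maximalIdeal B) :
    LocCoh.IsCohenMacaulayLocalRing B ↔ LocCoh.IsCohenMacaulayLocalRing A := by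
  obtain ⟨h1, h2⟩ := depth_ringKrullDim_eq_of_map_maximalIdeal A B hI
  constructor
  · intro h
    refine LocCoh.IsCohenMacaulayLocalRing.mk ?_
    have := h.supportDim_eq_depth
    rw [Module.supportDim_self_eq_ringKrullDim] at this ⊢
    rw [← h1, ← h2]; exact this
  · intro h
    refine LocCoh.IsCohenMacaulayLocalRing.mk ?_
    have := h.supportDim_eq_depth
    rw [Module.supportDim_self_eq_ringKrullDim] at this ⊢
    rw [h1, h2]; exact this

end CM

end Groth.Agent.Lib.Helper15.HensFibre
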