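import Mathlib
import Groth.Agent.Lib.Helper15.HensFibre
import Groth.Agent.Lib.Helper4.IndCriterion
import Groth.Agent.Lib.Helper49.RegAscent

/-!
# Fibres of ind-étale algebras (helper15)
-/

set_option autoImplicit false
universe u

namespace Groth.Agent.Lib.Helper15.IndEtFibre

open IsLocalRing Groth.Agent.Lib.Helper49.FibreSk Groth.Agent.Lib.Helper15.HensFibre
  Groth.Agent.Lib.Helper4

variable {A B : Type u} [CommRing A] [CommRing B] [Algebra A B]

/-- Every element of an ind-étale algebra comes from an étale algebra. -/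
theorem exists_etale_factor (hB : EtPBC.IsIndEtale A B) (x : B) :
    ∃ (C : Type u) (_ : CommRing C) (_ : Algebra A C), Algebra.Etale A C ∧
      ∃ (β : C →ₐ[A] B) (c : C), β c = x := by
  have h := (isIndEtale_iff_hasFactorization B).mp hB
  obtain ⟨E, _, _, hE, α, β, hαβ⟩ := h (Polynomial A) (Polynomial.aeval x)
  refine ⟨E, inferInstance, inferInstance, hE, β, α Polynomial.X, ?_⟩
  have := congrArg (fun f => f Polynomial.X) hαβ
  simpa using this

theorem fibField_of_isIndEtale (hB : EtPBC.IsIndEtale A B) : FibField A B := by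
  intro q hq x hx
  obtain ⟨C, _, _, hC, β, c, rfl⟩ := exists_etale_factor hB x
  have hc : c ∈ q.comap (β : C →+* B) := hx
  obtain ⟨s, hs, hsc⟩ := fibField_of_formallyUnramified A C (q.comap (β : C →+* B)) c hc
  refine ⟨β s, hs, ?_⟩
  rw [← map_mul]
  have hunder : (q.comap (β : C →+* B)).under A = q.under A := by
    ext r
    simp only [Ideal.under_def, Ideal.mem_comap]
    rw [← β.commutes r]
    rfl
  rw [hunder] at hsc
  have := Ideal.mem_map_of_mem (β : C →+* B) hsc
  rw [Ideal.map_map] at this
  have hcomp : ((β : C →+* B)).comp (algebraMap A C) = algebraMap A B := by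
    ext r
    exact β.commutes r
  rw [hcomp] at this
  exact this

section General

/-- A ring all of whose localizations at primes are fields is reduced of dimension `≤ 0`. -/
theorem isReduced_and_dim_le_zero_of_forall_isField (F : Type u) [CommRing F]
    (h : ∀ (Q : Ideal F) [Q.IsPrime], IsField (Localization.AtPrime Q)) :
    IsReduced F ∧ ringKrullDim F ≤ 0 := by
  constructor
  · apply isReduced_ofLocalizationMaximal
    intro J hJ
    have := h J
    letI := this.toField
    infer_instance
  · rw [ringKrullDim_le_iff_height_le]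
    intro Q hQ
    have h1 := IsLocalization.AtPrime.ringKrullDim_eq_height Q (Localization.AtPrime Q)
    have h2 : ringKrullDim (Localization.AtPrime Q) = 0 := by
      letI := (h Q).toField
      exact ringKrullDim_eq_zero_of_field _
    rw [h2] at h1
    rw [← h1]

end General

theorem forall_isField_fiber (h : FibField A B) (p : Ideal A) [p.IsPrime] :
    ∀ (Q : Ideal (p.Fiber B)) [Q.IsPrime], IsField (Localization.AtPrime Q) := by
  rw [Groth.Agent.Lib.Helper49.RegAscent.forall_fiber_iff' (fun T _ => IsField T) ?_ p]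
  · intro q hq hqp
    have hpq : p = q.under A := hqp.over
    subst hpq
    have := isLocalRing_fibLoc (q.under A) q
    rw [IsLocalRing.isField_iff_maximalIdeal_eq]
    exact maximalIdeal_fibLoc_eq_bot h q
  · intro T T' _ _ e hT
    exact e.symm.toMulEquiv.isField hT

theorem fiber_props (h : FibField A B) [IsNoetherianRing B] (p : Ideal A) [p.IsPrime] :
    {q : PrimeSpectrum B | q.asIdeal.LiesOver p}.Finite ∧ IsReduced (p.Fiber B) ∧
      ringKrullDim (p.Fiber B) ≤ 0 := by
  obtain ⟨hred, hdim⟩ := isReduced_and_dim_le_zero_of_forall_isField (p.Fiber B)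
    (forall_isField_fiber h p)
  refine ⟨?_, hred, hdim⟩
  have hN : IsNoetherianRing (p.Fiber B) := isNoetherianRing_fiber p
  have hK : Ring.KrullDimLE 0 (p.Fiber B) := by
    rw [Ring.krullDimLE_iff]; exact hdim
  have hArt : IsArtinianRing (p.Fiber B) :=
    isArtinianRing_iff_isNoetherianRing_krullDimLE_zero.mpr ⟨hN, hK⟩
  have hfin : Finite (PrimeSpectrum (p.Fiber B)) := inferInstance
  have hfin2 : Finite (p.primesOver B) :=
    Finite.of_equiv _ (PrimeSpectrum.primesOverOrderIsoFiber A B p).symm.toEquiv
  have hfin3 : (p.primesOver B).Finite := Set.toFinite _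
  have : {q : PrimeSpectrum B | q.asIdeal.LiesOver p} =
      PrimeSpectrum.asIdeal ⁻¹' (p.primesOver B) := by
    ext q
    simp only [Set.mem_preimage, Ideal.primesOver]
    show q.asIdeal.LiesOver p ↔ _
    exact ⟨fun hq => ⟨q.isPrime, hq⟩, fun hq => hq.2⟩
  rw [this]
  apply Set.Finite.preimage _ hfin3
  intro q _ q' _ hqq'
  exact PrimeSpectrum.ext hqq'


section Sep

variable {A B : Type u} [CommRing A] [CommRing B] [Algebra A B]

/-- Separability of `κ(q')/κ(p)` for an étale algebra, with an explicit algebra structure. -/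
theorem isSeparable_residueField_of_etale (C : Type u) [CommRing C] [Algebra A C] [Algebra.Etale A C]
    (p : Ideal A) [p.IsPrime] (q' : Ideal C) [q'.IsPrime] (hp : p = q'.comap (algebraMap A C)) :
    letI := (Ideal.ResidueField.map p q' (algebraMap A C) hp).toAlgebra
    Algebra.IsSeparable p.ResidueField q'.ResidueField := by
  have hlo : q'.LiesOver p := ⟨hp⟩
  let _ := Localization.AtPrime.algebraOfLiesOver p q'
  have hunr : Algebra.IsUnramifiedAt A q' := Algebra.FormallyUnramified.comp A C _
  have h : Algebra.IsSeparable p.ResidueField q'.ResidueField := inferInstance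
  convert h using 1
  apply Algebra.algebra_ext
  intro r
  rfl

theorem residueField_map_comp {C : Type u} [CommRing C] [Algebra A C] (β : C →ₐ[A] B)
    (p : Ideal A) [p.IsPrime] (q : Ideal B) [q.IsPrime] (hp : p = q.comap (algebraMap A B))
    (q' : Ideal C) [q'.IsPrime] (hq' : q' = q.comap (β : C →+* B))
    (hp' : p = q'.comap (algebraMap A C)) :
    (Ideal.ResidueField.map q' q (β : C →+* B) hq').comp
      (Ideal.ResidueField.map p q' (algebraMap A C) hp') =
      Ideal.ResidueField.map p q (algebraMap A B) hp := by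
  apply IsLocalization.ringHom_ext (nonZeroDivisors (A ⧸ p))
  apply Ideal.Quotient.ringHom_ext
  ext r
  simp only [RingHom.coe_comp, Function.comp_apply, Ideal.algebraMap_quotient_residueField_mk,
    Ideal.ResidueField.map_algebraMap]
  congr 1
  exact β.commutes r

theorem isSeparable_residueField
    (hfac : ∀ b : B, ∃ (C : Type u) (_ : CommRing C) (_ : Algebra A C), Algebra.Etale A C ∧
      ∃ (β : C →ₐ[A] B) (c : C), β c = b)
    (p : Ideal A) [p.IsPrime] (q : Ideal B) [q.IsPrime] (hp : p = q.comap (algebraMap A B)) :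
    letI := (Ideal.ResidueField.map p q (algebraMap A B) hp).toAlgebra
    Algebra.IsSeparable p.ResidueField q.ResidueField := by
  letI := (Ideal.ResidueField.map p q (algebraMap A B) hp).toAlgebra
  rw [← separableClosure.eq_top_iff]
  apply top_unique
  intro x _
  have key : ∀ b : B, algebraMap B q.ResidueField b ∈
      separableClosure p.ResidueField q.ResidueField := by
    intro b
    rw [mem_separableClosure_iff]
    obtain ⟨C, _, _, hC, β, c, rfl⟩ := hfac b
    have hq'prime : (q.comap (β : C →+* B)).IsPrime := Ideal.comap_isPrime _ _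
    have hp' : p = (q.comap (β : C →+* B)).comap (algebraMap A C) := by
      rw [hp, Ideal.comap_comap]
      congr 1
      ext r
      exact (β.commutes r).symm
    letI := (Ideal.ResidueField.map p (q.comap (β : C →+* B)) (algebraMap A C) hp').toAlgebra
    have hsep : Algebra.IsSeparable p.ResidueField (q.comap (β : C →+* B)).ResidueField :=
      isSeparable_residueField_of_etale C p (q.comap (β : C →+* B)) hp'
    have hcomp := residueField_map_comp β p q hp (q.comap (β : C →+* B)) rfl hp'
    let ψ : (q.comap (β : C →+* B)).ResidueField →ₐ[p.ResidueField] q.ResidueField :=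
      { Ideal.ResidueField.map (q.comap (β : C →+* B)) q (β : C →+* B) rfl with
        commutes' := fun k => RingHom.congr_fun hcomp k }
    have h1 := (Algebra.IsSeparable.isSeparable p.ResidueField
      (algebraMap C (q.comap (β : C →+* B)).ResidueField c)).map ψ ψ.injective
    have h2 : ψ (algebraMap C (q.comap (β : C →+* B)).ResidueField c) =
        algebraMap B q.ResidueField (β c) :=
      Ideal.ResidueField.map_algebraMap _ _ _ _ c
    rw [h2] at h1
    exact h1
  obtain ⟨a, s, hs, rfl⟩ := IsFractionRing.div_surjective (A := B ⧸ q) x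
  obtain ⟨a, rfl⟩ := Ideal.Quotient.mk_surjective a
  obtain ⟨s, rfl⟩ := Ideal.Quotient.mk_surjective s
  exact div_mem (key a) (key s)

end Sep


theorem exists_etale_factor' (hB : EtPBC.IsIndEtale A B) : ∀ b : B, ∃ (C : Type u) (_ : CommRing C)
    (_ : Algebra A C), Algebra.Etale A C ∧ ∃ (β : C →ₐ[A] B) (c : C), β c = b :=
  fun b => exists_etale_factor hB b

section Pi

open TensorProduct

variable {A B : Type u} [CommRing A] [CommRing B] [Algebra A B]

theorem isSeparable_quotient_fiber
    (hfac : ∀ b : B, ∃ (C : Type u) (_ : CommRing C) (_ : Algebra A C), Algebra.Etale A C ∧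
      ∃ (β : C →ₐ[A] B) (c : C), β c = b)
    (p : Ideal A) [p.IsPrime] (m : Ideal (p.Fiber B)) [m.IsMaximal] :
    letI := Ideal.Quotient.field m
    Algebra.IsSeparable p.ResidueField (p.Fiber B ⧸ m) := by
  letI := Ideal.Quotient.field m
  rw [← separableClosure.eq_top_iff]
  apply top_unique
  intro x hxtop
  clear hxtop
  obtain ⟨x, rfl⟩ := Ideal.Quotient.mk_surjective x
  have key : ∀ b : B, Ideal.Quotient.mk m ((1 : p.ResidueField) ⊗ₜ[A] b) ∈
      separableClosure p.ResidueField (p.Fiber B ⧸ m) := by
    intro b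
    rw [mem_separableClosure_iff]
    obtain ⟨C, _, _, hC, β, c, rfl⟩ := hfac b
    let γ : p.ResidueField ⊗[A] C →ₐ[p.ResidueField] p.Fiber B :=
      Algebra.TensorProduct.map (AlgHom.id p.ResidueField p.ResidueField) β
    let π : p.Fiber B →ₐ[p.ResidueField] (p.Fiber B ⧸ m) := Ideal.Quotient.mkₐ p.ResidueField m
    let f : p.ResidueField ⊗[A] C →ₐ[p.ResidueField] (p.Fiber B ⧸ m) := π.comp γ
    have hprime : (RingHom.ker f).IsPrime := RingHom.ker_isPrime f
    have hsep : Algebra.IsSeparable p.ResidueField ((p.ResidueField ⊗[A] C) ⧸ RingHom.ker f) :=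
      inferInstance
    have h1 := (Algebra.IsSeparable.isSeparable p.ResidueField
      (Ideal.Quotient.mk (RingHom.ker f) ((1 : p.ResidueField) ⊗ₜ[A] c))).map (Ideal.kerLiftAlg f)
      (Ideal.kerLiftAlg_injective f)
    have h2 : Ideal.kerLiftAlg f (Ideal.Quotient.mk (RingHom.ker f) ((1 : p.ResidueField) ⊗ₜ[A] c)) =
        Ideal.Quotient.mk m ((1 : p.ResidueField) ⊗ₜ[A] β c) := by
      rw [Ideal.kerLiftAlg_mk]
      simp [f, γ, π]
    rw [h2] at h1
    exact h1
  induction x using TensorProduct.induction_on with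
  | zero => simp
  | tmul k b =>
    have : (k ⊗ₜ[A] b : p.Fiber B) = k • ((1 : p.ResidueField) ⊗ₜ[A] b) := by
      simp [TensorProduct.smul_tmul']
    rw [this]
    have h3 : Ideal.Quotient.mk m (k • ((1 : p.ResidueField) ⊗ₜ[A] b)) =
        k • Ideal.Quotient.mk m ((1 : p.ResidueField) ⊗ₜ[A] b) := rfl
    rw [h3]
    exact (separableClosure p.ResidueField (p.Fiber B ⧸ m)).smul_mem (key b) 
  | add x y hx hy =>
    rw [map_add]
    exact add_mem hx hy

theorem exists_pi_fields [IsNoetherianRing B] (h : FibField A B)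
    (hfac : ∀ b : B, ∃ (C : Type u) (_ : CommRing C) (_ : Algebra A C), Algebra.Etale A C ∧
      ∃ (β : C →ₐ[A] B) (c : C), β c = b)
    (p : Ideal A) [p.IsPrime] :
    ∃ (n : ℕ) (K : Fin n → Type u) (_ : ∀ i, Field (K i)) (_ : ∀ i, Algebra p.ResidueField (K i)),
      (∀ i, Algebra.IsSeparable p.ResidueField (K i)) ∧
      Nonempty ((p.ResidueField ⊗[A] B) ≃ₐ[p.ResidueField] (Π i, K i)) := by
  obtain ⟨-, hred, hdim⟩ := fiber_props h p
  have hN : IsNoetherianRing (p.Fiber B) := Groth.Agent.Lib.Helper49.FibreSk.isNoetherianRing_fiber p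
  have hK : Ring.KrullDimLE 0 (p.Fiber B) := by
    rw [Ring.krullDimLE_iff]; exact hdim
  have hArt : IsArtinianRing (p.Fiber B) :=
    isArtinianRing_iff_isNoetherianRing_krullDimLE_zero.mpr ⟨hN, hK⟩
  have hfin : Finite (MaximalSpectrum (p.Fiber B)) := inferInstance
  let e : MaximalSpectrum (p.Fiber B) ≃ Fin (Nat.card (MaximalSpectrum (p.Fiber B))) :=
    Finite.equivFin _
  refine ⟨Nat.card (MaximalSpectrum (p.Fiber B)), fun i => p.Fiber B ⧸ (e.symm i).asIdeal,
    fun i => haveI := (e.symm i).isMaximal; Ideal.Quotient.field (e.symm i).asIdeal,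
    fun i => inferInstance, ?_, ?_⟩
  · intro i
    haveI := (e.symm i).isMaximal
    exact isSeparable_quotient_fiber hfac p (e.symm i).asIdeal
  · exact ⟨((IsArtinianRing.equivPi (p.Fiber B)).restrictScalars p.ResidueField).trans
      (AlgEquiv.piCongrLeft' p.ResidueField (fun I : MaximalSpectrum (p.Fiber B) =>
        p.Fiber B ⧸ I.asIdeal) e)⟩

end Pi


end Groth.Agent.Lib.Helper15.IndEtFibre
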