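import Mathlib

universe u

namespace Groth.Agent.Lib.Helper15.LocSurj

/-- Surjectivity of the map induced on localizations at primes by a surjective ring map (with a
propositional rather than definitional identification of the source prime). -/
theorem surjective_localRingHom {S S' : Type u} [CommRing S] [CommRing S'] (π : S →+* S')
    (hπ : Function.Surjective π) (Q₁ : Ideal S') [hQ₁ : Q₁.IsPrime] (I : Ideal S) [hI : I.IsPrime]
    (h : I = Q₁.comap π) : Function.Surjective (Localization.localRingHom I Q₁ π h) := by
  subst h
  have := RingHom.surjective_localRingHom_of_surjective π hπ Q₁
  convert this

end Groth.Agent.Lib.Helper15.LocSurj
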