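import Mathlib
import Groth.Prelude.Def_Found
import Groth.Prelude.Def_EGA4b
import Groth.Agent.Lib.Helper15.FlatEquidim

/-!
# Localizations of equidimensional catenary local rings are equidimensional
-/

set_option autoImplicit false
set_option linter.unusedSectionVars false
universe u

namespace Groth.Agent.Lib.Helper15.LocEquidim

open IsLocalRing Groth.Agent.Lib.Helper15 Groth.Agent.Lib.Helper29 Groth.Agent.Lib.Helper34

/-- A domain is equidimensional. -/
theorem isEquidim_of_isDomain (D : Type u) [CommRing D] [IsDomain D] : EGA4.IsEquidim D := by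
  intro p hp
  rw [IsDomain.minimalPrimes_eq_singleton_bot] at hp
  rw [Set.mem_singleton_iff.1 hp]
  exact ringKrullDim_eq_of_ringEquiv (RingEquiv.quotientBot D)

/-- `dim (R_q / 𝔭 R_q) = ht (q/𝔭)`. -/
theorem dim_localization_quotient (R : Type u) [CommRing R] (q 𝔭 : Ideal R) [q.IsPrime]
    (h𝔭q : 𝔭 ≤ q) [hq : (q.map (Ideal.Quotient.mk 𝔭)).IsPrime] :
    ringKrullDim (Localization.AtPrime q ⧸ 𝔭.map (algebraMap R (Localization.AtPrime q))) =
      ((q.map (Ideal.Quotient.mk 𝔭)).height : WithBot ℕ∞) := by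
  have h1 : Algebra.algebraMapSubmonoid (R ⧸ 𝔭) q.primeCompl =
      (q.map (Ideal.Quotient.mk 𝔭)).primeCompl := by
    ext x
    obtain ⟨y, rfl⟩ := Ideal.Quotient.mk_surjective x
    constructor
    · rintro ⟨z, hz, hzy⟩
      change Ideal.Quotient.mk 𝔭 y ∉ q.map (Ideal.Quotient.mk 𝔭)
      rw [Ideal.mem_quotient_iff_mem h𝔭q]
      intro hy
      have h2 : z - y ∈ 𝔭 := Ideal.Quotient.eq.1 hzy
      have h3 : z = (z - y) + y := by ring
      exact hz (h3 ▸ q.add_mem (h𝔭q h2) hy)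
    · intro hy
      change Ideal.Quotient.mk 𝔭 y ∉ q.map (Ideal.Quotient.mk 𝔭) at hy
      rw [Ideal.mem_quotient_iff_mem h𝔭q] at hy
      exact ⟨y, hy, rfl⟩
  have h2 : IsLocalization (Algebra.algebraMapSubmonoid (R ⧸ 𝔭) q.primeCompl)
      (Localization.AtPrime q ⧸ 𝔭.map (algebraMap R (Localization.AtPrime q))) := inferInstance
  rw [h1] at h2
  have h3 : IsLocalization.AtPrime
      (Localization.AtPrime q ⧸ 𝔭.map (algebraMap R (Localization.AtPrime q)))
      (q.map (Ideal.Quotient.mk 𝔭)) := h2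
  exact IsLocalization.AtPrime.ringKrullDim_eq_height (q.map (Ideal.Quotient.mk 𝔭)) _

/-- In a catenary Noetherian local ring, for primes `𝔭 ≤ q` with `𝔭` minimal... general form:
`ht (q/𝔭) + dim R/q = dim R/𝔭`. -/
theorem height_quotient_add_dim (R : Type u) [CommRing R] [IsNoetherianRing R] [IsLocalRing R]
    (hcat : CAlg.IsCatenary R) (q 𝔭 : Ideal R) [q.IsPrime] [h𝔭 : 𝔭.IsPrime]
    (h𝔭q : 𝔭 ≤ q) [hq : (q.map (Ideal.Quotient.mk 𝔭)).IsPrime] :
    ((q.map (Ideal.Quotient.mk 𝔭)).height : WithBot ℕ∞) + ringKrullDim (R ⧸ q) =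
      ringKrullDim (R ⧸ 𝔭) := by
  have : Nontrivial (R ⧸ 𝔭) := Ideal.Quotient.nontrivial_iff.2 h𝔭.ne_top
  have h1 := FlatEquidim.height_add_dim_quotient (R ⧸ 𝔭) (isCatenary_quotient R 𝔭 hcat)
    (isEquidim_of_isDomain _) (q.map (Ideal.Quotient.mk 𝔭))
  rw [ringKrullDim_eq_of_ringEquiv (DoubleQuot.quotQuotEquivQuotOfLE h𝔭q)] at h1
  exact h1

/-- **Lemma E**: localizations of an equidimensional catenary Noetherian local ring are
equidimensional. -/
theorem isEquidim_localization (R : Type u) [CommRing R] [IsNoetherianRing R] [IsLocalRing R]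
    (hcat : CAlg.IsCatenary R) (heq : EGA4.IsEquidim R) (q : Ideal R) [hq : q.IsPrime] :
    EGA4.IsEquidim (Localization.AtPrime q) := by
  intro 𝔭' h𝔭'
  have h𝔭'p : 𝔭'.IsPrime := h𝔭'.1.1
  have hmin : 𝔭'.comap (algebraMap R (Localization.AtPrime q)) ∈ minimalPrimes R := by
    have h1 := IsLocalization.minimalPrimes_map q.primeCompl (Localization.AtPrime q) (⊥ : Ideal R)
    rw [Ideal.map_bot] at h1
    have h2 : 𝔭' ∈ (⊥ : Ideal (Localization.AtPrime q)).minimalPrimes := h𝔭'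
    rw [h1] at h2
    exact h2
  have h𝔭p : (𝔭'.comap (algebraMap R (Localization.AtPrime q))).IsPrime := hmin.1.1
  have h𝔭eq : 𝔭' = (𝔭'.comap (algebraMap R (Localization.AtPrime q))).map
      (algebraMap R (Localization.AtPrime q)) :=
    (IsLocalization.map_under q.primeCompl _ 𝔭').symm
  have h𝔭q : 𝔭'.comap (algebraMap R (Localization.AtPrime q)) ≤ q := by
    have h1 : 𝔭' ≤ maximalIdeal (Localization.AtPrime q) := le_maximalIdeal h𝔭'p.ne_top
    have h2 := Ideal.comap_mono (f := algebraMap R (Localization.AtPrime q)) h1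
    have h3 := IsLocalization.AtPrime.under_maximalIdeal (Localization.AtPrime q) q
    rw [Ideal.under_def] at h3
    rwa [h3] at h2
  have hqb : (q.map (Ideal.Quotient.mk (𝔭'.comap (algebraMap R (Localization.AtPrime q))))).IsPrime :=
    Ideal.map_isPrime_of_surjective Ideal.Quotient.mk_surjective (by rw [Ideal.mk_ker]; exact h𝔭q)
  rw [h𝔭eq, dim_localization_quotient R q _ h𝔭q,
    IsLocalization.AtPrime.ringKrullDim_eq_height q (Localization.AtPrime q)]
  have h1 := height_quotient_add_dim R hcat q _ h𝔭q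
  rw [heq _ hmin] at h1
  have h2 := FlatEquidim.height_add_dim_quotient R hcat heq q
  have : Nontrivial (R ⧸ q) := Ideal.Quotient.nontrivial_iff.2 hq.ne_top
  obtain ⟨c, hc⟩ := FlatEquidim.exists_nat_dim (R ⧸ q)
  obtain ⟨n, hn⟩ := FlatEquidim.exists_nat_dim R
  have hh : q.height ≠ ⊤ := Ideal.height_ne_top hq.ne_top
  obtain ⟨h, hh'⟩ := ENat.ne_top_iff_exists.1 hh
  have hh2 : (q.map (Ideal.Quotient.mk (𝔭'.comap (algebraMap R (Localization.AtPrime q))))).height
      ≠ ⊤ := Ideal.height_ne_top hqb.ne_top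
  obtain ⟨h₂, hh2'⟩ := ENat.ne_top_iff_exists.1 hh2
  rw [hc, hn, ← hh2'] at h1
  rw [hc, hn, ← hh'] at h2
  rw [← hh', ← hh2']
  have h1' : h₂ + c = n := by exact_mod_cast h1
  have h2' : h + c = n := by exact_mod_cast h2
  have : h₂ = h := by omega
  rw [this]

end Groth.Agent.Lib.Helper15.LocEquidim
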