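import Mathlib
import Groth.Prelude.Def_Found
import Groth.Prelude.Def_EGA4b
import Groth.Agent.Lib.Helper15.FlatEquidim
import Groth.Agent.Lib.Helper15.LocEquidim
import Groth.Agent.Lib.Helper15.CompleteUCat
import Groth.Agent.Lib.Helper49.ComplFlat
import Groth.Agent.S2632
import Groth.Agent.S2635

/-!
# Formal equidimensionality: descent along flat local maps, localization
-/

set_option autoImplicit false
set_option linter.unusedSectionVars false
set_option linter.style.haveILetI false
universe u

namespace Groth.Agent.Lib.Helper15.FormalLoc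

open IsLocalRing Groth.Agent.Lib.Helper15 Groth.Agent.Lib.Helper29 Groth.Agent.Lib.Helper34
  Groth.Agent.Lib.Helper49 Groth.Agent.Lib.Helper83

/-- **L2**: formal equidimensionality descends along flat local homomorphisms. -/
theorem isFormallyEquidim_of_flat (B C : Type u) [CommRing B] [CommRing C] [IsNoetherianRing B]
    [IsNoetherianRing C] [IsLocalRing B] [IsLocalRing C] [Algebra B C]
    [IsLocalHom (algebraMap B C)] [Module.Flat B C] (hC : EGA4.IsFormallyEquidim C) :
    EGA4.IsFormallyEquidim B := by
  letI := ComplFlat.cplAlgebra B C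
  haveI := ComplFlat.cplTower B C
  haveI := ComplFlat.isNoetherianRing_cpl B
  haveI := ComplFlat.isNoetherianRing_cpl C
  haveI hff := ComplFlat.faithfullyFlat_cpl B C
  haveI hflat : Module.Flat (AdicCompletion (maximalIdeal B) B)
      (AdicCompletion (maximalIdeal C) C) := hff.toFlat
  haveI : IsLocalHom (algebraMap (AdicCompletion (maximalIdeal B) B)
      (AdicCompletion (maximalIdeal C) C)) := by
    refine ((IsLocalRing.local_hom_TFAE _).out 0 2 rfl rfl).mpr ?_
    rw [AdicCompletion.maximalIdeal_eq_map, AdicCompletion.maximalIdeal_eq_map,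
      Ideal.map_map, ← IsScalarTower.algebraMap_eq,
      IsScalarTower.algebraMap_eq B C (AdicCompletion (maximalIdeal C) C), ← Ideal.map_map]
    exact Ideal.map_mono (ComplFlat.map_maximalIdeal_le B C)
  exact FlatEquidim.isEquidim_of_flat (AdicCompletion (maximalIdeal B) B)
    (AdicCompletion (maximalIdeal C) C) hC (Groth.Agent.S2632.isCatenary_completion C)

/-- ring-hom version of `isFormallyEquidim_of_flat`. -/
theorem isFormallyEquidim_of_flat' {B C : Type u} [CommRing B] [CommRing C] [IsNoetherianRing B]
    [IsNoetherianRing C] [IsLocalRing B] [IsLocalRing C] (φ : B →+* C) [IsLocalHom φ]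
    (hφ : φ.Flat) (hC : EGA4.IsFormallyEquidim C) : EGA4.IsFormallyEquidim B := by
  letI := φ.toAlgebra
  haveI : IsLocalHom (algebraMap B C) := ‹IsLocalHom φ›
  haveI : Module.Flat B C := hφ
  exact isFormallyEquidim_of_flat B C hC

/-- **L3**: an equidimensional local quotient of a Cohen–Macaulay local ring is formally
equidimensional. -/
theorem isFormallyEquidim_of_quotient_CM (P : Type u) [CommRing P]
    [LocCoh.IsCohenMacaulayLocalRing P] (E : Type u) [CommRing E] [IsNoetherianRing E]
    [IsLocalRing E] (f : P →+* E) (hf : Function.Surjective f) (hE : EGA4.IsEquidim E) :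
    EGA4.IsFormallyEquidim E := by
  letI := f.toAlgebra
  have hcat : EGA4.IsFormallyCatenary E := Groth.Agent.S2635.result P E hf
  rw [FormalEquidim.isFormallyEquidim_iff]
  exact ⟨hE, fun p _ _ _ => hcat p⟩

/-- Localizations of a quotient `T` of a Cohen–Macaulay ring which are equidimensional are formally
equidimensional. -/
theorem isFormallyEquidim_localization_of_quotient_CM (P : Type u) [CommRing P]
    [LocCoh.IsCohenMacaulayRing P] (T : Type u) [CommRing T] (g : P →+* T)
    (hg : Function.Surjective g) (Q : Ideal T) [Q.IsPrime]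
    (hE : EGA4.IsEquidim (Localization.AtPrime Q)) :
    EGA4.IsFormallyEquidim (Localization.AtPrime Q) := by
  haveI : IsNoetherianRing T := isNoetherianRing_of_surjective P T g hg
  haveI := LocCoh.IsCohenMacaulayRing.isCohenMacaulayLocalRing_localization (Q.comap g)
  exact isFormallyEquidim_of_quotient_CM (Localization.AtPrime (Q.comap g))
    (Localization.AtPrime Q) (Localization.localRingHom (Q.comap g) Q g rfl)
    (RingHom.surjective_localRingHom_of_surjective g hg Q) hE

/-- **EGA IV 7.1.9-style**: localizations of a formally equidimensional Noetherian local ring are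
formally equidimensional. -/
theorem isFormallyEquidim_localization (A : Type u) [CommRing A] [IsNoetherianRing A]
    [IsLocalRing A] (h : EGA4.IsFormallyEquidim A) (q : Ideal A) [hq : q.IsPrime] :
    EGA4.IsFormallyEquidim (Localization.AtPrime q) := by
  haveI hN : IsNoetherianRing (AdicCompletion (maximalIdeal A) A) :=
    isNoetherianRing_adicCompletion (I := maximalIdeal A)
  haveI : Module.FaithfullyFlat A (AdicCompletion (maximalIdeal A) A) :=
    Module.FaithfullyFlat.of_flat_of_isLocalHom
  obtain ⟨⟨Q', hQ'⟩, hQ'q⟩ := PrimeSpectrum.comap_surjective_of_faithfullyFlat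
    (A := A) (B := AdicCompletion (maximalIdeal A) A) ⟨q, hq⟩
  have hcomap : q = Q'.comap (algebraMap A (AdicCompletion (maximalIdeal A) A)) := by
    have := congrArg PrimeSpectrum.asIdeal hQ'q
    exact this.symm
  -- `Â_{Q'}` is formally equidimensional
  obtain ⟨P, _, _, g, hg⟩ := CompleteUCat.exists_regular_surjective
    (AdicCompletion (maximalIdeal A) A)
  haveI := CompleteUCat.isCohenMacaulayRing_of_isRegularLocalRing P
  have h1 : EGA4.IsFormallyEquidim (Localization.AtPrime Q') :=
    isFormallyEquidim_localization_of_quotient_CM P _ g hg Q'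
      (LocEquidim.isEquidim_localization _ (Groth.Agent.S2632.isCatenary_completion A) h Q')
  exact isFormallyEquidim_of_flat'
    (Localization.localRingHom q Q' (algebraMap A (AdicCompletion (maximalIdeal A) A)) hcomap)
    (RingHom.Flat.localRingHom (RingHom.flat_algebraMap_iff.2 inferInstance) _ _ hcomap) h1

end Groth.Agent.Lib.Helper15.FormalLoc
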