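import Mathlib
import Groth.Prelude.Def_Found
import Groth.Prelude.Def_EGA4b
import Groth.Agent.Lib.Helper15.FormalLoc
import Groth.Agent.S2092

/-!
# Localizations of polynomial rings over a formally equidimensional local ring
-/

set_option autoImplicit false
set_option linter.unusedSectionVars false
set_option linter.style.haveILetI false
universe u

namespace Groth.Agent.Lib.Helper15.PolyFormal

open IsLocalRing Groth.Agent.Lib.Helper15 Groth.Agent.Lib.Helper29 Groth.Agent.Lib.Helper34
  Groth.Agent.Lib.Helper49 Groth.Agent.Lib.Helper83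

/-- **L5**: flat local `A₁ → B₁`, `A₁` equidimensional, fibres over minimal primes equidimensional
(e.g. `pB₁` prime): then `B₁` is equidimensional. -/
theorem isEquidim_of_flat_of_fibres (A₁ B₁ : Type u) [CommRing A₁] [CommRing B₁]
    [IsNoetherianRing A₁] [IsNoetherianRing B₁] [IsLocalRing A₁] [IsLocalRing B₁] [Algebra A₁ B₁]
    [IsLocalHom (algebraMap A₁ B₁)] [Module.Flat A₁ B₁] (hA : EGA4.IsEquidim A₁)
    (hfib : ∀ p ∈ minimalPrimes A₁, EGA4.IsEquidim (B₁ ⧸ p.map (algebraMap A₁ B₁))) :
    EGA4.IsEquidim B₁ := by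
  intro 𝔓 h𝔓
  obtain ⟨hp, h𝔓p⟩ := FormalEquidim.comap_mem_minimalPrimes_of_flat (A := A₁) h𝔓
  have hpp : (𝔓.comap (algebraMap A₁ B₁)).IsPrime := hp.1.1
  have h1 := (FormalEquidim.isEquidim_quotient_iff _).1 (hfib _ hp) 𝔓 h𝔓p
  rw [h1, FlatEquidim.ringKrullDim_quot_eq_add A₁ B₁ _ hpp.ne_top, hA _ hp,
    ← RegHom.ringKrullDim_eq_add A₁ B₁]

/-- `P[X]` is prime in `R[X]` for `P` prime. -/
theorem isPrime_map_C {R : Type u} [CommRing R] {σ : Type*} (P : Ideal R) [hP : P.IsPrime] :
    (P.map (MvPolynomial.C : R →+* MvPolynomial σ R)).IsPrime := by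
  rw [← Ideal.Quotient.isDomain_iff_prime]
  exact MulEquiv.isDomain (MvPolynomial σ (R ⧸ P))
    (MvPolynomial.quotientEquivQuotientMvPolynomial (σ := σ) P).toRingEquiv.symm.toMulEquiv

/-- For `R` Noetherian local, equidimensional and catenary: localizations of `R[X₁..Xₙ]` at primes
are equidimensional. -/
theorem isEquidim_localization_mvPolynomial (R : Type u) [CommRing R] [IsNoetherianRing R]
    [IsLocalRing R] (hcat : CAlg.IsCatenary R) (heq : EGA4.IsEquidim R) (n : ℕ)
    (Q' : Ideal (MvPolynomial (Fin n) R)) [hQ' : Q'.IsPrime] :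
    EGA4.IsEquidim (Localization.AtPrime Q') := by
  set q : Ideal R := Q'.comap (MvPolynomial.C : R →+* MvPolynomial (Fin n) R) with hq
  haveI hqp : q.IsPrime := Ideal.IsPrime.comap _
  let φ : Localization.AtPrime q →+* Localization.AtPrime Q' :=
    Localization.localRingHom q Q' (MvPolynomial.C : R →+* MvPolynomial (Fin n) R) rfl
  have hC : (MvPolynomial.C : R →+* MvPolynomial (Fin n) R).Flat := by
    have : Module.Flat R (MvPolynomial (Fin n) R) := inferInstance
    exact RingHom.flat_algebraMap_iff.2 this
  have hφ : φ.Flat := RingHom.Flat.localRingHom hC _ _ rfl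
  letI : Algebra (Localization.AtPrime q) (Localization.AtPrime Q') := φ.toAlgebra
  haveI : IsLocalHom (algebraMap (Localization.AtPrime q) (Localization.AtPrime Q')) :=
    (inferInstance : IsLocalHom φ)
  haveI : Module.Flat (Localization.AtPrime q) (Localization.AtPrime Q') := hφ
  refine isEquidim_of_flat_of_fibres (Localization.AtPrime q) (Localization.AtPrime Q')
    (LocEquidim.isEquidim_localization R hcat heq q) ?_
  intro p hp
  have hpp : p.IsPrime := hp.1.1
  -- `p = P̂ R_q`
  set P₀ : Ideal R := p.comap (algebraMap R (Localization.AtPrime q)) with hP₀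
  haveI hP₀p : P₀.IsPrime := Ideal.IsPrime.comap _
  have hpeq : p = P₀.map (algebraMap R (Localization.AtPrime q)) :=
    (IsLocalization.map_under q.primeCompl _ p).symm
  have hP₀q : P₀ ≤ q := by
    have h1 : p ≤ maximalIdeal (Localization.AtPrime q) := le_maximalIdeal hpp.ne_top
    have h2 := Ideal.comap_mono (f := algebraMap R (Localization.AtPrime q)) h1
    have h3 := IsLocalization.AtPrime.under_maximalIdeal (Localization.AtPrime q) q
    rw [Ideal.under_def] at h3
    rwa [h3] at h2
  have hmap : p.map (algebraMap (Localization.AtPrime q) (Localization.AtPrime Q')) =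
      (P₀.map (MvPolynomial.C : R →+* MvPolynomial (Fin n) R)).map
        (algebraMap (MvPolynomial (Fin n) R) (Localization.AtPrime Q')) := by
    rw [hpeq, Ideal.map_map, Ideal.map_map]
    congr 1
    ext x
    exact Localization.localRingHom_to_map q Q' _ rfl x
  have hle : P₀.map (MvPolynomial.C : R →+* MvPolynomial (Fin n) R) ≤ Q' := by
    rw [Ideal.map_le_iff_le_comap]
    exact hP₀q
  have hprime : (p.map (algebraMap (Localization.AtPrime q) (Localization.AtPrime Q'))).IsPrime := by
    rw [hmap]
    refine IsLocalization.isPrime_of_isPrime_disjoint Q'.primeCompl _ _ (isPrime_map_C P₀) ?_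
    rw [Set.disjoint_left]
    intro x hx hx'
    exact hx (hle hx')
  haveI : IsDomain (Localization.AtPrime Q' ⧸
      p.map (algebraMap (Localization.AtPrime q) (Localization.AtPrime Q'))) :=
    (Ideal.Quotient.isDomain_iff_prime _).2 hprime
  exact LocEquidim.isEquidim_of_isDomain _

/-- **T**: for a complete equidimensional Noetherian local ring `R`, localizations of
`R[X₁..Xₙ]` at primes are formally equidimensional. -/
theorem isFormallyEquidim_localization_mvPolynomial_of_complete (R : Type u) [CommRing R]
    [IsNoetherianRing R] [IsLocalRing R] [IsAdicComplete (maximalIdeal R) R]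
    (heq : EGA4.IsEquidim R) (n : ℕ) (Q' : Ideal (MvPolynomial (Fin n) R)) [hQ' : Q'.IsPrime] :
    EGA4.IsFormallyEquidim (Localization.AtPrime Q') := by
  obtain ⟨P, _, _, g, hg⟩ := CompleteUCat.exists_regular_surjective R
  haveI := CompleteUCat.isCohenMacaulayRing_of_isRegularLocalRing P
  haveI : LocCoh.IsCohenMacaulayRing (MvPolynomial (Fin n) P) := Groth.Agent.S2092.result n
  have hcat : CAlg.IsCatenary R := CompleteUCat.isCatenary_of_isUniversallyCatenary
    (CompleteUCat.isUniversallyCatenary_of_complete R)
  exact FormalLoc.isFormallyEquidim_localization_of_quotient_CM (MvPolynomial (Fin n) P) _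
    (MvPolynomial.map g) (MvPolynomial.map_surjective g hg) Q'
    (isEquidim_localization_mvPolynomial R hcat heq n Q')

attribute [local instance] MvPolynomial.algebraMvPolynomial in
/-- **U**: for a formally equidimensional Noetherian local ring `A`, localizations of
`A[X₁..Xₙ]` at primes are formally equidimensional. -/
theorem isFormallyEquidim_localization_mvPolynomial (A : Type u) [CommRing A] [IsNoetherianRing A]
    [IsLocalRing A] (h : EGA4.IsFormallyEquidim A) (n : ℕ)
    (Q : Ideal (MvPolynomial (Fin n) A)) [hQ : Q.IsPrime] :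
    EGA4.IsFormallyEquidim (Localization.AtPrime Q) := by
  haveI hN : IsNoetherianRing (AdicCompletion (maximalIdeal A) A) :=
    isNoetherianRing_adicCompletion (I := maximalIdeal A)
  haveI : Module.FaithfullyFlat A (AdicCompletion (maximalIdeal A) A) :=
    Module.FaithfullyFlat.of_flat_of_isLocalHom
  have hff : (algebraMap (MvPolynomial (Fin n) A)
      (MvPolynomial (Fin n) (AdicCompletion (maximalIdeal A) A))).FaithfullyFlat :=
    RingHom.FaithfullyFlat.isStableUnderBaseChange A (AdicCompletion (maximalIdeal A) A)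
      (MvPolynomial (Fin n) A) (MvPolynomial (Fin n) (AdicCompletion (maximalIdeal A) A))
      (RingHom.faithfullyFlat_algebraMap_iff.2 inferInstance)
  haveI : Module.FaithfullyFlat (MvPolynomial (Fin n) A)
      (MvPolynomial (Fin n) (AdicCompletion (maximalIdeal A) A)) :=
    RingHom.faithfullyFlat_algebraMap_iff.1 hff
  obtain ⟨⟨Q', hQ'⟩, hQ'q⟩ := PrimeSpectrum.comap_surjective_of_faithfullyFlat
    (A := MvPolynomial (Fin n) A)
    (B := MvPolynomial (Fin n) (AdicCompletion (maximalIdeal A) A)) ⟨Q, hQ⟩
  have hcomap : Q = Q'.comap (algebraMap (MvPolynomial (Fin n) A)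
      (MvPolynomial (Fin n) (AdicCompletion (maximalIdeal A) A))) := by
    have := congrArg PrimeSpectrum.asIdeal hQ'q
    exact this.symm
  have h1 : EGA4.IsFormallyEquidim (Localization.AtPrime Q') :=
    isFormallyEquidim_localization_mvPolynomial_of_complete _ h n Q'
  exact FormalLoc.isFormallyEquidim_of_flat'
    (Localization.localRingHom Q Q' (algebraMap (MvPolynomial (Fin n) A)
      (MvPolynomial (Fin n) (AdicCompletion (maximalIdeal A) A))) hcomap)
    (RingHom.Flat.localRingHom hff.flat _ _ hcomap) h1

end Groth.Agent.Lib.Helper15.PolyFormal
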