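import Mathlib
import Groth.Prelude.Def_Found
import Groth.Prelude.Def_EGA4b
import Groth.Agent.Lib.Helper15.PolyFormal
import Groth.Agent.Lib.Helper15.LocSurj

/-!
# Formally catenary rings: essentially finite type local algebras (EGA IV 7.1.8 – 7.1.11)
-/

set_option autoImplicit false
set_option linter.unusedSectionVars false
set_option linter.style.haveILetI false
universe u

namespace Groth.Agent.Lib.Helper15.FormalCat

open IsLocalRing Groth.Agent.Lib.Helper15 Groth.Agent.Lib.Helper29 Groth.Agent.Lib.Helper34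
  Groth.Agent.Lib.Helper49 Groth.Agent.Lib.Helper83

/-- Formal equidimensionality is invariant under ring isomorphisms. -/
theorem isFormallyEquidim_of_ringEquiv {R S : Type u} [CommRing R] [CommRing S] [IsLocalRing R]
    [IsLocalRing S] (e : R ≃+* S) (h : EGA4.IsFormallyEquidim R) : EGA4.IsFormallyEquidim S := by
  have hmap : (maximalIdeal R).map (e : R →+* S) = maximalIdeal S :=
    IsLocalRing.map_maximalIdeal_of_surjective (e : R →+* S) e.surjective
  obtain ⟨ê⟩ := FormalEquidim.nonempty_adicCompletion_ringEquiv e (maximalIdeal R)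
    (maximalIdeal S) hmap
  exact FormalEquidim.isEquidim_of_ringEquiv ê h

/-- **Lemma Q**: an equidimensional local quotient of a formally equidimensional Noetherian local
ring is formally equidimensional. -/
theorem isFormallyEquidim_of_surjective {E F : Type u} [CommRing E] [CommRing F]
    [IsNoetherianRing E] [IsLocalRing E] [IsLocalRing F] (hE : EGA4.IsFormallyEquidim E)
    (h : E →+* F) (hh : Function.Surjective h) (hF : EGA4.IsEquidim F) :
    EGA4.IsFormallyEquidim F := by
  let e : (E ⧸ RingHom.ker h) ≃+* F := RingHom.quotientKerEquivOfSurjective hh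
  haveI : Nontrivial (E ⧸ RingHom.ker h) := e.toEquiv.nontrivial
  have h1 : EGA4.IsEquidim (E ⧸ RingHom.ker h) := FormalEquidim.isEquidim_of_ringEquiv e.symm hF
  have h2 : EGA4.IsFormallyEquidim (E ⧸ RingHom.ker h) :=
    (Groth.Agent.S2632.isEquidim_quotient_iff_isFormallyEquidim E hE (RingHom.ker h)).1 h1
  exact isFormallyEquidim_of_ringEquiv e h2

/-- Variant of `isFormallyEquidim_of_surjective` through a common cover. -/
theorem isFormallyEquidim_of_surjective_of_ker_le {T E F : Type u} [CommRing T] [CommRing E]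
    [CommRing F] [IsNoetherianRing E] [IsLocalRing E] [IsLocalRing F]
    (hE : EGA4.IsFormallyEquidim E) (g : T →+* E) (hg : Function.Surjective g) (ρ : T →+* F)
    (hρ : Function.Surjective ρ) (hk : RingHom.ker g ≤ RingHom.ker ρ) (hF : EGA4.IsEquidim F) :
    EGA4.IsFormallyEquidim F := by
  have hhg : ∀ x, (g.liftOfSurjective hg ⟨ρ, hk⟩) (g x) = ρ x := fun x =>
    RingHom.liftOfSurjective_comp_apply g hg ⟨ρ, hk⟩ x
  have hh : Function.Surjective (g.liftOfSurjective hg ⟨ρ, hk⟩) := by
    intro y
    obtain ⟨x, rfl⟩ := hρ y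
    exact ⟨g x, hhg x⟩
  exact isFormallyEquidim_of_surjective hE _ hh hF

/-- **T1'**: `A` formally catenary, `F` a Noetherian local domain which is a quotient of a
localization of `A[X₁..Xₙ]` at a prime: then `F` is formally equidimensional. -/
theorem isFormallyEquidim_of_surjective_of_isDomain (A : Type u) [CommRing A] [IsNoetherianRing A]
    [IsLocalRing A] (hA : EGA4.IsFormallyCatenary A) (n : ℕ)
    (Q : Ideal (MvPolynomial (Fin n) A)) [hQ : Q.IsPrime]
    (F : Type u) [CommRing F] [IsDomain F] [IsLocalRing F]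
    (ρ : Localization.AtPrime Q →+* F) (hρ : Function.Surjective ρ) :
    EGA4.IsFormallyEquidim F := by
  -- the prime `p` of `A`
  let ι : A →+* Localization.AtPrime Q :=
    (algebraMap (MvPolynomial (Fin n) A) (Localization.AtPrime Q)).comp MvPolynomial.C
  set p : Ideal A := RingHom.ker (ρ.comp ι) with hp
  haveI hpp : p.IsPrime := RingHom.ker_isPrime _
  haveI : Nontrivial (A ⧸ p) := Ideal.Quotient.nontrivial_iff.2 hpp.ne_top
  have hAp : EGA4.IsFormallyEquidim (A ⧸ p) := hA p
  let π : MvPolynomial (Fin n) A →+* MvPolynomial (Fin n) (A ⧸ p) :=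
    MvPolynomial.map (Ideal.Quotient.mk p)
  have hπ : Function.Surjective π := MvPolynomial.map_surjective _ Ideal.Quotient.mk_surjective
  have hker : RingHom.ker π = p.map MvPolynomial.C := by
    rw [MvPolynomial.ker_map, Ideal.mk_ker]
  -- `ρ ∘ algebraMap` kills `p[X]`
  have hkill : ∀ x ∈ p.map (MvPolynomial.C : A →+* MvPolynomial (Fin n) A),
      ρ (algebraMap _ (Localization.AtPrime Q) x) = 0 := by
    intro x hx
    have h1 : (p.map (MvPolynomial.C : A →+* MvPolynomial (Fin n) A)).map
        (ρ.comp (algebraMap _ (Localization.AtPrime Q))) = ⊥ := by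
      rw [Ideal.map_map, eq_bot_iff, Ideal.map_le_iff_le_comap]
      intro a ha
      exact ha
    have h2 := Ideal.mem_map_of_mem (ρ.comp (algebraMap _ (Localization.AtPrime Q))) hx
    rw [h1] at h2
    exact h2
  -- units
  have hunit : ∀ y : MvPolynomial (Fin n) A, y ∉ Q →
      ρ (algebraMap _ (Localization.AtPrime Q) y) ≠ 0 := by
    intro y hy
    have h1 : IsUnit (algebraMap _ (Localization.AtPrime Q) y) :=
      IsLocalization.map_units (Localization.AtPrime Q) (⟨y, hy⟩ : Q.primeCompl)
    exact (h1.map ρ).ne_zero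
  have hkerQ : RingHom.ker π ≤ Q := by
    rw [hker, Ideal.map_le_iff_le_comap]
    intro a ha
    by_contra hnot
    exact hunit _ hnot ha
  set Q₁ : Ideal (MvPolynomial (Fin n) (A ⧸ p)) := Q.map π with hQ₁
  haveI hQ₁p : Q₁.IsPrime := Ideal.map_isPrime_of_surjective hπ hkerQ
  have hcomap : Q = Q₁.comap π := by
    rw [hQ₁, Ideal.comap_map_of_surjective' π hπ, sup_eq_left.2 hkerQ]
  let g : Localization.AtPrime Q →+* Localization.AtPrime Q₁ :=
    Localization.localRingHom Q Q₁ π hcomap
  have hg : Function.Surjective g := LocSurj.surjective_localRingHom π hπ Q₁ Q hcomap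
  have hE : EGA4.IsFormallyEquidim (Localization.AtPrime Q₁) :=
    PolyFormal.isFormallyEquidim_localization_mvPolynomial (A ⧸ p) hAp n Q₁
  have hkg : RingHom.ker g ≤ RingHom.ker ρ := by
    intro x hx
    obtain ⟨s, t, rfl⟩ := IsLocalization.exists_mk'_eq Q.primeCompl x
    rw [RingHom.mem_ker, Localization.localRingHom_mk', IsLocalization.mk'_eq_zero_iff] at hx
    obtain ⟨⟨u, hu⟩, hus⟩ := hx
    obtain ⟨u₀, rfl⟩ := hπ u
    have hu₀ : u₀ ∉ Q := fun h => hu (Ideal.mem_map_of_mem π h)
    have h1 : u₀ * s ∈ p.map (MvPolynomial.C : A →+* MvPolynomial (Fin n) A) := by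
      rw [← hker, RingHom.mem_ker, map_mul]
      exact hus
    have h2 := hkill _ h1
    rw [map_mul, map_mul] at h2
    have h3 : ρ (algebraMap _ (Localization.AtPrime Q) s) = 0 :=
      (mul_eq_zero.1 h2).resolve_left (hunit _ hu₀)
    have h4 : IsLocalization.mk' (Localization.AtPrime Q) s t *
        algebraMap _ (Localization.AtPrime Q) (t : MvPolynomial (Fin n) A) =
        algebraMap _ (Localization.AtPrime Q) s := IsLocalization.mk'_spec _ s t
    have h5 := congrArg ρ h4
    rw [map_mul, h3] at h5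
    exact (mul_eq_zero.1 h5).resolve_right (hunit _ t.2)
  exact isFormallyEquidim_of_surjective_of_ker_le hE g hg ρ hρ hkg
    (LocEquidim.isEquidim_of_isDomain F)

/-- A local ring essentially of finite type over `A` is a quotient of a localization of a polynomial
ring over `A` at a prime. -/
theorem exists_surjective_localization_mvPolynomial (A B : Type u) [CommRing A] [CommRing B]
    [IsLocalRing B] [Algebra A B] [hess : Algebra.EssFiniteType A B] :
    ∃ (n : ℕ) (Q : Ideal (MvPolynomial (Fin n) A)) (_ : Q.IsPrime)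
      (ρ : Localization.AtPrime Q →+* B), Function.Surjective ρ := by
  obtain ⟨σ, hσ⟩ := (Algebra.essFiniteType_iff A B).1 hess
  have hft : Algebra.FiniteType A (Algebra.adjoin A (σ : Set B)) :=
    (Subalgebra.fg_iff_finiteType _).1 ⟨σ, rfl⟩
  obtain ⟨n, f, hf⟩ := Algebra.FiniteType.iff_quotient_mvPolynomial''.1 hft
  let π : MvPolynomial (Fin n) A →+* B :=
    ((Algebra.adjoin A (σ : Set B)).val.comp f : MvPolynomial (Fin n) A →ₐ[A] B)
  have hπrange : ∀ b ∈ Algebra.adjoin A (σ : Set B), ∃ x, π x = b := by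
    intro b hb
    obtain ⟨x, hx⟩ := hf ⟨b, hb⟩
    exact ⟨x, by change ((f x : Algebra.adjoin A (σ : Set B)) : B) = b; rw [hx]⟩
  let Q : Ideal (MvPolynomial (Fin n) A) := (maximalIdeal B).comap π
  haveI hQ : Q.IsPrime := Ideal.IsPrime.comap _
  have hunits : ∀ y : Q.primeCompl, IsUnit (π y) := by
    intro y
    by_contra h
    exact y.2 ((IsLocalRing.mem_maximalIdeal _).2 h)
  refine ⟨n, Q, hQ, IsLocalization.lift (M := Q.primeCompl) (S := Localization.AtPrime Q) hunits, ?_⟩
  intro b
  obtain ⟨t, ht, htu, hbt⟩ := hσ b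
  obtain ⟨y, rfl⟩ := hπrange t ht
  obtain ⟨x, hx⟩ := hπrange _ hbt
  have hy : y ∈ Q.primeCompl := by
    intro hy
    exact (IsLocalRing.mem_maximalIdeal _).1 hy htu
  refine ⟨IsLocalization.mk' (Localization.AtPrime Q) x ⟨y, hy⟩, ?_⟩
  rw [IsLocalization.lift_mk'_spec]
  rw [hx, mul_comm]

end Groth.Agent.Lib.Helper15.FormalCat
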