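import Groth.Agent.Lib.Helper15.DimOneBranch

/-!
# Formal connectedness for henselian local domains (helper15)

`le_nilradical_or`: let `E` be a Noetherian local domain all of whose integral sub-extensions in the
fraction field are local (e.g. `E` henselian), `E → C` flat with `C` Noetherian local,
`m_E C = m_C`, residue fields equal (e.g. `C` the completion).  If `I₁ I₂ ⊆ nil(C)` and `I₁ + I₂`
is `m_C`-primary then `I₁ ⊆ nil(C)` or `I₂ ⊆ nil(C)`: the punctured spectrum of `C` is connected.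
Elementary proof (equational criterion of flatness + Krull intersection); no Artin approximation.
-/

set_option autoImplicit false
universe u

namespace Groth.Agent.Lib.Helper15.FormalConn

open IsLocalRing

section Krull

/-- Krull intersection relative to an ideal. -/
theorem le_of_forall_le_sup_pow {C : Type*} [CommRing C] [IsLocalRing C] [IsNoetherianRing C]
    (𝔞 J : Ideal C) (h : ∀ n, J ≤ 𝔞 ⊔ maximalIdeal C ^ n) : J ≤ 𝔞 := by
  intro x hx
  have h1 := Ideal.iInf_pow_smul_eq_bot_of_isLocalRing (R := C) (M := C ⧸ 𝔞) (maximalIdeal C)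
    (Ideal.IsPrime.ne_top')
  have h2 : Ideal.Quotient.mk 𝔞 x ∈ (⨅ i, maximalIdeal C ^ i • (⊤ : Submodule C (C ⧸ 𝔞))) := by
    rw [Submodule.mem_iInf]
    intro n
    obtain ⟨a, ha, m, hm, rfl⟩ := Submodule.mem_sup.1 (h n hx)
    have : Ideal.Quotient.mk 𝔞 (a + m) = m • (1 : C ⧸ 𝔞) := by
      rw [map_add, Ideal.Quotient.eq_zero_iff_mem.2 ha, zero_add, Algebra.smul_def, mul_one]
      rfl
    rw [this]; exact Submodule.smul_mem_smul hm Submodule.mem_top
  rw [h1] at h2
  exact Ideal.Quotient.eq_zero_iff_mem.1 ((Submodule.mem_bot _).1 h2)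

end Krull

section Mult

variable (E : Type u) [CommRing E] [IsDomain E]

/-- The subalgebra of multipliers of an ideal inside the fraction field. -/
def mult (J₀ : Ideal E) : Subalgebra E (FractionRing E) where
  carrier := {x | ∀ z ∈ J₀, ∃ w ∈ J₀,
    x * algebraMap E (FractionRing E) z = algebraMap E (FractionRing E) w}
  mul_mem' := by
    rintro a b ha hb z hz
    obtain ⟨w, hw, hbw⟩ := hb z hz
    obtain ⟨w', hw', haw⟩ := ha w hw
    exact ⟨w', hw', by rw [mul_assoc, hbw, haw]⟩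
  one_mem' := fun z hz => ⟨z, hz, one_mul _⟩
  add_mem' := by
    rintro a b ha hb z hz
    obtain ⟨w, hw, hbw⟩ := hb z hz
    obtain ⟨w', hw', haw⟩ := ha z hz
    exact ⟨w' + w, add_mem hw' hw, by rw [add_mul, hbw, haw, map_add]⟩
  zero_mem' := fun z _ => ⟨0, zero_mem _, by simp⟩
  algebraMap_mem' := fun r z hz => ⟨r * z, Ideal.mul_mem_left _ _ hz, by rw [map_mul]⟩

theorem isIntegral_mult [IsNoetherianRing E] (J₀ : Ideal E) (h0 : J₀ ≠ ⊥) :
    Algebra.IsIntegral E (mult E J₀) := by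
  refine ⟨fun x => ?_⟩
  have hx : IsIntegral E (x : FractionRing E) := by
    refine isIntegral_of_smul_mem_submodule (M := FractionRing E)
      (Submodule.map (Algebra.linearMap E (FractionRing E)) J₀) ?_ ?_ (x : FractionRing E) ?_
    · intro h
      apply h0
      rw [eq_bot_iff]
      intro z hz
      have : algebraMap E (FractionRing E) z ∈
          Submodule.map (Algebra.linearMap E (FractionRing E)) J₀ := ⟨z, hz, rfl⟩
      rw [h, Submodule.mem_bot] at this
      exact (Submodule.mem_bot _).2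
        (IsFractionRing.injective E (FractionRing E) (by rw [this, map_zero]))
    · exact Submodule.FG.map _ (IsNoetherian.noetherian J₀)
    · rintro _ ⟨z, hz, rfl⟩
      obtain ⟨w, hw, hxw⟩ := x.2 z hz
      exact ⟨w, hw, hxw.symm⟩
  exact (isIntegral_algHom_iff (mult E J₀).val Subtype.val_injective).mp hx

end Mult

section Main

variable (E C : Type u) [CommRing E] [IsDomain E] [IsLocalRing E] [IsNoetherianRing E]
  [CommRing C] [IsLocalRing C] [IsNoetherianRing C] [Algebra E C] [Module.Flat E C]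

/-- **Formal connectedness lemma.** -/
theorem le_nilradical_or
    (hloc : ∀ B : Subalgebra E (FractionRing E), Algebra.IsIntegral E B → IsLocalRing B)
    (hm : (maximalIdeal E).map (algebraMap E C) = maximalIdeal C)
    (hres : ∀ c : C, ∃ e : E, c - algebraMap E C e ∈ maximalIdeal C)
    (I₁ I₂ : Ideal C) (h12 : I₁ * I₂ ≤ nilradical C) (N : ℕ)
    (hN : maximalIdeal C ^ N ≤ I₁ ⊔ I₂) :
    I₁ ≤ nilradical C ∨ I₂ ≤ nilradical C := by
  classical
  let K := FractionRing E
  by_cases hmE : maximalIdeal E = ⊥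
  · -- `C` is a field
    have hmC : maximalIdeal C = ⊥ := by rw [← hm, hmE, Ideal.map_bot]
    by_contra hcon
    have hcon := not_or.1 hcon
    obtain ⟨⟨x, hx, hxn⟩, ⟨y, hy, hyn⟩⟩ :=
      (⟨SetLike.not_le_iff_exists.1 hcon.1, SetLike.not_le_iff_exists.1 hcon.2⟩ :
        (∃ x ∈ I₁, x ∉ nilradical C) ∧ (∃ y ∈ I₂, y ∉ nilradical C))
    have hunit : ∀ z : C, z ∉ nilradical C → IsUnit z := by
      intro z hz
      by_contra hzu
      have : z ∈ maximalIdeal C := hzu
      rw [hmC, Ideal.mem_bot] at this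
      exact hz (this ▸ zero_mem _)
    have hxy : IsUnit (x * y) := (hunit x hxn).mul (hunit y hyn)
    have hnil : IsNilpotent (x * y) := mem_nilradical.1 (h12 (Ideal.mul_mem_mul hx hy))
    exact hxy.not_isNilpotent hnil  
  obtain ⟨t, htm, ht0⟩ : ∃ t ∈ maximalIdeal E, t ≠ 0 := by
    by_contra! h
    exact hmE (le_bot_iff.mp fun t ht => h t ht)
  obtain ⟨M, hM⟩ := IsNoetherianRing.isNilpotent_nilradical C
  set 𝔞₁ : Ideal C := I₁ ^ M with h𝔞₁
  set 𝔞₂ : Ideal C := I₂ ^ M with h𝔞₂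
  have h𝔞 : 𝔞₁ * 𝔞₂ = ⊥ := by
    rw [eq_bot_iff, h𝔞₁, h𝔞₂, ← mul_pow]
    exact (Ideal.pow_right_mono h12 M).trans hM.le
  have hxy0 : ∀ x ∈ 𝔞₁, ∀ y ∈ 𝔞₂, x * y = 0 := fun x hx y hy => by
    have := Ideal.mul_mem_mul hx hy
    rwa [h𝔞, Ideal.mem_bot] at this
  set n₀ : ℕ := (M + M) * N with hn₀
  set J : Ideal C := 𝔞₁ ⊔ 𝔞₂ with hJdef
  have hJ : maximalIdeal C ^ n₀ ≤ J := by
    rw [hn₀, mul_comm, pow_mul]
    exact (Ideal.pow_right_mono hN (M + M)).trans Ideal.sup_pow_add_le_pow_sup_pow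
  set J₀ : Ideal E := J.comap (algebraMap E C) with hJ₀
  have hmpow : ∀ n, (maximalIdeal E ^ n).map (algebraMap E C) = maximalIdeal C ^ n := fun n => by
    rw [Ideal.map_pow, hm]
  have hmJ₀ : maximalIdeal E ^ n₀ ≤ J₀ := by
    intro z hz
    exact hJ ((hmpow n₀) ▸ Ideal.mem_map_of_mem _ hz)
  have hJ₀map : J₀.map (algebraMap E C) = J := by
    refine le_antisymm Ideal.map_comap_le ?_
    intro x hx
    obtain ⟨e, he⟩ := DimOneBranch.exists_sub_mem_pow hm hres n₀ x
    have he' : algebraMap E C e ∈ J := by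
      have := sub_mem hx (hJ he)
      rwa [sub_sub_cancel] at this
    have h1 : algebraMap E C e ∈ J₀.map (algebraMap E C) := Ideal.mem_map_of_mem _ he'
    have h2 : x - algebraMap E C e ∈ J₀.map (algebraMap E C) := by
      rw [← hmpow n₀] at he
      exact Ideal.map_mono hmJ₀ he
    have := add_mem h1 h2
    rwa [add_sub_cancel] at this
  set g₀ : E := t ^ n₀ with hg₀
  have hg₀J : g₀ ∈ J₀ := hmJ₀ (Ideal.pow_mem_pow htm n₀)
  have hg₀0 : g₀ ≠ 0 := pow_ne_zero _ ht0
  have hJ₀ne : J₀ ≠ ⊥ := fun h => hg₀0 ((Ideal.mem_bot).1 (h ▸ hg₀J))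
  obtain ⟨s, hs⟩ := (IsNoetherian.noetherian J₀ : J₀.FG)
  set s' : Finset E := insert g₀ s with hs'
  have hs'span : Ideal.span (s' : Set E) = J₀ := by
    rw [hs', Finset.coe_insert, Ideal.span_insert]
    have : Ideal.span (s : Set E) = J₀ := hs
    rw [this]
    exact sup_eq_right.2 ((Ideal.span_singleton_le_iff_mem _).2 hg₀J)
  let ι := ↥s'
  let i₀ : ι := ⟨g₀, Finset.mem_insert_self _ _⟩
  let g : ι → E := Subtype.val
  have hgspan : Ideal.span (Set.range g) = J₀ := by
    rw [Subtype.range_coe]; exact hs'span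
  have hgJ₀ : ∀ i, g i ∈ J₀ := fun i => hgspan ▸ Ideal.subset_span ⟨i, rfl⟩
  have hdec : ∀ i, ∃ x ∈ 𝔞₁, ∃ y ∈ 𝔞₂, x + y = algebraMap E C (g i) := fun i =>
    Submodule.mem_sup.1 (hgJ₀ i)
  choose x hx y hy hxy using hdec
  have hrel : ∀ i, algebraMap E C (g i) * y i₀ = algebraMap E C (g i₀) * y i := by
    intro i
    rw [← hxy i, ← hxy i₀]
    have h1 := hxy0 (x i) (hx i) (y i₀) (hy i₀)
    have h2 := hxy0 (x i₀) (hx i₀) (y i) (hy i)
    linear_combination h1 - h2
  -- flatness
  let f : (ι → E) →ₗ[E] (ι → E) :=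
    (Fintype.linearCombination E g).smulRight (Pi.single i₀ (1 : E)) - g i₀ • LinearMap.id
  let xx : (ι → E) →ₗ[E] C := Fintype.linearCombination E y
  have hcomp : xx ∘ₗ f = 0 := by
    apply LinearMap.pi_ext
    intro i c
    simp only [f, xx, LinearMap.comp_apply, LinearMap.sub_apply, LinearMap.smulRight_apply,
      LinearMap.smul_apply, LinearMap.id_apply, map_sub, map_smul,
      Fintype.linearCombination_apply_single, LinearMap.zero_apply, smul_eq_mul]
    simp only [Algebra.smul_def, map_mul, map_one]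
    linear_combination (algebraMap E C c) * hrel i
  obtain ⟨k, a, y', hxy', haf⟩ :=
    Module.Flat.exists_factorization_of_comp_eq_zero_of_free (M := C) hcomp
  let A : Fin k → ι → E := fun l j => a (Pi.single j 1) l
  let cc : Fin k → C := fun l => y' (Finsupp.single l 1)
  have hy' : ∀ v : Fin k →₀ E, y' v = ∑ l, v l • cc l := by
    intro v
    conv_lhs => rw [← Finsupp.univ_sum_single v]
    rw [map_sum]
    refine Finset.sum_congr rfl fun l _ => ?_
    rw [← Finsupp.smul_single_one, map_smul]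
  have hR1 : ∀ j, y j = ∑ l, algebraMap E C (A l j) * cc l := by
    intro j
    have h1 : y j = xx (Pi.single j 1) := by
      simp only [xx, Fintype.linearCombination_apply_single, one_smul]
    rw [h1, hxy', LinearMap.comp_apply, hy']
    refine Finset.sum_congr rfl fun l _ => ?_
    rw [Algebra.smul_def]
  have hR2 : ∀ l i, g i * A l i₀ = g i₀ * A l i := by
    intro l i
    have h1 : a (f (Pi.single i 1)) = 0 := by
      rw [← LinearMap.comp_apply, haf, LinearMap.zero_apply]
    have h2 : f (Pi.single i 1) = g i • Pi.single i₀ (1 : E) - g i₀ • Pi.single i (1 : E) := by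
      simp only [f, LinearMap.sub_apply, LinearMap.smulRight_apply, LinearMap.smul_apply,
        LinearMap.id_apply, Fintype.linearCombination_apply_single, smul_eq_mul, one_mul]
    rw [h2, map_sub, map_smul, map_smul] at h1
    have h3 := congrArg (fun v : Fin k →₀ E => v l) h1
    simp only [Finsupp.coe_sub, Finsupp.coe_smul, Pi.sub_apply, Pi.smul_apply, smul_eq_mul,
      Finsupp.coe_zero, Pi.zero_apply] at h3
    exact sub_eq_zero.1 h3
  -- the step for each `n`
  have step : ∀ n, n₀ ≤ n → (J ≤ 𝔞₂ ⊔ maximalIdeal C ^ n) ∨ (J ≤ 𝔞₁ ⊔ maximalIdeal C ^ n) := by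
    intro n hn
    have hpowle : maximalIdeal C ^ n ≤ J := (Ideal.pow_le_pow_right hn).trans hJ
    have happ : ∀ l, ∃ e : E, cc l - algebraMap E C e ∈ maximalIdeal C ^ n := fun l =>
      DimOneBranch.exists_sub_mem_pow hm hres n (cc l)
    choose e he using happ
    let β : ι → E := fun j => ∑ l, e l * A l j
    have hS1 : ∀ i, g i * β i₀ = g i₀ * β i := by
      intro i
      simp only [β, Finset.mul_sum]
      refine Finset.sum_congr rfl fun l _ => ?_
      linear_combination (e l) * hR2 l i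
    have hS2 : ∀ j, y j - algebraMap E C (β j) ∈ maximalIdeal C ^ n := by
      intro j
      rw [hR1 j]
      simp only [β, map_sum, map_mul, ← Finset.sum_sub_distrib]
      refine Ideal.sum_mem _ fun l _ => ?_
      have : algebraMap E C (A l j) * cc l - algebraMap E C (e l) * algebraMap E C (A l j) =
          algebraMap E C (A l j) * (cc l - algebraMap E C (e l)) := by ring
      rw [this]
      exact Ideal.mul_mem_left _ _ (he l)
    set T₂ : Ideal E := (𝔞₂ ⊔ maximalIdeal C ^ n).comap (algebraMap E C) with hT₂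
    set T₁ : Ideal E := (𝔞₁ ⊔ maximalIdeal C ^ n).comap (algebraMap E C) with hT₁
    have hT₂J : T₂ ≤ J₀ := Ideal.comap_mono (sup_le le_sup_right hpowle)
    have hT₁J : T₁ ≤ J₀ := Ideal.comap_mono (sup_le le_sup_left hpowle)
    have hβT₂ : ∀ j, β j ∈ T₂ := by
      intro j
      show algebraMap E C (β j) ∈ 𝔞₂ ⊔ maximalIdeal C ^ n
      have : algebraMap E C (β j) = y j - (y j - algebraMap E C (β j)) := by ring
      rw [this]
      exact sub_mem (Ideal.mem_sup_left (hy j)) (Ideal.mem_sup_right (hS2 j))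
    have hβT₁ : ∀ j, g j - β j ∈ T₁ := by
      intro j
      show algebraMap E C (g j - β j) ∈ 𝔞₁ ⊔ maximalIdeal C ^ n
      have : algebraMap E C (g j - β j) = x j + (y j - algebraMap E C (β j)) := by
        rw [map_sub, ← hxy j]; ring
      rw [this]
      exact add_mem (Ideal.mem_sup_left (hx j)) (Ideal.mem_sup_right (hS2 j))
    have hgK0 : algebraMap E K (g i₀) ≠ 0 := fun h =>
      hg₀0 (IsFractionRing.injective E K (by rw [h, map_zero]))
    set b : K := algebraMap E K (β i₀) / algebraMap E K (g i₀) with hb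
    have hS4 : ∀ i, b * algebraMap E K (g i) = algebraMap E K (β i) := by
      intro i
      rw [hb, div_mul_eq_mul_div, div_eq_iff hgK0, ← map_mul, ← map_mul]
      congr 1
      linear_combination hS1 i
    have hS5 : ∀ z ∈ J₀, ∃ w ∈ T₂, z - w ∈ T₁ ∧ b * algebraMap E K z = algebraMap E K w := by
      intro z hz
      rw [← hgspan] at hz
      obtain ⟨μ, rfl⟩ := (Submodule.mem_span_range_iff_exists_fun E).1 hz
      refine ⟨∑ j, μ j * β j, Ideal.sum_mem _ fun j _ => Ideal.mul_mem_left _ _ (hβT₂ j), ?_, ?_⟩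
      · simp only [smul_eq_mul, ← Finset.sum_sub_distrib, ← mul_sub]
        exact Ideal.sum_mem _ fun j _ => Ideal.mul_mem_left _ _ (hβT₁ j)
      · simp only [smul_eq_mul, map_sum, map_mul, Finset.mul_sum]
        refine Finset.sum_congr rfl fun j _ => ?_
        rw [← hS4 j]; ring
    let bB : mult E J₀ := ⟨b, fun z hz => by
      obtain ⟨w, hw, -, h⟩ := hS5 z hz
      exact ⟨w, hT₂J hw, h⟩⟩
    have hlocB : IsLocalRing (mult E J₀) := hloc _ (isIntegral_mult E J₀ hJ₀ne)
    rcases IsLocalRing.isUnit_or_isUnit_one_sub_self bB with hu | hu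
    · left
      obtain ⟨b₂, hb₂⟩ := hu.exists_right_inv
      have hb₂' : b * (b₂ : K) = 1 := congrArg Subtype.val hb₂
      have hle : J₀ ≤ T₂ := by
        intro z hz
        obtain ⟨w, hw, hbw⟩ := b₂.2 z hz
        obtain ⟨w', hw', -, hbw'⟩ := hS5 w hw
        have : algebraMap E K z = algebraMap E K w' := by
          rw [← hbw', ← hbw, ← mul_assoc, hb₂', one_mul]
        rw [IsFractionRing.injective E K this]; exact hw'
      rw [← hJ₀map]
      exact (Ideal.map_mono hle).trans Ideal.map_comap_le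
    · right
      obtain ⟨b₂, hb₂⟩ := hu.exists_right_inv
      have hb₂' : (1 - b) * (b₂ : K) = 1 := congrArg Subtype.val hb₂
      have hle : J₀ ≤ T₁ := by
        intro z hz
        obtain ⟨w, hw, hbw⟩ := b₂.2 z hz
        obtain ⟨w', -, hw', hbw'⟩ := hS5 w hw
        have : algebraMap E K z = algebraMap E K (w - w') := by
          calc algebraMap E K z = ((1 - b) * (b₂ : K)) * algebraMap E K z := by
                rw [hb₂', one_mul]
            _ = (1 - b) * ((b₂ : K) * algebraMap E K z) := by ring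
            _ = (1 - b) * algebraMap E K w := by rw [hbw]
            _ = algebraMap E K w - b * algebraMap E K w := by ring
            _ = algebraMap E K w - algebraMap E K w' := by rw [hbw']
            _ = algebraMap E K (w - w') := by rw [map_sub]
        rw [IsFractionRing.injective E K this]; exact hw'
      rw [← hJ₀map]
      exact (Ideal.map_mono hle).trans Ideal.map_comap_le
  -- conclusion
  have hfin : ∀ (𝔟 𝔠 : Ideal C) (I : Ideal C), 𝔟 * 𝔠 = ⊥ → 𝔠 = I ^ M → 𝔠 ≤ 𝔟 → I ≤ nilradical C := by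
    intro 𝔟 𝔠 I h0 hI hle z hz
    have h1 : z ^ M ∈ 𝔠 := hI ▸ Ideal.pow_mem_pow hz M
    have h2 : z ^ M * z ^ M ∈ 𝔟 * 𝔠 := Ideal.mul_mem_mul (hle h1) h1
    rw [h0, Ideal.mem_bot, ← pow_add] at h2
    exact mem_nilradical.2 ⟨M + M, h2⟩
  by_cases hP : ∀ n, J ≤ 𝔞₂ ⊔ maximalIdeal C ^ n
  · left
    have h1 : J ≤ 𝔞₂ := le_of_forall_le_sup_pow 𝔞₂ J hP
    exact hfin 𝔞₂ 𝔞₁ I₁ (by rw [mul_comm]; exact h𝔞) h𝔞₁ (le_sup_left.trans h1)
  · right
    obtain ⟨n₁, hn₁⟩ := not_forall.1 hP
    have hQ : ∀ n, J ≤ 𝔞₁ ⊔ maximalIdeal C ^ n := by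
      intro n
      rcases step (max n (max n₀ n₁)) (le_trans (le_max_left _ _) (le_max_right _ _)) with h | h
      · exact absurd (h.trans (sup_le_sup_left (Ideal.pow_le_pow_right
          (le_trans (le_max_right _ _) (le_max_right _ _))) _)) hn₁
      · exact h.trans (sup_le_sup_left (Ideal.pow_le_pow_right (le_max_left _ _)) _)
    have h1 : J ≤ 𝔞₁ := le_of_forall_le_sup_pow 𝔞₁ J hQ
    exact hfin 𝔞₁ 𝔞₂ I₂ h𝔞 h𝔞₂ (le_sup_right.trans h1)

/-- A minimal prime `Q₁` of `C` of dimension one (every prime strictly above it is maximal) is the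
nilradical of `C`. -/
theorem le_nilradical_of_dim_one
    (hloc : ∀ B : Subalgebra E (FractionRing E), Algebra.IsIntegral E B → IsLocalRing B)
    (hm : (maximalIdeal E).map (algebraMap E C) = maximalIdeal C)
    (hres : ∀ c : C, ∃ e : E, c - algebraMap E C e ∈ maximalIdeal C)
    (Q₁ : Ideal C) (hQ₁min : Q₁ ∈ minimalPrimes C)
    (hdim : ∀ P : Ideal C, P.IsPrime → Q₁ < P → P = maximalIdeal C) :
    Q₁ ≤ nilradical C := by
  classical
  have hQ₁p : Q₁.IsPrime := hQ₁min.1.1
  have hfin : (minimalPrimes C).Finite := minimalPrimes.finite_of_isNoetherianRing C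
  set S₂ : Set (Ideal C) := minimalPrimes C \ {Q₁} with hS₂
  have hS₂fin : S₂.Finite := hfin.subset Set.sdiff_subset
  set I₂ : Ideal C := sInf S₂ with hI₂
  have hI₂le : ∀ Q ∈ minimalPrimes C, Q ≠ Q₁ → I₂ ≤ Q := fun Q hQ hQ1 => sInf_le ⟨hQ, hQ1⟩
  have hI₂not : ¬ I₂ ≤ Q₁ := by
    intro hle
    have hinf : hS₂fin.toFinset.inf id ≤ Q₁ := by
      rw [Finset.inf_id_eq_sInf, hS₂fin.coe_toFinset]; exact hle
    obtain ⟨Q, hQ, hQP⟩ := (Ideal.IsPrime.inf_le' hQ₁p).1 hinf
    have hQS : Q ∈ S₂ := hS₂fin.mem_toFinset.1 hQ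
    have : Q = Q₁ := le_antisymm hQP (hQ₁min.2 ⟨hQS.1.1.1, bot_le⟩ hQP)
    exact hQS.2 this
  have h12 : Q₁ * I₂ ≤ nilradical C := by
    intro z hz
    have hle1 : Q₁ * I₂ ≤ Q₁ := Ideal.mul_le_left
    have hle2 : Q₁ * I₂ ≤ I₂ := Ideal.mul_le_right
    have hz1 : z ∈ Q₁ := hle1 hz
    have hz2 : z ∈ I₂ := hle2 hz
    rw [nilradical_eq_sInf, Submodule.mem_sInf]
    intro (P : Ideal C) (hP : P.IsPrime)
    obtain ⟨Q, hQ, hQP⟩ := Ideal.exists_minimalPrimes_le (bot_le : (⊥ : Ideal C) ≤ P)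
    by_cases hQ1 : Q = Q₁
    · have : z ∈ Q := by rw [hQ1]; exact hz1
      exact hQP this
    · exact hQP (hI₂le Q hQ hQ1 hz2)
  have hrad : maximalIdeal C ≤ (Q₁ ⊔ I₂).radical := by
    rw [Ideal.radical_eq_sInf]
    refine le_sInf ?_
    rintro P ⟨hle, hP⟩
    have hQ₁P : Q₁ ≤ P := le_sup_left.trans hle
    have hI₂P : I₂ ≤ P := le_sup_right.trans hle
    by_cases hPeq : P = Q₁
    · exact absurd (hPeq ▸ hI₂P) hI₂not
    · exact (hdim P hP (lt_of_le_of_ne hQ₁P (Ne.symm hPeq))).ge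
  obtain ⟨N, hN⟩ := Ideal.exists_pow_le_of_le_radical_of_fg hrad
    (IsNoetherian.noetherian (maximalIdeal C))
  rcases le_nilradical_or E C hloc hm hres Q₁ I₂ h12 N hN with h | h
  · exact h
  · exact absurd (h.trans (nilradical_le_prime Q₁)) hI₂not

end Main

end Groth.Agent.Lib.Helper15.FormalConn
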