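import Groth.Agent.Lib.Helper15.FormalConn2

/-!
# Punctured spectra of a henselian local ring and of its completion (helper15)

`isPreconnected_punctured_iff`: `R` henselian Noetherian local, `R → R'` flat completion-like
(`R'` Noetherian local, `m_R R' = m_R'`, residue fields equal): the punctured spectrum of `R'` is
preconnected iff that of `R` is.
-/

set_option autoImplicit false
set_option linter.style.haveILetI false
universe u

namespace Groth.Agent.Lib.Helper15.FormalConn

open IsLocalRing PrimeSpectrum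

theorem isPreconnected_punctured_iff (R R' : Type u) [CommRing R] [CommRing R']
    [HenselianLocalRing R] [IsNoetherianRing R] [IsLocalRing R'] [IsNoetherianRing R']
    [Algebra R R'] [Module.Flat R R']
    (hm : (maximalIdeal R).map (algebraMap R R') = maximalIdeal R')
    (hres : ∀ c : R', ∃ e : R, c - algebraMap R R' e ∈ maximalIdeal R') :
    IsPreconnected ({closedPoint R'}ᶜ : Set (PrimeSpectrum R')) ↔
      IsPreconnected ({closedPoint R}ᶜ : Set (PrimeSpectrum R)) := by
  classical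
  haveI hloc : IsLocalHom (algebraMap R R') :=
    ((IsLocalRing.local_hom_TFAE (algebraMap R R')).out 0 2).mpr hm.le
  haveI : Module.FaithfullyFlat R R' := Module.FaithfullyFlat.of_flat_of_isLocalHom
  have hfib : ∀ P : PrimeSpectrum R',
      PrimeSpectrum.comap (algebraMap R R') P = closedPoint R ↔ P = closedPoint R' := by
    intro P
    constructor
    · intro h
      have h1 : (maximalIdeal R).map (algebraMap R R') ≤ P.asIdeal := by
        rw [Ideal.map_le_iff_le_comap]
        have := congrArg PrimeSpectrum.asIdeal h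
        exact this.ge
      rw [hm] at h1
      apply PrimeSpectrum.ext
      exact ((IsLocalRing.maximalIdeal.isMaximal R').eq_of_le P.isPrime.ne_top h1).symm
    · rintro rfl
      exact IsLocalRing.comap_closedPoint (algebraMap R R')
  have hsurj : Function.Surjective (PrimeSpectrum.comap (algebraMap R R')) :=
    PrimeSpectrum.comap_surjective_of_faithfullyFlat
  constructor
  · intro h
    have himg : PrimeSpectrum.comap (algebraMap R R') '' {closedPoint R'}ᶜ = {closedPoint R}ᶜ := by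
      ext p
      constructor
      · rintro ⟨P, hP, rfl⟩
        exact fun h' => hP ((hfib P).1 h')
      · intro hp
        obtain ⟨P, rfl⟩ := hsurj p
        exact ⟨P, fun h' => hp ((hfib P).2 h'), rfl⟩
    rw [← himg]
    exact h.image _ (PrimeSpectrum.continuous_comap _).continuousOn
  · intro h
    rw [isPreconnected_closed_iff]
    intro t t' ht ht' hsub hne1 hne2
    by_contra hcon
    obtain ⟨I₁, rfl⟩ := (PrimeSpectrum.isClosed_iff_zeroLocus_ideal t).1 ht
    obtain ⟨I₂, rfl⟩ := (PrimeSpectrum.isClosed_iff_zeroLocus_ideal t').1 ht'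
    have hcon' : ∀ P : PrimeSpectrum R', P ≠ closedPoint R' → I₁ ≤ P.asIdeal →
        I₂ ≤ P.asIdeal → False := by
      intro P hP h1 h2
      exact hcon ⟨P, hP, (PrimeSpectrum.mem_zeroLocus _ _).2 h1, (PrimeSpectrum.mem_zeroLocus _ _).2 h2⟩
    have hrad : maximalIdeal R' ≤ (I₁ ⊔ I₂).radical := by
      rw [Ideal.radical_eq_sInf]
      refine le_sInf ?_
      rintro P ⟨hle, hP⟩
      by_contra hne
      refine hcon' ⟨P, hP⟩ (fun h' => hne ?_) (le_sup_left.trans hle) (le_sup_right.trans hle)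
      have := congrArg PrimeSpectrum.asIdeal h'
      exact this.ge
    obtain ⟨N, hN⟩ := Ideal.exists_pow_le_of_le_radical_of_fg hrad
      (IsNoetherian.noetherian (maximalIdeal R'))
    obtain ⟨P₁, hP₁U, hP₁I⟩ := hne1
    obtain ⟨P₂, hP₂U, hP₂I⟩ := hne2
    have hP₁I' : I₁ ≤ P₁.asIdeal := (PrimeSpectrum.mem_zeroLocus _ _).1 hP₁I
    have hP₂I' : I₂ ≤ P₂.asIdeal := (PrimeSpectrum.mem_zeroLocus _ _).1 hP₂I
    have hprod : I₁ * I₂ ≤ nilradical R' := by
      rw [nilradical_eq_sInf]
      refine le_sInf ?_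
      intro P (hP : P.IsPrime)
      by_cases hPm : (⟨P, hP⟩ : PrimeSpectrum R') = closedPoint R'
      · have h1 : P = maximalIdeal R' := congrArg PrimeSpectrum.asIdeal hPm
        rw [h1]
        exact Ideal.mul_le_right.trans ((hP₂I').trans (le_maximalIdeal P₂.isPrime.ne_top))
      · rcases hsub hPm with h1 | h1
        · exact Ideal.mul_le_left.trans ((PrimeSpectrum.mem_zeroLocus _ _).1 h1)
        · exact Ideal.mul_le_right.trans ((PrimeSpectrum.mem_zeroLocus _ _).1 h1)
    have hR : ∀ q' : Ideal R, q'.IsPrime → I₁ ≤ (q'.map (algebraMap R R')).radical ∨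
        I₂ ≤ (q'.map (algebraMap R R')).radical := by
      intro q' hq'
      refine le_radical_map_or R R' hm hres q' I₁ I₂ (hprod.trans ?_) N hN
      exact Ideal.radical_mono bot_le
    have hfin : (minimalPrimes R).Finite := minimalPrimes.finite_of_isNoetherianRing R
    set T₁ : Set (Ideal R) := {q' ∈ minimalPrimes R | I₁ ≤ (q'.map (algebraMap R R')).radical}
      with hT₁
    set T₂ : Set (Ideal R) := {q' ∈ minimalPrimes R | I₂ ≤ (q'.map (algebraMap R R')).radical}
      with hT₂
    have hT₁fin : T₁.Finite := hfin.subset (Set.sep_subset _ _)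
    have hT₂fin : T₂.Finite := hfin.subset (Set.sep_subset _ _)
    have hradle : ∀ (q' : Ideal R) (P : PrimeSpectrum R'),
        q' ≤ (PrimeSpectrum.comap (algebraMap R R') P).asIdeal →
        (q'.map (algebraMap R R')).radical ≤ P.asIdeal := by
      intro q' P hq'
      exact (Ideal.IsPrime.radical_le_iff P.isPrime).2 (Ideal.map_le_iff_le_comap.2 hq')
    have hle1 : ∀ q', q' ∈ minimalPrimes R → I₁ ≤ (q'.map (algebraMap R R')).radical →
        (sInf T₁ : Ideal R) ≤ q' := fun q' h1 h2 => sInf_le (⟨h1, h2⟩ : q' ∈ T₁)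
    have hle2 : ∀ q', q' ∈ minimalPrimes R → I₂ ≤ (q'.map (algebraMap R R')).radical →
        (sInf T₂ : Ideal R) ≤ q' := fun q' h1 h2 => sInf_le (⟨h1, h2⟩ : q' ∈ T₂)
    have hzl : ∀ (𝔞 : Ideal R) (p : PrimeSpectrum R), 𝔞 ≤ p.asIdeal → p ∈ zeroLocus (𝔞 : Set R) :=
      fun 𝔞 p h => (PrimeSpectrum.mem_zeroLocus _ _).2 h
    have key := (isPreconnected_closed_iff.1 h) (zeroLocus (sInf T₁ : Ideal R))
      (zeroLocus (sInf T₂ : Ideal R)) (isClosed_zeroLocus _) (isClosed_zeroLocus _) ?_ ?_ ?_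
    · obtain ⟨p, hpU, hp1, hp2⟩ := key
      have hp1' : (sInf T₁ : Ideal R) ≤ p.asIdeal := (PrimeSpectrum.mem_zeroLocus _ _).1 hp1
      have hp2' : (sInf T₂ : Ideal R) ≤ p.asIdeal := (PrimeSpectrum.mem_zeroLocus _ _).1 hp2
      have hinf1 : hT₁fin.toFinset.inf id ≤ p.asIdeal := by
        rw [Finset.inf_id_eq_sInf, hT₁fin.coe_toFinset]; exact hp1'
      have hinf2 : hT₂fin.toFinset.inf id ≤ p.asIdeal := by
        rw [Finset.inf_id_eq_sInf, hT₂fin.coe_toFinset]; exact hp2'
      obtain ⟨q₁, hq₁, hq₁p⟩ := (Ideal.IsPrime.inf_le' p.isPrime).1 hinf1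
      obtain ⟨q₂, hq₂, hq₂p⟩ := (Ideal.IsPrime.inf_le' p.isPrime).1 hinf2
      have hq₁T : q₁ ∈ T₁ := hT₁fin.mem_toFinset.1 hq₁
      have hq₂T : q₂ ∈ T₂ := hT₂fin.mem_toFinset.1 hq₂
      obtain ⟨P, rfl⟩ := hsurj p
      refine hcon' P (fun h' => hpU ((hfib P).2 h')) ?_ ?_
      · exact hq₁T.2.trans (hradle q₁ P hq₁p)
      · exact hq₂T.2.trans (hradle q₂ P hq₂p)
    · -- covering
      intro p _
      obtain ⟨q', hq', hq'p⟩ := Ideal.exists_minimalPrimes_le (bot_le : (⊥ : Ideal R) ≤ p.asIdeal)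
      rcases hR q' hq'.1.1 with h1 | h1
      · left
        exact hzl _ _ ((hle1 q' hq' h1).trans hq'p)
      · right
        exact hzl _ _ ((hle2 q' hq' h1).trans hq'p)
    · -- nonempty 1
      refine ⟨PrimeSpectrum.comap (algebraMap R R') P₁, fun h' => hP₁U ((hfib P₁).1 h'), ?_⟩
      obtain ⟨q', hq', hq'p⟩ := Ideal.exists_minimalPrimes_le
        (bot_le : (⊥ : Ideal R) ≤ (PrimeSpectrum.comap (algebraMap R R') P₁).asIdeal)
      rcases hR q' hq'.1.1 with h1 | h1
      · exact hzl _ _ ((hle1 q' hq' h1).trans hq'p)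
      · exact absurd (h1.trans (hradle q' P₁ hq'p)) (fun h2 => hcon' P₁ hP₁U hP₁I' h2)
    · -- nonempty 2
      refine ⟨PrimeSpectrum.comap (algebraMap R R') P₂, fun h' => hP₂U ((hfib P₂).1 h'), ?_⟩
      obtain ⟨q', hq', hq'p⟩ := Ideal.exists_minimalPrimes_le
        (bot_le : (⊥ : Ideal R) ≤ (PrimeSpectrum.comap (algebraMap R R') P₂).asIdeal)
      rcases hR q' hq'.1.1 with h1 | h1
      · exact absurd (h1.trans (hradle q' P₂ hq'p)) (fun h2 => hcon' P₂ hP₂U h2 hP₂I')
      · exact hzl _ _ ((hle2 q' hq' h1).trans hq'p)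

end Groth.Agent.Lib.Helper15.FormalConn
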