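import Groth.Agent.S0598
import Groth.Agent.Lib.Helper96.RegularLocalGlobal2
import Groth.Agent.Lib.Helper96.ComplRegular
import Groth.Agent.Lib.Helper69.GRingLocal
import Groth.Agent.Lib.Helper83.FlatLocalDim

/-!
# A Noetherian local ring with regular completion map is a G-ring (helper15)

`isGRing_of_isRegularHom_cpl`: `A` Noetherian local with `A → Â` regular; then for every prime `𝔮`
the completion map of `A_𝔮` is regular (Matsumura 32.4 / Stacks 07PS-type argument: choose `𝔔 ⊂ Â`
over `𝔮`; `A_𝔮 → Â_𝔔 → (Â_𝔔)^` is regular since `Â` is a G-ring, and `(A_𝔮)^ → (Â_𝔔)^` is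
faithfully flat, so regularity descends).
-/

set_option autoImplicit false
set_option linter.style.haveILetI false
universe u

namespace Groth.Agent.Lib.Helper15.GRingLoc

open IsLocalRing Groth.Agent.Lib.Helper96

section Core

variable (A : Type u) [CommRing A] [IsNoetherianRing A] [IsLocalRing A]

theorem isRegularHom_cpl_localization_comap
    (hA : CAlg.IsRegularHom A (AdicCompletion (maximalIdeal A) A))
    (𝔔 : Ideal (AdicCompletion (maximalIdeal A) A)) [𝔔.IsPrime] :
    CAlg.IsRegularHom
      (Localization.AtPrime (𝔔.comap (algebraMap A (AdicCompletion (maximalIdeal A) A))))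
      (AdicCompletion
        (maximalIdeal (Localization.AtPrime
          (𝔔.comap (algebraMap A (AdicCompletion (maximalIdeal A) A)))))
        (Localization.AtPrime (𝔔.comap (algebraMap A (AdicCompletion (maximalIdeal A) A))))) := by
  have hfg : (maximalIdeal A).FG := IsNoetherian.noetherian _
  haveI : IsNoetherianRing (AdicCompletion (maximalIdeal A) A) :=
    Groth.Agent.Lib.Helper83.isNoetherianRing_adicCompletion _
  haveI : IsAdicComplete (maximalIdeal (AdicCompletion (maximalIdeal A) A))
      (AdicCompletion (maximalIdeal A) A) := by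
    rw [AdicCompletion.maximalIdeal_eq_map]; exact AdicCompletion.isAdicComplete_self _ hfg
  have hG : CAlg.IsGRing (AdicCompletion (maximalIdeal A) A) := Groth.Agent.S0598.result _
  set 𝔮 : Ideal A := 𝔔.comap (algebraMap A (AdicCompletion (maximalIdeal A) A)) with h𝔮
  letI : Algebra (Localization.AtPrime 𝔮) (Localization.AtPrime 𝔔) :=
    (Localization.localRingHom 𝔮 𝔔 (algebraMap A (AdicCompletion (maximalIdeal A) A)) rfl).toAlgebra
  haveI : IsNoetherianRing (Localization.AtPrime 𝔮) :=
    IsLocalization.isNoetherianRing 𝔮.primeCompl _ inferInstance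
  haveI : IsNoetherianRing (Localization.AtPrime 𝔔) :=
    IsLocalization.isNoetherianRing 𝔔.primeCompl _ inferInstance
  have h1 : CAlg.IsRegularHom (Localization.AtPrime 𝔮) (Localization.AtPrime 𝔔) :=
    isRegularHom_localRingHom A (AdicCompletion (maximalIdeal A) A) hA 𝔔
  haveI : IsLocalHom (algebraMap (Localization.AtPrime 𝔮) (Localization.AtPrime 𝔔)) :=
    Localization.isLocalHom_localRingHom 𝔮 𝔔 _ rfl
  have h2 : CAlg.IsRegularHom (Localization.AtPrime 𝔔)
      (AdicCompletion (maximalIdeal (Localization.AtPrime 𝔔)) (Localization.AtPrime 𝔔)) := hG.2 𝔔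
  haveI : IsNoetherianRing
      (AdicCompletion (maximalIdeal (Localization.AtPrime 𝔔)) (Localization.AtPrime 𝔔)) :=
    Groth.Agent.Lib.Helper83.isNoetherianRing_adicCompletion _
  haveI : IsNoetherianRing
      (AdicCompletion (maximalIdeal (Localization.AtPrime 𝔮)) (Localization.AtPrime 𝔮)) :=
    Groth.Agent.Lib.Helper83.isNoetherianRing_adicCompletion _
  letI : Algebra (AdicCompletion (maximalIdeal (Localization.AtPrime 𝔮)) (Localization.AtPrime 𝔮))
      (AdicCompletion (maximalIdeal (Localization.AtPrime 𝔔)) (Localization.AtPrime 𝔔)) :=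
    (cplMap (Localization.AtPrime 𝔮) (Localization.AtPrime 𝔔)).toAlgebra
  haveI : IsScalarTower (Localization.AtPrime 𝔮)
      (AdicCompletion (maximalIdeal (Localization.AtPrime 𝔮)) (Localization.AtPrime 𝔮))
      (AdicCompletion (maximalIdeal (Localization.AtPrime 𝔔)) (Localization.AtPrime 𝔔)) :=
    .of_algebraMap_eq (fun a => by
      rw [IsScalarTower.algebraMap_apply (Localization.AtPrime 𝔮) (Localization.AtPrime 𝔔)
        (AdicCompletion (maximalIdeal (Localization.AtPrime 𝔔)) (Localization.AtPrime 𝔔))]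
      exact (cplMap_algebraMap (Localization.AtPrime 𝔮) (Localization.AtPrime 𝔔) a).symm)
  haveI : Module.Flat (Localization.AtPrime 𝔮) (Localization.AtPrime 𝔔) := h1.1
  haveI : Module.Flat
      (AdicCompletion (maximalIdeal (Localization.AtPrime 𝔮)) (Localization.AtPrime 𝔮))
      (AdicCompletion (maximalIdeal (Localization.AtPrime 𝔔)) (Localization.AtPrime 𝔔)) :=
    flat_cplMap (Localization.AtPrime 𝔮) (Localization.AtPrime 𝔔)
  haveI : IsLocalHom (algebraMap
      (AdicCompletion (maximalIdeal (Localization.AtPrime 𝔮)) (Localization.AtPrime 𝔮))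
      (AdicCompletion (maximalIdeal (Localization.AtPrime 𝔔)) (Localization.AtPrime 𝔔))) :=
    isLocalHom_cplMap (Localization.AtPrime 𝔮) (Localization.AtPrime 𝔔)
  haveI : Module.FaithfullyFlat
      (AdicCompletion (maximalIdeal (Localization.AtPrime 𝔮)) (Localization.AtPrime 𝔮))
      (AdicCompletion (maximalIdeal (Localization.AtPrime 𝔔)) (Localization.AtPrime 𝔔)) :=
    Module.FaithfullyFlat.of_flat_of_isLocalHom
  have h3 : CAlg.IsRegularHom (Localization.AtPrime 𝔮)
      (AdicCompletion (maximalIdeal (Localization.AtPrime 𝔔)) (Localization.AtPrime 𝔔)) :=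
    Groth.Agent.Lib.Helper49.RegularHom.isRegularHom_comp (Localization.AtPrime 𝔮)
      (Localization.AtPrime 𝔔) _ h1 h2
      (fun p _ => isNoetherianRing_fiber (Localization.AtPrime 𝔮) _ p)
  exact isRegularHom_of_comp_of_faithfullyFlat (Localization.AtPrime 𝔮)
    (AdicCompletion (maximalIdeal (Localization.AtPrime 𝔮)) (Localization.AtPrime 𝔮))
    (AdicCompletion (maximalIdeal (Localization.AtPrime 𝔔)) (Localization.AtPrime 𝔔)) h3

/-- **A Noetherian local ring with regular completion map is a G-ring.** -/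
theorem isGRing_of_isRegularHom_cpl
    (hA : CAlg.IsRegularHom A (AdicCompletion (maximalIdeal A) A)) : CAlg.IsGRing A := by
  refine ⟨inferInstance, ?_⟩
  intro 𝔮 h𝔮
  haveI : Module.FaithfullyFlat A (AdicCompletion (maximalIdeal A) A) :=
    Module.FaithfullyFlat.of_flat_of_isLocalHom
  obtain ⟨𝔔, h𝔔⟩ := PrimeSpectrum.comap_surjective_of_faithfullyFlat (A := A)
    (B := AdicCompletion (maximalIdeal A) A) ⟨𝔮, h𝔮⟩
  have hc : 𝔔.asIdeal.comap (algebraMap A (AdicCompletion (maximalIdeal A) A)) = 𝔮 :=
    congrArg PrimeSpectrum.asIdeal h𝔔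
  have key := isRegularHom_cpl_localization_comap A hA 𝔔.asIdeal
  subst hc
  exact key

end Core

end Groth.Agent.Lib.Helper15.GRingLoc
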