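import Mathlib
import Groth.Prelude.Def_CAlgX

/-!
# Hilbert–Burch: exactness of `0 → R^t → R^{t+1} → R` (helper15)
-/

set_option autoImplicit false
universe u

namespace Groth.Agent.Lib.Helper15.HilbertBurch

open Matrix

variable {R : Type u} [CommRing R] {t : ℕ} (Ψ : Matrix (Fin (t + 1)) (Fin t) R)

/-- The maximal minor obtained by deleting row `i`. -/
noncomputable def D (i : Fin (t + 1)) : R := (Ψ.submatrix i.succAbove id).det

/-- The square matrix `[c | Ψ]`. -/
def N (c : Fin (t + 1) → R) : Matrix (Fin (t + 1)) (Fin (t + 1)) R :=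
  Matrix.of fun i k => (Fin.cons (c i) (Ψ i) : Fin (t + 1) → R) k

theorem N_zero (c : Fin (t + 1) → R) (i : Fin (t + 1)) : N Ψ c i 0 = c i := rfl

theorem N_succ (c : Fin (t + 1) → R) (i : Fin (t + 1)) (l : Fin t) : N Ψ c i l.succ = Ψ i l := by
  simp [N]

theorem N_submatrix (c : Fin (t + 1) → R) (i : Fin (t + 1)) :
    (N Ψ c).submatrix i.succAbove Fin.succ = Ψ.submatrix i.succAbove id := by
  ext r l
  simp [N]

theorem det_N (c : Fin (t + 1) → R) :
    (N Ψ c).det = ∑ i : Fin (t + 1), (-1 : R) ^ (i : ℕ) * c i * D Ψ i := by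
  rw [Matrix.det_succ_column_zero]
  refine Finset.sum_congr rfl fun i _ => ?_
  rw [N_submatrix, N_zero]
  rfl

/-- Laplace: the alternating sum of minors against a column of `Ψ` vanishes. -/
theorem sum_col_eq_zero (l : Fin t) : ∑ i : Fin (t + 1), (-1 : R) ^ (i : ℕ) * Ψ i l * D Ψ i = 0 := by
  rw [← det_N Ψ (fun i => Ψ i l)]
  apply Matrix.det_zero_of_column_eq (i := 0) (j := l.succ) (Fin.succ_ne_zero l).symm
  intro k
  rw [N_zero, N_succ]

theorem sum_mulVec_eq_zero (w : Fin t → R) :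
    ∑ i : Fin (t + 1), (-1 : R) ^ (i : ℕ) * (Ψ.mulVec w) i * D Ψ i = 0 := by
  have h : ∀ i : Fin (t + 1), (-1 : R) ^ (i : ℕ) * (Ψ.mulVec w) i * D Ψ i =
      ∑ l, w l * ((-1 : R) ^ (i : ℕ) * Ψ i l * D Ψ i) := by
    intro i
    simp only [Matrix.mulVec, dotProduct, Finset.mul_sum, Finset.sum_mul]
    refine Finset.sum_congr rfl fun l _ => ?_
    ring
  simp only [h]
  rw [Finset.sum_comm]
  simp only [← Finset.mul_sum, sum_col_eq_zero, mul_zero, Finset.sum_const_zero]

/-- Cramer: if `det [v | Ψ] = 0` then `D k • v` lies in the column space of `Ψ`. -/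
theorem exists_mulVec_eq_smul (v : Fin (t + 1) → R)
    (hv : ∑ i : Fin (t + 1), (-1 : R) ^ (i : ℕ) * v i * D Ψ i = 0) (k : Fin (t + 1)) :
    ∃ w : Fin t → R, Ψ.mulVec w = D Ψ k • v := by
  have hdet : (N Ψ v).det = 0 := by rw [det_N]; exact hv
  have hadj : N Ψ v * (N Ψ v).adjugate = 0 := by rw [Matrix.mul_adjugate, hdet, zero_smul]
  have hadj0 : (N Ψ v).adjugate 0 k = (-1 : R) ^ (k : ℕ) * D Ψ k := by
    rw [Matrix.adjugate_fin_succ_eq_det_submatrix]
    have : (0 : Fin (t + 1)).succAbove = Fin.succ := by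
      ext j; simp
    rw [this, N_submatrix]
    simp [D]
  refine ⟨fun l => -((-1 : R) ^ (k : ℕ) * (N Ψ v).adjugate l.succ k), ?_⟩
  ext r
  have h1 : (N Ψ v * (N Ψ v).adjugate) r k = 0 := by rw [hadj]; rfl
  rw [Matrix.mul_apply, Fin.sum_univ_succ, N_zero, hadj0] at h1
  simp only [N_succ] at h1
  simp only [Matrix.mulVec, dotProduct, Pi.smul_apply, smul_eq_mul]
  have h2 : ∑ x : Fin t, Ψ r x * (N Ψ v).adjugate x.succ k = -(v r * ((-1 : R) ^ (k : ℕ) * D Ψ k)) :=
    eq_neg_of_add_eq_zero_right h1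
  have h3 : ∑ x : Fin t, Ψ r x * -((-1 : R) ^ (k : ℕ) * (N Ψ v).adjugate x.succ k) =
      -((-1 : R) ^ (k : ℕ)) * ∑ x : Fin t, Ψ r x * (N Ψ v).adjugate x.succ k := by
    rw [Finset.mul_sum]
    refine Finset.sum_congr rfl fun x _ => ?_
    ring
  rw [h3, h2]
  have h4 : (-1 : R) ^ (k : ℕ) * (-1 : R) ^ (k : ℕ) = 1 := by
    rw [← pow_add, ← two_mul, pow_mul]; simp
  calc -(-1 : R) ^ (k : ℕ) * -(v r * ((-1 : R) ^ (k : ℕ) * D Ψ k))
      = ((-1 : R) ^ (k : ℕ) * (-1 : R) ^ (k : ℕ)) * (D Ψ k * v r) := by ring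
    _ = D Ψ k * v r := by rw [h4, one_mul]

/-- `D i • w = 0` whenever `Ψ w = 0`. -/
theorem D_smul_eq_zero (w : Fin t → R) (hw : Ψ.mulVec w = 0) (i : Fin (t + 1)) :
    D Ψ i • w = 0 := by
  have h1 : (Ψ.submatrix i.succAbove id).mulVec w = 0 := by
    ext r
    have := congrFun hw (i.succAbove r)
    simpa [Matrix.mulVec, dotProduct] using this
  have h2 : ((Ψ.submatrix i.succAbove id).adjugate * (Ψ.submatrix i.succAbove id)).mulVec w = 0 := by
    rw [← Matrix.mulVec_mulVec, h1, Matrix.mulVec_zero]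
  rw [Matrix.adjugate_mul, Matrix.smul_mulVec, Matrix.one_mulVec] at h2
  exact h2

omit [CommRing R] in
/-- An injective map `Fin t → Fin (t+1)` is `i.succAbove ∘ τ` for a permutation `τ`. -/
theorem exists_succAbove_perm (f : Fin t → Fin (t + 1)) (hf : Function.Injective f) :
    ∃ (i : Fin (t + 1)) (τ : Equiv.Perm (Fin t)), ∀ j, f j = i.succAbove (τ j) := by
  have hns : ¬ Function.Surjective f := by
    intro hs
    have := Fintype.card_le_of_surjective f hs
    simp at this
  obtain ⟨i, hi⟩ : ∃ i, ∀ j, f j ≠ i := by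
    by_contra hcon
    push Not at hcon
    exact hns fun i => hcon i
  choose g hg using fun j => Fin.exists_succAbove_eq (hi j)
  have hginj : Function.Injective g := by
    intro j j' h
    apply hf
    rw [← hg j, ← hg j', h]
  exact ⟨i, Equiv.ofBijective g (Finite.injective_iff_bijective.mp hginj), fun j => (hg j).symm⟩

/-- The ideal of `t × t` minors is generated by the maximal minors `D i`. -/
theorem minorIdeal_eq : CAlgX.minorIdeal Ψ t = Ideal.span (Set.range (D Ψ)) := by
  apply le_antisymm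
  · rw [CAlgX.minorIdeal, Ideal.span_le]
    rintro _ ⟨⟨f, g⟩, rfl⟩
    simp only
    by_cases hg : Function.Injective g
    · let σ : Equiv.Perm (Fin t) := Equiv.ofBijective g (Finite.injective_iff_bijective.mp hg)
      have h1 : Ψ.submatrix f g = (Ψ.submatrix f id).submatrix id σ := by
        ext r l; rfl
      rw [h1, Matrix.det_permute']
      apply Ideal.mul_mem_left
      by_cases hf : Function.Injective f
      · obtain ⟨i, τ, hτ⟩ := exists_succAbove_perm f hf
        have h2 : Ψ.submatrix f id = (Ψ.submatrix i.succAbove id).submatrix τ id := by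
          ext r l
          simp [hτ r]
        rw [h2, Matrix.det_permute]
        exact Ideal.mul_mem_left _ _ (Ideal.subset_span ⟨i, rfl⟩)
      · rw [Function.Injective] at hf
        push Not at hf
        obtain ⟨j, j', hjj', hne⟩ := hf
        rw [Matrix.det_zero_of_row_eq hne (by ext l; simp [hjj'])]
        exact Ideal.zero_mem _
    · rw [Function.Injective] at hg
      push Not at hg
      obtain ⟨j, j', hjj', hne⟩ := hg
      rw [Matrix.det_zero_of_column_eq hne (by intro k; simp [hjj'])]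
      exact Ideal.zero_mem _
  · rw [Ideal.span_le]
    rintro _ ⟨i, rfl⟩
    exact Ideal.subset_span ⟨(i.succAbove, id), rfl⟩

/-- Every element of the minor ideal kills the kernel of `Ψ`. -/
theorem smul_eq_zero_of_mem (w : Fin t → R) (hw : Ψ.mulVec w = 0) (d : R)
    (hd : d ∈ Ideal.span (Set.range (D Ψ))) : d • w = 0 := by
  induction hd using Submodule.span_induction with
  | mem x hx =>
    obtain ⟨i, rfl⟩ := hx
    exact D_smul_eq_zero Ψ w hw i
  | zero => exact zero_smul _ _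
  | add x y _ _ hx hy => rw [add_smul, hx, hy, add_zero]
  | smul a x _ hx => rw [smul_eq_mul, mul_smul, hx, smul_zero]

/-- Every element of the minor ideal maps a cycle `v` into the column space of `Ψ`. -/
theorem exists_mulVec_eq_smul_of_mem (v : Fin (t + 1) → R)
    (hv : ∑ i : Fin (t + 1), (-1 : R) ^ (i : ℕ) * v i * D Ψ i = 0) (d : R)
    (hd : d ∈ Ideal.span (Set.range (D Ψ))) : ∃ w : Fin t → R, Ψ.mulVec w = d • v := by
  induction hd using Submodule.span_induction with
  | mem x hx =>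
    obtain ⟨i, rfl⟩ := hx
    exact exists_mulVec_eq_smul Ψ v hv i
  | zero => exact ⟨0, by simp⟩
  | add x y _ _ hx hy =>
    obtain ⟨w1, h1⟩ := hx
    obtain ⟨w2, h2⟩ := hy
    exact ⟨w1 + w2, by rw [Matrix.mulVec_add, h1, h2, add_smul]⟩
  | smul a x _ hx =>
    obtain ⟨w1, h1⟩ := hx
    exact ⟨a • w1, by rw [Matrix.mulVec_smul, h1, smul_eq_mul, mul_smul]⟩

/-- **Exactness in the middle**, given a regular pair in the minor ideal. -/
theorem mem_range_of_regular_pair (x y : R) (hx : x ∈ Ideal.span (Set.range (D Ψ)))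
    (hy : y ∈ Ideal.span (Set.range (D Ψ))) (hxreg : ∀ r, x * r = 0 → r = 0)
    (hyreg : ∀ r, (∃ s, y * r = x * s) → ∃ c, r = x * c)
    (v : Fin (t + 1) → R)
    (hv : ∑ i : Fin (t + 1), (-1 : R) ^ (i : ℕ) * v i * D Ψ i = 0) :
    ∃ w : Fin t → R, Ψ.mulVec w = v := by
  obtain ⟨α, hα⟩ := exists_mulVec_eq_smul_of_mem Ψ v hv x hx
  obtain ⟨β, hβ⟩ := exists_mulVec_eq_smul_of_mem Ψ v hv y hy
  have h0 : Ψ.mulVec (y • α - x • β) = 0 := by
    rw [Matrix.mulVec_sub, Matrix.mulVec_smul, Matrix.mulVec_smul, hα, hβ, smul_smul, smul_smul,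
      mul_comm, sub_self]
  have h1 : x • (y • α - x • β) = 0 := smul_eq_zero_of_mem Ψ _ h0 x hx
  have h2 : ∀ l, y * α l = x * β l := by
    intro l
    have := congrFun h1 l
    simp only [Pi.smul_apply, Pi.sub_apply, smul_eq_mul, Pi.zero_apply] at this
    exact sub_eq_zero.mp (hxreg _ this)
  choose γ hγ using fun l => hyreg (α l) ⟨β l, h2 l⟩
  refine ⟨γ, ?_⟩
  have h3 : α = x • γ := funext fun l => by simp [hγ l]
  ext r
  have h4 : x * ((Ψ.mulVec γ) r - v r) = 0 := by
    have := congrFun hα r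
    rw [h3, Matrix.mulVec_smul] at this
    simp only [Pi.smul_apply, smul_eq_mul] at this
    rw [mul_sub, this, sub_self]
  exact sub_eq_zero.mp (hxreg _ h4)

end Groth.Agent.Lib.Helper15.HilbertBurch
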