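import Mathlib
import Groth.Agent.Lib.Helper13.SemiCont
import Groth.Agent.Lib.Helper15.EakinNagata
import Groth.Agent.S0560

/-!
# Invariants of a factorial local ring under a finite group: height-one primes with trivial
residue extension are principal.
-/

set_option autoImplicit false
set_option linter.style.haveILetI false
set_option linter.unusedSectionVars false

namespace Groth.Agent.Lib.Helper15.InvUFD

open scoped Pointwise TensorProduct

universe u

section basic

variable {A B G : Type u} [CommRing A] [IsDomain A]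
  [CommRing B] [Algebra B A] [FaithfulSMul B A] [Module.Finite B A]
  [Group G] [Finite G] [MulSemiringAction G A] [FaithfulSMul G A] [SMulCommClass G B A]
  [Algebra.IsInvariant B A G]

include G in
theorem isUnit_of_isUnit_map (b : B) (hb : IsUnit (algebraMap B A b)) : IsUnit b := by
  obtain ⟨a, ha⟩ := hb.exists_right_inv
  have hinv : ∀ g : G, g • a = a := by
    intro g
    have h1 : algebraMap B A b * g • a = 1 := by
      have := congrArg (g • ·) ha
      simp only [smul_mul', smul_one] at this
      rwa [smul_algebraMap] at this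
    have hne : algebraMap B A b ≠ 0 := hb.ne_zero
    exact mul_left_cancel₀ hne (h1.trans ha.symm)
  obtain ⟨c, rfl⟩ := Algebra.IsInvariant.isInvariant (A := B) (G := G) a hinv
  rw [← map_mul, ← map_one (algebraMap B A)] at ha
  exact IsUnit.of_mul_eq_one c (FaithfulSMul.algebraMap_injective B A ha)

include G in
theorem isLocalRing [IsLocalRing A] : IsLocalRing B := by
  haveI : IsDomain B := IsDomain.of_faithfulSMul B A
  refine IsLocalRing.of_nonunits_add ?_
  intro a b ha hb
  have ha' : algebraMap B A a ∈ nonunits A := fun h => ha (isUnit_of_isUnit_map (G := G) a h)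
  have hb' : algebraMap B A b ∈ nonunits A := fun h => hb (isUnit_of_isUnit_map (G := G) b h)
  intro hab
  exact IsLocalRing.nonunits_add ha' hb' (by simpa using hab.map (algebraMap B A))

theorem isNoetherianRing [IsNoetherianRing A] : IsNoetherianRing B :=
  Groth.Agent.Lib.Helper15.EakinNagata.isNoetherianRing_of_finite B A

include G in
theorem isGaloisGroup : IsGaloisGroup G B A := ⟨inferInstance, inferInstance, inferInstance⟩

include G in
/-- `|G| ≤ dim_{κ(q)} (κ(q) ⊗ A)` -/
theorem card_le_finrank_fiber (q : Ideal B) [q.IsPrime] :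
    Nat.card G ≤ Module.finrank q.ResidueField (q.Fiber A) := by
  haveI := isGaloisGroup (A := A) (B := B) (G := G)
  haveI : IsDomain B := IsDomain.of_faithfulSMul B A
  rw [IsGaloisGroup.card_eq_finrank' G B A,
    ← (TensorProduct.isBaseChange B A (FractionRing B)).finrank_eq]
  refine Groth.Agent.Lib.Helper13.SemiCont.finrank_tensor_le q (FractionRing B) ?_
  intro a ha h0
  apply ha
  have : a = 0 := by
    apply IsFractionRing.injective B (FractionRing B)
    rw [h0, map_zero]
  rw [this]; exact zero_mem _

include G in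
/-- `|Stab(p)| ≤ e(p|q) * f(p|q)` -/
theorem card_stabilizer_le (q : Ideal B) [q.IsPrime] (p : Ideal A) [p.IsPrime] [p.LiesOver q] :
    Nat.card (MulAction.stabilizer G p) ≤ p.ramificationIdx B * p.inertiaDeg B := by
  haveI := isGaloisGroup (A := A) (B := B) (G := G)
  haveI : Fintype (q.primesOver A) := (Algebra.QuasiFinite.finite_primesOver q).fintype
  have h1 := card_le_finrank_fiber (A := A) (G := G) q
  rw [← Ideal.sum_ramification_inertia_eq_finrank_fiber] at h1
  have h2 : ∑ P : q.primesOver A, P.1.ramificationIdx B * P.1.inertiaDeg B =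
      ∑ _P : q.primesOver A, p.ramificationIdx B * p.inertiaDeg B := by
    apply Finset.sum_congr rfl
    intro P _
    haveI := P.2.1
    haveI := P.2.2
    rw [Ideal.ramificationIdx_eq_of_isGaloisGroup q P.1 p G,
      Ideal.inertiaDeg_eq_of_isGaloisGroup q P.1 p G]
  rw [h2, Finset.sum_const, Finset.card_univ, smul_eq_mul] at h1
  have h3 : Nat.card (MulAction.orbit G p) * Nat.card (MulAction.stabilizer G p) = Nat.card G := by
    simpa using Nat.card_congr (MulAction.orbitProdStabilizerEquivGroup G p)
  have h4 : Nat.card (MulAction.orbit G p) = Fintype.card (q.primesOver A) := by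
    rw [← Nat.card_eq_fintype_card]
    exact Nat.card_congr (Equiv.setCongr (Algebra.IsInvariant.orbit_eq_primesOver B A G q p))
  rw [← h3, h4] at h1
  have hpos : 0 < Fintype.card (q.primesOver A) :=
    Fintype.card_pos_iff.mpr ⟨⟨p, inferInstance, inferInstance⟩⟩
  exact Nat.le_of_mul_le_mul_left h1 hpos

omit [IsDomain A] [FaithfulSMul B A] [Module.Finite B A] in
/-- trivial residue field extension gives inertia degree one -/
theorem inertiaDeg_eq_one (q : Ideal B) [q.IsPrime] (p : Ideal A) [p.IsPrime] [p.LiesOver q]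
    (hres : ∀ a : A, ∃ b c : B, c ∉ q ∧ algebraMap B A c * a - algebraMap B A b ∈ p) :
    p.inertiaDeg B = 1 := by
  letI := Localization.AtPrime.algebraOfLiesOver q p
  rw [Ideal.inertiaDeg_eq q p]
  have himg : ∀ a : A, ∃ z : q.ResidueField,
      algebraMap q.ResidueField p.ResidueField z = algebraMap A p.ResidueField a := by
    intro a
    obtain ⟨b, c, hc, hmem⟩ := hres a
    have h0 : algebraMap A p.ResidueField (algebraMap B A c * a - algebraMap B A b) = 0 :=
      (Ideal.algebraMap_residueField_eq_zero).mpr hmem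
    rw [map_sub, map_mul, sub_eq_zero] at h0
    have hc0 : algebraMap B q.ResidueField c ≠ 0 := by
      rw [Ne, Ideal.algebraMap_residueField_eq_zero]; exact hc
    have hcomp : ∀ x : B, algebraMap A p.ResidueField (algebraMap B A x) =
        algebraMap q.ResidueField p.ResidueField (algebraMap B q.ResidueField x) := by
      intro x
      rw [← IsScalarTower.algebraMap_apply B A p.ResidueField,
        ← IsScalarTower.algebraMap_apply B q.ResidueField p.ResidueField]
    refine ⟨algebraMap B q.ResidueField b / algebraMap B q.ResidueField c, ?_⟩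
    rw [map_div₀, ← hcomp, ← hcomp, ← h0]
    have hc0' : algebraMap A p.ResidueField (algebraMap B A c) ≠ 0 := by
      rw [hcomp]; exact (map_ne_zero _).mpr hc0
    field_simp
  have hsurj : Function.Surjective (algebraMap q.ResidueField p.ResidueField) := by
    intro y
    obtain ⟨x, s, -, rfl⟩ := IsFractionRing.div_surjective (A := A ⧸ p) y
    obtain ⟨x, rfl⟩ := Ideal.Quotient.mk_surjective x
    obtain ⟨s, rfl⟩ := Ideal.Quotient.mk_surjective s
    obtain ⟨z1, hz1⟩ := himg x
    obtain ⟨z2, hz2⟩ := himg s
    refine ⟨z1 / z2, ?_⟩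
    rw [map_div₀, hz1, hz2]
    rfl
  exact (LinearEquiv.ofBijective (Algebra.linearMap q.ResidueField p.ResidueField)
    ⟨(algebraMap q.ResidueField p.ResidueField).injective, hsurj⟩).finrank_eq.symm.trans
    (Module.finrank_self _)

omit [FaithfulSMul B A] [Module.Finite B A] [Finite G] [FaithfulSMul G A]
  [SMulCommClass G B A] [Algebra.IsInvariant B A G] in
/-- ramification index is bounded by the order of vanishing of any element of `q` -/
theorem ramificationIdx_le [IsNoetherianRing A] (q : Ideal B) [q.IsPrime] (p : Ideal A)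
    [p.IsPrime] [p.LiesOver q] (f : A) (hf : Prime f) (hp : p = Ideal.span {f})
    (b : B) (hb : b ∈ q) (n : ℕ) (c : A) (hbc : algebraMap B A b = f ^ n * c) (hc : ¬ f ∣ c) :
    p.ramificationIdx B ≤ n := by
  let Sp := Localization.AtPrime p
  have hcp : c ∉ p := by
    rw [hp, Ideal.mem_span_singleton]; exact hc
  have hmax : IsLocalRing.maximalIdeal Sp = Ideal.span {algebraMap A Sp f} := by
    rw [← Localization.AtPrime.map_eq_maximalIdeal]
    have : Ideal.map (algebraMap A Sp) p = Ideal.map (algebraMap A Sp) (Ideal.span {f}) :=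
      congrArg (Ideal.map (algebraMap A Sp)) hp
    rw [this, Ideal.map_span, Set.image_singleton]
  have hf0 : algebraMap A Sp f ≠ 0 := by
    intro h
    have hinj : Function.Injective (algebraMap A Sp) :=
      IsLocalization.injective Sp p.primeCompl_le_nonZeroDivisors
    exact hf.ne_zero (hinj (h.trans (map_zero _).symm))
  have hnf : ¬ IsField Sp := by
    rw [IsLocalRing.isField_iff_maximalIdeal_eq, hmax, Ideal.span_singleton_eq_bot]
    exact hf0
  haveI : IsDiscreteValuationRing Sp :=
    ((IsDiscreteValuationRing.TFAE Sp hnf).out 0 4).mpr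
      (⟨⟨algebraMap A Sp f, hmax⟩⟩ : Submodule.IsPrincipal (IsLocalRing.maximalIdeal Sp))
  rw [Ideal.ramificationIdx_eq q p]
  have hle : IsLocalRing.maximalIdeal Sp ^ n ≤ q.map (algebraMap B Sp) := by
    rw [hmax, Ideal.span_singleton_pow, Ideal.span_singleton_le_iff_mem]
    have hunit : IsUnit (algebraMap A Sp c) :=
      IsLocalization.map_units Sp (⟨c, hcp⟩ : p.primeCompl)
    have h1 : algebraMap B Sp b ∈ q.map (algebraMap B Sp) := Ideal.mem_map_of_mem _ hb
    rw [IsScalarTower.algebraMap_apply B A Sp, hbc, map_mul, map_pow] at h1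
    exact (Ideal.mul_unit_mem_iff_mem _ hunit).mp h1
  have hlen : Module.length Sp (Sp ⧸ q.map (algebraMap B Sp)) ≤ n := by
    rw [Module.length_quotient]
    calc Order.coheight (q.map (algebraMap B Sp))
        ≤ Order.coheight (IsLocalRing.maximalIdeal Sp ^ n) := Order.coheight_anti hle
      _ = n := IsDiscreteValuationRing.coheight_pow_maximalIdeal Sp n
  exact ENat.toNat_le_of_le_natCast hlen

end basic

section main

variable {A B G : Type u} [CommRing A] [IsDomain A] [IsNoetherianRing A]
  [UniqueFactorizationMonoid A]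
  [CommRing B] [Algebra B A] [FaithfulSMul B A] [Module.Finite B A]
  [Group G] [Finite G] [MulSemiringAction G A] [FaithfulSMul G A] [SMulCommClass G B A]
  [Algebra.IsInvariant B A G]

include G in
/-- a height-one prime lying over a height-one prime in a UFD is generated by a prime element -/
theorem exists_prime_gen (q : Ideal B) [q.IsPrime] (hq : q.height = 1) (p : Ideal A) [p.IsPrime]
    [p.LiesOver q] : ∃ f : A, Prime f ∧ p = Ideal.span {f} := by
  haveI : IsDomain B := IsDomain.of_faithfulSMul B A
  haveI : Algebra.IsIntegral B A := Algebra.IsIntegral.of_finite B A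
  have hqbot : q ≠ ⊥ := Ideal.ne_bot_of_height_eq_one hq
  have hpbot : p ≠ ⊥ := by
    rintro rfl
    apply hqbot
    rw [Ideal.LiesOver.over (p := q) (P := (⊥ : Ideal A)), Ideal.under,
      Ideal.comap_bot_of_injective _ (FaithfulSMul.algebraMap_injective B A)]
  obtain ⟨f, hfp, hf⟩ := Ideal.IsPrime.exists_mem_prime_of_ne_bot inferInstance hpbot
  refine ⟨f, hf, ?_⟩
  have hle : Ideal.span {f} ≤ p := (Ideal.span_singleton_le_iff_mem p).mpr hfp
  by_contra hne
  have hlt : Ideal.span {f} < p := lt_of_le_of_ne hle (fun h => hne h.symm)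
  haveI hprime : (Ideal.span {f}).IsPrime := (Ideal.span_singleton_prime hf.ne_zero).mpr hf
  obtain ⟨x, hxp, hxf⟩ := Set.exists_of_ssubset hlt
  have hlt' := Ideal.comap_lt_comap_of_integral_mem_sdiff (R := B) hle
    (⟨hxp, hxf⟩ : x ∈ (p : Set A) \ (Ideal.span {f} : Ideal A))
    (Algebra.IsIntegral.isIntegral x)
  rw [← Ideal.under, ← Ideal.under, ← Ideal.LiesOver.over (p := q) (P := p)] at hlt'
  have h1 := Ideal.height_add_one_le_of_lt_of_isPrime hlt'
  rw [hq] at h1
  have h0 : ((Ideal.span {f} : Ideal A).under B).height = 0 := by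
    by_contra h
    have : 1 ≤ ((Ideal.span {f} : Ideal A).under B).height := Order.one_le_iff_ne_zero.mpr h
    have h2 : (1 : ℕ∞) + 1 ≤ 1 := (add_le_add_left this 1).trans h1
    exact absurd h2 (by decide)
  rw [Ideal.height_eq_zero_iff_eq_bot] at h0
  have := Ideal.eq_bot_of_comap_eq_bot (R := B) h0
  rw [Ideal.span_singleton_eq_bot] at this
  exact hf.ne_zero this

include G in
theorem pow_card_stabilizer_dvd (q : Ideal B) [q.IsPrime] (p : Ideal A) [p.IsPrime]
    [p.LiesOver q]
    (hres : ∀ a : A, ∃ b c : B, c ∉ q ∧ algebraMap B A c * a - algebraMap B A b ∈ p)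
    (f : A) (hf : Prime f) (hp : p = Ideal.span {f}) (b : B) (hb : b ∈ q) :
    f ^ Nat.card (MulAction.stabilizer G p) ∣ algebraMap B A b := by
  by_cases hb0 : b = 0
  · simp [hb0]
  have hbA : algebraMap B A b ≠ 0 :=
    (map_ne_zero_iff _ (FaithfulSMul.algebraMap_injective B A)).mpr hb0
  have hfin : FiniteMultiplicity f (algebraMap B A b) := FiniteMultiplicity.of_prime_left hf hbA
  obtain ⟨c, hbc, hc⟩ := hfin.exists_eq_pow_mul_and_not_dvd
  have h1 := ramificationIdx_le q p f hf hp b hb _ c hbc hc
  have h2 := card_stabilizer_le (G := G) q p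
  rw [inertiaDeg_eq_one q p hres, mul_one] at h2
  exact (pow_dvd_pow f (h2.trans h1)).trans (Dvd.intro _ hbc.symm)

omit [IsNoetherianRing A] [UniqueFactorizationMonoid A] [Finite G] in
theorem prime_smul (σ : G) (f : A) (hf : Prime f) : Prime (σ • f) :=
  (MulEquiv.prime_iff (MulSemiringAction.toRingEquiv G A σ).toMulEquiv).mpr hf

omit [IsNoetherianRing A] [UniqueFactorizationMonoid A] [Finite G] in
theorem mem_stabilizer_iff_dvd (p : Ideal A) (f : A) (hf : Prime f) (hp : p = Ideal.span {f})
    (ρ : G) : ρ ∈ MulAction.stabilizer G p ↔ f ∣ ρ • f := by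
  have hsm : ρ • p = Ideal.span {ρ • f} := by
    rw [Ideal.pointwise_smul_def, hp, Ideal.map_span, Set.image_singleton]
    rfl
  rw [MulAction.mem_stabilizer_iff, hsm]
  constructor
  · intro h
    have : ρ • f ∈ p := by rw [← h]; exact Ideal.mem_span_singleton_self _
    rwa [hp, Ideal.mem_span_singleton] at this
  · intro h
    rw [hp, Ideal.span_singleton_eq_span_singleton]
    exact (hf.associated_of_dvd (prime_smul ρ f hf) h).symm

omit [IsNoetherianRing A] [UniqueFactorizationMonoid A] in
/-- `f` divides the norm `∏ σ f` exactly `|Stab p|` times -/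
theorem emultiplicity_norm [Fintype G] (p : Ideal A) (f : A) (hf : Prime f)
    (hp : p = Ideal.span {f}) :
    emultiplicity f (∏ σ : G, σ • f) = Nat.card (MulAction.stabilizer G p) := by
  classical
  rw [Finset.emultiplicity_prod hf]
  have hterm : ∀ σ : G, emultiplicity f (σ • f) =
      if σ ∈ MulAction.stabilizer G p then 1 else 0 := by
    intro σ
    split_ifs with h
    · have hdvd := (mem_stabilizer_iff_dvd p f hf hp σ).mp h
      have hassoc := hf.associated_of_dvd (prime_smul σ f hf) hdvd
      rw [emultiplicity_eq_of_associated_left hassoc.symm]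
      simpa using emultiplicity_pow_self_of_prime (prime_smul σ f hf) 1
    · rw [emultiplicity_eq_zero]
      exact fun hdvd => h ((mem_stabilizer_iff_dvd p f hf hp σ).mpr hdvd)
  rw [Finset.sum_congr rfl (fun σ _ => hterm σ), Finset.sum_boole,
    Nat.card_eq_fintype_card, Fintype.card_subtype]

omit [IsNoetherianRing A] [UniqueFactorizationMonoid A] [Finite G] in
theorem smul_norm [Fintype G] (f : A) (τ : G) : τ • (∏ σ : G, σ • f) = ∏ σ : G, σ • f := by
  have h1 : τ • (∏ σ : G, σ • f) = ∏ σ : G, τ • σ • f :=
    map_prod (MulSemiringAction.toRingHom G A τ) _ _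
  rw [h1]
  exact Fintype.prod_equiv (Equiv.mulLeft τ) _ _ (fun σ => by simp [mul_smul])

include G in
omit [IsNoetherianRing A] in
/-- the norm of `f` divides every element vanishing to order `|Stab p|` along `p` -/
theorem norm_dvd [Fintype G] (p : Ideal A) (f : A) (hf : Prime f) (hp : p = Ideal.span {f})
    (x : A) (hx : ∀ τ : G, τ • x = x)
    (hdvd : f ^ Nat.card (MulAction.stabilizer G p) ∣ x) :
    (∏ σ : G, σ • f) ∣ x := by
  have hN0 : (∏ σ : G, σ • f) ≠ 0 :=
    Finset.prod_ne_zero_iff.mpr (fun σ _ => (prime_smul σ f hf).ne_zero)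
  rw [UniqueFactorizationMonoid.dvd_iff_emultiplicity_le hN0]
  intro π hπ
  by_cases h : ∃ τ : G, π ∣ τ • f
  · obtain ⟨τ, hτ⟩ := h
    have hassoc := hπ.associated_of_dvd (prime_smul τ f hf) hτ
    have key : ∀ y : A, τ • y = y → emultiplicity π y = emultiplicity f y := by
      intro y hy
      rw [emultiplicity_eq_of_associated_left hassoc.symm]
      conv_lhs => rw [← hy]
      exact emultiplicity_map_eq (MulSemiringAction.toRingEquiv G A τ)
    rw [key _ (smul_norm f τ), key _ (hx τ), emultiplicity_norm p f hf hp]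
    exact le_emultiplicity_of_pow_dvd hdvd
  · push Not at h
    rw [Finset.emultiplicity_prod hπ]
    rw [Finset.sum_eq_zero (fun σ _ => emultiplicity_eq_zero.mpr (h σ))]
    exact zero_le

include G in
/-- **Main theorem**: `q` is generated by the norm of `f`. -/
theorem exists_gen (q : Ideal B) [q.IsPrime] (hq : q.height = 1) (p : Ideal A) [p.IsPrime]
    [p.LiesOver q]
    (hres : ∀ a : A, ∃ b c : B, c ∉ q ∧ algebraMap B A c * a - algebraMap B A b ∈ p) :
    ∃ b₀ : B, b₀ ≠ 0 ∧ q = Ideal.span {b₀} := by
  classical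
  haveI : Fintype G := Fintype.ofFinite G
  obtain ⟨f, hf, hp⟩ := exists_prime_gen (G := G) q hq p
  have hN0 : (∏ σ : G, σ • f) ≠ 0 :=
    Finset.prod_ne_zero_iff.mpr (fun σ _ => (prime_smul σ f hf).ne_zero)
  obtain ⟨b₀, hb₀⟩ := Algebra.IsInvariant.isInvariant (A := B) (G := G) (∏ σ : G, σ • f)
    (smul_norm f)
  have hinj := FaithfulSMul.algebraMap_injective B A
  have hb₀q : b₀ ∈ q := by
    rw [Ideal.LiesOver.over (p := q) (P := p), Ideal.under, Ideal.mem_comap, hb₀, hp,
      Ideal.mem_span_singleton]
    have := Finset.dvd_prod_of_mem (fun σ : G => σ • f) (Finset.mem_univ (1 : G))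
    simpa using this
  refine ⟨b₀, fun h => hN0 (by rw [← hb₀, h, map_zero]), le_antisymm ?_ ?_⟩
  · intro b hb
    have hdvd := pow_card_stabilizer_dvd (G := G) q p hres f hf hp b hb
    have hinv : ∀ τ : G, τ • algebraMap B A b = algebraMap B A b := fun τ => smul_algebraMap τ b
    obtain ⟨c, hc⟩ := norm_dvd (G := G) p f hf hp _ hinv hdvd
    have hcinv : ∀ τ : G, τ • c = c := by
      intro τ
      have h1 : (∏ σ : G, σ • f) * τ • c = (∏ σ : G, σ • f) * c := by
        rw [← hc]
        have := congrArg (τ • ·) hc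
        simp only [smul_mul', smul_norm] at this
        rw [← this, hinv]
      exact mul_left_cancel₀ hN0 h1
    obtain ⟨c₀, rfl⟩ := Algebra.IsInvariant.isInvariant (A := B) (G := G) c hcinv
    rw [Ideal.mem_span_singleton]
    refine ⟨c₀, hinj ?_⟩
    rw [hc, ← hb₀, map_mul]
  · rw [Ideal.span_singleton_le_iff_mem]; exact hb₀q

end main

end Groth.Agent.Lib.Helper15.InvUFD
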