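import Groth.Prelude.Def_CInt
import Mathlib.RingTheory.Nakayama
import Mathlib.RingTheory.Regular.RegularSequence
import Mathlib.RingTheory.Noetherian.Basic

/-!
# First Koszul homology in explicit form (helper15)

`CInt.KoszulH1Zero f M` says every relation `∑ f i • m i = 0` is a combination of the trivial ones.
We prove: (1) over a Noetherian ring, for `f` in the Jacobson radical and `M` finite,
`KoszulH1Zero f M` implies `f` weakly regular on `M`; (2) a weakly regular sequence has
`KoszulH1Zero` (any module); (3) transfer of `KoszulH1Zero` to a quotient in a short exact sequence.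
-/

set_option autoImplicit false

namespace Groth.Agent.Lib.Helper15.Koszul

universe u v

variable {A : Type u} [CommRing A]

section Basic

variable {n : ℕ} (f : Fin n → A) (M : Type v) [AddCommGroup M] [Module A M]

/-- The map `m ↦ ∑ f i • m i`. -/
def relMap : (Fin n → M) →ₗ[A] M := ∑ i, f i • (LinearMap.proj i : (Fin n → M) →ₗ[A] M)

theorem relMap_apply (m : Fin n → M) : relMap f M m = ∑ i, f i • m i := by
  simp [relMap]

/-- The set of trivial (Koszul) relations. -/
def trivSet : Set (Fin n → M) :=
  {v | ∃ (i j : Fin n) (x : M),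
    v = f j • (Pi.single i x : Fin n → M) - f i • (Pi.single j x : Fin n → M)}

theorem koszulH1Zero_iff :
    CInt.KoszulH1Zero f M ↔ LinearMap.ker (relMap f M) ≤ Submodule.span A (trivSet f M) := by
  constructor
  · intro h m hm
    rw [LinearMap.mem_ker, relMap_apply] at hm
    exact h m hm
  · intro h m hm
    apply h
    rw [LinearMap.mem_ker, relMap_apply]
    exact hm

theorem relMap_single (i : Fin n) (x : M) : relMap f M (Pi.single i x) = f i • x := by
  classical
  rw [relMap_apply, Finset.sum_eq_single i]
  · simp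
  · intro j _ hj
    simp [Pi.single_eq_of_ne hj]
  · simp

theorem triv_le_ker : Submodule.span A (trivSet f M) ≤ LinearMap.ker (relMap f M) := by
  rw [Submodule.span_le]
  rintro _ ⟨i, j, x, rfl⟩
  rw [SetLike.mem_coe, LinearMap.mem_ker, map_sub, map_smul, map_smul, relMap_single, relMap_single,
    smul_smul, smul_smul, mul_comm, sub_self]

/-- `(f) M` as the range of `relMap`. -/
theorem smul_top_eq_range :
    (Ideal.span (Set.range f) • ⊤ : Submodule A M) = LinearMap.range (relMap f M) := by
  apply le_antisymm
  · rw [Submodule.smul_le]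
    intro r hr m _
    induction hr using Submodule.span_induction with
    | mem r hr =>
      obtain ⟨i, rfl⟩ := hr
      exact ⟨Pi.single i m, relMap_single f M i m⟩
    | zero => simp
    | add a b _ _ ha hb => rw [add_smul]; exact Submodule.add_mem _ ha hb
    | smul a b _ hb => rw [smul_eq_mul, mul_smul]; exact Submodule.smul_mem _ a hb
  · rintro _ ⟨m, rfl⟩
    rw [relMap_apply]
    exact Submodule.sum_mem _ fun i _ =>
      Submodule.smul_mem_smul (Ideal.subset_span ⟨i, rfl⟩) Submodule.mem_top

theorem ofList_ofFn : Ideal.ofList (List.ofFn f) = Ideal.span (Set.range f) := by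
  unfold Ideal.ofList
  congr 1
  ext a
  simp [List.mem_ofFn]

end Basic

section Snoc

variable {n : ℕ} (f : Fin (n + 1) → A) (M : Type v) [AddCommGroup M] [Module A M]

theorem single_castSucc_castSucc (i k : Fin n) (x : M) :
    (Pi.single (Fin.castSucc i) x : Fin (n + 1) → M) (Fin.castSucc k) = (Pi.single i x : Fin n → M) k := by
  by_cases h : k = i
  · subst h; simp
  · rw [Pi.single_eq_of_ne h, Pi.single_eq_of_ne]
    exact fun h' => h (Fin.castSucc_injective _ h')

theorem single_castSucc_last (i : Fin n) (x : M) :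
    (Pi.single (Fin.castSucc i) x : Fin (n + 1) → M) (Fin.last n) = 0 := by
  rw [Pi.single_apply, if_neg (Fin.castSucc_lt_last i).ne']

theorem single_last_castSucc (k : Fin n) (x : M) :
    (Pi.single (Fin.last n) x : Fin (n + 1) → M) (Fin.castSucc k) = 0 := by
  rw [Pi.single_apply, if_neg (Fin.castSucc_lt_last k).ne]

theorem relMap_snoc (m : Fin (n + 1) → M) :
    relMap f M m = relMap (fun i => f (Fin.castSucc i)) M (fun i => m (Fin.castSucc i)) +
      f (Fin.last n) • m (Fin.last n) := by
  rw [relMap_apply, relMap_apply, Fin.sum_univ_castSucc]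

/-- Decomposition of a trivial relation of `f = (f', g)`. -/
theorem triv_decomp (v : Fin (n + 1) → M) (hv : v ∈ Submodule.span A (trivSet f M)) :
    ∃ t' ∈ Submodule.span A (trivSet (fun i => f (Fin.castSucc i)) M), ∃ x' : Fin n → M,
      (fun i => v (Fin.castSucc i)) = t' + f (Fin.last n) • x' ∧
      v (Fin.last n) = - relMap (fun i => f (Fin.castSucc i)) M x' := by
  induction hv using Submodule.span_induction with
  | mem v hv =>
    obtain ⟨i, j, x, rfl⟩ := hv
    induction i using Fin.lastCases with
    | last =>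
      induction j using Fin.lastCases with
      | last =>
        refine ⟨0, Submodule.zero_mem _, 0, ?_, ?_⟩
        · ext k; simp
        · simp
      | cast j =>
        refine ⟨0, Submodule.zero_mem _, - Pi.single j x, ?_, ?_⟩
        · ext k
          simp only [Pi.sub_apply, Pi.smul_apply, single_last_castSucc, smul_zero,
            single_castSucc_castSucc, zero_sub, zero_add, Pi.neg_apply, smul_neg, Pi.add_apply,
            Pi.zero_apply]
        · simp only [Pi.sub_apply, Pi.smul_apply, Pi.single_eq_same, single_castSucc_last, smul_zero,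
            sub_zero, map_neg, relMap_single, neg_neg]
    | cast i =>
      induction j using Fin.lastCases with
      | last =>
        refine ⟨0, Submodule.zero_mem _, Pi.single i x, ?_, ?_⟩
        · ext k
          simp only [Pi.sub_apply, Pi.smul_apply, single_last_castSucc, smul_zero,
            single_castSucc_castSucc, sub_zero, zero_add, Pi.add_apply, Pi.zero_apply]
        · simp only [Pi.sub_apply, Pi.smul_apply, Pi.single_eq_same, single_castSucc_last, smul_zero,
            zero_sub, relMap_single]
      | cast j =>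
        refine ⟨f (Fin.castSucc j) • (Pi.single i x : Fin n → M) -
          f (Fin.castSucc i) • (Pi.single j x : Fin n → M),
          Submodule.subset_span ⟨i, j, x, rfl⟩, 0, ?_, ?_⟩
        · ext k
          simp only [Pi.sub_apply, Pi.smul_apply, single_castSucc_castSucc, smul_zero, add_zero]
        · simp only [Pi.sub_apply, Pi.smul_apply, single_castSucc_last, smul_zero, sub_zero,
            map_zero, neg_zero]
  | zero =>
    refine ⟨0, Submodule.zero_mem _, 0, ?_, ?_⟩
    · ext k; simp
    · simp
  | add a b _ _ ha hb =>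
    obtain ⟨ta, hta, xa, ha1, ha2⟩ := ha
    obtain ⟨tb, htb, xb, hb1, hb2⟩ := hb
    refine ⟨ta + tb, Submodule.add_mem _ hta htb, xa + xb, ?_, ?_⟩
    · have : (fun i => (a + b) (Fin.castSucc i)) =
          (fun i => a (Fin.castSucc i)) + (fun i => b (Fin.castSucc i)) := rfl
      rw [this, ha1, hb1, smul_add]
      abel
    · rw [Pi.add_apply, ha2, hb2, map_add, neg_add]
  | smul c a _ ha =>
    obtain ⟨ta, hta, xa, ha1, ha2⟩ := ha
    refine ⟨c • ta, Submodule.smul_mem _ c hta, c • xa, ?_, ?_⟩
    · have : (fun i => (c • a) (Fin.castSucc i)) = c • (fun i => a (Fin.castSucc i)) := rfl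
      rw [this, ha1, smul_add, smul_comm]
    · rw [Pi.smul_apply, ha2, map_smul, smul_neg]

variable {f M}

/-- Claim B: the last element is regular modulo the previous ones. -/
theorem isSMulRegular_last_of_koszulH1Zero (h : CInt.KoszulH1Zero f M) :
    IsSMulRegular (M ⧸ (Ideal.span (Set.range fun i => f (Fin.castSucc i)) • ⊤ : Submodule A M))
      (f (Fin.last n)) := by
  rw [isSMulRegular_quotient_iff_mem_of_smul_mem]
  intro y hy
  rw [smul_top_eq_range] at hy ⊢
  obtain ⟨z, hz⟩ := hy
  have hv : (Fin.snoc z (-y) : Fin (n + 1) → M) ∈ LinearMap.ker (relMap f M) := by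
    rw [LinearMap.mem_ker, relMap_snoc]
    simp only [Fin.snoc_castSucc, Fin.snoc_last, smul_neg]
    rw [hz, add_neg_cancel]
  have hv' := (koszulH1Zero_iff f M).mp h hv
  obtain ⟨t', _, x', _, h2⟩ := triv_decomp f M _ hv'
  rw [Fin.snoc_last, neg_inj] at h2
  exact ⟨x', h2.symm⟩

/-- Claim A + Nakayama. -/
theorem koszulH1Zero_init [IsNoetherianRing A] [Module.Finite A M]
    (hrad : f (Fin.last n) ∈ (⊥ : Ideal A).jacobson) (h : CInt.KoszulH1Zero f M) :
    CInt.KoszulH1Zero (fun i => f (Fin.castSucc i)) M := by
  rw [koszulH1Zero_iff]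
  set f' := fun i => f (Fin.castSucc i) with hf'
  have hfg : (LinearMap.ker (relMap f' M)).FG := IsNoetherian.noetherian _
  refine Submodule.le_of_le_smul_of_le_jacobson_bot (I := Ideal.span {f (Fin.last n)}) hfg
    ((Ideal.span_singleton_le_iff_mem _).mpr hrad) ?_
  intro m' hm'
  have hv : (Fin.snoc m' 0 : Fin (n + 1) → M) ∈ LinearMap.ker (relMap f M) := by
    rw [LinearMap.mem_ker, relMap_snoc]
    simp only [Fin.snoc_castSucc, Fin.snoc_last, smul_zero, add_zero]
    exact hm'
  have hv' := (koszulH1Zero_iff f M).mp h hv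
  obtain ⟨t', ht', x', h1, h2⟩ := triv_decomp f M _ hv'
  simp only [Fin.snoc_castSucc] at h1
  rw [Fin.snoc_last, eq_comm, neg_eq_zero] at h2
  have h1' : m' = t' + f (Fin.last n) • x' := h1
  rw [h1']
  refine Submodule.add_mem_sup ht' ?_
  exact Submodule.smul_mem_smul (Ideal.mem_span_singleton_self _) (LinearMap.mem_ker.mpr h2)

end Snoc

/-- **Vanishing of `H₁` implies weakly regular** (Noetherian ring, `f` in the radical, `M` finite). -/
theorem isWeaklyRegular_of_koszulH1Zero [IsNoetherianRing A] {M : Type v} [AddCommGroup M]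
    [Module A M] [Module.Finite A M] :
    ∀ {n : ℕ} (f : Fin n → A), (∀ i, f i ∈ (⊥ : Ideal A).jacobson) → CInt.KoszulH1Zero f M →
      RingTheory.Sequence.IsWeaklyRegular M (List.ofFn f) := by
  intro n
  induction n with
  | zero =>
    intro f _ _
    rw [List.ofFn_zero]
    exact RingTheory.Sequence.IsWeaklyRegular.nil A M
  | succ n ih =>
    intro f hrad h
    rw [List.ofFn_succ', List.concat_eq_append, RingTheory.Sequence.isWeaklyRegular_append_iff]
    refine ⟨ih _ (fun i => hrad _) (koszulH1Zero_init (hrad _) h), ?_⟩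
    rw [RingTheory.Sequence.isWeaklyRegular_singleton_iff, ofList_ofFn]
    exact isSMulRegular_last_of_koszulH1Zero h

section Naturality

variable {n : ℕ} (f : Fin n → A) {M : Type v} [AddCommGroup M] [Module A M]
  {N : Type v} [AddCommGroup N] [Module A N] (q : M →ₗ[A] N)

theorem relMap_compLeft (w : Fin n → M) :
    relMap f N (q.compLeft (Fin n) w) = q (relMap f M w) := by
  simp [relMap_apply, map_sum]

theorem compLeft_single (i : Fin n) (x : M) :
    q.compLeft (Fin n) (Pi.single i x) = Pi.single i (q x) := by
  ext k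
  by_cases h : k = i
  · subst h; simp
  · simp [Pi.single_eq_of_ne h]

theorem map_triv_le :
    (Submodule.span A (trivSet f M)).map (q.compLeft (Fin n)) ≤ Submodule.span A (trivSet f N) := by
  rw [Submodule.map_span, Submodule.span_le]
  rintro _ ⟨_, ⟨i, j, x, rfl⟩, rfl⟩
  apply Submodule.subset_span
  refine ⟨i, j, q x, ?_⟩
  rw [map_sub, map_smul, map_smul, compLeft_single, compLeft_single]

theorem triv_le_map (hq : Function.Surjective q) :
    Submodule.span A (trivSet f N) ≤ (Submodule.span A (trivSet f M)).map (q.compLeft (Fin n)) := by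
  rw [Submodule.span_le]
  rintro _ ⟨i, j, y, rfl⟩
  obtain ⟨x, rfl⟩ := hq y
  refine ⟨f j • (Pi.single i x : Fin n → M) - f i • (Pi.single j x : Fin n → M),
    Submodule.subset_span ⟨i, j, x, rfl⟩, ?_⟩
  rw [map_sub, map_smul, map_smul, compLeft_single, compLeft_single]

end Naturality

section Cons

variable {n : ℕ} (f : Fin (n + 1) → A) (M : Type v) [AddCommGroup M] [Module A M]

theorem relMap_cons (m : Fin (n + 1) → M) :
    relMap f M m = f 0 • m 0 + relMap (fun j => f (Fin.succ j)) M (fun j => m (Fin.succ j)) := by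
  rw [relMap_apply, relMap_apply, Fin.sum_univ_succ]

theorem single_succ_succ (i k : Fin n) (x : M) :
    (Pi.single (Fin.succ i) x : Fin (n + 1) → M) (Fin.succ k) = (Pi.single i x : Fin n → M) k := by
  by_cases h : k = i
  · subst h; simp
  · rw [Pi.single_eq_of_ne h, Pi.single_apply, if_neg]
    exact fun h' => h (Fin.succ_injective _ h')

theorem single_succ_zero (i : Fin n) (x : M) :
    (Pi.single (Fin.succ i) x : Fin (n + 1) → M) 0 = 0 := by
  rw [Pi.single_apply, if_neg (Fin.succ_ne_zero i).symm]

theorem single_zero_succ (k : Fin n) (x : M) :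
    (Pi.single (0 : Fin (n + 1)) x : Fin (n + 1) → M) (Fin.succ k) = 0 := by
  rw [Pi.single_apply, if_neg (Fin.succ_ne_zero k)]

theorem cons_zero_mem_triv (t : Fin n → M)
    (ht : t ∈ Submodule.span A (trivSet (fun j => f (Fin.succ j)) M)) :
    (Fin.cons 0 t : Fin (n + 1) → M) ∈ Submodule.span A (trivSet f M) := by
  induction ht using Submodule.span_induction with
  | mem t ht =>
    obtain ⟨i, j, x, rfl⟩ := ht
    apply Submodule.subset_span
    refine ⟨Fin.succ i, Fin.succ j, x, ?_⟩
    ext k
    refine Fin.cases ?_ (fun k => ?_) k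
    · simp only [Fin.cons_zero, Pi.sub_apply, Pi.smul_apply, single_succ_zero, smul_zero, sub_zero]
    · simp only [Fin.cons_succ, Pi.sub_apply, Pi.smul_apply, single_succ_succ]
  | zero =>
    have : (Fin.cons 0 0 : Fin (n + 1) → M) = 0 := by
      ext k; refine Fin.cases ?_ (fun k => ?_) k <;> simp
    rw [this]; exact Submodule.zero_mem _
  | add a b _ _ ha hb =>
    have : (Fin.cons 0 (a + b) : Fin (n + 1) → M) = Fin.cons 0 a + Fin.cons 0 b := by
      ext k; refine Fin.cases ?_ (fun k => ?_) k <;> simp
    rw [this]; exact Submodule.add_mem _ ha hb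
  | smul c a _ ha =>
    have : (Fin.cons 0 (c • a) : Fin (n + 1) → M) = c • Fin.cons 0 a := by
      ext k; refine Fin.cases ?_ (fun k => ?_) k <;> simp
    rw [this]; exact Submodule.smul_mem _ c ha

theorem cons_neg_relMap_mem_triv (b : Fin n → M) :
    (Fin.cons (- relMap (fun j => f (Fin.succ j)) M b) (f 0 • b) : Fin (n + 1) → M) ∈
      Submodule.span A (trivSet f M) := by
  have : (Fin.cons (- relMap (fun j => f (Fin.succ j)) M b) (f 0 • b) : Fin (n + 1) → M) =
      ∑ j : Fin n, (f 0 • (Pi.single (Fin.succ j) (b j) : Fin (n + 1) → M) -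
        f (Fin.succ j) • (Pi.single (0 : Fin (n + 1)) (b j) : Fin (n + 1) → M)) := by
    ext k
    refine Fin.cases ?_ (fun k => ?_) k
    · simp only [Fin.cons_zero, Finset.sum_apply, Pi.sub_apply, Pi.smul_apply, single_succ_zero,
        smul_zero, Pi.single_eq_same, zero_sub, Finset.sum_neg_distrib, relMap_apply]
    · simp only [Fin.cons_succ, Pi.smul_apply, Finset.sum_apply, Pi.sub_apply, single_succ_succ,
        single_zero_succ, smul_zero, sub_zero]
      rw [← Finset.smul_sum]
      congr 1
      rw [Finset.sum_eq_single k]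
      · simp
      · intro j _ hj
        exact Pi.single_eq_of_ne hj.symm _
      · simp
  rw [this]
  exact Submodule.sum_mem _ fun j _ => Submodule.subset_span ⟨Fin.succ j, 0, b j, rfl⟩

end Cons

/-- **A weakly regular sequence has vanishing `H₁`** (any module). -/
theorem koszulH1Zero_of_isWeaklyRegular :
    ∀ {n : ℕ} (f : Fin n → A) {M : Type v} [AddCommGroup M] [Module A M],
      RingTheory.Sequence.IsWeaklyRegular M (List.ofFn f) → CInt.KoszulH1Zero f M := by
  intro n
  induction n with
  | zero =>
    intro f M _ _ _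
    rw [koszulH1Zero_iff]
    intro m _
    have : m = 0 := Subsingleton.elim _ _
    rw [this]; exact Submodule.zero_mem _
  | succ n ih =>
    intro f M _ _ hreg
    rw [List.ofFn_succ, RingTheory.Sequence.isWeaklyRegular_cons_iff] at hreg
    obtain ⟨hr, hrest⟩ := hreg
    have hIH := ih (fun j => f (Fin.succ j)) hrest
    rw [koszulH1Zero_iff] at hIH ⊢
    intro m hm
    rw [LinearMap.mem_ker, relMap_cons] at hm
    set r := f 0 with hrdef
    set g := fun j => f (Fin.succ j) with hg
    set q : M →ₗ[A] QuotSMulTop r M := Submodule.mkQ _ with hq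
    have hqsurj : Function.Surjective q := Submodule.mkQ_surjective _
    set tm : Fin n → M := fun j => m (Fin.succ j) with htm
    have h1 : q.compLeft (Fin n) tm ∈ LinearMap.ker (relMap g (QuotSMulTop r M)) := by
      rw [LinearMap.mem_ker, relMap_compLeft]
      have : relMap g M tm = - (r • m 0) := eq_neg_of_add_eq_zero_right hm
      rw [this, map_neg, neg_eq_zero, hq, Submodule.mkQ_apply, Submodule.Quotient.mk_eq_zero]
      exact Submodule.smul_mem_pointwise_smul _ _ _ Submodule.mem_top
    obtain ⟨t, ht, hQt⟩ := triv_le_map g q hqsurj (hIH h1)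
    have h2 : ∀ j, ∃ b : M, r • b = tm j - t j := by
      intro j
      have := congrFun hQt j
      simp only [LinearMap.compLeft_apply, Function.comp_apply] at this
      have h3 : q (tm j - t j) = 0 := by rw [map_sub, this, sub_self]
      rw [hq, Submodule.mkQ_apply, Submodule.Quotient.mk_eq_zero] at h3
      obtain ⟨b, -, hb⟩ := (Submodule.mem_smul_pointwise_iff_exists _ _ _).mp h3
      exact ⟨b, hb⟩
    choose b hb using h2
    have htm' : tm = t + r • b := by
      ext j
      simp only [Pi.add_apply, Pi.smul_apply, hb j]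
      abel
    have h4 : r • (m 0 + relMap g M b) = 0 := by
      rw [htm', map_add, map_smul, LinearMap.mem_ker.mp (triv_le_ker g M ht), zero_add] at hm
      rw [smul_add]; exact hm
    have h5 : m 0 + relMap g M b = 0 := hr.right_eq_zero_of_smul h4
    have h6 : m = Fin.cons 0 t + Fin.cons (- relMap g M b) (r • b) := by
      ext k
      refine Fin.cases ?_ (fun k => ?_) k
      · simp only [Pi.add_apply, Fin.cons_zero, zero_add]
        exact eq_neg_of_add_eq_zero_left h5
      · simp only [Pi.add_apply, Fin.cons_succ]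
        exact congrFun htm' k
    rw [h6]
    exact Submodule.add_mem _ (cons_zero_mem_triv f M t ht) (cons_neg_relMap_mem_triv f M b)

/-- Transfer of `H₁ = 0` along a short exact sequence when `M'/(f)M' → M/(f)M` is injective. -/
theorem koszulH1Zero_of_exact {n : ℕ} (f : Fin n → A) {M' M M'' : Type v}
    [AddCommGroup M'] [Module A M'] [AddCommGroup M] [Module A M] [AddCommGroup M''] [Module A M'']
    (i : M' →ₗ[A] M) (p : M →ₗ[A] M'') (hp : Function.Surjective p) (hex : Function.Exact i p)
    (hM : CInt.KoszulH1Zero f M)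
    (hinj : ∀ x : M', i x ∈ (Ideal.span (Set.range f) • ⊤ : Submodule A M) →
      x ∈ (Ideal.span (Set.range f) • ⊤ : Submodule A M')) :
    CInt.KoszulH1Zero f M'' := by
  rw [koszulH1Zero_iff] at hM ⊢
  intro m'' hm''
  have hl : ∀ j, ∃ x : M, p x = m'' j := fun j => hp (m'' j)
  choose m hm using hl
  have hpm : p.compLeft (Fin n) m = m'' := funext hm
  have h1 : p (relMap f M m) = 0 := by
    rw [← relMap_compLeft, hpm]; exact hm''
  obtain ⟨x', hx'⟩ := (hex _).mp h1
  have h2 : x' ∈ (Ideal.span (Set.range f) • ⊤ : Submodule A M') := by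
    apply hinj
    rw [hx', smul_top_eq_range]
    exact ⟨m, rfl⟩
  rw [smul_top_eq_range] at h2
  obtain ⟨y', hy'⟩ := h2
  have h3 : m - i.compLeft (Fin n) y' ∈ LinearMap.ker (relMap f M) := by
    rw [LinearMap.mem_ker, map_sub, relMap_compLeft, hy', hx', sub_self]
  have h4 := map_triv_le f p (Submodule.mem_map_of_mem (hM h3))
  have h5 : p.compLeft (Fin n) (m - i.compLeft (Fin n) y') = m'' := by
    rw [map_sub, hpm]
    have : p.compLeft (Fin n) (i.compLeft (Fin n) y') = 0 := by
      ext j
      simp only [LinearMap.compLeft_apply, Function.comp_apply, Pi.zero_apply]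
      exact hex.apply_apply_eq_zero _
    rw [this, sub_zero]
  rw [h5] at h4
  exact h4

end Groth.Agent.Lib.Helper15.Koszul
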