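import Mathlib

/-!
# Lech's lemma on independent sequences (helper15)

For `u : Fin n → A` write `U u = span (range u)`.  `Ind u` says that every relation
`∑ r i * u i = 0` has coefficients in `U u`.

* `length_quot_eq_add` : `ℓ(A/I) = ℓ(A/(I + y)) + ℓ(A/(I : y))`.
* `lech` : if `Ind u` and `u j = y * z` then `Ind (update u j y)` and
  `(U u : y) = U (update u j z)`.
* `length_pow_eq` / `length_pow_le` : `ℓ(A/U(u[t^a])) = a ℓ(A/U(u[t]))` under `Ind`, `≤` in general.
* `length_all_pow_eq` / `length_all_pow_le` : the same for all coordinates at once.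
-/

set_option autoImplicit false

namespace Groth.Agent.Lib.Helper15.Lech

open Function

variable {A : Type*} [CommRing A]

/-- `ℓ(A/I) = ℓ(A/(I + y)) + ℓ(A/(I : y))`. -/
theorem length_quot_eq_add (I : Ideal A) (y : A) :
    Module.length A (A ⧸ I) =
      Module.length A (A ⧸ (I.colon {y})) + Module.length A (A ⧸ (I ⊔ Ideal.span {y})) := by
  let f : (A ⧸ I.colon {y}) →ₗ[A] (A ⧸ I) :=
    Submodule.liftQ (I.colon {y}) ((Submodule.mkQ I).comp (LinearMap.mulRight A y)) (by
      intro a ha
      rw [LinearMap.mem_ker, LinearMap.comp_apply, LinearMap.mulRight_apply, Submodule.mkQ_apply,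
        Submodule.Quotient.mk_eq_zero]
      simpa using Submodule.mem_colon_singleton.mp ha)
  let g : (A ⧸ I) →ₗ[A] (A ⧸ (I ⊔ Ideal.span {y})) :=
    Submodule.mapQ I (I ⊔ Ideal.span {y}) LinearMap.id (by
      intro a ha; exact Ideal.mem_sup_left ha)
  have hf : Injective f := by
    rw [← LinearMap.ker_eq_bot, Submodule.ker_liftQ_eq_bot']
    ext a
    rw [LinearMap.mem_ker, LinearMap.comp_apply, LinearMap.mulRight_apply, Submodule.mkQ_apply,
      Submodule.Quotient.mk_eq_zero, Submodule.mem_colon_singleton, smul_eq_mul]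
  have hg : Surjective g := by
    intro b
    obtain ⟨b, rfl⟩ := Submodule.Quotient.mk_surjective _ b
    exact ⟨Submodule.Quotient.mk b, rfl⟩
  have hex : Exact f g := by
    intro b
    obtain ⟨b, rfl⟩ := Submodule.Quotient.mk_surjective _ b
    constructor
    · intro hb
      have hb' : b ∈ I ⊔ Ideal.span {y} := by
        have : (Submodule.Quotient.mk b : A ⧸ (I ⊔ Ideal.span {y})) = 0 := hb
        exact (Submodule.Quotient.mk_eq_zero _).mp this
      obtain ⟨i, hi, c, hc, rfl⟩ := Submodule.mem_sup.mp hb'
      obtain ⟨d, rfl⟩ := Ideal.mem_span_singleton'.mp hc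
      refine ⟨Submodule.Quotient.mk d, ?_⟩
      change (Submodule.Quotient.mk (d * y) : A ⧸ I) = Submodule.Quotient.mk (i + d * y)
      rw [Submodule.Quotient.eq]
      simpa using I.neg_mem hi
    · rintro ⟨a, ha⟩
      obtain ⟨a, rfl⟩ := Submodule.Quotient.mk_surjective _ a
      have : (Submodule.Quotient.mk (a * y) : A ⧸ I) = Submodule.Quotient.mk b := ha
      rw [← this]
      change (Submodule.Quotient.mk (a * y) : A ⧸ (I ⊔ Ideal.span {y})) = 0
      rw [Submodule.Quotient.mk_eq_zero]
      exact Ideal.mem_sup_right (Ideal.mem_span_singleton'.mpr ⟨a, rfl⟩)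
  exact Module.length_eq_add_of_exact f g hf hg hex

theorem length_quot_anti {I J : Ideal A} (h : I ≤ J) :
    Module.length A (A ⧸ J) ≤ Module.length A (A ⧸ I) := by
  refine Module.length_le_of_surjective (Submodule.mapQ I J LinearMap.id h) ?_
  intro b
  obtain ⟨b, rfl⟩ := Submodule.Quotient.mk_surjective _ b
  exact ⟨Submodule.Quotient.mk b, rfl⟩

variable {n : ℕ}

/-- the ideal generated by a family -/
def U (u : Fin n → A) : Ideal A := Ideal.span (Set.range u)

/-- independence in the sense of Lech -/
def Ind (u : Fin n → A) : Prop :=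
  ∀ r : Fin n → A, ∑ i, r i * u i = 0 → ∀ i, r i ∈ U u

theorem mem_U (u : Fin n → A) (i : Fin n) : u i ∈ U u := Ideal.subset_span ⟨i, rfl⟩

theorem mem_U_iff (u : Fin n → A) (a : A) : a ∈ U u ↔ ∃ c : Fin n → A, ∑ i, c i * u i = a :=
  Ideal.mem_span_range_iff_exists_fun

theorem U_le_U_update (u : Fin n → A) (j : Fin n) (y z : A) (h : u j = y * z) :
    U u ≤ U (update u j y) := by
  rw [U, Ideal.span_le]
  rintro _ ⟨i, rfl⟩
  by_cases hij : i = j
  · subst hij
    rw [h, mul_comm]
    have := mem_U (update u i y) i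
    rw [update_self] at this
    exact Ideal.mul_mem_left _ _ this
  · have := mem_U (update u j y) i
    rwa [update_of_ne hij] at this

theorem U_update_eq_sup (u : Fin n → A) (j : Fin n) (y z : A) (h : u j = y * z) :
    U (update u j y) = U u ⊔ Ideal.span {y} := by
  apply le_antisymm
  · rw [U, Ideal.span_le]
    rintro _ ⟨i, rfl⟩
    by_cases hij : i = j
    · subst hij
      rw [update_self]
      exact Ideal.mem_sup_right (Ideal.mem_span_singleton_self y)
    · rw [update_of_ne hij]
      exact Ideal.mem_sup_left (mem_U u i)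
  · refine sup_le (U_le_U_update u j y z h) ?_
    rw [Ideal.span_singleton_le_iff_mem]
    have := mem_U (update u j y) j
    rwa [update_self] at this

theorem U_update_le_colon (u : Fin n → A) (j : Fin n) (y z : A) (h : u j = y * z) :
    U (update u j z) ≤ (U u).colon {y} := by
  rw [U, Ideal.span_le]
  rintro _ ⟨i, rfl⟩
  rw [SetLike.mem_coe, Submodule.mem_colon_singleton, smul_eq_mul]
  by_cases hij : i = j
  · subst hij
    rw [update_self, mul_comm, ← h]
    exact mem_U u i
  · rw [update_of_ne hij]
    exact Ideal.mul_mem_right _ _ (mem_U u i)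

/-- **Lech's lemma**, colon part. -/
theorem lech_colon (u : Fin n → A) (hu : Ind u) (j : Fin n) (y z : A) (h : u j = y * z) :
    (U u).colon {y} = U (update u j z) := by
  refine le_antisymm ?_ (U_update_le_colon u j y z h)
  intro r hr
  rw [Submodule.mem_colon_singleton, smul_eq_mul] at hr
  obtain ⟨c, hc⟩ := (mem_U_iff u _).mp hr
  -- relation ρ
  have hrel : ∑ i, ((if i = j then r else 0) - c i * z) * u i = 0 := by
    simp only [sub_mul, Finset.sum_sub_distrib, ite_mul, zero_mul]
    rw [Finset.sum_ite_eq' Finset.univ j, if_pos (Finset.mem_univ j)]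
    have : ∑ i, c i * z * u i = z * ∑ i, c i * u i := by
      rw [Finset.mul_sum]
      exact Finset.sum_congr rfl fun i _ => by ring
    rw [this, hc, h]
    ring
  have hj := hu _ hrel j
  rw [if_pos rfl] at hj
  have h1 : r - c j * z ∈ U (update u j z) := U_le_U_update u j z y (by rw [h, mul_comm]) hj
  have h2 : c j * z ∈ U (update u j z) := by
    have := mem_U (update u j z) j
    rw [update_self] at this
    exact Ideal.mul_mem_left _ _ this
  have := Ideal.add_mem _ h1 h2
  rwa [sub_add_cancel] at this

/-- **Lech's lemma**, independence part. -/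
theorem lech_ind (u : Fin n → A) (hu : Ind u) (j : Fin n) (y z : A) (h : u j = y * z) :
    Ind (update u j y) := by
  intro r hr
  -- multiply the relation by z
  have hterm : ∀ i, (if i = j then r i else r i * z) * u i = z * (r i * update u j y i) := by
    intro i
    by_cases hij : i = j
    · subst hij
      rw [if_pos rfl, update_self, h]; ring
    · rw [if_neg hij, update_of_ne hij]; ring
  have hrel : ∑ i, (if i = j then r i else r i * z) * u i = 0 := by
    rw [Finset.sum_congr rfl (fun i _ => hterm i), ← Finset.mul_sum, hr, mul_zero]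
  have hj := hu _ hrel j
  rw [if_pos rfl] at hj
  obtain ⟨c, hc⟩ := (mem_U_iff u _).mp hj
  -- second relation
  have hterm2 : ∀ i, (c i * y + (if i = j then 0 else r i)) * u i =
      y * (c i * u i) + (if i = j then 0 else r i * update u j y i) := by
    intro i
    by_cases hij : i = j
    · subst hij
      rw [if_pos rfl, if_pos rfl]; ring
    · rw [if_neg hij, if_neg hij, update_of_ne hij]; ring
  have hsplit : ∑ i, r i * update u j y i =
      r j * y + ∑ i, (if i = j then 0 else r i * update u j y i) := by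
    have : ∀ i, r i * update u j y i =
        (if i = j then r j * y else 0) + (if i = j then 0 else r i * update u j y i) := by
      intro i
      by_cases hij : i = j
      · subst hij
        rw [if_pos rfl, if_pos rfl, update_self, add_zero]
      · rw [if_neg hij, if_neg hij, zero_add]
    rw [Finset.sum_congr rfl (fun i _ => this i), Finset.sum_add_distrib,
      Finset.sum_ite_eq' Finset.univ j, if_pos (Finset.mem_univ j)]
  have hrel2 : ∑ i, (c i * y + (if i = j then 0 else r i)) * u i = 0 := by
    rw [Finset.sum_congr rfl (fun i _ => hterm2 i), Finset.sum_add_distrib, ← Finset.mul_sum, hc,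
      mul_comm y (r j), ← hsplit, hr]
  intro i
  by_cases hij : i = j
  · subst hij
    exact U_le_U_update u i y z h hj
  · have h1 := U_le_U_update u j y z h (hu _ hrel2 i)
    rw [if_neg hij] at h1
    have h2 : c i * y ∈ U (update u j y) := by
      have := mem_U (update u j y) j
      rw [update_self] at this
      exact Ideal.mul_mem_left _ _ this
    have := Ideal.sub_mem _ h1 h2
    rwa [add_sub_cancel_left] at this

/-- `ℓ(A/U(u[t^a])) ≤ a ℓ(A/U(u[t]))`. -/
theorem length_pow_le (u : Fin n → A) (j : Fin n) (t : A) : ∀ a : ℕ, 1 ≤ a →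
    Module.length A (A ⧸ U (update u j (t ^ a))) ≤ a * Module.length A (A ⧸ U (update u j t)) := by
  intro a ha
  induction a, ha using Nat.le_induction with
  | base => rw [pow_one]; simp
  | succ a ha ih =>
    have h : update u j (t ^ (a + 1)) j = t ^ a * t := by rw [update_self, pow_succ]
    have e1 := U_update_eq_sup (update u j (t ^ (a + 1))) j (t ^ a) t h
    have e2 := U_update_le_colon (update u j (t ^ (a + 1))) j (t ^ a) t h
    rw [update_idem] at e1 e2
    rw [length_quot_eq_add (U (update u j (t ^ (a + 1)))) (t ^ a), ← e1]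
    calc _ ≤ Module.length A (A ⧸ U (update u j t)) +
          a * Module.length A (A ⧸ U (update u j t)) := add_le_add (length_quot_anti e2) ih
      _ = _ := by push_cast; ring

/-- `ℓ(A/U(u[t^a])) = a ℓ(A/U(u[t]))` under independence, and independence descends. -/
theorem length_pow_eq (u : Fin n → A) (j : Fin n) (t : A) : ∀ a : ℕ, 1 ≤ a →
    Ind (update u j (t ^ a)) → Ind (update u j t) ∧
    Module.length A (A ⧸ U (update u j (t ^ a))) = a * Module.length A (A ⧸ U (update u j t)) := by
  intro a ha
  induction a, ha using Nat.le_induction with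
  | base => intro h; rw [pow_one] at h ⊢; exact ⟨h, by simp⟩
  | succ a ha ih =>
    intro hind
    have h : update u j (t ^ (a + 1)) j = t ^ a * t := by rw [update_self, pow_succ]
    have h' : update u j (t ^ (a + 1)) j = t * t ^ a := by rw [update_self, pow_succ']
    have i1 := lech_ind _ hind j (t ^ a) t h
    have i2 := lech_ind _ hind j t (t ^ a) h'
    have e1 := U_update_eq_sup (update u j (t ^ (a + 1))) j (t ^ a) t h
    have e2 := lech_colon _ hind j (t ^ a) t h
    rw [update_idem] at i1 i2 e1 e2
    obtain ⟨-, ih2⟩ := ih i1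
    refine ⟨i2, ?_⟩
    rw [length_quot_eq_add (U (update u j (t ^ (a + 1)))) (t ^ a), ← e1, e2, ih2]
    push_cast; ring

/-- the family `x_0, …, x_{k-1}, x_k^p, …, x_{n-1}^p` -/
def mix (x : Fin n → A) (p k : ℕ) : Fin n → A := fun i => if (i : ℕ) < k then x i else x i ^ p

theorem mix_zero (x : Fin n → A) (p : ℕ) : mix x p 0 = fun i => x i ^ p := by
  funext i; simp [mix]

theorem mix_top (x : Fin n → A) (p : ℕ) : mix x p n = x := by
  funext i; simp [mix]

theorem mix_succ (x : Fin n → A) (p k : ℕ) (hk : k < n) :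
    mix x p (k + 1) = update (mix x p k) ⟨k, hk⟩ (x ⟨k, hk⟩) := by
  funext i
  by_cases hi : i = ⟨k, hk⟩
  · subst hi
    simp [mix]
  · rw [update_of_ne hi]
    have hne : (i : ℕ) ≠ k := fun h => hi (Fin.ext h)
    simp only [mix]
    by_cases h1 : (i : ℕ) < k
    · rw [if_pos h1, if_pos (Nat.lt_succ_of_lt h1)]
    · rw [if_neg h1, if_neg (by omega)]

theorem mix_self (x : Fin n → A) (p k : ℕ) (hk : k < n) :
    mix x p k = update (mix x p k) ⟨k, hk⟩ (x ⟨k, hk⟩ ^ p) := by
  rw [eq_comm, update_eq_self_iff]
  simp [mix]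

theorem length_all_pow_le (x : Fin n → A) (p : ℕ) (hp : 1 ≤ p) : ∀ k : ℕ, k ≤ n →
    Module.length A (A ⧸ U (fun i => x i ^ p)) ≤ p ^ k * Module.length A (A ⧸ U (mix x p k)) := by
  intro k
  induction k with
  | zero => intro _; rw [mix_zero]; simp
  | succ k ih =>
    intro hk
    have hk' : k < n := hk
    refine (ih hk'.le).trans ?_
    have := length_pow_le (mix x p k) ⟨k, hk'⟩ (x ⟨k, hk'⟩) p hp
    rw [← mix_self, ← mix_succ] at this
    calc (p : ℕ∞) ^ k * Module.length A (A ⧸ U (mix x p k))
        ≤ (p : ℕ∞) ^ k * (p * Module.length A (A ⧸ U (mix x p (k + 1)))) := by gcongr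
      _ = _ := by rw [pow_succ]; ring

theorem length_all_pow_eq (x : Fin n → A) (p : ℕ) (hp : 1 ≤ p) (hind : Ind (fun i => x i ^ p)) :
    ∀ k : ℕ, k ≤ n → Ind (mix x p k) ∧
    Module.length A (A ⧸ U (fun i => x i ^ p)) = p ^ k * Module.length A (A ⧸ U (mix x p k)) := by
  intro k
  induction k with
  | zero => intro _; rw [mix_zero]; exact ⟨hind, by simp⟩
  | succ k ih =>
    intro hk
    have hk' : k < n := hk
    obtain ⟨i1, e1⟩ := ih hk'.le
    rw [mix_self x p k hk'] at i1
    have := length_pow_eq (mix x p k) ⟨k, hk'⟩ (x ⟨k, hk'⟩) p hp i1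
    rw [← mix_self, ← mix_succ] at this
    refine ⟨this.1, ?_⟩
    rw [e1, this.2, pow_succ]; ring

/-- `ℓ(A/(x_i^p)) ≤ p^n ℓ(A/(x_i))`. -/
theorem length_quot_pow_le (x : Fin n → A) (p : ℕ) (hp : 1 ≤ p) :
    Module.length A (A ⧸ U (fun i => x i ^ p)) ≤ p ^ n * Module.length A (A ⧸ U x) := by
  have := length_all_pow_le x p hp n le_rfl
  rwa [mix_top] at this

/-- `ℓ(A/(x_i^p)) = p^n ℓ(A/(x_i))` for Lech-independent `x_i^p`. -/
theorem length_quot_pow_eq (x : Fin n → A) (p : ℕ) (hp : 1 ≤ p) (hind : Ind (fun i => x i ^ p)) :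
    Module.length A (A ⧸ U (fun i => x i ^ p)) = p ^ n * Module.length A (A ⧸ U x) := by
  have := (length_all_pow_eq x p hp hind n le_rfl).2
  rwa [mix_top] at this

end Groth.Agent.Lib.Helper15.Lech
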