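import Mathlib
import Groth.Agent.Lib.Helper15.Lech
import Groth.Agent.Lib.Helper13.PerfFlat
import Groth.Agent.Lib.Helper29.RegHom

/-!
# Kunz's theorem (helper15)

A Noetherian ring of prime characteristic `p` is regular iff its Frobenius endomorphism is flat.
-/

set_option autoImplicit false
set_option linter.style.haveILetI false
set_option linter.unusedSectionVars false
set_option linter.overlappingInstances false

namespace Groth.Agent.Lib.Helper15.Kunz

open IsLocalRing Groth.Agent.Lib.Helper15.Lech

universe u

section general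

variable {A B : Type*} [CommRing A] [CommRing B] [IsLocalRing A] [IsLocalRing B] [Algebra A B]
  [IsLocalHom (algebraMap A B)] [Module.Flat A B]

/-- lengths of quotients along a flat local homomorphism -/
theorem length_quot_map (J : Ideal A) :
    Module.length B (B ⧸ J.map (algebraMap A B)) =
      Module.length A (A ⧸ J) *
        Module.length B (B ⧸ (maximalIdeal A).map (algebraMap A B)) := by
  rw [← IsLocalRing.length_baseChange A B (A ⧸ J)]
  exact (Algebra.TensorProduct.quotIdealMapEquivTensorQuot B J).toLinearEquiv.length_eq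

end general

section local_

variable (p : ℕ) [hp : Fact p.Prime] (A : Type u) [CommRing A] [IsLocalRing A]
  [IsNoetherianRing A] [CharP A p]

/-- For the Frobenius, lengths of quotients multiply by `ℓ(A/m^{[p]})`. -/
theorem length_quot_map_frobenius (hF : (frobenius A p).Flat) (J : Ideal A) :
    Module.length A (A ⧸ J.map (frobenius A p)) =
      Module.length A (A ⧸ J) * Module.length A (A ⧸ (maximalIdeal A).map (frobenius A p)) := by
  have hloc : IsLocalHom (frobenius A p) := by
    constructor
    intro a ha
    have : IsUnit (a ^ p) := ha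
    exact (isUnit_pow_iff hp.out.ne_zero).mp this
  exact @length_quot_map A A _ _ _ _ (frobenius A p).toAlgebra hloc hF J

omit [IsLocalRing A] [IsNoetherianRing A] in
theorem map_frobenius_U {n : ℕ} (x : Fin n → A) :
    (U x).map (frobenius A p) = U (fun i => x i ^ p) := by
  rw [U, U, Ideal.map_span]
  congr 1
  ext a
  constructor
  · rintro ⟨_, ⟨i, rfl⟩, rfl⟩
    exact ⟨i, rfl⟩
  · rintro ⟨i, rfl⟩
    exact ⟨x i, ⟨i, rfl⟩, rfl⟩

/-- minimal generators of the maximal ideal admit only relations with coefficients in `m` -/
theorem coeff_mem_of_minimal {n : ℕ} (hn : (maximalIdeal A).spanFinrank = n) (x : Fin n → A)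
    (hx : Ideal.span (Set.range x) = maximalIdeal A) (c : Fin n → A)
    (hc : ∑ i, x i * c i = 0) (j : Fin n) : c j ∈ maximalIdeal A := by
  by_contra hcj
  have hunit : IsUnit (c j) := by
    by_contra h
    exact hcj ((mem_maximalIdeal _).mpr h)
  obtain ⟨v, hv⟩ := hunit
  -- x j lies in the span of the others
  have hxj : x j ∈ Ideal.span (x '' {i | i ≠ j}) := by
    have h1 : x j * c j = - ∑ i ∈ Finset.univ.erase j, x i * c i := by
      rw [← Finset.add_sum_erase Finset.univ _ (Finset.mem_univ j)] at hc
      exact eq_neg_of_add_eq_zero_left hc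
    have h2 : x j = (- ∑ i ∈ Finset.univ.erase j, x i * c i) * ↑v⁻¹ := by
      rw [← h1, ← hv, mul_assoc, Units.mul_inv, mul_one]
    rw [h2]
    refine Ideal.mul_mem_right _ _ (neg_mem (Ideal.sum_mem _ fun i hi => ?_))
    refine Ideal.mul_mem_right _ _ (Ideal.subset_span ⟨i, ?_, rfl⟩)
    exact (Finset.mem_erase.mp hi).1
  have hspan : Ideal.span (x '' {i | i ≠ j}) = maximalIdeal A := by
    apply le_antisymm
    · rw [← hx]; exact Ideal.span_mono (Set.image_subset_range _ _)
    · rw [← hx, Ideal.span_le]
      rintro _ ⟨i, rfl⟩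
      by_cases hij : i = j
      · rw [hij]; exact hxj
      · exact Ideal.subset_span ⟨i, hij, rfl⟩
  have hfin : (x '' {i | i ≠ j}).Finite := Set.toFinite _
  have hle := Submodule.spanFinrank_span_le_ncard_of_finite (R := A) hfin
  rw [show Submodule.span A (x '' {i | i ≠ j}) = maximalIdeal A from hspan] at hle
  have h3 : (x '' {i | i ≠ j}).ncard ≤ ({i | i ≠ j} : Set (Fin n)).ncard :=
    Set.ncard_image_le (Set.toFinite _)
  have h4 : ({i | i ≠ j} : Set (Fin n)).ncard < n := by
    have : ({i | i ≠ j} : Set (Fin n)) = ({j} : Set _)ᶜ := by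
      ext i; simp
    rw [this, Set.ncard_compl, Set.ncard_singleton, Nat.card_eq_fintype_card, Fintype.card_fin]
    have : 0 < n := Fin.pos j
    omega
  omega

/-- Independence of the `p`-th powers of minimal generators when Frobenius is flat. -/
theorem ind_pow (hF : (frobenius A p).Flat) {n : ℕ} (hn : (maximalIdeal A).spanFinrank = n)
    (x : Fin n → A)
    (hx : Ideal.span (Set.range x) = maximalIdeal A) : Ind (fun i => x i ^ p) := by
  intro r hr
  obtain ⟨k, c, y, h1, h2⟩ := Groth.Agent.Lib.Helper13.PerfFlat.exists_trivialisation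
    (frobenius A p) hF x r (by
      rw [← hr]
      exact Finset.sum_congr rfl fun i _ => by rw [frobenius_def, mul_comm])
  intro i
  rw [h1 i]
  refine Ideal.sum_mem _ fun j _ => Ideal.mul_mem_right _ _ ?_
  have hc : c i j ∈ U x := by
    rw [U, hx]
    exact coeff_mem_of_minimal A hn x hx (fun i => c i j) (h2 j) i
  rw [← map_frobenius_U p A x]
  exact Ideal.mem_map_of_mem _ hc

/-- `ℓ(A/m^{[p]}) = p^{edim}` when Frobenius is flat. -/
theorem length_quot_map_maximalIdeal (hF : (frobenius A p).Flat) :
    Module.length A (A ⧸ (maximalIdeal A).map (frobenius A p)) =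
      (p : ℕ∞) ^ (maximalIdeal A).spanFinrank := by
  obtain ⟨s, hs1, hs2⟩ := Submodule.FG.exists_span_finset_card_eq_spanFinrank
    (IsNoetherian.noetherian (maximalIdeal A))
  -- enumerate `s`
  let e := s.equivFin
  let x : Fin s.card → A := fun i => (e.symm i : A)
  have hx : Ideal.span (Set.range x) = maximalIdeal A := by
    have : Set.range x = (s : Set A) := by
      ext a
      constructor
      · rintro ⟨i, rfl⟩
        exact (e.symm i).2
      · intro ha
        refine ⟨e ⟨a, ha⟩, ?_⟩
        simp [x]
    rw [this]
    exact hs2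
  have hind := ind_pow p A hF hs1.symm x hx
  have h1 := length_quot_pow_eq x p hp.out.one_lt.le hind
  have hU : U x = maximalIdeal A := hx
  rw [← hU, map_frobenius_U, h1, hU, hs1]
  have : Module.length A (A ⧸ maximalIdeal A) = 1 := by
    haveI : IsSimpleModule A (A ⧸ maximalIdeal A) :=
      isSimpleModule_iff_isCoatom.mpr (Ideal.isMaximal_def.mp inferInstance)
    exact Module.length_eq_one A _
  rw [this, mul_one]

/-- **Kunz, local case**: flat Frobenius implies regular. -/
theorem isRegularLocalRing_of_flat (hF : (frobenius A p).Flat) : IsRegularLocalRing A := by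
  classical
  apply IsRegularLocalRing.of_spanFinrank_maximalIdeal_le
  have hht : ((maximalIdeal A).height : WithBot ℕ∞) = ringKrullDim A :=
    IsLocalRing.maximalIdeal_height_eq_ringKrullDim
  have hfin : (maximalIdeal A).height ≠ ⊤ := Ideal.height_ne_top (Ideal.IsPrime.ne_top')
  set d := (maximalIdeal A).height.toNat with hd_def
  have hd : (d : ℕ∞) = (maximalIdeal A).height := ENat.natCast_toNat hfin
  obtain ⟨J, hJm, hJr, hJh⟩ :=
    exists_spanRank_le_and_le_height_of_le_height (maximalIdeal A) d hd.le
  have hJfg : J.FG := IsNoetherian.noetherian J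
  obtain ⟨t, ht1, ht2⟩ := Submodule.FG.exists_span_finset_card_eq_spanFinrank hJfg
  have hcard : t.card ≤ d := by
    rw [Submodule.FG.spanRank_eq_spanFinrank hJfg] at hJr
    rw [ht1]
    exact_mod_cast hJr
  let e := t.equivFin
  let y : Fin t.card → A := fun i => (e.symm i : A)
  have hy : U y = J := by
    have : Set.range y = (t : Set A) := by
      ext a
      constructor
      · rintro ⟨i, rfl⟩
        exact (e.symm i).2
      · intro ha
        refine ⟨e ⟨a, ha⟩, ?_⟩
        simp [y]
    rw [U, this]
    exact ht2
  -- `A ⧸ J` has finite positive length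
  have hmin : maximalIdeal A ∈ J.minimalPrimes :=
    Ideal.mem_minimalPrimes_of_height_le hJm (hd ▸ hJh)
  haveI : IsArtinianRing (A ⧸ J) :=
    IsLocalRing.quotient_artinian_of_mem_minimalPrimes_of_isLocalRing _ hmin
  have hart : IsArtinian A (A ⧸ J) :=
    isArtinian_of_surjective_algebraMap (R := A ⧸ J) (M := A ⧸ J) (S := A)
      Ideal.Quotient.mk_surjective
  have hfl : IsFiniteLength A (A ⧸ J) :=
    isFiniteLength_iff_isNoetherian_isArtinian.mpr ⟨inferInstance, hart⟩
  have hne_top : Module.length A (A ⧸ J) ≠ ⊤ := Module.length_ne_top_iff.mpr hfl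
  have hne_zero : Module.length A (A ⧸ J) ≠ 0 := by
    rw [Ne, Module.length_eq_zero_iff, Submodule.Quotient.subsingleton_iff]
    intro h
    exact (Ideal.IsPrime.ne_top' (I := maximalIdeal A)) (top_le_iff.mp (h ▸ hJm))
  obtain ⟨l, hl⟩ := ENat.ne_top_iff_exists.mp hne_top
  have hl0 : l ≠ 0 := by
    rintro rfl
    exact hne_zero (by rw [← hl]; rfl)
  -- the two computations of `ℓ(A/J^{[p]})`
  have h1 := length_quot_map_frobenius p A hF J
  rw [length_quot_map_maximalIdeal p A hF] at h1
  have h2 := length_quot_pow_le y p hp.out.one_lt.le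
  rw [← map_frobenius_U, hy, h1, ← hl] at h2
  have h3 : l * p ^ (maximalIdeal A).spanFinrank ≤ p ^ t.card * l := by exact_mod_cast h2
  rw [mul_comm] at h3
  have h4 : p ^ (maximalIdeal A).spanFinrank ≤ p ^ t.card :=
    Nat.le_of_mul_le_mul_right h3 (Nat.pos_of_ne_zero hl0)
  have h5 : (maximalIdeal A).spanFinrank ≤ t.card :=
    (Nat.pow_le_pow_iff_right hp.out.one_lt).mp h4
  rw [← hht, ← hd]
  exact_mod_cast h5.trans hcard

omit [IsNoetherianRing A] in
theorem isLocalHom_frobenius : IsLocalHom (frobenius A p) := by
  constructor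
  intro a ha
  have : IsUnit (a ^ p) := ha
  exact (isUnit_pow_iff hp.out.ne_zero).mp this

omit [IsNoetherianRing A] in
theorem le_of_map_frobenius_le (Q : Ideal A) [Q.IsPrime]
    (h : (maximalIdeal A).map (frobenius A p) ≤ Q) : maximalIdeal A ≤ Q := by
  intro x hx
  have : x ^ p ∈ Q := h (Ideal.mem_map_of_mem (frobenius A p) hx)
  exact Ideal.IsPrime.mem_of_pow_mem inferInstance p this

/-- **Kunz, local case**: regular implies flat Frobenius. -/
theorem flat_of_isRegularLocalRing [IsRegularLocalRing A] : (frobenius A p).Flat := by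
  have hloc := isLocalHom_frobenius p A
  have hdim0 : ringKrullDim (A ⧸ (maximalIdeal A).map (frobenius A p)) = 0 := by
    have hne : (maximalIdeal A).map (frobenius A p) ≠ ⊤ := by
      intro h
      have h1 : (maximalIdeal A).map (frobenius A p) ≤ maximalIdeal A := by
        rw [Ideal.map_le_iff_le_comap]
        intro x hx
        exact Ideal.pow_mem_of_mem _ hx p hp.out.pos
      exact (Ideal.IsPrime.ne_top' (I := maximalIdeal A)) (top_le_iff.mp (h ▸ h1))
    haveI : Nontrivial (A ⧸ (maximalIdeal A).map (frobenius A p)) :=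
      Ideal.Quotient.nontrivial_iff.mpr hne
    rw [← ringKrullDimZero_iff_ringKrullDim_eq_zero,
      Ideal.krullDimLE_zero_quotient_iff_forall_minimalPrimes_isMaximal]
    intro Q hQ
    haveI := hQ.1.1
    have h1 := le_of_map_frobenius_le p A Q hQ.1.2
    have : Q = maximalIdeal A :=
      ((IsLocalRing.maximalIdeal.isMaximal A).eq_of_le (Ideal.IsPrime.ne_top') h1).symm
    rw [this]
    infer_instance
  exact @Groth.Agent.Lib.Helper29.RegHom.flat_of_regular_of_isCM A A _ _ _ _ _ _
    (frobenius A p).toAlgebra hloc _ (Groth.Agent.S5671.isCM_of_regular A) (by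
      rw [show ringKrullDim (A ⧸ (maximalIdeal A).map
        (@algebraMap A A _ _ (frobenius A p).toAlgebra)) = 0 from hdim0, add_zero])

end local_

section global

variable (p : ℕ) [hp : Fact p.Prime] (R : Type u) [CommRing R] [IsNoetherianRing R] [CharP R p]

omit [IsNoetherianRing R] in
theorem comap_frobenius (P : Ideal R) [P.IsPrime] : P = Ideal.comap (frobenius R p) P := by
  ext x
  rw [Ideal.mem_comap, frobenius_def]
  exact ⟨fun h => Ideal.pow_mem_of_mem _ h p hp.out.pos,
    fun h => Ideal.IsPrime.mem_of_pow_mem inferInstance p h⟩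

omit [IsNoetherianRing R] in
theorem charP_localization (P : Ideal R) [P.IsPrime] : CharP (Localization.AtPrime P) p := by
  rw [CharP.charP_iff_prime_eq_zero hp.out]
  have : algebraMap R (Localization.AtPrime P) (p : R) = 0 := by
    rw [CharP.cast_eq_zero R p, map_zero]
  rwa [map_natCast] at this

omit [IsNoetherianRing R] in
theorem localRingHom_frobenius (P : Ideal R) [P.IsPrime] :
    haveI := charP_localization p R P
    Localization.localRingHom P P (frobenius R p) (comap_frobenius p R P) =
      frobenius (Localization.AtPrime P) p := by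
  haveI := charP_localization p R P
  apply IsLocalization.ringHom_ext P.primeCompl
  ext x
  simp [Localization.localRingHom_to_map, frobenius_def]

/-- **Kunz's theorem**. -/
theorem isRegularRing_iff_flat : IsRegularRing R ↔ (frobenius R p).Flat := by
  constructor
  · intro hreg
    apply RingHom.Flat.ofLocalizationPrime
    intro P hP
    haveI := charP_localization p R P
    have h1 : (frobenius (Localization.AtPrime P) p).Flat := flat_of_isRegularLocalRing p _
    have h2 := localRingHom_frobenius p R P
    have hPP : Ideal.comap (frobenius R p) P = P := (comap_frobenius p R P).symm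
    -- transport along `comap F P = P`
    have key : ∀ (Q : Ideal R) [Q.IsPrime] (hQ : Q = Ideal.comap (frobenius R p) P),
        (Localization.localRingHom Q P (frobenius R p) hQ).Flat := by
      intro Q _ hQ
      have hQP : Q = P := hQ.trans hPP
      subst hQP
      rw [h2]
      exact h1
    exact key _ rfl
  · intro hF
    rw [isRegularRing_iff]
    intro P hP
    haveI := charP_localization p R P
    have h1 := RingHom.Flat.localRingHom hF P P (comap_frobenius p R P)
    rw [localRingHom_frobenius p R P] at h1
    exact isRegularLocalRing_of_flat p _ h1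

end global

end Groth.Agent.Lib.Helper15.Kunz
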