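import Groth.Prelude.Def_GSzMilK

/-!
# Helper lemmas on Milnor K-groups (helper15)

Multiplicativity of symbols in each slot, the basic identities `{x, -x} = 0`, `{x, x} = {x, -1}`,
and generation of `K F n` by symbols.
-/

set_option autoImplicit false

namespace Groth.Agent.Lib.Helper15.MilKLib

open MilK

universe u

variable {F : Type u} [Field F]

theorem ofMul_comp_update {n : ℕ} (x : Fin n → Fˣ) (i : Fin n) (c : Fˣ) :
    (fun j => Additive.ofMul (Function.update x i c j)) =
      Function.update (fun j => Additive.ofMul (x j)) i (Additive.ofMul c) := by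
  ext j
  by_cases h : j = i
  · subst h; simp
  · simp [h]

theorem symbol_update_mul {n : ℕ} (x : Fin n → Fˣ) (i : Fin n) (a b : Fˣ) :
    (symbol (Function.update x i (a * b)) : K F n) =
      symbol (Function.update x i a) + symbol (Function.update x i b) := by
  simp only [symbol, ofMul_comp_update, ofMul_mul, MultilinearMap.map_update_add, map_add]

theorem symbol_update_one {n : ℕ} (x : Fin n → Fˣ) (i : Fin n) :
    (symbol (Function.update x i 1) : K F n) = 0 := by
  have h := symbol_update_mul x i 1 1
  rw [mul_one] at h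
  exact left_eq_add.mp h

theorem symbol_update_inv {n : ℕ} (x : Fin n → Fˣ) (i : Fin n) (a : Fˣ) :
    (symbol (Function.update x i a⁻¹) : K F n) = - symbol (Function.update x i a) := by
  have h := symbol_update_mul x i a⁻¹ a
  rw [inv_mul_cancel, symbol_update_one] at h
  exact eq_neg_of_add_eq_zero_left h.symm

theorem symbol_update_pow {n : ℕ} (x : Fin n → Fˣ) (i : Fin n) (a : Fˣ) (k : ℕ) :
    (symbol (Function.update x i (a ^ k)) : K F n) = k • symbol (Function.update x i a) := by
  induction k with
  | zero => simp [symbol_update_one]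
  | succ k ih => rw [pow_succ, symbol_update_mul, ih, succ_nsmul]

theorem symbol_update_zpow {n : ℕ} (x : Fin n → Fˣ) (i : Fin n) (a : Fˣ) (k : ℤ) :
    (symbol (Function.update x i (a ^ k)) : K F n) = k • symbol (Function.update x i a) := by
  cases k with
  | ofNat k => simp [symbol_update_pow]
  | negSucc k =>
    rw [zpow_negSucc, symbol_update_inv, symbol_update_pow, negSucc_zsmul]

/-- If some entry is `1`, the symbol vanishes. -/
theorem symbol_eq_zero_of_one {n : ℕ} (x : Fin n → Fˣ) (i : Fin n) (h : x i = 1) :
    (symbol x : K F n) = 0 := by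
  have : x = Function.update x i 1 := by rw [← h, Function.update_eq_self]
  rw [this, symbol_update_one]

/-- Steinberg relation for two arbitrary distinct slots. -/
theorem symbol_eq_zero_of_add_eq_one {n : ℕ} (z : Fin n → Fˣ) (i j : Fin n) (hij : i ≠ j)
    (h : (z i : F) + (z j : F) = 1) : (symbol z : K F n) = 0 := by
  rcases lt_or_gt_of_ne hij with h1 | h1
  · exact symbol_eq_zero_of_isSteinberg z ⟨i, j, h1, h⟩
  · exact symbol_eq_zero_of_isSteinberg z ⟨j, i, h1, by rw [add_comm]; exact h⟩

/-- If two distinct slots hold `x` and `-x`, the symbol vanishes. -/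
theorem symbol_eq_zero_of_eq_neg {n : ℕ} (z : Fin n → Fˣ) (i j : Fin n) (hij : i ≠ j)
    (h : z j = - z i) : (symbol z : K F n) = 0 := by
  set x := z i with hxdef
  by_cases hx : x = 1
  · exact symbol_eq_zero_of_one z i hx
  have hx1 : (1 : F) - (x : F) ≠ 0 := by
    intro h'
    apply hx
    ext
    simpa using (sub_eq_zero.mp h').symm
  have hx2 : (1 : F) - ((x⁻¹ : Fˣ) : F) ≠ 0 := by
    intro h'
    apply hx
    have h'' : ((x⁻¹ : Fˣ) : F) = 1 := (sub_eq_zero.mp h').symm
    have : x⁻¹ = 1 := by ext; simpa using h''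
    simpa using this
  set u : Fˣ := Units.mk0 _ hx1 with hu
  set v : Fˣ := Units.mk0 _ hx2 with hv
  have hneg : -x = u * v⁻¹ := by
    rw [eq_mul_inv_iff_mul_eq]
    ext
    simp only [Units.val_mul, Units.val_neg, hu, hv, Units.val_mk0, Units.val_inv_eq_inv_val]
    have hx0 : (x : F) ≠ 0 := x.ne_zero
    field_simp
    ring
  have hz : z = Function.update z j (u * v⁻¹) := by
    rw [← hneg, ← h, Function.update_eq_self]
  rw [hz, symbol_update_mul, symbol_update_inv]
  have h1 : (symbol (Function.update z j u) : K F n) = 0 := by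
    apply symbol_eq_zero_of_add_eq_one _ i j hij
    rw [Function.update_self, Function.update_of_ne hij]
    simp [hu, ← hxdef]
  have h2 : (symbol (Function.update z j v) : K F n) = 0 := by
    have e : Function.update z j v = Function.update (Function.update z j v) i x := by
      symm
      rw [Function.update_eq_self_iff, Function.update_of_ne hij]
    have h3 : (symbol (Function.update (Function.update z j v) i x⁻¹) : K F n) = 0 := by
      apply symbol_eq_zero_of_add_eq_one _ i j hij
      rw [Function.update_self, Function.update_of_ne hij.symm, Function.update_self]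
      simp [hv]
    rw [symbol_update_inv, neg_eq_zero] at h3
    rw [e, h3]
  rw [h1, h2, neg_zero, add_zero]

/-! ### Two-variable symbols -/

theorem vec2_update_zero (a b c : Fˣ) : Function.update ![a, b] 0 c = ![c, b] := by
  ext j; fin_cases j <;> simp

theorem vec2_update_one (a b c : Fˣ) : Function.update ![a, b] 1 c = ![a, c] := by
  ext j; fin_cases j <;> simp

theorem sym2_mul_left (a b c : Fˣ) :
    (symbol ![a * b, c] : K F 2) = symbol ![a, c] + symbol ![b, c] := by
  have := symbol_update_mul (F := F) ![a, c] 0 a b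
  simpa only [vec2_update_zero] using this

theorem sym2_mul_right (a b c : Fˣ) :
    (symbol ![a, b * c] : K F 2) = symbol ![a, b] + symbol ![a, c] := by
  have := symbol_update_mul (F := F) ![a, b] 1 b c
  simpa only [vec2_update_one] using this

theorem sym2_one_left (c : Fˣ) : (symbol ![1, c] : K F 2) = 0 :=
  symbol_eq_zero_of_one _ 0 rfl

theorem sym2_one_right (c : Fˣ) : (symbol ![c, 1] : K F 2) = 0 :=
  symbol_eq_zero_of_one _ 1 rfl

theorem sym2_inv_left (a c : Fˣ) : (symbol ![a⁻¹, c] : K F 2) = - symbol ![a, c] := by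
  have := symbol_update_inv (F := F) ![a, c] 0 a
  simpa only [vec2_update_zero] using this

theorem sym2_inv_right (a c : Fˣ) : (symbol ![a, c⁻¹] : K F 2) = - symbol ![a, c] := by
  have := symbol_update_inv (F := F) ![a, c] 1 c
  simpa only [vec2_update_one] using this

theorem sym2_pow_left (a c : Fˣ) (k : ℕ) : (symbol ![a ^ k, c] : K F 2) = k • symbol ![a, c] := by
  have := symbol_update_pow (F := F) ![a, c] 0 a k
  simpa only [vec2_update_zero] using this

theorem sym2_pow_right (a c : Fˣ) (k : ℕ) : (symbol ![a, c ^ k] : K F 2) = k • symbol ![a, c] := by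
  have := symbol_update_pow (F := F) ![a, c] 1 c k
  simpa only [vec2_update_one] using this

theorem sym2_zpow_left (a c : Fˣ) (k : ℤ) : (symbol ![a ^ k, c] : K F 2) = k • symbol ![a, c] := by
  have := symbol_update_zpow (F := F) ![a, c] 0 a k
  simpa only [vec2_update_zero] using this

theorem sym2_zpow_right (a c : Fˣ) (k : ℤ) : (symbol ![a, c ^ k] : K F 2) = k • symbol ![a, c] := by
  have := symbol_update_zpow (F := F) ![a, c] 1 c k
  simpa only [vec2_update_one] using this

/-- The Steinberg relation in degree two. -/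
theorem sym2_steinberg (a b : Fˣ) (h : (a : F) + (b : F) = 1) : (symbol ![a, b] : K F 2) = 0 :=
  symbol_eq_zero_of_isSteinberg _ ⟨0, 1, by decide, by simpa using h⟩

/-- `{x, -x} = 0`. -/
theorem sym2_neg_self (x : Fˣ) : (symbol ![x, -x] : K F 2) = 0 := by
  by_cases hx : x = 1
  · subst hx; exact sym2_one_left _
  have hx1 : (1 : F) - (x : F) ≠ 0 := by
    intro h
    apply hx
    ext
    simpa using (sub_eq_zero.mp h).symm
  have hx2 : (1 : F) - ((x⁻¹ : Fˣ) : F) ≠ 0 := by
    intro h
    apply hx
    have h' : ((x⁻¹ : Fˣ) : F) = 1 := (sub_eq_zero.mp h).symm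
    have : x⁻¹ = 1 := by ext; simpa using h'
    simpa using this
  set u : Fˣ := Units.mk0 _ hx1 with hu
  set v : Fˣ := Units.mk0 _ hx2 with hv
  have hneg : -x = u * v⁻¹ := by
    rw [eq_mul_inv_iff_mul_eq]
    ext
    simp only [Units.val_mul, Units.val_neg, hu, hv, Units.val_mk0, Units.val_inv_eq_inv_val]
    have hx0 : (x : F) ≠ 0 := x.ne_zero
    field_simp
    ring
  have h1 : (symbol ![x, u] : K F 2) = 0 := sym2_steinberg x u (by simp [hu])
  have h2 : (symbol ![x⁻¹, v] : K F 2) = 0 := sym2_steinberg x⁻¹ v (by simp [hv])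
  rw [hneg, sym2_mul_right, h1, zero_add, sym2_inv_right]
  rw [sym2_inv_left] at h2
  exact h2

/-- `{x, x} = {x, -1}`. -/
theorem sym2_self (x : Fˣ) : (symbol ![x, x] : K F 2) = symbol ![x, -1] := by
  have h : x = (-1) * (-x) := by simp
  conv_lhs => rw [h]
  rw [h.symm]
  have h3 : (symbol ![x, -1 * -x] : K F 2) = symbol ![x, -1] + symbol ![x, -x] :=
    sym2_mul_right x (-1) (-x)
  rw [sym2_neg_self, add_zero] at h3
  rw [← h3]
  congr 2
  simp

/-- `{x, y} = -{y, x}`. -/
theorem sym2_anticomm (x y : Fˣ) : (symbol ![x, y] : K F 2) = - symbol ![y, x] := by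
  have h := sym2_neg_self (F := F) (x * y)
  have hneg : -(x * y) = x * (-y) := by simp
  rw [hneg, sym2_mul_left, sym2_mul_right, sym2_mul_right] at h
  have hx : (symbol ![x, -y] : K F 2) = symbol ![x, y] + symbol ![x, -1] := by
    have : -y = y * (-1) := by simp
    rw [this, sym2_mul_right]
  have hy : (symbol ![y, x] : K F 2) + symbol ![y, -y] = symbol ![y, x] := by
    rw [sym2_neg_self, add_zero]
  rw [sym2_self x] at h
  -- h : {x,-1} + {x,-y} + ({y,x} + {y,-y}) = 0
  rw [hy, hx] at h
  -- 2{x,-1} = {x,1} = 0
  have h2 : (symbol ![x, -1] : K F 2) + symbol ![x, -1] = 0 := by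
    rw [← sym2_mul_right]
    simp [sym2_one_right]
  have : (symbol ![x, y] : K F 2) + symbol ![y, x] = 0 := by
    have e : (symbol ![x, -1] : K F 2) + (symbol ![x, y] + symbol ![x, -1]) + symbol ![y, x] =
        (symbol ![x, -1] + symbol ![x, -1]) + (symbol ![x, y] + symbol ![y, x]) := by abel
    rw [e, h2, zero_add] at h
    exact h
  exact eq_neg_of_add_eq_zero_left this

/-! ### Generation by symbols -/

theorem closure_symbols_eq_top (n : ℕ) :
    AddSubgroup.closure (Set.range (symbol : (Fin n → Fˣ) → K F n)) = ⊤ := by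
  rw [eq_top_iff]
  intro z _
  obtain ⟨t, rfl⟩ := mk_surjective F n z
  induction t using PiTensorProduct.induction_on with
  | smul_tprod r f =>
    rw [map_zsmul, mk_tprod]
    exact AddSubgroup.zsmul_mem _ (AddSubgroup.subset_closure (Set.mem_range_self _)) r
  | add x y hx hy =>
    rw [map_add]
    exact AddSubgroup.add_mem _ (hx trivial) (hy trivial)

/-- To prove a property of all elements of `K F n` it suffices to treat `0`, symbols, sums and
negatives. -/
theorem K_induction {n : ℕ} {P : K F n → Prop} (h0 : P 0)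
    (hsym : ∀ x : Fin n → Fˣ, P (symbol x)) (hadd : ∀ a b, P a → P b → P (a + b))
    (hneg : ∀ a, P a → P (-a)) (z : K F n) : P z := by
  have hz : z ∈ AddSubgroup.closure (Set.range (symbol : (Fin n → Fˣ) → K F n)) := by
    rw [closure_symbols_eq_top]; trivial
  induction hz using AddSubgroup.closure_induction with
  | mem x hx => obtain ⟨y, rfl⟩ := hx; exact hsym y
  | zero => exact h0
  | add a b _ _ ha hb => exact hadd a b ha hb
  | neg a _ ha => exact hneg a ha

/-- Two additive maps out of `K F n` that agree on symbols are equal. -/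
theorem addMonoidHom_ext {n : ℕ} {M : Type*} [AddCommGroup M] {f g : K F n →+ M}
    (h : ∀ x : Fin n → Fˣ, f (symbol x) = g (symbol x)) : f = g := by
  ext z
  refine K_induction (P := fun z => f z = g z) (by simp) h ?_ ?_ z
  · intro a b ha hb; rw [map_add, map_add, ha, hb]
  · intro a ha; rw [map_neg, map_neg, ha]

end Groth.Agent.Lib.Helper15.MilKLib
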