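import Groth.Agent.Lib.Helper15.MilK
import Mathlib.LinearAlgebra.Multilinear.Curry

/-!
# Milnor K-groups: prepending an entry, anticommutativity in general position (helper15)

* `symML n`: the symbol as an integer-multilinear map.
* `consK a : K F m →+ K F (m+1)`, `{z} ↦ {a, z}`, additive in `a` (`consKHom`).
* `symbol_swap`: exchanging two entries of a symbol changes its sign.
* `symbol_same`: `{.., x, .., x, ..} = - {.., x, .., -1, ..}`.
* `closure_consK_eq_top`: `K F (m+1)` is generated by the `consK a β`.
-/

set_option autoImplicit false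

namespace Groth.Agent.Lib.Helper15.MilKLib

open MilK Function

universe u

variable {F : Type u} [Field F]

/-- the symbol as a multilinear map -/
noncomputable def symML (n : ℕ) : MultilinearMap ℤ (fun _ : Fin n => Additive Fˣ) (K F n) :=
  (MilK.mk F n).toIntLinearMap.compMultilinearMap (PiTensorProduct.tprod ℤ)

theorem symML_apply {n : ℕ} (x : Fin n → Additive Fˣ) :
    symML n x = symbol (fun i => (x i).toMul) := rfl

theorem symML_ofMul {n : ℕ} (x : Fin n → Fˣ) :
    symML n (fun i => Additive.ofMul (x i)) = symbol x := rfl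

theorem isSteinberg_cons {n : ℕ} (a : Fˣ) (x : Fin n → Fˣ) (hx : IsSteinberg F x) :
    IsSteinberg F (Fin.cons a x : Fin (n + 1) → Fˣ) := by
  obtain ⟨i, j, hij, h⟩ := hx
  refine ⟨i.succ, j.succ, Fin.succ_lt_succ_iff.mpr hij, ?_⟩
  simpa using h

/-- `a ↦ (z ↦ {a, z})` as a linear map into multilinear maps -/
noncomputable def consML (m : ℕ) :
    Additive Fˣ →ₗ[ℤ] MultilinearMap ℤ (fun _ : Fin m => Additive Fˣ) (K F (m + 1)) :=
  (symML (F := F) (m + 1)).curryLeft

theorem consML_apply {m : ℕ} (a : Additive Fˣ) (x : Fin m → Additive Fˣ) :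
    consML m a x = symbol (fun i => ((Fin.cons a x : Fin (m + 1) → Additive Fˣ) i).toMul) := rfl

theorem consML_ofMul {m : ℕ} (a : Fˣ) (x : Fin m → Fˣ) :
    consML m (Additive.ofMul a) (fun i => Additive.ofMul (x i)) =
      symbol (Fin.cons a x : Fin (m + 1) → Fˣ) := by
  rw [consML_apply]
  congr 1

/-- `{z} ↦ {a, z}` -/
noncomputable def consK {m : ℕ} (a : Fˣ) : K F m →+ K F (m + 1) :=
  MilK.lift (consML m (Additive.ofMul a)) (by
    intro x hx
    rw [consML_ofMul]
    exact symbol_eq_zero_of_isSteinberg _ (isSteinberg_cons a x hx))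

@[simp]
theorem consK_symbol {m : ℕ} (a : Fˣ) (z : Fin m → Fˣ) :
    consK a (symbol z) = symbol (Fin.cons a z : Fin (m + 1) → Fˣ) := by
  rw [consK, lift_symbol, consML_ofMul]

theorem consK_mul {m : ℕ} (a b : Fˣ) :
    (consK (a * b) : K F m →+ K F (m + 1)) = consK a + consK b := by
  apply addMonoidHom_ext
  intro z
  rw [AddMonoidHom.add_apply, consK_symbol, consK_symbol, consK_symbol]
  have := symbol_update_mul (F := F) (Fin.cons a z : Fin (m + 1) → Fˣ) 0 a b
  have e : ∀ c : Fˣ, update (Fin.cons a z : Fin (m + 1) → Fˣ) 0 c = Fin.cons c z := by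
    intro c
    ext j
    refine Fin.cases ?_ (fun k => ?_) j <;> simp
  simpa only [e] using this

theorem consK_one {m : ℕ} : (consK (1 : Fˣ) : K F m →+ K F (m + 1)) = 0 := by
  have h := consK_mul (F := F) (m := m) 1 1
  rw [mul_one] at h
  exact left_eq_add.mp h |>.symm ▸ rfl

/-- `consK` as a homomorphism in the unit -/
noncomputable def consKHom (m : ℕ) : Additive Fˣ →+ (K F m →+ K F (m + 1)) where
  toFun a := consK a.toMul
  map_zero' := consK_one
  map_add' a b := consK_mul a.toMul b.toMul

theorem consKHom_apply {m : ℕ} (a : Fˣ) : consKHom (F := F) m (Additive.ofMul a) = consK a := rfl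

theorem consK_inv {m : ℕ} (a : Fˣ) : (consK a⁻¹ : K F m →+ K F (m + 1)) = - consK a :=
  map_neg (consKHom (F := F) m) (Additive.ofMul a)

theorem consK_zpow {m : ℕ} (a : Fˣ) (k : ℤ) :
    (consK (a ^ k) : K F m →+ K F (m + 1)) = k • consK a :=
  map_zsmul (consKHom (F := F) m) k (Additive.ofMul a)

theorem consK_pow {m : ℕ} (a : Fˣ) (k : ℕ) :
    (consK (a ^ k) : K F m →+ K F (m + 1)) = k • consK a :=
  map_nsmul (consKHom (F := F) m) k (Additive.ofMul a)

/-- every tuple is the cons of its head and tail -/
theorem symbol_eq_consK {m : ℕ} (z : Fin (m + 1) → Fˣ) :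
    symbol z = consK (z 0) (symbol (Fin.tail z)) := by
  rw [consK_symbol, Fin.cons_self_tail]

theorem closure_consK_eq_top (m : ℕ) :
    AddSubgroup.closure {y : K F (m + 1) | ∃ (a : Fˣ) (β : K F m), y = consK a β} = ⊤ := by
  rw [eq_top_iff, ← closure_symbols_eq_top]
  apply AddSubgroup.closure_mono
  rintro _ ⟨z, rfl⟩
  exact ⟨z 0, symbol (Fin.tail z), symbol_eq_consK z⟩

theorem append_singleton_comp_cast {α : Type*} {m : ℕ} (a : α) (z : Fin m → α) :
    Fin.append ![a] z ∘ Fin.cast (Nat.add_comm 1 m).symm = Fin.cons a z := by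
  ext i
  refine Fin.cases ?_ (fun k => ?_) i
  · have : Fin.cast (Nat.add_comm 1 m).symm (0 : Fin (m + 1)) = Fin.castAdd m (0 : Fin 1) := by
      ext; simp
    simp only [comp_apply, this, Fin.append_left, Fin.cons_zero]
    rfl
  · have : Fin.cast (Nat.add_comm 1 m).symm k.succ = Fin.natAdd 1 k := by
      ext; simp [Nat.add_comm]
    simp only [comp_apply, this, Fin.append_right, Fin.cons_succ]

/-- left multiplication by a one-fold symbol, transported to degree `m + 1`, is `consK` -/
theorem cast_mul_singleton {m : ℕ} (a : Fˣ) (β : K F m) :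
    MilK.cast F (Nat.add_comm 1 m) (MilK.mul F 1 m (symbol ![a]) β) = consK a β := by
  have : ((MilK.cast F (Nat.add_comm 1 m)).toAddMonoidHom.comp (MilK.mul F 1 m (symbol ![a]))) =
      consK a := by
    apply addMonoidHom_ext
    intro z
    simp only [AddMonoidHom.comp_apply, AddEquiv.coe_toAddMonoidHom, mul_symbol_symbol,
      cast_symbol, consK_symbol, append_singleton_comp_cast]
  exact DFunLike.congr_fun this β

/-! ### general position -/

/-- additivity in slot `i` of a doubly updated tuple -/
theorem symbol_update₂_mul_left {n : ℕ} (z : Fin n → Fˣ) (i j : Fin n) (hij : i ≠ j)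
    (s s' t : Fˣ) :
    (symbol (update (update z i (s * s')) j t) : K F n) =
      symbol (update (update z i s) j t) + symbol (update (update z i s') j t) := by
  rw [update_comm hij (s * s') t z, update_comm hij s t z, update_comm hij s' t z,
    symbol_update_mul]

theorem symbol_update₂_mul_right {n : ℕ} (z : Fin n → Fˣ) (i j : Fin n)
    (s t t' : Fˣ) :
    (symbol (update (update z i s) j (t * t')) : K F n) =
      symbol (update (update z i s) j t) + symbol (update (update z i s) j t') :=
  symbol_update_mul _ _ _ _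

theorem symbol_update₂_neg_self {n : ℕ} (z : Fin n → Fˣ) (i j : Fin n) (hij : i ≠ j) (s : Fˣ) :
    (symbol (update (update z i s) j (-s)) : K F n) = 0 := by
  apply symbol_eq_zero_of_eq_neg _ i j hij
  rw [update_self, update_of_ne hij, update_self]

/-- exchanging the entries in two slots changes the sign -/
theorem symbol_update₂_swap {n : ℕ} (z : Fin n → Fˣ) (i j : Fin n) (hij : i ≠ j) (a b : Fˣ) :
    (symbol (update (update z i b) j a) : K F n) = - symbol (update (update z i a) j b) := by
  have h0 := symbol_update₂_neg_self z i j hij (a * b)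
  rw [symbol_update₂_mul_left z i j hij] at h0
  have e1 : -(a * b) = (-a) * b := by simp
  have e2 : -(a * b) = a * (-b) := by simp
  rw [e1, symbol_update₂_mul_right, symbol_update₂_neg_self z i j hij a, zero_add] at h0
  rw [← e1, e2, symbol_update₂_mul_right, symbol_update₂_neg_self z i j hij b, add_zero] at h0
  exact eq_neg_of_add_eq_zero_right h0

theorem symbol_swap {n : ℕ} (z : Fin n → Fˣ) (i j : Fin n) (hij : i ≠ j) :
    (symbol (z ∘ Equiv.swap i j) : K F n) = - symbol z := by
  have e1 : z ∘ Equiv.swap i j = update (update z i (z j)) j (z i) := by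
    ext k
    by_cases hkj : k = j
    · subst hkj; simp
    by_cases hki : k = i
    · subst hki; simp [update_of_ne hij]
    · simp [update_of_ne hkj, update_of_ne hki, Equiv.swap_apply_of_ne_of_ne hki hkj]
  have e2 : z = update (update z i (z i)) j (z j) := by
    rw [update_eq_self, update_eq_self]
  rw [e1, symbol_update₂_swap z i j hij (z i) (z j), ← e2]

/-- `{.., x, .., x, ..} = -{.., x, .., -1, ..}` -/
theorem symbol_same {n : ℕ} (z : Fin n → Fˣ) (i j : Fin n) (hij : i ≠ j) (h : z j = z i) :
    (symbol z : K F n) = - symbol (update z j (-1)) := by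
  have h0 := symbol_update₂_neg_self z i j hij (z i)
  have e : -(z i) = z i * (-1) := by simp
  rw [e, symbol_update₂_mul_right, update_eq_self] at h0
  have e3 : update z j (z i) = z := by rw [← h, update_eq_self]
  rw [e3] at h0
  exact eq_neg_of_add_eq_zero_left h0

end Groth.Agent.Lib.Helper15.MilKLib
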