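import Groth.Agent.Lib.Helper15.MilK
import Mathlib.RingTheory.DiscreteValuationRing.Basic

/-!
# Helper lemmas on Milnor K-groups of the fraction field of a DVR (helper15)
-/

set_option autoImplicit false

namespace Groth.Agent.Lib.Helper15.MilKLib

open MilK

universe u v

variable (A : Type u) [CommRing A] [IsDomain A] [IsDiscreteValuationRing A]
  (L : Type v) [Field L] [Algebra A L] [IsFractionRing A L]

/-- Every unit of the fraction field is `π ^ e * u` with `u` a unit of the valuation ring. -/
theorem exists_zpow_mul_unit (ϖ : A) (hϖ : Irreducible ϖ) (l : Lˣ) :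
    ∃ (e : ℤ) (u : Aˣ), l = unitFrac A L ϖ hϖ.ne_zero ^ e * unitToFrac A L u := by
  obtain ⟨e, u, h⟩ := IsDiscreteValuationRing.exists_units_eq_smul_zpow_of_irreducible
    (K := L) hϖ (x := (l : L)) l.ne_zero
  refine ⟨e, u, ?_⟩
  ext
  rw [h, Units.val_mul, Units.val_zpow_eq_zpow_val, coe_unitFrac, unitToFrac, Units.coe_map,
    Units.smul_def, Algebra.smul_def, mul_comm]
  rfl

theorem cons_update_zero {α : Type*} {n : ℕ} (a b : α) (w : Fin n → α) :
    Function.update (Fin.cons a w : Fin (n + 1) → α) 0 b = Fin.cons b w := by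
  ext j
  refine Fin.cases ?_ (fun k => ?_) j
  · simp
  · simp [Fin.succ_ne_zero]

theorem symbol_cons_mul {F : Type*} [Field F] {n : ℕ} (a b : Fˣ) (w : Fin n → Fˣ) :
    (symbol (Fin.cons (a * b) w) : K F (n + 1)) = symbol (Fin.cons a w) + symbol (Fin.cons b w) := by
  have := symbol_update_mul (F := F) (Fin.cons a w : Fin (n + 1) → Fˣ) 0 a b
  simpa only [cons_update_zero] using this

/-- The tame symbol kills symbols all of whose entries are units of the valuation ring. -/
theorem tame_units_eq_zero (n : ℕ) (d : K L (n + 1) →+ K (IsLocalRing.ResidueField A) n)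
    (hd : IsTameSymbol A L n d) (u : Fin (n + 1) → Aˣ) :
    d (symbol fun i => unitToFrac A L (u i)) = 0 := by
  obtain ⟨ϖ, hϖ⟩ := IsDiscreteValuationRing.exists_irreducible A
  have hϖ' : Irreducible (ϖ * (u 0 : A)) :=
    (associated_mul_unit_right ϖ _ (u 0).isUnit).irreducible hϖ
  have h1 := hd ϖ hϖ (fun i => u i.succ)
  have h2 := hd (ϖ * (u 0 : A)) hϖ' (fun i => u i.succ)
  have e : unitFrac A L (ϖ * (u 0 : A)) hϖ'.ne_zero =
      unitFrac A L ϖ hϖ.ne_zero * unitToFrac A L (u 0) := by
    ext
    simp [unitToFrac]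
  rw [e, symbol_cons_mul, map_add, h1] at h2
  have h3 := add_eq_left.mp h2
  have e2 : (Fin.cons (unitToFrac A L (u 0)) fun i : Fin n => unitToFrac A L (u i.succ)) =
      fun i : Fin (n + 1) => unitToFrac A L (u i) := by
    ext j
    refine Fin.cases ?_ (fun k => ?_) j <;> simp
  rw [e2] at h3
  exact h3

end Groth.Agent.Lib.Helper15.MilKLib
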