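import Groth.Agent.Lib.Helper15.MilKDVR
import Mathlib.RingTheory.LocalRing.ResidueField.Basic

/-!
# The specialization homomorphism `Lˣ → κˣ`, `π ^ e * u ↦ ū` of a DVR with a chosen uniformizer,
and the specialization map on Milnor K-groups (helper15)
-/

set_option autoImplicit false

namespace Groth.Agent.Lib.Helper15.MilKLib

open MilK

universe u v

variable (A : Type u) [CommRing A] [IsDomain A] [IsDiscreteValuationRing A]
  (L : Type v) [Field L] [Algebra A L] [IsFractionRing A L]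

theorem coe_unitToFrac' (u : Aˣ) : ((unitToFrac A L u : Lˣ) : L) = algebraMap A L (u : A) := rfl

theorem unitToFrac_injective : Function.Injective (unitToFrac A L) :=
  Units.map_injective (IsFractionRing.injective A L)

variable {A L}

theorem zpow_eq_unit_imp (ϖ : A) (hϖ : Irreducible ϖ) :
    ∀ (k : ℤ) (w : Aˣ), unitFrac A L ϖ hϖ.ne_zero ^ k = unitToFrac A L w → k = 0 := by
  have hpos : ∀ (m : ℕ) (w : Aˣ), unitFrac A L ϖ hϖ.ne_zero ^ (m + 1) = unitToFrac A L w → False := by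
    intro m w h
    have h1 := congrArg (fun x : Lˣ => (x : L)) h
    simp only [Units.val_pow_eq_pow_val, coe_unitFrac, coe_unitToFrac', ← map_pow] at h1
    have h2 := IsFractionRing.injective A L h1
    have h3 : IsUnit (ϖ ^ (m + 1)) := by rw [h2]; exact w.isUnit
    exact hϖ.not_isUnit (isUnit_pow_succ_iff.mp h3)
  intro k w h
  rcases lt_trichotomy k 0 with hk | hk | hk
  · exfalso
    obtain ⟨m, hm⟩ : ∃ m : ℕ, -k = (m : ℤ) + 1 := ⟨(-k - 1).toNat, by omega⟩
    apply hpos m w⁻¹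
    have : unitFrac A L ϖ hϖ.ne_zero ^ (-k) = unitToFrac A L w⁻¹ := by
      rw [zpow_neg, h, map_inv]
    rw [hm] at this
    rw [← this]
    norm_cast
  · exact hk
  · exfalso
    obtain ⟨m, hm⟩ : ∃ m : ℕ, k = (m : ℤ) + 1 := ⟨(k - 1).toNat, by omega⟩
    apply hpos m w
    rw [← h, hm]
    norm_cast

theorem repr_unique (ϖ : A) (hϖ : Irreducible ϖ) (e e' : ℤ) (u u' : Aˣ)
    (h : unitFrac A L ϖ hϖ.ne_zero ^ e * unitToFrac A L u =
      unitFrac A L ϖ hϖ.ne_zero ^ e' * unitToFrac A L u') : e = e' ∧ u = u' := by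
  have h1 : unitFrac A L ϖ hϖ.ne_zero ^ (e - e') = unitToFrac A L (u' * u⁻¹) := by
    rw [zpow_sub, map_mul, map_inv]
    have h3 := eq_mul_inv_of_mul_eq h
    rw [h3, mul_assoc (_ ^ e'), mul_comm (_ ^ e'), mul_assoc, mul_inv_cancel, mul_one]
  have h2 := zpow_eq_unit_imp ϖ hϖ _ _ h1
  have he : e = e' := by omega
  refine ⟨he, ?_⟩
  subst he
  exact unitToFrac_injective A L (mul_left_cancel h)

variable (A L)

/-- The specialization homomorphism `π ^ e * u ↦ ū`. -/
noncomputable def sp (ϖ : A) (hϖ : Irreducible ϖ) : Lˣ →* (IsLocalRing.ResidueField A)ˣ where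
  toFun x := unitResidue A (exists_zpow_mul_unit A L ϖ hϖ x).choose_spec.choose
  map_one' := by
    have h := (exists_zpow_mul_unit A L ϖ hϖ (1 : Lˣ)).choose_spec.choose_spec
    have h' : unitFrac A L ϖ hϖ.ne_zero ^ (0 : ℤ) * unitToFrac A L 1 =
        unitFrac A L ϖ hϖ.ne_zero ^ (exists_zpow_mul_unit A L ϖ hϖ (1 : Lˣ)).choose *
          unitToFrac A L (exists_zpow_mul_unit A L ϖ hϖ (1 : Lˣ)).choose_spec.choose := by
      rw [← h]; simp
    rw [← (repr_unique ϖ hϖ _ _ _ _ h').2, map_one]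
  map_mul' x y := by
    have hx := (exists_zpow_mul_unit A L ϖ hϖ x).choose_spec.choose_spec
    have hy := (exists_zpow_mul_unit A L ϖ hϖ y).choose_spec.choose_spec
    have hxy := (exists_zpow_mul_unit A L ϖ hϖ (x * y)).choose_spec.choose_spec
    set ex := (exists_zpow_mul_unit A L ϖ hϖ x).choose
    set ux := (exists_zpow_mul_unit A L ϖ hϖ x).choose_spec.choose
    set ey := (exists_zpow_mul_unit A L ϖ hϖ y).choose
    set uy := (exists_zpow_mul_unit A L ϖ hϖ y).choose_spec.choose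
    set exy := (exists_zpow_mul_unit A L ϖ hϖ (x * y)).choose
    set uxy := (exists_zpow_mul_unit A L ϖ hϖ (x * y)).choose_spec.choose
    have h' : unitFrac A L ϖ hϖ.ne_zero ^ exy * unitToFrac A L uxy =
        unitFrac A L ϖ hϖ.ne_zero ^ (ex + ey) * unitToFrac A L (ux * uy) := by
      rw [← hxy, map_mul, zpow_add]
      nth_rewrite 1 [hx, hy]
      rw [mul_mul_mul_comm]
    rw [(repr_unique ϖ hϖ _ _ _ _ h').2, map_mul]

theorem sp_apply (ϖ : A) (hϖ : Irreducible ϖ) (e : ℤ) (u : Aˣ) :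
    sp A L ϖ hϖ (unitFrac A L ϖ hϖ.ne_zero ^ e * unitToFrac A L u) = unitResidue A u := by
  have h := (exists_zpow_mul_unit A L ϖ hϖ
    (unitFrac A L ϖ hϖ.ne_zero ^ e * unitToFrac A L u)).choose_spec.choose_spec
  have := (repr_unique ϖ hϖ _ _ _ _ h).2
  change unitResidue A _ = _
  rw [← this]

theorem sp_unit (ϖ : A) (hϖ : Irreducible ϖ) (u : Aˣ) :
    sp A L ϖ hϖ (unitToFrac A L u) = unitResidue A u := by
  have := sp_apply A L ϖ hϖ 0 u
  simpa using this

theorem coe_unitResidue (u : Aˣ) :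
    ((unitResidue A u : (IsLocalRing.ResidueField A)ˣ) : IsLocalRing.ResidueField A) =
      IsLocalRing.residue A (u : A) := rfl

theorem residue_uniformizer (ϖ : A) (hϖ : Irreducible ϖ) : IsLocalRing.residue A ϖ = 0 := by
  rw [IsLocalRing.residue_eq_zero_iff, hϖ.maximalIdeal_eq]
  exact Ideal.mem_span_singleton_self ϖ

theorem sp_steinberg_aux (ϖ : A) (hϖ : Irreducible ϖ) (a b : ℤ) (u v : Aˣ)
    (h : ((unitFrac A L ϖ hϖ.ne_zero ^ a * unitToFrac A L u : Lˣ) : L) +
      ((unitFrac A L ϖ hϖ.ne_zero ^ b * unitToFrac A L v : Lˣ) : L) = 1) (hab : a ≤ b) :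
    unitResidue A u = 1 ∨ unitResidue A v = 1 ∨
      IsLocalRing.residue A (u : A) + IsLocalRing.residue A (v : A) = 1 ∨
      unitResidue A v = - unitResidue A u := by
  set P : L := algebraMap A L ϖ with hPdef
  have hP : P ≠ 0 := by
    rw [hPdef]
    exact (map_ne_zero_iff _ (IsFractionRing.injective A L)).mpr hϖ.ne_zero
  simp only [Units.val_mul, Units.val_zpow_eq_zpow_val, coe_unitFrac, coe_unitToFrac'] at h
  rw [← hPdef] at h
  have hres := residue_uniformizer A ϖ hϖ
  by_cases ha : 0 < a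
  · exfalso
    obtain ⟨k, hk⟩ : ∃ k : ℕ, a = (k : ℤ) + 1 := ⟨(a - 1).toNat, by omega⟩
    obtain ⟨m, hm⟩ : ∃ m : ℕ, b = (m : ℤ) + 1 := ⟨(b - 1).toNat, by omega⟩
    have hk' : a = ((k + 1 : ℕ) : ℤ) := by push_cast; exact hk
    have hm' : b = ((m + 1 : ℕ) : ℤ) := by push_cast; exact hm
    rw [hk', hm', zpow_natCast, zpow_natCast, hPdef, ← map_pow, ← map_pow, ← map_mul, ← map_mul,
      ← map_add] at h
    have h1 : ϖ ^ (k + 1) * (u : A) + ϖ ^ (m + 1) * (v : A) = 1 :=
      IsFractionRing.injective A L (by rw [h, map_one])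
    have h2 := congrArg (IsLocalRing.residue A) h1
    simp [hres] at h2
  · have key : algebraMap A L (u : A) + P ^ (b - a) * algebraMap A L (v : A) = P ^ (-a) := by
      have := congrArg (fun t => P ^ (-a) * t) h
      simp only [mul_add, mul_one] at this
      rw [← mul_assoc, ← mul_assoc, ← zpow_add₀ hP, ← zpow_add₀ hP] at this
      rw [show -a + a = 0 by ring, show -a + b = b - a by ring, zpow_zero, one_mul] at this
      exact this
    obtain ⟨k, hk⟩ : ∃ k : ℕ, -a = (k : ℤ) := ⟨(-a).toNat, by omega⟩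
    obtain ⟨m, hm⟩ : ∃ m : ℕ, b - a = (m : ℤ) := ⟨(b - a).toNat, by omega⟩
    rw [hk, hm, zpow_natCast, zpow_natCast, hPdef, ← map_pow, ← map_pow, ← map_mul, ← map_add] at key
    have key' : (u : A) + ϖ ^ m * (v : A) = ϖ ^ k := IsFractionRing.injective A L key
    have h2 := congrArg (IsLocalRing.residue A) key'
    simp only [map_add, map_mul, map_pow, hres] at h2
    have hu0 : IsLocalRing.residue A (u : A) ≠ 0 := (unitResidue A u).ne_zero
    rcases Nat.eq_zero_or_pos m with hm0 | hm0 <;> rcases Nat.eq_zero_or_pos k with hk0 | hk0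
    · right; right; left
      simpa [hm0, hk0] using h2
    · right; right; right
      apply Units.ext
      rw [Units.val_neg, coe_unitResidue, coe_unitResidue]
      have : IsLocalRing.residue A (u : A) + IsLocalRing.residue A (v : A) = 0 := by
        simpa [hm0, zero_pow hk0.ne'] using h2
      exact eq_neg_of_add_eq_zero_right this
    · left
      apply Units.ext
      rw [coe_unitResidue, Units.val_one]
      simpa [hk0, zero_pow hm0.ne'] using h2
    · exfalso
      simp [zero_pow hm0.ne', zero_pow hk0.ne'] at h2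

theorem sp_steinberg (ϖ : A) (hϖ : Irreducible ϖ) (X Y : Lˣ) (h : (X : L) + (Y : L) = 1) :
    sp A L ϖ hϖ X = 1 ∨ sp A L ϖ hϖ Y = 1 ∨
      ((sp A L ϖ hϖ X : (IsLocalRing.ResidueField A)ˣ) : IsLocalRing.ResidueField A) +
        ((sp A L ϖ hϖ Y : (IsLocalRing.ResidueField A)ˣ) : IsLocalRing.ResidueField A) = 1 ∨
      sp A L ϖ hϖ Y = - sp A L ϖ hϖ X := by
  obtain ⟨a, u, rfl⟩ := exists_zpow_mul_unit A L ϖ hϖ X
  obtain ⟨b, v, rfl⟩ := exists_zpow_mul_unit A L ϖ hϖ Y
  rw [sp_apply, sp_apply]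
  rcases le_total a b with hab | hab
  · exact sp_steinberg_aux A L ϖ hϖ a b u v h hab
  · rw [add_comm] at h
    rcases sp_steinberg_aux A L ϖ hϖ b a v u h hab with h1 | h1 | h1 | h1
    · exact Or.inr (Or.inl h1)
    · exact Or.inl h1
    · right; right; left
      rw [coe_unitResidue, coe_unitResidue, add_comm]; exact h1
    · right; right; right
      rw [h1, neg_neg]

/-- The multilinear map underlying the specialization map. -/
noncomputable def specMultilinear (ϖ : A) (hϖ : Irreducible ϖ) (n : ℕ) :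
    MultilinearMap ℤ (fun _ : Fin n => Additive Lˣ) (K (IsLocalRing.ResidueField A) n) :=
  ((MilK.mk (IsLocalRing.ResidueField A) n).toIntLinearMap.compMultilinearMap
    (PiTensorProduct.tprod ℤ)).compLinearMap
      (fun _ => (MonoidHom.toAdditive (sp A L ϖ hϖ)).toIntLinearMap)

theorem specMultilinear_apply (ϖ : A) (hϖ : Irreducible ϖ) (n : ℕ) (x : Fin n → Additive Lˣ) :
    specMultilinear A L ϖ hϖ n x = symbol (fun i => sp A L ϖ hϖ (x i).toMul) := rfl

theorem specMultilinear_steinberg (ϖ : A) (hϖ : Irreducible ϖ) (n : ℕ) (x : Fin n → Lˣ)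
    (hx : IsSteinberg L x) :
    specMultilinear A L ϖ hϖ n (fun i => Additive.ofMul (x i)) = 0 := by
  rw [specMultilinear_apply]
  obtain ⟨i, j, hij, h⟩ := hx
  simp only [toMul_ofMul]
  rcases sp_steinberg A L ϖ hϖ (x i) (x j) h with h1 | h1 | h1 | h1
  · exact symbol_eq_zero_of_one _ i h1
  · exact symbol_eq_zero_of_one _ j h1
  · exact symbol_eq_zero_of_add_eq_one _ i j hij.ne h1
  · exact symbol_eq_zero_of_eq_neg _ i j hij.ne h1

/-- The specialization map attached to the uniformizer `ϖ`. -/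
noncomputable def specMap (ϖ : A) (hϖ : Irreducible ϖ) (n : ℕ) :
    K L n →+ K (IsLocalRing.ResidueField A) n :=
  MilK.lift (specMultilinear A L ϖ hϖ n) (specMultilinear_steinberg A L ϖ hϖ n)

theorem specMap_symbol (ϖ : A) (hϖ : Irreducible ϖ) (n : ℕ) (x : Fin n → Lˣ) :
    specMap A L ϖ hϖ n (symbol x) = symbol (fun i => sp A L ϖ hϖ (x i)) := by
  rw [specMap, lift_symbol, specMultilinear_apply]
  rfl

theorem specMap_isSpecMap (ϖ : A) (hϖ : Irreducible ϖ) (n : ℕ) :
    IsSpecMap A L ϖ hϖ n (specMap A L ϖ hϖ n) := by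
  intro e u
  rw [specMap_symbol]
  congr 1
  ext i
  rw [sp_apply]

theorem isSpecMap_unique (ϖ : A) (hϖ : Irreducible ϖ) (n : ℕ)
    (s s' : K L n →+ K (IsLocalRing.ResidueField A) n)
    (hs : IsSpecMap A L ϖ hϖ n s) (hs' : IsSpecMap A L ϖ hϖ n s') : s = s' := by
  apply addMonoidHom_ext
  intro y
  have hy : ∀ i, ∃ (e : ℤ) (u : Aˣ), y i = unitFrac A L ϖ hϖ.ne_zero ^ e * unitToFrac A L u :=
    fun i => exists_zpow_mul_unit A L ϖ hϖ (y i)
  choose e u hyeu using hy
  have hy' : y = fun i => unitFrac A L ϖ hϖ.ne_zero ^ e i * unitToFrac A L (u i) := funext hyeu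
  rw [hy', hs e u, hs' e u]

end Groth.Agent.Lib.Helper15.MilKLib
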