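import Groth.Agent.Lib.Helper77.QuasiReg
import Mathlib

/-!
# The order valuation of a Noetherian local domain whose maximal ideal is generated by a
quasi-regular sequence
-/

set_option autoImplicit false
set_option linter.unusedSectionVars false

universe u

namespace Groth.Agent.Lib.Helper15.OrdVal

open MvPolynomial IsLocalRing

variable {A : Type u} [CommRing A] [IsLocalRing A] [IsNoetherianRing A] [IsDomain A]

/-! ### the order function -/

theorem exists_not_mem_pow_succ {a : A} (ha : a ≠ 0) : ∃ n : ℕ, a ∉ maximalIdeal A ^ (n + 1) := by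
  by_contra hcon
  push Not at hcon
  apply ha
  have h := Ideal.iInf_pow_eq_bot_of_isLocalRing (maximalIdeal A) Ideal.IsPrime.ne_top'
  have : a ∈ ⨅ i : ℕ, maximalIdeal A ^ i := by
    rw [Ideal.mem_iInf]
    intro i
    cases i with
    | zero => simp
    | succ n => exact hcon n
  rw [h] at this
  exact this

open Classical in
/-- the `m`-adic order of an element (`0` for `0`) -/
noncomputable def ord (a : A) : ℕ :=
  if h : ∃ n : ℕ, a ∉ maximalIdeal A ^ (n + 1) then Nat.find h else 0

theorem not_mem_pow_ord_succ {a : A} (ha : a ≠ 0) : a ∉ maximalIdeal A ^ (ord a + 1) := by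
  classical
  unfold ord
  rw [dif_pos (exists_not_mem_pow_succ ha)]
  exact Nat.find_spec (exists_not_mem_pow_succ ha)

theorem mem_pow_ord (a : A) : a ∈ maximalIdeal A ^ ord a := by
  classical
  by_cases ha : a = 0
  · subst ha; exact zero_mem _
  unfold ord
  rw [dif_pos (exists_not_mem_pow_succ ha)]
  rcases hn : Nat.find (exists_not_mem_pow_succ ha) with _ | n
  · simp
  · by_contra hcon
    have := Nat.find_min (exists_not_mem_pow_succ ha) (m := n) (by omega)
    exact this hcon

theorem mem_pow_iff_le_ord {a : A} (ha : a ≠ 0) (n : ℕ) : a ∈ maximalIdeal A ^ n ↔ n ≤ ord a := by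
  constructor
  · intro h
    by_contra hlt
    push Not at hlt
    exact not_mem_pow_ord_succ ha (Ideal.pow_le_pow_right (by omega) h)
  · intro h
    exact Ideal.pow_le_pow_right h (mem_pow_ord a)

theorem ord_eq_of_mem_of_not_mem {a : A} {n : ℕ} (h1 : a ∈ maximalIdeal A ^ n)
    (h2 : a ∉ maximalIdeal A ^ (n + 1)) : ord a = n := by
  have ha : a ≠ 0 := by
    rintro rfl
    exact h2 (zero_mem _)
  apply le_antisymm
  · by_contra hlt
    push Not at hlt
    exact h2 ((mem_pow_iff_le_ord ha _).mpr (by omega))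
  · exact (mem_pow_iff_le_ord ha n).mp h1

theorem ord_of_not_mem {a : A} (h : a ∉ maximalIdeal A) : ord a = 0 :=
  ord_eq_of_mem_of_not_mem (by simp) (by simpa using h)

theorem ord_one : ord (1 : A) = 0 :=
  ord_of_not_mem (fun h => (Ideal.ne_top_iff_one _).mp Ideal.IsPrime.ne_top' h)

variable {c : ℕ} (x : Fin c → A) (hx : Ideal.span (Set.range x) = maximalIdeal A)
  (hq : CAlgX.IsQuasiRegular x)

theorem coeff_mem_iff_map_eq_zero (P : MvPolynomial (Fin c) A) :
    (∀ d, P.coeff d ∈ maximalIdeal A) ↔ MvPolynomial.map (residue A) P = 0 := by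
  constructor
  · intro h
    ext d
    rw [coeff_map, coeff_zero, residue_eq_zero_iff]
    exact h d
  · intro h d
    have := congrArg (MvPolynomial.coeff d) h
    rwa [coeff_map, coeff_zero, residue_eq_zero_iff] at this

include hx in
theorem eval_mem_pow_succ {n : ℕ} (P : MvPolynomial (Fin c) A) (hP : P.IsHomogeneous n)
    (hc : ∀ d, P.coeff d ∈ maximalIdeal A) : eval x P ∈ maximalIdeal A ^ (n + 1) := by
  have := Groth.Agent.Lib.Helper77.QuasiReg.eval_mem_mul_pow x (maximalIdeal A) P hP hc
  rwa [hx, ← pow_succ'] at this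

include hx hq in
/-- the associated graded ring is a domain -/
theorem mul_not_mem {a b : A} {n k : ℕ} (ha : a ∈ maximalIdeal A ^ n)
    (ha' : a ∉ maximalIdeal A ^ (n + 1)) (hb : b ∈ maximalIdeal A ^ k)
    (hb' : b ∉ maximalIdeal A ^ (k + 1)) : a * b ∉ maximalIdeal A ^ (n + k + 1) := by
  intro hab
  rw [← hx] at ha hb
  obtain ⟨P, hP, rfl⟩ := (Ideal.mem_span_pow_iff_exists_isHomogeneous x a).mp ha
  obtain ⟨Q, hQ, rfl⟩ := (Ideal.mem_span_pow_iff_exists_isHomogeneous x b).mp hb
  have hPQ : (P * Q).IsHomogeneous (n + k) := hP.mul hQ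
  have h1 := hq (n + k) (P * Q) hPQ (by rw [map_mul, hx]; exact hab)
  rw [hx, coeff_mem_iff_map_eq_zero, map_mul, mul_eq_zero] at h1
  rcases h1 with h1 | h1
  · exact ha' (eval_mem_pow_succ x hx P hP ((coeff_mem_iff_map_eq_zero P).mpr h1))
  · exact hb' (eval_mem_pow_succ x hx Q hQ ((coeff_mem_iff_map_eq_zero Q).mpr h1))

include hx hq in
theorem ord_mul {a b : A} (ha : a ≠ 0) (hb : b ≠ 0) : ord (a * b) = ord a + ord b := by
  apply ord_eq_of_mem_of_not_mem
  · rw [pow_add]
    exact Ideal.mul_mem_mul (mem_pow_ord a) (mem_pow_ord b)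
  · exact mul_not_mem x hx hq (mem_pow_ord a) (not_mem_pow_ord_succ ha) (mem_pow_ord b)
      (not_mem_pow_ord_succ hb)

include hx hq in
theorem ord_gen (i : Fin c) : ord (x i) = 1 := by
  apply ord_eq_of_mem_of_not_mem
  · rw [pow_one, ← hx]
    exact Ideal.subset_span ⟨i, rfl⟩
  · intro h
    have h1 := hq 1 (X i) (isHomogeneous_X A i) (by rw [eval_X, hx]; exact h) (Finsupp.single i 1)
    rw [coeff_X, hx, if_pos rfl] at h1
    exact (Ideal.ne_top_iff_one _).mp Ideal.IsPrime.ne_top' h1

include hx hq in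
theorem gen_ne_zero (i : Fin c) : x i ≠ 0 := by
  intro h
  have := ord_gen x hx hq i
  rw [h] at this
  have h0 : ord (0 : A) = 0 := by
    classical
    unfold ord
    rw [dif_neg]
    push Not
    intro n
    exact zero_mem _
  omega

include hx hq in
theorem ord_pow {a : A} (ha : a ≠ 0) (n : ℕ) : ord (a ^ n) = n * ord a := by
  induction n with
  | zero => rw [pow_zero, ord_one, zero_mul]
  | succ n ih =>
    rw [pow_succ, ord_mul x hx hq (pow_ne_zero n ha) ha, ih]
    ring

end Groth.Agent.Lib.Helper15.OrdVal
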