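import Groth.Agent.Lib.Helper15.OrdVal

set_option autoImplicit false
set_option linter.unusedSectionVars false

universe u v

namespace Groth.Agent.Lib.Helper15.OrdVal

open MvPolynomial IsLocalRing

variable {A : Type u} [CommRing A] [IsLocalRing A] [IsNoetherianRing A] [IsDomain A]
variable {c : ℕ} (x : Fin c → A) (hx : Ideal.span (Set.range x) = maximalIdeal A)
  (hq : CAlgX.IsQuasiRegular x)
variable (K : Type v) [Field K] [Algebra A K] [IsFractionRing A K]

/-- the order valuation ring -/
def ordRing : Subalgebra A K where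
  carrier := {z | ∃ a s : A, s ≠ 0 ∧ a ∈ maximalIdeal A ^ ord s ∧
    z * algebraMap A K s = algebraMap A K a}
  mul_mem' := by
    rintro z z' ⟨a, s, hs, ha, h⟩ ⟨a', s', hs', ha', h'⟩
    refine ⟨a * a', s * s', mul_ne_zero hs hs', ?_, ?_⟩
    · rw [ord_mul x hx hq hs hs', pow_add]
      exact Ideal.mul_mem_mul ha ha'
    · rw [map_mul, map_mul, ← h, ← h']
      ring
  one_mem' := ⟨1, 1, one_ne_zero, by rw [ord_one]; simp, by simp⟩
  add_mem' := by
    rintro z z' ⟨a, s, hs, ha, h⟩ ⟨a', s', hs', ha', h'⟩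
    refine ⟨a * s' + a' * s, s * s', mul_ne_zero hs hs', ?_, ?_⟩
    · rw [ord_mul x hx hq hs hs', pow_add]
      apply add_mem
      · exact Ideal.mul_mem_mul ha (mem_pow_ord s')
      · rw [mul_comm (maximalIdeal A ^ ord s)]
        exact Ideal.mul_mem_mul ha' (mem_pow_ord s)
    · rw [map_add, map_mul, map_mul, map_mul, ← h, ← h']
      ring
  zero_mem' := ⟨0, 1, one_ne_zero, zero_mem _, by simp⟩
  algebraMap_mem' r := ⟨r, 1, one_ne_zero, by rw [ord_one]; simp, by simp⟩

theorem mem_ordRing_iff (z : K) : z ∈ ordRing x hx hq K ↔ ∃ a s : A, s ≠ 0 ∧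
    a ∈ maximalIdeal A ^ ord s ∧ z * algebraMap A K s = algebraMap A K a := Iff.rfl

theorem mem_pow_of_mem_ordRing {z : K} (hz : z ∈ ordRing x hx hq K) {a s : A} (hs : s ≠ 0)
    (h : z * algebraMap A K s = algebraMap A K a) : a ∈ maximalIdeal A ^ ord s := by
  obtain ⟨a', s', hs', ha', h'⟩ := hz
  by_cases ha0 : a = 0
  · subst ha0; exact zero_mem _
  have heq : a' * s = a * s' := by
    apply IsFractionRing.injective A K
    rw [map_mul, map_mul, ← h, ← h']
    ring
  have ha'0 : a' ≠ 0 := by
    rintro rfl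
    rw [zero_mul] at heq
    exact (mul_ne_zero ha0 hs') heq.symm
  have h1 := ord_mul x hx hq ha'0 hs
  have h2 := ord_mul x hx hq ha0 hs'
  rw [heq] at h1
  have h3 : ord s' ≤ ord a' := (mem_pow_iff_le_ord ha'0 _).mp ha'
  rw [mem_pow_iff_le_ord ha0]
  omega

theorem mem_ordRing_iff_of_mul_eq {z : K} {a s : A} (hs : s ≠ 0)
    (h : z * algebraMap A K s = algebraMap A K a) :
    z ∈ ordRing x hx hq K ↔ a ∈ maximalIdeal A ^ ord s :=
  ⟨fun hz => mem_pow_of_mem_ordRing x hx hq K hz hs h, fun ha => ⟨a, s, hs, ha, h⟩⟩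

theorem algebraMap_ne_zero {s : A} (hs : s ≠ 0) : algebraMap A K s ≠ 0 := by
  intro h
  apply hs
  apply IsFractionRing.injective A K
  rw [h, map_zero]

theorem isUnit_iff (z : ordRing x hx hq K) {a s : A} (hs : s ≠ 0)
    (h : (z : K) * algebraMap A K s = algebraMap A K a) :
    IsUnit z ↔ a ∉ maximalIdeal A ^ (ord s + 1) := by
  have hsK := algebraMap_ne_zero K hs
  have hmem := mem_pow_of_mem_ordRing x hx hq K z.2 hs h
  constructor
  · intro hu hcon
    obtain ⟨w, hzw⟩ := hu.exists_right_inv
    obtain ⟨b, t, ht, hb, hw⟩ := w.2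
    have h1 : (z : K) * (w : K) = 1 := by
      have := congrArg Subtype.val hzw
      simpa using this
    have heq : a * b = s * t := by
      apply IsFractionRing.injective A K
      rw [map_mul, map_mul, ← h, ← hw]
      calc (z : K) * algebraMap A K s * ((w : K) * algebraMap A K t)
          = ((z : K) * (w : K)) * (algebraMap A K s * algebraMap A K t) := by ring
        _ = _ := by rw [h1, one_mul]
    have h2 : a * b ∈ maximalIdeal A ^ (ord s + 1 + ord t) := by
      rw [pow_add]
      exact Ideal.mul_mem_mul hcon hb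
    rw [heq] at h2
    have h3 := mul_not_mem x hx hq (mem_pow_ord s) (not_mem_pow_ord_succ hs) (mem_pow_ord t)
      (not_mem_pow_ord_succ ht)
    apply h3
    convert h2 using 2
    ring
  · intro hcon
    have ha0 : a ≠ 0 := by
      rintro rfl
      exact hcon (zero_mem _)
    have haK := algebraMap_ne_zero K ha0
    have hord : ord a = ord s := ord_eq_of_mem_of_not_mem hmem hcon
    have hw : algebraMap A K s / algebraMap A K a ∈ ordRing x hx hq K := by
      refine ⟨s, a, ha0, ?_, ?_⟩
      · rw [hord]; exact mem_pow_ord s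
      · field_simp
    have hz : (z : K) = algebraMap A K a / algebraMap A K s := by
      field_simp
      exact h
    refine ⟨⟨z, ⟨_, hw⟩, ?_, ?_⟩, rfl⟩
    · apply Subtype.ext
      simp only [MulMemClass.coe_mul, OneMemClass.coe_one, hz]
      field_simp
    · apply Subtype.ext
      simp only [MulMemClass.coe_mul, OneMemClass.coe_one, hz]
      field_simp

theorem isUnit_algebraMap_iff (a : A) :
    IsUnit (algebraMap A (ordRing x hx hq K) a) ↔ a ∉ maximalIdeal A := by
  have := isUnit_iff x hx hq K (algebraMap A (ordRing x hx hq K) a) (a := a) (s := 1) one_ne_zero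
    (by simp)
  rw [this, ord_one, zero_add, pow_one]


theorem comap_maximalIdeal [IsLocalRing (ordRing x hx hq K)] :
    (maximalIdeal (ordRing x hx hq K)).comap (algebraMap A (ordRing x hx hq K)) =
      maximalIdeal A := by
  ext a
  rw [Ideal.mem_comap, mem_maximalIdeal, mem_nonunits_iff, isUnit_algebraMap_iff, not_not]

instance : IsFractionRing (ordRing x hx hq K) K where
  map_units := by
    rintro ⟨y, hy⟩
    rw [isUnit_iff_ne_zero]
    intro h
    have : y = 0 := Subtype.ext h
    rw [this] at hy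
    exact (mem_nonZeroDivisors_iff_ne_zero.mp hy) rfl
  surj z := by
    obtain ⟨⟨a, s⟩, h⟩ := IsLocalization.surj (nonZeroDivisors A) z
    have hs : (s : A) ≠ 0 := nonZeroDivisors.ne_zero s.2
    refine ⟨⟨algebraMap A _ a, ⟨algebraMap A _ (s : A), ?_⟩⟩, h⟩
    rw [mem_nonZeroDivisors_iff_ne_zero]
    intro h0
    have := congrArg Subtype.val h0
    exact algebraMap_ne_zero K hs this
  exists_of_eq := by
    intro y y' h
    refine ⟨1, ?_⟩
    rw [show ((1 : nonZeroDivisors (ordRing x hx hq K)) : ordRing x hx hq K) = 1 from rfl,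
      one_mul, one_mul]
    exact Subtype.ext h

end Groth.Agent.Lib.Helper15.OrdVal
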