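import Groth.Agent.Lib.Helper15.OrdVal2

set_option autoImplicit false
set_option linter.unusedSectionVars false

universe u v

namespace Groth.Agent.Lib.Helper15.OrdVal

open MvPolynomial IsLocalRing

variable {A : Type u} [CommRing A] [IsLocalRing A] [IsNoetherianRing A] [IsDomain A]
variable {e : ℕ} (x : Fin (e + 1) → A) (hx : Ideal.span (Set.range x) = maximalIdeal A)
  (hq : CAlgX.IsQuasiRegular x)
variable (K : Type v) [Field K] [Algebra A K] [IsFractionRing A K]

/-- the uniformizer -/
noncomputable def unif : ordRing x hx hq K := algebraMap A (ordRing x hx hq K) (x 0)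

theorem coe_unif : ((unif x hx hq K : ordRing x hx hq K) : K) = algebraMap A K (x 0) := rfl

theorem not_isUnit_unif : ¬ IsUnit (unif x hx hq K) := by
  unfold unif
  rw [isUnit_algebraMap_iff, not_not, ← hx]
  exact Ideal.subset_span ⟨0, rfl⟩

theorem unif_ne_zero : unif x hx hq K ≠ 0 := by
  intro h
  have := congrArg Subtype.val h
  rw [coe_unif] at this
  exact algebraMap_ne_zero K (gen_ne_zero x hx hq 0) this

theorem exists_associated_pow (z : ordRing x hx hq K) (hz : z ≠ 0) :
    ∃ n : ℕ, Associated (unif x hx hq K ^ n) z := by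
  obtain ⟨a, s, hs, ha, h⟩ := z.2
  have ha0 : a ≠ 0 := by
    rintro rfl
    rw [map_zero, mul_eq_zero] at h
    rcases h with h | h
    · exact hz (Subtype.ext h)
    · exact algebraMap_ne_zero K hs h
  have hx0 := gen_ne_zero x hx hq 0
  have hle : ord s ≤ ord a := (mem_pow_iff_le_ord ha0 _).mp ha
  set n := ord a - ord s with hn
  have hsn : s * x 0 ^ n ≠ 0 := mul_ne_zero hs (pow_ne_zero _ hx0)
  have hordsn : ord (s * x 0 ^ n) = ord a := by
    rw [ord_mul x hx hq hs (pow_ne_zero _ hx0), ord_pow x hx hq hx0, ord_gen x hx hq 0]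
    omega
  have hsK := algebraMap_ne_zero K hs
  have hxK := algebraMap_ne_zero K hx0
  set u : K := algebraMap A K a / algebraMap A K (s * x 0 ^ n) with hu
  have hsnK := algebraMap_ne_zero K hsn
  have hu1 : u * algebraMap A K (s * x 0 ^ n) = algebraMap A K a := by
    rw [hu]; field_simp
  have humem : u ∈ ordRing x hx hq K :=
    ⟨a, s * x 0 ^ n, hsn, by rw [hordsn]; exact mem_pow_ord a, hu1⟩
  have huu : IsUnit (⟨u, humem⟩ : ordRing x hx hq K) := by
    rw [isUnit_iff x hx hq K ⟨u, humem⟩ hsn hu1, hordsn]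
    exact not_mem_pow_ord_succ ha0
  obtain ⟨uu, huu'⟩ := huu
  refine ⟨n, uu, ?_⟩
  rw [huu']
  apply Subtype.ext
  rw [MulMemClass.coe_mul, SubmonoidClass.coe_pow, coe_unif]
  change algebraMap A K (x 0) ^ n * u = z
  have hz' : (z : K) = algebraMap A K a / algebraMap A K s := by
    field_simp
    exact h
  rw [hz', hu, map_mul, map_pow]
  field_simp

theorem irreducible_unif : Irreducible (unif x hx hq K) := by
  rw [irreducible_iff]
  refine ⟨not_isUnit_unif x hx hq K, fun a b hab => ?_⟩
  have hp0 := unif_ne_zero x hx hq K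
  have ha0 : a ≠ 0 := by
    rintro rfl
    rw [zero_mul] at hab
    exact hp0 hab
  have hb0 : b ≠ 0 := by
    rintro rfl
    rw [mul_zero] at hab
    exact hp0 hab
  obtain ⟨i, u, hu⟩ := exists_associated_pow x hx hq K a ha0
  obtain ⟨j, u', hu'⟩ := exists_associated_pow x hx hq K b hb0
  rcases Nat.eq_zero_or_pos i with hi | hi
  · left
    rw [← hu, hi, pow_zero, one_mul]
    exact u.isUnit
  rcases Nat.eq_zero_or_pos j with hj | hj
  · right
    rw [← hu', hj, pow_zero, one_mul]
    exact u'.isUnit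
  exfalso
  apply not_isUnit_unif x hx hq K
  obtain ⟨i', rfl⟩ : ∃ i', i = i' + 1 := ⟨i - 1, by omega⟩
  obtain ⟨j', rfl⟩ : ∃ j', j = j' + 1 := ⟨j - 1, by omega⟩
  rw [← hu, ← hu'] at hab
  have h1 : unif x hx hq K * 1 =
      unif x hx hq K * (unif x hx hq K * (unif x hx hq K ^ i' * unif x hx hq K ^ j' * u * u')) := by
    rw [mul_one]
    conv_lhs => rw [hab]
    ring
  have h2 := mul_left_cancel₀ hp0 h1
  exact IsUnit.of_mul_eq_one _ h2.symm

theorem isDiscreteValuationRing_ordRing : IsDiscreteValuationRing (ordRing x hx hq K) :=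
  IsDiscreteValuationRing.ofHasUnitMulPowIrreducibleFactorization
    ⟨unif x hx hq K, irreducible_unif x hx hq K, fun {z} hz => exists_associated_pow x hx hq K z hz⟩

end Groth.Agent.Lib.Helper15.OrdVal
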