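import Groth.Agent.Lib.Helper15.OrdVal3

set_option autoImplicit false
set_option linter.unusedSectionVars false

universe u v

namespace Groth.Agent.Lib.Helper15.OrdVal

open MvPolynomial IsLocalRing

variable {A : Type u} [CommRing A] [IsLocalRing A] [IsNoetherianRing A] [IsDomain A]
variable {e : ℕ} (x : Fin (e + 1) → A) (hx : Ideal.span (Set.range x) = maximalIdeal A)
  (hq : CAlgX.IsQuasiRegular x)
variable (K : Type v) [Field K] [Algebra A K] [IsFractionRing A K]

theorem gen_div_mem (j : Fin e) :
    algebraMap A K (x j.succ) / algebraMap A K (x 0) ∈ ordRing x hx hq K := by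
  refine ⟨x j.succ, x 0, gen_ne_zero x hx hq 0, ?_, ?_⟩
  · rw [ord_gen x hx hq 0, pow_one, ← hx]
    exact Ideal.subset_span ⟨_, rfl⟩
  · have := algebraMap_ne_zero K (gen_ne_zero x hx hq 0)
    field_simp

/-- the elements `x_{j+1}/x_0` of the order valuation ring -/
noncomputable def tau (j : Fin e) : ordRing x hx hq K :=
  ⟨algebraMap A K (x j.succ) / algebraMap A K (x 0), gen_div_mem x hx hq K j⟩

theorem coe_tau (j : Fin e) :
    ((tau x hx hq K j : ordRing x hx hq K) : K) = algebraMap A K (x j.succ) / algebraMap A K (x 0) :=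
  rfl

variable [IsLocalRing (ordRing x hx hq K)]

theorem isLocalHom_algebraMap : IsLocalHom (algebraMap A (ordRing x hx hq K)) where
  map_nonunit a ha := by
    rw [isUnit_algebraMap_iff] at ha
    by_contra h
    exact ha ((mem_maximalIdeal a).mpr h)

/-- the residue field map -/
noncomputable def phi : ResidueField A →+* ResidueField (ordRing x hx hq K) :=
  haveI := isLocalHom_algebraMap x hx hq K
  ResidueField.map (algebraMap A (ordRing x hx hq K))

theorem phi_comp_residue :
    (phi x hx hq K).comp (residue A) =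
      (residue (ordRing x hx hq K)).comp (algebraMap A (ordRing x hx hq K)) := rfl

/-- the homogenisation of a polynomial in the `x_{j+1}/x_0` -/
noncomputable def homog (N : ℕ) (P : MvPolynomial (Fin e) A) : MvPolynomial (Fin (e + 1)) A :=
  ∑ α ∈ P.support, monomial (Finsupp.cons (N - α.degree) α) (P.coeff α)

theorem degree_cons (n : ℕ) (α : Fin e →₀ ℕ) : (Finsupp.cons n α).degree = n + α.degree := by
  rw [Finsupp.degree_eq_sum, Finsupp.degree_eq_sum, Fin.sum_univ_succ, Finsupp.cons_zero]
  simp only [Finsupp.cons_succ]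

theorem degree_le_totalDegree {P : MvPolynomial (Fin e) A} {α : Fin e →₀ ℕ} (hα : α ∈ P.support) :
    α.degree ≤ P.totalDegree := by
  have := MvPolynomial.le_totalDegree hα
  rw [Finsupp.degree_eq_sum]
  rwa [Finsupp.sum_fintype _ _ (fun _ => rfl)] at this

theorem isHomogeneous_homog (P : MvPolynomial (Fin e) A) :
    (homog P.totalDegree P).IsHomogeneous P.totalDegree := by
  apply IsHomogeneous.sum
  intro α hα
  apply isHomogeneous_monomial
  rw [degree_cons]
  have := degree_le_totalDegree hα
  omega

theorem coeff_homog (N : ℕ) (P : MvPolynomial (Fin e) A) (α : Fin e →₀ ℕ) :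
    (homog N P).coeff (Finsupp.cons (N - α.degree) α) = P.coeff α := by
  classical
  unfold homog
  rw [coeff_sum]
  simp only [coeff_monomial]
  by_cases hα : α ∈ P.support
  · rw [Finset.sum_eq_single α]
    · rw [if_pos rfl]
    · intro β _ hβ
      rw [if_neg]
      intro h
      apply hβ
      have := congrArg Finsupp.tail h
      rwa [Finsupp.tail_cons, Finsupp.tail_cons] at this
    · intro h; exact absurd hα h
  · rw [Finset.sum_eq_zero]
    · rw [notMem_support_iff] at hα
      exact hα.symm
    · intro β hβ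
      rw [if_neg]
      intro h
      have := congrArg Finsupp.tail h
      rw [Finsupp.tail_cons, Finsupp.tail_cons] at this
      rw [this] at hβ
      exact hα hβ

theorem coe_aeval_tau (P : MvPolynomial (Fin e) A) :
    ((aeval (tau x hx hq K) P : ordRing x hx hq K) : K) =
      ∑ α ∈ P.support, algebraMap A K (P.coeff α) *
        ∏ j, (algebraMap A K (x j.succ) / algebraMap A K (x 0)) ^ α j := by
  have h1 : ((aeval (tau x hx hq K) P : ordRing x hx hq K) : K) =
      aeval (fun j => ((tau x hx hq K j : ordRing x hx hq K) : K)) P := by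
    exact MvPolynomial.comp_aeval_apply (tau x hx hq K) (ordRing x hx hq K).val P
  rw [h1, aeval_def, eval₂_eq']
  rfl

theorem algebraMap_eval_homog (P : MvPolynomial (Fin e) A) :
    algebraMap A K (eval x (homog P.totalDegree P)) =
      ((aeval (tau x hx hq K) P : ordRing x hx hq K) : K) * algebraMap A K (x 0 ^ P.totalDegree) := by
  have hx0 := algebraMap_ne_zero K (gen_ne_zero x hx hq 0)
  rw [coe_aeval_tau, Finset.sum_mul]
  unfold homog
  rw [map_sum, map_sum]
  apply Finset.sum_congr rfl
  intro α hα
  have hle := degree_le_totalDegree hα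
  rw [eval_monomial, map_mul, Finsupp.prod_fintype _ _ (fun i => pow_zero _), Fin.prod_univ_succ,
    Finsupp.cons_zero, map_mul, map_pow, map_prod, map_pow]
  simp only [Finsupp.cons_succ, map_pow, div_pow]
  rw [Finset.prod_div_distrib, Finset.prod_pow_eq_pow_sum, ← Finsupp.degree_eq_sum]
  have : algebraMap A K (x 0) ^ P.totalDegree =
      algebraMap A K (x 0) ^ (P.totalDegree - α.degree) * algebraMap A K (x 0) ^ α.degree := by
    rw [← pow_add]
    congr 1
    omega
  rw [this]
  field_simp

theorem algebraicIndependent_residue_tau :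
    letI := (phi x hx hq K).toAlgebra
    AlgebraicIndependent (ResidueField A)
      (fun j => residue (ordRing x hx hq K) (tau x hx hq K j)) := by
  let _ := (phi x hx hq K).toAlgebra
  rw [algebraicIndependent_iff]
  intro p hp
  obtain ⟨P, rfl⟩ := MvPolynomial.map_surjective (residue A) residue_surjective p
  have h1 : aeval (fun j => residue (ordRing x hx hq K) (tau x hx hq K j))
      (MvPolynomial.map (residue A) P) =
      residue (ordRing x hx hq K) (aeval (tau x hx hq K) P) := by
    rw [aeval_def, eval₂_map, RingHom.algebraMap_toAlgebra, phi_comp_residue, aeval_def]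
    exact (eval₂_comp_left (residue (ordRing x hx hq K)) _ _ P).symm
  rw [h1, residue_eq_zero_iff, mem_maximalIdeal, mem_nonunits_iff] at hp
  have hx0 := gen_ne_zero x hx hq 0
  have h2 := (isUnit_iff x hx hq K (aeval (tau x hx hq K) P) (pow_ne_zero P.totalDegree hx0)
    (algebraMap_eval_homog x hx hq K P).symm).not.mp hp
  rw [not_not, ord_pow x hx hq hx0, ord_gen x hx hq 0, mul_one] at h2
  have h3 := hq P.totalDegree (homog P.totalDegree P) (isHomogeneous_homog P) (by rw [hx]; exact h2)
  rw [hx] at h3
  ext α
  rw [coeff_map, coeff_zero, residue_eq_zero_iff, ← coeff_homog P.totalDegree P α]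
  exact h3 _


section Gen

/-- elements `a` such that `a / x_0^n` lies in `V` with residue in the given subfield -/
def genIdeal (E : Subring (ResidueField (ordRing x hx hq K)))
    (hE : ∀ a : A, residue (ordRing x hx hq K) (algebraMap A (ordRing x hx hq K) a) ∈ E) (n : ℕ) :
    Ideal A where
  carrier := {a | ∃ w : ordRing x hx hq K, (w : K) * algebraMap A K (x 0 ^ n) = algebraMap A K a ∧
    residue (ordRing x hx hq K) w ∈ E}
  add_mem' := by
    rintro a b ⟨w, hw, hwE⟩ ⟨w', hw', hwE'⟩
    refine ⟨w + w', ?_, ?_⟩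
    · rw [AddMemClass.coe_add, add_mul, hw, hw', map_add]
    · rw [map_add]; exact E.add_mem hwE hwE'
  zero_mem' := ⟨0, by simp, by rw [map_zero]; exact E.zero_mem⟩
  smul_mem' := by
    rintro r a ⟨w, hw, hwE⟩
    refine ⟨algebraMap A (ordRing x hx hq K) r * w, ?_, ?_⟩
    · rw [MulMemClass.coe_mul, mul_assoc, hw, smul_eq_mul, map_mul]
      rfl
    · rw [map_mul]; exact E.mul_mem (hE r) hwE

theorem mem_genIdeal_iff (E : Subring (ResidueField (ordRing x hx hq K)))
    (hE : ∀ a : A, residue (ordRing x hx hq K) (algebraMap A (ordRing x hx hq K) a) ∈ E) (n : ℕ)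
    (a : A) : a ∈ genIdeal x hx hq K E hE n ↔
      ∃ w : ordRing x hx hq K, (w : K) * algebraMap A K (x 0 ^ n) = algebraMap A K a ∧
        residue (ordRing x hx hq K) w ∈ E := Iff.rfl

theorem pow_le_genIdeal (E : Subring (ResidueField (ordRing x hx hq K)))
    (hE : ∀ a : A, residue (ordRing x hx hq K) (algebraMap A (ordRing x hx hq K) a) ∈ E)
    (hτ : ∀ j, residue (ordRing x hx hq K) (tau x hx hq K j) ∈ E) (n : ℕ) :
    maximalIdeal A ^ n ≤ genIdeal x hx hq K E hE n := by
  have hx0 := algebraMap_ne_zero K (gen_ne_zero x hx hq 0)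
  have h1 : maximalIdeal A ≤ genIdeal x hx hq K E hE 1 := by
    rw [← hx, Ideal.span_le]
    rintro _ ⟨i, rfl⟩
    rw [SetLike.mem_coe, mem_genIdeal_iff]
    refine Fin.cases ?_ (fun j => ?_) i
    · exact ⟨1, by simp, by rw [map_one]; exact E.one_mem⟩
    · refine ⟨tau x hx hq K j, ?_, hτ j⟩
      rw [coe_tau, pow_one]
      field_simp
  induction n with
  | zero =>
    intro a _
    exact ⟨algebraMap A _ a, by simp, hE a⟩
  | succ n ih =>
    rw [pow_succ, Ideal.mul_le]
    intro b hb c hc
    obtain ⟨w, hw, hwE⟩ := ih hb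
    obtain ⟨w', hw', hwE'⟩ := h1 hc
    refine ⟨w * w', ?_, ?_⟩
    · rw [MulMemClass.coe_mul, map_mul, ← hw, ← hw', pow_succ, map_mul, pow_one]
      ring
    · rw [map_mul]; exact E.mul_mem hwE hwE'

theorem adjoin_residue_tau_eq_top :
    letI := (phi x hx hq K).toAlgebra
    IntermediateField.adjoin (ResidueField A)
      (Set.range fun j => residue (ordRing x hx hq K) (tau x hx hq K j)) = ⊤ := by
  let _ := (phi x hx hq K).toAlgebra
  set E := IntermediateField.adjoin (ResidueField A)
      (Set.range fun j => residue (ordRing x hx hq K) (tau x hx hq K j)) with hEdef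
  rw [eq_top_iff]
  intro y _
  have hE : ∀ a : A, residue (ordRing x hx hq K) (algebraMap A (ordRing x hx hq K) a) ∈
      E.toSubfield.toSubring := by
    intro a
    have : residue (ordRing x hx hq K) (algebraMap A (ordRing x hx hq K) a) =
        algebraMap (ResidueField A) (ResidueField (ordRing x hx hq K)) (residue A a) := by
      rw [RingHom.algebraMap_toAlgebra]
      rfl
    rw [this]
    exact E.algebraMap_mem _
  have hτ : ∀ j, residue (ordRing x hx hq K) (tau x hx hq K j) ∈ E.toSubfield.toSubring :=
    fun j => IntermediateField.subset_adjoin _ _ ⟨j, rfl⟩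
  obtain ⟨z, rfl⟩ := residue_surjective y
  obtain ⟨a, s, hs, ha, h⟩ := z.2
  have hx0 := gen_ne_zero x hx hq 0
  obtain ⟨wa, hwa, hwaE⟩ := pow_le_genIdeal x hx hq K _ hE hτ (ord s) ha
  obtain ⟨ws, hws, hwsE⟩ := pow_le_genIdeal x hx hq K _ hE hτ (ord s) (mem_pow_ord s)
  have hwsu : IsUnit ws := by
    rw [isUnit_iff x hx hq K ws (pow_ne_zero (ord s) hx0) hws, ord_pow x hx hq hx0,
      ord_gen x hx hq 0, mul_one]
    exact not_mem_pow_ord_succ hs
  have hprod : z * ws = wa := by
    apply Subtype.ext
    rw [MulMemClass.coe_mul]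
    have hxK := algebraMap_ne_zero K (pow_ne_zero (ord s) hx0)
    have hsK := algebraMap_ne_zero K hs
    have e1 : (z : K) = algebraMap A K a / algebraMap A K s := by
      field_simp; exact h
    have e2 : (ws : K) = algebraMap A K s / algebraMap A K (x 0 ^ ord s) := by
      field_simp; exact hws
    have e3 : (wa : K) = algebraMap A K a / algebraMap A K (x 0 ^ ord s) := by
      field_simp; exact hwa
    rw [e1, e2, e3]
    field_simp
  have hne : residue (ordRing x hx hq K) ws ≠ 0 := by
    rw [Ne, residue_eq_zero_iff, mem_maximalIdeal, mem_nonunits_iff, not_not]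
    exact hwsu
  have : residue (ordRing x hx hq K) z =
      residue (ordRing x hx hq K) wa / residue (ordRing x hx hq K) ws := by
    rw [← hprod, map_mul]
    field_simp
  rw [this]
  exact E.div_mem hwaE hwsE

end Gen

end Groth.Agent.Lib.Helper15.OrdVal
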