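import Groth.Agent.Lib.Helper15.PuncInt
import Groth.Agent.Lib.Helper88.UniBr1

/-!
# Connectedness of the complement of a closed subset of the closed fibre (helper15)

`D` a Noetherian local domain whose normalization `N` is local with purely inseparable residue
field extension (geometrically unibranch), such that sections over the punctured spectrum are
integral (`hint`, see `PuncInt.isIntegral_of_pow_mul_mem`); `S` a Noetherian local ring, flat and
local over `D`.

* `le_nilradical_or`: `I₁ I₂ ⊆ nil(S)`, `m_D^N S ⊆ I₁ + I₂` implies `I₁ ⊆ nil(S)` or `I₂ ⊆ nil(S)`.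
* `isConnected_compl`: for `T ⊆ Spec S` closed, lying over the closed point of `Spec D`, the
  complement of `T` is connected.
-/

set_option autoImplicit false
set_option linter.style.haveILetI false
universe u

namespace Groth.Agent.Lib.Helper15.PuncConn

open IsLocalRing TensorProduct

theorem idem_zero_or_one {R : Type*} [CommRing R] [IsLocalRing R] (e : R)
    (he : e * e = e) : e = 0 ∨ e = 1 := by
  have h : e * (1 - e) = 0 := by rw [mul_sub, mul_one, he, sub_self]
  rcases IsLocalRing.isUnit_or_isUnit_one_sub_self e with hu | hu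
  · right
    have := hu.mul_right_eq_zero.1 h
    exact (sub_eq_zero.1 this).symm
  · left
    exact hu.mul_left_eq_zero.1 h

section Main

variable (D : Type u) [CommRing D] [IsDomain D] [IsLocalRing D] [IsNoetherianRing D]
  (S : Type u) [CommRing S] [IsLocalRing S] [IsNoetherianRing S] [Algebra D S]
  [IsLocalHom (algebraMap D S)] [Module.Flat D S]
  [hlocN : IsLocalRing (integralClosure D (FractionRing D))]
  (hpi : ∀ x : integralClosure D (FractionRing D) ⧸
      maximalIdeal (integralClosure D (FractionRing D)), ∃ n : ℕ,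
    x ^ (ringExpChar (integralClosure D (FractionRing D) ⧸
      maximalIdeal (integralClosure D (FractionRing D)))) ^ n ∈
      ((Ideal.Quotient.mk (maximalIdeal (integralClosure D (FractionRing D)))).comp
        (algebraMap D (integralClosure D (FractionRing D)))).range)
  (hint : ∀ (x : FractionRing D) (n : ℕ), (∀ z ∈ maximalIdeal D ^ n, ∃ w : D,
    x * algebraMap D (FractionRing D) z = algebraMap D (FractionRing D) w) → IsIntegral D x)

omit [IsLocalRing D] [IsNoetherianRing D] [IsLocalRing S] [IsNoetherianRing S]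
  [IsLocalHom (algebraMap D S)] hlocN in
theorem includeRight_injective :
    Function.Injective (Algebra.TensorProduct.includeRight : S →ₐ[D] FractionRing D ⊗[D] S) := by
  have := Module.Flat.rTensor_preserves_injective_linearMap (M := S)
    (Algebra.linearMap D (FractionRing D)) (IsFractionRing.injective D (FractionRing D))
  intro x y hxy
  have h1 : ∀ z : S, (Algebra.TensorProduct.includeRight : S →ₐ[D] FractionRing D ⊗[D] S) z =
      (Algebra.linearMap D (FractionRing D)).rTensor S ((TensorProduct.lid D S).symm z) := by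
    intro z
    simp
  rw [h1, h1] at hxy
  exact (TensorProduct.lid D S).symm.injective (this hxy)

omit [IsLocalRing D] [IsNoetherianRing D] [IsLocalRing S] [IsNoetherianRing S]
  [IsLocalHom (algebraMap D S)] hlocN in
theorem isSMulRegular_algebraMap {t : D} (ht0 : t ≠ 0) (z : S) (h : algebraMap D S t * z = 0) :
    z = 0 := by
  have hreg : IsSMulRegular D t := (IsRegular.of_ne_zero ht0).left.isSMulRegular
  have h2 : IsSMulRegular S (algebraMap D S t) := IsSMulRegular.of_flat hreg
  apply h2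
  change algebraMap D S t • z = algebraMap D S t • 0
  rw [smul_eq_mul, smul_zero, h]

include hpi hint in
/-- **Connectedness lemma**, ideal form. -/
theorem le_nilradical_or (t : D) (htm : t ∈ maximalIdeal D) (ht0 : t ≠ 0)
    (I₁ I₂ : Ideal S) (h12 : I₁ * I₂ ≤ nilradical S) (N : ℕ)
    (hN : (maximalIdeal D ^ N).map (algebraMap D S) ≤ I₁ ⊔ I₂) :
    I₁ ≤ nilradical S ∨ I₂ ≤ nilradical S := by
  classical
  haveI : Module.FaithfullyFlat D S := Module.FaithfullyFlat.of_flat_of_isLocalHom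
  haveI : Nontrivial (integralClosure D (FractionRing D) ⊗[D] S) :=
    Module.FaithfullyFlat.rTensor_nontrivial D S _
  haveI hlocT : IsLocalRing (integralClosure D (FractionRing D) ⊗[D] S) :=
    Groth.Agent.Lib.Helper88.UniBr.isLocalRing_tensor D (integralClosure D (FractionRing D)) S hpi
  obtain ⟨M, hM⟩ := IsNoetherianRing.isNilpotent_nilradical S
  set 𝔞₁ : Ideal S := I₁ ^ M with h𝔞₁
  set 𝔞₂ : Ideal S := I₂ ^ M with h𝔞₂
  have h𝔞 : 𝔞₁ * 𝔞₂ = ⊥ := by
    rw [eq_bot_iff, h𝔞₁, h𝔞₂, ← mul_pow]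
    exact (Ideal.pow_right_mono h12 M).trans hM.le
  have hxy0 : ∀ x ∈ 𝔞₁, ∀ y ∈ 𝔞₂, x * y = 0 := fun x hx y hy => by
    have := Ideal.mul_mem_mul hx hy
    rwa [h𝔞, Ideal.mem_bot] at this
  set n₀ : ℕ := (M + M) * N with hn₀
  set J : Ideal S := 𝔞₁ ⊔ 𝔞₂ with hJdef
  set J₀ : Ideal D := maximalIdeal D ^ n₀ with hJ₀
  have hJ : J₀.map (algebraMap D S) ≤ J := by
    rw [hJ₀, hn₀, mul_comm, pow_mul, Ideal.map_pow]
    exact (Ideal.pow_right_mono hN (M + M)).trans Ideal.sup_pow_add_le_pow_sup_pow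
  set g₀ : D := t ^ n₀ with hg₀
  have hg₀J : g₀ ∈ J₀ := Ideal.pow_mem_pow htm n₀
  have hg₀0 : g₀ ≠ 0 := pow_ne_zero _ ht0
  obtain ⟨s, hs⟩ := (IsNoetherian.noetherian J₀ : J₀.FG)
  set s' : Finset D := insert g₀ s with hs'
  have hs'span : Ideal.span (s' : Set D) = J₀ := by
    rw [hs', Finset.coe_insert, Ideal.span_insert]
    have : Ideal.span (s : Set D) = J₀ := hs
    rw [this]
    exact sup_eq_right.2 ((Ideal.span_singleton_le_iff_mem _).2 hg₀J)
  let ι := ↥s'
  let i₀ : ι := ⟨g₀, Finset.mem_insert_self _ _⟩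
  let g : ι → D := Subtype.val
  have hgspan : Ideal.span (Set.range g) = J₀ := by
    rw [Subtype.range_coe]; exact hs'span
  have hgJ₀ : ∀ i, g i ∈ J₀ := fun i => hgspan ▸ Ideal.subset_span ⟨i, rfl⟩
  have hdec : ∀ i, ∃ x ∈ 𝔞₁, ∃ y ∈ 𝔞₂, x + y = algebraMap D S (g i) := fun i =>
    Submodule.mem_sup.1 (hJ (Ideal.mem_map_of_mem _ (hgJ₀ i)))
  choose x hx y hy hxy using hdec
  have hrel : ∀ i, algebraMap D S (g i) * y i₀ = algebraMap D S (g i₀) * y i := by
    intro i
    rw [← hxy i, ← hxy i₀]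
    have h1 := hxy0 (x i) (hx i) (y i₀) (hy i₀)
    have h2 := hxy0 (x i₀) (hx i₀) (y i) (hy i)
    linear_combination h1 - h2
  -- flatness
  let f : (ι → D) →ₗ[D] (ι → D) :=
    (Fintype.linearCombination D g).smulRight (Pi.single i₀ (1 : D)) - g i₀ • LinearMap.id
  let xx : (ι → D) →ₗ[D] S := Fintype.linearCombination D y
  have hcomp : xx ∘ₗ f = 0 := by
    apply LinearMap.pi_ext
    intro i c
    simp only [f, xx, LinearMap.comp_apply, LinearMap.sub_apply, LinearMap.smulRight_apply,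
      LinearMap.smul_apply, LinearMap.id_apply, map_sub, map_smul,
      Fintype.linearCombination_apply_single, LinearMap.zero_apply, smul_eq_mul]
    simp only [Algebra.smul_def, map_mul, map_one]
    linear_combination (algebraMap D S c) * hrel i
  obtain ⟨k, a, y', hxy', haf⟩ :=
    Module.Flat.exists_factorization_of_comp_eq_zero_of_free (M := S) hcomp
  let A : Fin k → ι → D := fun l j => a (Pi.single j 1) l
  let cc : Fin k → S := fun l => y' (Finsupp.single l 1)
  have hy' : ∀ v : Fin k →₀ D, y' v = ∑ l, v l • cc l := by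
    intro v
    conv_lhs => rw [← Finsupp.univ_sum_single v]
    rw [map_sum]
    refine Finset.sum_congr rfl fun l _ => ?_
    rw [← Finsupp.smul_single_one, map_smul]
  have hR1 : ∀ j, y j = ∑ l, A l j • cc l := by
    intro j
    have h1 : y j = xx (Pi.single j 1) := by
      simp only [xx, Fintype.linearCombination_apply_single, one_smul]
    rw [h1, hxy', LinearMap.comp_apply, hy']
  have hR2 : ∀ l i, g i * A l i₀ = g i₀ * A l i := by
    intro l i
    have h1 : a (f (Pi.single i 1)) = 0 := by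
      rw [← LinearMap.comp_apply, haf, LinearMap.zero_apply]
    have h2 : f (Pi.single i 1) = g i • Pi.single i₀ (1 : D) - g i₀ • Pi.single i (1 : D) := by
      simp only [f, LinearMap.sub_apply, LinearMap.smulRight_apply, LinearMap.smul_apply,
        LinearMap.id_apply, Fintype.linearCombination_apply_single, smul_eq_mul, one_mul]
    rw [h2, map_sub, map_smul, map_smul] at h1
    have h3 := congrArg (fun v : Fin k →₀ D => v l) h1
    simp only [Finsupp.coe_sub, Finsupp.coe_smul, Pi.sub_apply, Pi.smul_apply, smul_eq_mul,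
      Finsupp.coe_zero, Pi.zero_apply] at h3
    exact sub_eq_zero.1 h3
  -- the multipliers
  have hg₀K : algebraMap D (FractionRing D) g₀ ≠ 0 := fun h =>
    hg₀0 (IsFractionRing.injective D (FractionRing D) (by rw [h, map_zero]))
  let bK : Fin k → FractionRing D := fun l =>
    algebraMap D (FractionRing D) (A l i₀) / algebraMap D (FractionRing D) g₀
  have hbK : ∀ l i, bK l * algebraMap D (FractionRing D) (g i) =
      algebraMap D (FractionRing D) (A l i) := by
    intro l i
    change algebraMap D (FractionRing D) (A l i₀) / algebraMap D (FractionRing D) g₀ *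
      algebraMap D (FractionRing D) (g i) = _
    rw [div_mul_eq_mul_div, div_eq_iff hg₀K, ← map_mul, ← map_mul]
    congr 1
    have := hR2 l i
    change g i * A l i₀ = g₀ * A l i at this
    linear_combination this
  have hbint : ∀ l, IsIntegral D (bK l) := by
    intro l
    refine hint (bK l) n₀ ?_
    intro z hz
    rw [← hJ₀, ← hgspan] at hz
    obtain ⟨μ, rfl⟩ := (Submodule.mem_span_range_iff_exists_fun D).1 hz
    refine ⟨∑ j, μ j * A l j, ?_⟩
    simp only [smul_eq_mul, map_sum, map_mul, Finset.mul_sum]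
    refine Finset.sum_congr rfl fun j _ => ?_
    rw [← hbK l j]; ring
  let nN : Fin k → integralClosure D (FractionRing D) := fun l => ⟨bK l, hbint l⟩
  let e : integralClosure D (FractionRing D) ⊗[D] S := ∑ l, nN l ⊗ₜ[D] cc l
  let g1 : (integralClosure D (FractionRing D) ⊗[D] S) →ₐ[D] (FractionRing D ⊗[D] S) :=
    Algebra.TensorProduct.map (integralClosure D (FractionRing D)).val (AlgHom.id D S)
  have hg1 : Function.Injective g1 := by
    have : Function.Injective
        ((integralClosure D (FractionRing D)).val.toLinearMap.rTensor S) :=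
      Module.Flat.rTensor_preserves_injective_linearMap _ Subtype.val_injective
    intro x y hxy
    exact this hxy
  have hg1e : g1 e = ∑ l, bK l ⊗ₜ[D] cc l := by
    simp only [e, g1, map_sum, Algebra.TensorProduct.map_tmul, AlgHom.id_apply]
    rfl
  -- the key identity
  have hkey : (algebraMap D (FractionRing D) g₀ ⊗ₜ[D] (1 : S)) * g1 e = 1 ⊗ₜ[D] y i₀ := by
    rw [hg1e, Finset.mul_sum, hR1 i₀, TensorProduct.tmul_sum]
    refine Finset.sum_congr rfl fun l _ => ?_
    rw [Algebra.TensorProduct.tmul_mul_tmul, one_mul, mul_comm, hbK l i₀,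
      Algebra.algebraMap_eq_smul_one, TensorProduct.smul_tmul]
  obtain ⟨u, hu1⟩ : ∃ u : FractionRing D ⊗[D] S,
      u * (algebraMap D (FractionRing D) g₀ ⊗ₜ[D] (1 : S)) = 1 := by
    refine ⟨(algebraMap D (FractionRing D) g₀)⁻¹ ⊗ₜ[D] (1 : S), ?_⟩
    rw [Algebra.TensorProduct.tmul_mul_tmul, inv_mul_cancel₀ hg₀K, one_mul]
    rfl
  have hε : g1 e = u * (1 ⊗ₜ[D] y i₀) := by
    rw [← hkey, ← mul_assoc, hu1, one_mul]
  have hswap : (1 : FractionRing D) ⊗ₜ[D] (algebraMap D S g₀) =
      algebraMap D (FractionRing D) g₀ ⊗ₜ[D] (1 : S) := by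
    rw [Algebra.algebraMap_eq_smul_one, Algebra.algebraMap_eq_smul_one, TensorProduct.smul_tmul]
  have hy0sq : y i₀ * y i₀ = algebraMap D S g₀ * y i₀ := by
    have h1 := hxy0 (x i₀) (hx i₀) (y i₀) (hy i₀)
    have h2 : x i₀ + y i₀ = algebraMap D S g₀ := hxy i₀
    rw [← h2]
    linear_combination -h1
  have hsq : ((1 : FractionRing D) ⊗ₜ[D] y i₀) * (1 ⊗ₜ[D] y i₀) =
      (algebraMap D (FractionRing D) g₀ ⊗ₜ[D] (1 : S)) * (1 ⊗ₜ[D] y i₀) := by
    rw [Algebra.TensorProduct.tmul_mul_tmul, one_mul, hy0sq, ← hswap,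
      Algebra.TensorProduct.tmul_mul_tmul, one_mul]
  have hidem : e * e = e := by
    apply hg1
    rw [map_mul, hε]
    calc u * (1 ⊗ₜ[D] y i₀) * (u * (1 ⊗ₜ[D] y i₀))
        = u * u * (((1 : FractionRing D) ⊗ₜ[D] y i₀) * (1 ⊗ₜ[D] y i₀)) := by ring
      _ = u * (u * (algebraMap D (FractionRing D) g₀ ⊗ₜ[D] (1 : S))) * (1 ⊗ₜ[D] y i₀) := by
          rw [hsq]; ring
      _ = u * (1 ⊗ₜ[D] y i₀) := by rw [hu1, mul_one]
  have hinjS := includeRight_injective D S
  have hfin : ∀ (𝔟 : Ideal S) (I : Ideal S), 𝔟 = I ^ M → 𝔟 = ⊥ → I ≤ nilradical S := by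
    intro 𝔟 I hI hb z hz
    have h1 : z ^ M ∈ 𝔟 := hI ▸ Ideal.pow_mem_pow hz M
    rw [hb, Ideal.mem_bot] at h1
    exact mem_nilradical.2 ⟨M, h1⟩
  have h01 : e = 0 ∨ e = 1 := idem_zero_or_one e hidem
  rcases h01 with h0 | h1
  · -- `y i₀ = 0`
    right
    have hy0 : y i₀ = 0 := by
      apply hinjS
      rw [map_zero, Algebra.TensorProduct.includeRight_apply, ← hkey, h0, map_zero, mul_zero]
    have hx0 : x i₀ = algebraMap D S g₀ := by
      have h2 : x i₀ + y i₀ = algebraMap D S g₀ := hxy i₀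
      rw [← h2, hy0, add_zero]
    refine hfin 𝔞₂ I₂ h𝔞₂ ?_
    rw [eq_bot_iff]
    intro z hz
    have := hxy0 (x i₀) (hx i₀) z hz
    rw [hx0] at this
    exact (Ideal.mem_bot).2 (isSMulRegular_algebraMap D S hg₀0 z this)
  · left
    have hy0 : y i₀ = algebraMap D S g₀ := by
      apply hinjS
      rw [Algebra.TensorProduct.includeRight_apply, Algebra.TensorProduct.includeRight_apply,
        ← hkey, h1, map_one, mul_one, hswap]
    refine hfin 𝔞₁ I₁ h𝔞₁ ?_
    rw [eq_bot_iff]
    intro z hz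
    have := hxy0 z hz (y i₀) (hy i₀)
    rw [hy0, mul_comm] at this
    exact (Ideal.mem_bot).2 (isSMulRegular_algebraMap D S hg₀0 z this)

include hpi hint in
/-- **Connectedness of the complement of a closed subset of the closed fibre.** -/
theorem isConnected_compl (t : D) (htm : t ∈ maximalIdeal D) (ht0 : t ≠ 0)
    (T : Set (PrimeSpectrum S)) (hT : IsClosed T)
    (hTm : ∀ P ∈ T, maximalIdeal D ≤ P.asIdeal.comap (algebraMap D S)) :
    IsConnected Tᶜ := by
  classical
  refine ⟨?_, ?_⟩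
  · obtain ⟨Q₀, hQ₀, -⟩ := Ideal.exists_minimalPrimes_le (bot_le : ⊥ ≤ maximalIdeal S)
    haveI : Q₀.IsPrime := hQ₀.1.1
    refine ⟨⟨Q₀, inferInstance⟩, fun hmem => ?_⟩
    have h1 : algebraMap D S t ∈ Q₀ := hTm _ hmem htm
    have h3 : algebraMap D S t ∈ nonZeroDivisors S := by
      rw [mem_nonZeroDivisors_iff_right]
      intro y hy
      rw [mul_comm] at hy
      exact isSMulRegular_algebraMap D S ht0 y hy
    exact (Ideal.disjoint_nonZeroDivisors_of_mem_minimalPrimes hQ₀).le_bot ⟨h1, h3⟩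
  · rw [isPreconnected_closed_iff]
    intro c c' hc hc' hsub hne1 hne2
    by_contra hcon
    obtain ⟨I₀, rfl⟩ := (PrimeSpectrum.isClosed_iff_zeroLocus_ideal T).1 hT
    obtain ⟨I₁, rfl⟩ := (PrimeSpectrum.isClosed_iff_zeroLocus_ideal c).1 hc
    obtain ⟨I₂, rfl⟩ := (PrimeSpectrum.isClosed_iff_zeroLocus_ideal c').1 hc'
    have hcon' : ∀ P : PrimeSpectrum S, ¬ I₀ ≤ P.asIdeal → I₁ ≤ P.asIdeal →
        I₂ ≤ P.asIdeal → False := by
      intro P hP h1 h2
      exact hcon ⟨P, fun h => hP ((PrimeSpectrum.mem_zeroLocus _ _).1 h),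
        (PrimeSpectrum.mem_zeroLocus _ _).2 h1, (PrimeSpectrum.mem_zeroLocus _ _).2 h2⟩
    have hcov : ∀ P : PrimeSpectrum S, I₀ ≤ P.asIdeal ∨ I₁ ≤ P.asIdeal ∨ I₂ ≤ P.asIdeal := by
      intro P
      by_cases h : I₀ ≤ P.asIdeal
      · exact Or.inl h
      · right
        rcases hsub (fun h' => h ((PrimeSpectrum.mem_zeroLocus _ _).1 h')) with h1 | h1
        · exact Or.inl ((PrimeSpectrum.mem_zeroLocus _ _).1 h1)
        · exact Or.inr ((PrimeSpectrum.mem_zeroLocus _ _).1 h1)
    have hprod : (I₁ * I₀) * I₂ ≤ nilradical S := by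
      rw [nilradical_eq_sInf]
      refine le_sInf ?_
      intro P (hP : P.IsPrime)
      rcases hcov ⟨P, hP⟩ with h | h | h
      · exact Ideal.mul_le_left.trans (Ideal.mul_le_right.trans h)
      · exact Ideal.mul_le_left.trans (Ideal.mul_le_left.trans h)
      · exact Ideal.mul_le_right.trans h
    have hrad : (maximalIdeal D).map (algebraMap D S) ≤ ((I₁ * I₀) ⊔ I₂).radical := by
      rw [Ideal.radical_eq_sInf]
      refine le_sInf ?_
      rintro P ⟨hle, hP⟩
      have h2 : I₂ ≤ P := le_sup_right.trans hle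
      have h1 : I₁ * I₀ ≤ P := le_sup_left.trans hle
      have h0 : I₀ ≤ P := by
        by_contra h0
        rcases (Ideal.IsPrime.mul_le hP).1 h1 with h | h
        · exact hcon' ⟨P, hP⟩ h0 h h2
        · exact h0 h
      rw [Ideal.map_le_iff_le_comap]
      exact hTm ⟨P, hP⟩ ((PrimeSpectrum.mem_zeroLocus _ _).2 h0)
    obtain ⟨N, hN⟩ := Ideal.exists_pow_le_of_le_radical_of_fg hrad
      (Ideal.FG.map (IsNoetherian.noetherian (maximalIdeal D)) _)
    rw [← Ideal.map_pow] at hN
    obtain ⟨P₁, hP₁U, hP₁I⟩ := hne1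
    obtain ⟨P₂, hP₂U, hP₂I⟩ := hne2
    have hP₁U' : ¬ I₀ ≤ P₁.asIdeal := fun h => hP₁U ((PrimeSpectrum.mem_zeroLocus _ _).2 h)
    have hP₂U' : ¬ I₀ ≤ P₂.asIdeal := fun h => hP₂U ((PrimeSpectrum.mem_zeroLocus _ _).2 h)
    have hP₁I' : I₁ ≤ P₁.asIdeal := (PrimeSpectrum.mem_zeroLocus _ _).1 hP₁I
    have hP₂I' : I₂ ≤ P₂.asIdeal := (PrimeSpectrum.mem_zeroLocus _ _).1 hP₂I
    rcases le_nilradical_or D S hpi hint t htm ht0 (I₁ * I₀) I₂ hprod N hN with h | h
    · -- `I₁ I₀ ⊆ nil`: `P₂ ∈ c`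
      have h1 : I₁ * I₀ ≤ P₂.asIdeal := h.trans (nilradical_le_prime _)
      rcases (Ideal.IsPrime.mul_le P₂.isPrime).1 h1 with h' | h'
      · exact hcon' P₂ hP₂U' h' hP₂I'
      · exact hP₂U' h'
    · exact hcon' P₁ hP₁U' hP₁I' (h.trans (nilradical_le_prime _))

end Main

end Groth.Agent.Lib.Helper15.PuncConn
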