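import Groth.Agent.Lib.Helper15.PuncConn
import Groth.Agent.Lib.Helper15.RegFlat
import Groth.Agent.Lib.Helper88.NormBC4
import Groth.Agent.Lib.Helper83.FlatLocalDim
import Groth.Agent.Lib.Helper83.FlatCompl
import Groth.Agent.Lib.Helper37.Hz56
import Groth.Prelude.Def_CAlg2

/-!
# Connectedness over a geometrically unibranch base of dimension at least two (helper15)

`isConnected_compl_of_isGeomUnibranch`: `A` a Noetherian local domain, geometrically unibranch,
`dim A ≥ 2`; `B` Noetherian local, flat and local over `A`; `T ⊆ Spec B` closed lying over the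
closed point of `Spec A`.  Then `Spec B ∖ T` is connected (EGA IV 18.9-type statement without any
hypothesis on the fibres).
-/

set_option autoImplicit false
set_option linter.style.haveILetI false
universe u

namespace Groth.Agent.Lib.Helper15.PuncConn

open IsLocalRing TensorProduct

/-- If the normalization of a domain `E` is local, every integral sub-extension is local. -/
theorem hloc_of_isLocalRing_integralClosure (E : Type u) [CommRing E] [IsDomain E]
    [hN : IsLocalRing (integralClosure E (FractionRing E))]
    (B : Subalgebra E (FractionRing E)) (hB : Algebra.IsIntegral E B) : IsLocalRing B := by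
  have hle : B ≤ integralClosure E (FractionRing E) := by
    intro b hb
    have h1 : IsIntegral E (⟨b, hb⟩ : B) := Algebra.IsIntegral.isIntegral _
    exact (isIntegral_algHom_iff B.val Subtype.val_injective).mpr h1
  let f : B →+* integralClosure E (FractionRing E) := (Subalgebra.inclusion hle).toRingHom
  have hinj : Function.Injective f := Subalgebra.inclusion_injective hle
  have hint : f.IsIntegral := by
    intro n
    have h1 : IsIntegral E n := Algebra.IsIntegral.isIntegral n
    obtain ⟨p, hp, hpe⟩ := h1
    refine ⟨p.map (algebraMap E B), hp.map _, ?_⟩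
    rw [Polynomial.eval₂_map]
    have : f.comp (algebraMap E B) = algebraMap E (integralClosure E (FractionRing E)) := by
      ext e
      rfl
    rw [this]
    exact hpe
  haveI : IsLocalHom f := RingHom.IsIntegral.isLocalHom hint hinj
  exact RingHom.domain_isLocalRing f

section Main

variable (A : Type u) [CommRing A] [IsDomain A] [IsLocalRing A] [IsNoetherianRing A]
  (B : Type u) [CommRing B] [IsLocalRing B] [IsNoetherianRing B] [Algebra A B]
  [IsLocalHom (algebraMap A B)] [Module.Flat A B]

/-- **Connectedness over a geometrically unibranch base of dimension `≥ 2`.** -/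
theorem isConnected_compl_of_isGeomUnibranch (hA : CAlg2.IsGeomUnibranch A)
    (hdim : 2 ≤ ringKrullDim A) (T : Set (PrimeSpectrum B)) (hT : IsClosed T)
    (hTm : ∀ P ∈ T, maximalIdeal A ≤ P.asIdeal.comap (algebraMap A B)) :
    IsConnected Tᶜ := by
  classical
  have hnil : nilradical A = ⊥ := nilradical_eq_zero A
  let D := A ⧸ nilradical A
  haveI : IsDomain D := hA.1.1
  haveI : IsLocalRing D :=
    IsLocalRing.of_surjective' (Ideal.Quotient.mk (nilradical A)) Ideal.Quotient.mk_surjective
  haveI hlocN : IsLocalRing (integralClosure D (FractionRing D)) := hA.1.2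
  let φ : D →+* B := Ideal.Quotient.lift (nilradical A) (algebraMap A B) (by
    intro a ha
    rw [hnil, Ideal.mem_bot] at ha
    rw [ha, map_zero])
  letI : Algebra D B := φ.toAlgebra
  haveI : IsScalarTower A D B := IsScalarTower.of_algebraMap_eq (fun a => rfl)
  have hmk : ∀ a : A, IsUnit (Ideal.Quotient.mk (nilradical A) a) → IsUnit a := by
    intro a ha
    haveI : IsLocalHom (Ideal.Quotient.mk (nilradical A)) :=
      IsLocalHom.of_surjective _ Ideal.Quotient.mk_surjective
    exact isUnit_of_map_unit (Ideal.Quotient.mk (nilradical A)) a ha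
  haveI : IsLocalHom (algebraMap D B) := by
    constructor
    intro d hd
    obtain ⟨a, rfl⟩ := Ideal.Quotient.mk_surjective d
    have h1 : IsUnit (algebraMap A B a) := hd
    exact (isUnit_of_map_unit (algebraMap A B) a h1).map _
  haveI : Module.Flat D B :=
    RegFlat.flat_transport (A := A) (S := A) (S' := D) (M := B) (M' := B)
      (fun a => ⟨a, rfl⟩) Ideal.Quotient.mk_surjective
      (by
        intro a ha
        have : a = 0 := ha
        rw [this]; exact zero_mem _)
      (LinearEquiv.refl A B) inferInstance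
  -- dimension
  let eD : D ≃+* A := (Ideal.quotEquivOfEq hnil).trans (RingEquiv.quotientBot A)
  have hdimD : 2 ≤ ringKrullDim D := by rw [ringKrullDim_eq_of_ringEquiv eD]; exact hdim
  obtain ⟨l, hl⟩ := (Order.le_krullDim_iff (n := 2)).1 hdimD
  have h01 : l ⟨0, by omega⟩ < l ⟨1, by omega⟩ := l.strictMono (by simp [Fin.lt_def])
  have h12 : l ⟨1, by omega⟩ < l ⟨2, by omega⟩ := l.strictMono (by simp [Fin.lt_def])
  let 𝔭 : Ideal D := (l ⟨1, by omega⟩).asIdeal
  haveI : 𝔭.IsPrime := (l ⟨1, by omega⟩).isPrime
  have h𝔭0 : 𝔭 ≠ ⊥ := by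
    intro h
    have h1 : (l ⟨0, by omega⟩).asIdeal < 𝔭 := h01
    rw [h] at h1
    exact not_lt_bot h1
  have h𝔭m : 𝔭 ≠ maximalIdeal D := by
    intro h
    have h1 : 𝔭 < (l ⟨2, by omega⟩).asIdeal := h12
    rw [h] at h1
    exact absurd (le_maximalIdeal (l ⟨2, by omega⟩).isPrime.ne_top) (not_le_of_gt h1)
  obtain ⟨t, ht𝔭, ht0⟩ : ∃ t ∈ 𝔭, t ≠ 0 := by
    by_contra! h
    exact h𝔭0 (le_bot_iff.mp fun t ht => h t ht)
  have htm : t ∈ maximalIdeal D := le_maximalIdeal (Ideal.IsPrime.ne_top inferInstance) ht𝔭
  -- purely inseparable residue field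
  have hpi : ∀ x : integralClosure D (FractionRing D) ⧸
      maximalIdeal (integralClosure D (FractionRing D)), ∃ n : ℕ,
      x ^ (ringExpChar (integralClosure D (FractionRing D) ⧸
        maximalIdeal (integralClosure D (FractionRing D)))) ^ n ∈
        ((Ideal.Quotient.mk (maximalIdeal (integralClosure D (FractionRing D)))).comp
          (algebraMap D (integralClosure D (FractionRing D)))).range := by
    intro x
    obtain ⟨n, a, ha⟩ := hA.2 (maximalIdeal _) x
    exact ⟨n, Ideal.Quotient.mk (nilradical A) a, ha⟩
  -- the completion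
  have hne : maximalIdeal D ≠ ⊤ := Ideal.IsPrime.ne_top inferInstance
  have hfg : (maximalIdeal D).FG := IsNoetherian.noetherian _
  let C := AdicCompletion (maximalIdeal D) D
  haveI : IsNoetherianRing C := Groth.Agent.Lib.Helper83.isNoetherianRing_adicCompletion _
  haveI hCloc : IsLocalRing C := Groth.Agent.Lib.Helper83.isLocalRing_adicCompletion _ hfg hne
  have hmC : (maximalIdeal D).map (algebraMap D C) = maximalIdeal C :=
    Groth.Agent.Lib.Helper83.maximalIdeal_adicCompletion_eq_map (maximalIdeal D) hfg hne
  haveI : IsAdicComplete (maximalIdeal C) C := by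
    rw [← hmC]; exact AdicCompletion.isAdicComplete_self _ hfg
  haveI hhC : HenselianLocalRing C :=
    Groth.Agent.Lib.Helper37.Hz.Compare.henselianLocalRing_of_isAdicComplete _
  have hresC : ∀ c : C, ∃ a : D, c - algebraMap D C a ∈ maximalIdeal C := by
    intro c
    obtain ⟨a, ha⟩ := Groth.Agent.Lib.Helper83.FlatCompl.exists_sub_of_mem (maximalIdeal D) 1 c
    refine ⟨a, ?_⟩
    rw [pow_one, Ideal.smul_top_eq_map] at ha
    rw [← hmC]; exact ha
  have hNag : CAlg.IsNagata C := Groth.Agent.Lib.Helper49.HenselFormal.isNagata_cpl D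
  have hN1 : ∀ (P : Ideal C) [P.IsPrime], P ∈ minimalPrimes C →
      Module.Finite (C ⧸ P) (integralClosure (C ⧸ P) (FractionRing (C ⧸ P))) := by
    intro P _ _
    have hN : CAlg.IsNagata (C ⧸ P) :=
      Groth.Agent.Lib.Helper88.AnUnram2.isNagata_of_finite C _ hNag
    exact Groth.Agent.Lib.Helper88.AnUnram2.isN1_of_isNagata _ hN
  have hint : ∀ (x : FractionRing D) (n : ℕ), (∀ z ∈ maximalIdeal D ^ n, ∃ w : D,
      x * algebraMap D (FractionRing D) z = algebraMap D (FractionRing D) w) → IsIntegral D x :=
    fun x n hx => PuncInt.isIntegral_of_pow_mul_mem D C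
      (fun B hB => hloc_of_isLocalRing_integralClosure D B hB) hmC hresC hN1 𝔭 h𝔭0 h𝔭m x n hx
  refine isConnected_compl D B hpi hint t htm ht0 T hT ?_
  intro P hP d hd
  obtain ⟨a, rfl⟩ := Ideal.Quotient.mk_surjective d
  have ha : a ∈ maximalIdeal A := by
    rw [IsLocalRing.mem_maximalIdeal] at hd ⊢
    exact fun h => hd (h.map _)
  exact hTm P hP ha

end Main

end Groth.Agent.Lib.Helper15.PuncConn
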