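import Groth.Agent.Lib.Helper15.FormalConn
import Groth.Agent.Lib.Helper15.DimOneBranch2
import Groth.Agent.Lib.Helper88.NormBC1
import Groth.Agent.Lib.Helper37.Hz50
import Groth.Agent.Lib.Helper37.Hz30

/-!
# Sections over the punctured spectrum of a unibranch local domain are integral (helper15)

* `mem_range_of_pow_mul`: `S` a Noetherian normal local domain having a prime `0 ≠ Q ≠ m`
  (i.e. of dimension `≥ 2`); if `m^r ξ ⊆ S` for `ξ ∈ Frac S` then `ξ ∈ S` (Hartogs).
* `isIntegral_of_forall_mul_mem`: `G` a henselian Noetherian N-1 local domain with such a prime,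
  `𝔮 ⊇ m^r` an ideal with `𝔮 ξ ⊆ G`; then `ξ` is integral over `G`.
* `isIntegral_of_pow_mul_mem`: `E` a unibranch Noetherian local domain of dimension `≥ 2` with a
  completion-like `C` (henselian, quotients by minimal primes N-1): `m^n x ⊆ E`, `x ∈ Frac E`,
  implies `x` integral over `E`.  (Mori–Nagata is avoided by passing to the completion.)
-/

set_option autoImplicit false
set_option linter.style.haveILetI false
universe u

namespace Groth.Agent.Lib.Helper15.PuncInt

open IsLocalRing

section Normal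

variable (S : Type u) [CommRing S] [IsDomain S] [IsLocalRing S] [IsNoetherianRing S]
  [IsIntegrallyClosed S] (K : Type u) [Field K] [Algebra S K] [IsFractionRing S K]

/-- key step: `w m ⊆ S` implies `w ∈ S`. -/
theorem mem_range_of_mul_maximalIdeal (Q : Ideal S) [Q.IsPrime] (hQ0 : Q ≠ ⊥)
    (hQm : Q ≠ maximalIdeal S) (w : K)
    (hw : ∀ t ∈ maximalIdeal S, ∃ s : S, w * algebraMap S K t = algebraMap S K s) :
    ∃ s : S, algebraMap S K s = w := by
  have hinj : Function.Injective (algebraMap S K) := IsFractionRing.injective S K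
  by_cases hA : ∀ t ∈ maximalIdeal S, ∃ s ∈ maximalIdeal S, w * algebraMap S K t = algebraMap S K s
  · -- integrality
    have hint : IsIntegral S w := by
      refine isIntegral_of_smul_mem_submodule (M := K)
        (Submodule.map (Algebra.linearMap S K) (maximalIdeal S)) ?_ ?_ w ?_
      · intro h
        apply hQ0
        rw [eq_bot_iff]
        intro z hz
        have hzm : z ∈ maximalIdeal S := le_maximalIdeal (Ideal.IsPrime.ne_top inferInstance) hz
        have : algebraMap S K z ∈ Submodule.map (Algebra.linearMap S K) (maximalIdeal S) :=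
          ⟨z, hzm, rfl⟩
        rw [h, Submodule.mem_bot] at this
        exact (Submodule.mem_bot _).2 (hinj (by rw [this, map_zero]))
      · exact Submodule.FG.map _ (IsNoetherian.noetherian (maximalIdeal S))
      · rintro _ ⟨z, hz, rfl⟩
        obtain ⟨s, hs, hws⟩ := hA z hz
        exact ⟨s, hs, hws.symm⟩
    exact IsIntegrallyClosed.isIntegral_iff.1 hint
  · exfalso
    push Not at hA
    obtain ⟨t, htm, ht⟩ := hA
    obtain ⟨s₀, hs₀⟩ := hw t htm
    have hs₀u : IsUnit s₀ := by
      by_contra hnu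
      exact ht s₀ ((IsLocalRing.mem_maximalIdeal s₀).2 hnu) hs₀
    have hle : maximalIdeal S ≤ Ideal.span {t} := by
      intro s hs
      obtain ⟨s', hs'⟩ := hw s hs
      have h1 : s * s₀ = s' * t := by
        apply hinj
        rw [map_mul, map_mul, ← hs₀, ← hs']
        ring
      obtain ⟨v, hv⟩ := hs₀u.exists_right_inv
      rw [Ideal.mem_span_singleton']
      refine ⟨v * s', ?_⟩
      calc v * s' * t = v * (s' * t) := by ring
        _ = v * (s * s₀) := by rw [h1]
        _ = s * (s₀ * v) := by ring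
        _ = s := by rw [hv, mul_one]
    have htQ : t ∉ Q := by
      intro htQ
      apply hQm
      refine le_antisymm (le_maximalIdeal (Ideal.IsPrime.ne_top inferInstance)) ?_
      exact hle.trans ((Ideal.span_singleton_le_iff_mem _).2 htQ)
    have hQle : Q ≤ maximalIdeal S • Q := by
      intro q hq
      have hqm : q ∈ maximalIdeal S := le_maximalIdeal (Ideal.IsPrime.ne_top inferInstance) hq
      obtain ⟨c, hc⟩ := Ideal.mem_span_singleton'.1 (hle hqm)
      have hcQ : c ∈ Q := by
        rcases Ideal.IsPrime.mem_or_mem inferInstance (hc ▸ hq : c * t ∈ Q) with h | h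
        · exact h
        · exact absurd h htQ
      rw [← hc, mul_comm]
      exact Submodule.smul_mem_smul htm hcQ
    apply hQ0
    have hfg : (Q : Ideal S).FG := IsNoetherian.noetherian Q
    exact Submodule.eq_bot_of_le_smul_of_le_jacobson_bot (maximalIdeal S) Q hfg hQle
      (by rw [IsLocalRing.jacobson_eq_maximalIdeal ⊥ bot_ne_top])

/-- **Hartogs for normal local domains of dimension at least two.** -/
theorem mem_range_of_pow_mul (Q : Ideal S) [Q.IsPrime] (hQ0 : Q ≠ ⊥)
    (hQm : Q ≠ maximalIdeal S) (r : ℕ) : ∀ (ξ : K)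
    (_ : ∀ z ∈ maximalIdeal S ^ r, ∃ s : S, ξ * algebraMap S K z = algebraMap S K s),
    ∃ s : S, algebraMap S K s = ξ := by
  induction r with
  | zero =>
    intro ξ h
    obtain ⟨s, hs⟩ := h 1 (by rw [pow_zero, Ideal.one_eq_top]; exact Submodule.mem_top)
    exact ⟨s, by rw [← hs, map_one, mul_one]⟩
  | succ r ih =>
    intro ξ h
    apply ih
    intro z hz
    obtain ⟨s, hs⟩ := mem_range_of_mul_maximalIdeal S K Q hQ0 hQm (ξ * algebraMap S K z) (by
      intro t ht
      obtain ⟨s, hs⟩ := h (z * t) (by rw [pow_succ]; exact Ideal.mul_mem_mul hz ht)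
      exact ⟨s, by rw [← hs, map_mul, mul_assoc]⟩)
    exact ⟨s, hs.symm⟩

end Normal

section Hens

variable (G : Type u) [CommRing G] [IsDomain G] [HenselianLocalRing G] [IsNoetherianRing G]

/-- `G` henselian Noetherian N-1 local domain of dimension `≥ 2`, `𝔮` an `m`-primary ideal,
`𝔮 ξ ⊆ G`: then `ξ` is integral over `G`. -/
theorem isIntegral_of_forall_mul_mem
    [Module.Finite G (integralClosure G (FractionRing G))]
    (Q : Ideal G) [Q.IsPrime] (hQ0 : Q ≠ ⊥) (hQm : Q ≠ maximalIdeal G)
    (𝔮 : Ideal G) (r : ℕ) (h𝔮 : maximalIdeal G ^ r ≤ 𝔮) (ξ : FractionRing G)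
    (hξ : ∀ z ∈ 𝔮, ∃ w : G, ξ * algebraMap G (FractionRing G) z =
      algebraMap G (FractionRing G) w) :
    IsIntegral G ξ := by
  classical
  let L := FractionRing G
  let Sn := integralClosure G L
  haveI : IsNoetherianRing Sn := IsNoetherianRing.of_finite G _
  haveI : IsIntegrallyClosed Sn := integralClosure.isIntegrallyClosedOfFiniteExtension L
  haveI : IsFractionRing Sn L := integralClosure.isFractionRing_of_finite_extension L L
  haveI : IsLocalRing Sn :=
    Groth.Agent.Lib.Helper37.Hz.TotNorm.isLocalRing_of_isIntegral_of_isDomain G Sn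
  have hinjG : Function.Injective (algebraMap G Sn) := by
    intro a b hab
    apply IsFractionRing.injective G L
    have := congrArg (algebraMap Sn L) hab
    rwa [← IsScalarTower.algebraMap_apply, ← IsScalarTower.algebraMap_apply] at this
  -- a prime of `Sn` over `Q`
  obtain ⟨Q', hQ'p, hQ'⟩ := Ideal.exists_ideal_over_prime_of_isIntegral_of_isDomain (S := Sn) Q
    (by rw [(RingHom.injective_iff_ker_eq_bot _).1 hinjG]; exact bot_le)
  haveI := hQ'p
  have hQ'0 : Q' ≠ ⊥ := by
    intro h
    apply hQ0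
    rw [← hQ', h, Ideal.comap_bot_of_injective _ hinjG]
  have hmcomap : (maximalIdeal Sn).comap (algebraMap G Sn) = maximalIdeal G := by
    haveI : ((maximalIdeal Sn).comap (algebraMap G Sn)).IsMaximal :=
      Ideal.isMaximal_comap_of_isIntegral_of_isMaximal (maximalIdeal Sn)
    exact IsLocalRing.eq_maximalIdeal inferInstance
  have hQ'm : Q' ≠ maximalIdeal Sn := by
    intro h
    apply hQm
    rw [← hQ', h, hmcomap]
  -- `m_Sn ≤ rad (𝔮 Sn)`
  have hrad : maximalIdeal Sn ≤ (𝔮.map (algebraMap G Sn)).radical := by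
    rw [Ideal.radical_eq_sInf]
    refine le_sInf ?_
    rintro P ⟨hle, hP⟩
    haveI := hP
    have h1 : 𝔮 ≤ P.comap (algebraMap G Sn) := Ideal.map_le_iff_le_comap.1 hle
    have h2 : maximalIdeal G ≤ P.comap (algebraMap G Sn) := by
      intro z hz
      have : z ^ r ∈ P.comap (algebraMap G Sn) := h1 (h𝔮 (Ideal.pow_mem_pow hz r))
      exact Ideal.IsPrime.mem_of_pow_mem inferInstance r this
    have h3 : P.comap (algebraMap G Sn) = maximalIdeal G :=
      ((IsLocalRing.maximalIdeal.isMaximal G).eq_of_le (Ideal.IsPrime.ne_top inferInstance) h2).symm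
    haveI : (P.comap (algebraMap G Sn)).IsMaximal := h3 ▸ IsLocalRing.maximalIdeal.isMaximal G
    haveI : P.IsMaximal := Ideal.isMaximal_of_isIntegral_of_isMaximal_comap (R := G) P inferInstance
    exact (IsLocalRing.eq_maximalIdeal inferInstance : P = maximalIdeal Sn).ge
  obtain ⟨r', hr'⟩ := Ideal.exists_pow_le_of_le_radical_of_fg hrad
    (IsNoetherian.noetherian (maximalIdeal Sn))
  -- `ξ z ∈ Sn` for `z ∈ 𝔮 Sn`
  have hmul : ∀ z ∈ 𝔮.map (algebraMap G Sn), ∃ s : Sn, ξ * algebraMap Sn L z = algebraMap Sn L s := by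
    intro z hz
    refine Submodule.span_induction (p := fun z _ => ∃ s : Sn, ξ * algebraMap Sn L z =
      algebraMap Sn L s) ?_ ?_ ?_ ?_ hz
    · rintro _ ⟨q, hq, rfl⟩
      obtain ⟨w, hw⟩ := hξ q hq
      refine ⟨algebraMap G Sn w, ?_⟩
      rw [← IsScalarTower.algebraMap_apply, ← IsScalarTower.algebraMap_apply]
      exact hw
    · exact ⟨0, by simp⟩
    · rintro a b _ _ ⟨s, hs⟩ ⟨s', hs'⟩
      exact ⟨s + s', by rw [map_add, mul_add, hs, hs', map_add]⟩
    · rintro c a _ ⟨s, hs⟩
      refine ⟨c * s, ?_⟩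
      rw [smul_eq_mul, map_mul, map_mul, ← hs]
      ring
  obtain ⟨s, hs⟩ := mem_range_of_pow_mul Sn L Q' hQ'0 hQ'm r' ξ
    (fun z hz => hmul z (hr' hz))
  have : ξ ∈ integralClosure G L := by
    rw [← hs]
    exact s.2
  exact this

end Hens

section Main

variable (E C : Type u) [CommRing E] [IsDomain E] [IsLocalRing E] [IsNoetherianRing E]
  [CommRing C] [HenselianLocalRing C] [IsNoetherianRing C] [Algebra E C] [Module.Flat E C]

/-- **Sections over the punctured spectrum are integral** (unibranch, dimension `≥ 2`). -/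
theorem isIntegral_of_pow_mul_mem
    (hloc : ∀ B : Subalgebra E (FractionRing E), Algebra.IsIntegral E B → IsLocalRing B)
    (hm : (maximalIdeal E).map (algebraMap E C) = maximalIdeal C)
    (hres : ∀ c : C, ∃ e : E, c - algebraMap E C e ∈ maximalIdeal C)
    (hN1 : ∀ (P : Ideal C) [P.IsPrime], P ∈ minimalPrimes C →
      Module.Finite (C ⧸ P) (integralClosure (C ⧸ P) (FractionRing (C ⧸ P))))
    (𝔭 : Ideal E) [𝔭.IsPrime] (h𝔭0 : 𝔭 ≠ ⊥) (h𝔭m : 𝔭 ≠ maximalIdeal E)
    (x : FractionRing E) (n : ℕ)
    (hx : ∀ z ∈ maximalIdeal E ^ n, ∃ w : E, x * algebraMap E (FractionRing E) z =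
      algebraMap E (FractionRing E) w) :
    IsIntegral E x := by
  classical
  haveI hlocal : IsLocalHom (algebraMap E C) :=
    ((IsLocalRing.local_hom_TFAE (algebraMap E C)).out 0 2).mpr hm.le
  haveI : Module.FaithfullyFlat E C := Module.FaithfullyFlat.of_flat_of_isLocalHom
  obtain ⟨a, b, hb, rfl⟩ := IsFractionRing.div_surjective (A := E) x
  have hb0 : b ≠ 0 := nonZeroDivisors.ne_zero hb
  have hbK : algebraMap E (FractionRing E) b ≠ 0 := by
    rwa [ne_eq, map_eq_zero_iff _ (IsFractionRing.injective E (FractionRing E))]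
  -- nonzero elements of `E` avoid minimal primes of `C`
  have hnotmem : ∀ (P : Ideal C), P ∈ minimalPrimes C → ∀ e : E, e ≠ 0 → algebraMap E C e ∉ P := by
    intro P hP e he hmem
    have hreg : IsSMulRegular E e := (IsRegular.of_ne_zero he).left.isSMulRegular
    have h2 : IsSMulRegular C (algebraMap E C e) := IsSMulRegular.of_flat hreg
    have h3 : algebraMap E C e ∈ nonZeroDivisors C := by
      rw [mem_nonZeroDivisors_iff_right]
      intro y hy
      apply h2
      change algebraMap E C e • y = algebraMap E C e • 0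
      rw [smul_eq_mul, smul_zero, mul_comm]
      exact hy
    exact (Ideal.disjoint_nonZeroDivisors_of_mem_minimalPrimes hP).le_bot ⟨hmem, h3⟩
  have hcomapm : (maximalIdeal C).comap (algebraMap E C) = maximalIdeal E := by
    refine ((IsLocalRing.maximalIdeal.isMaximal E).eq_of_le
      (Ideal.comap_ne_top _ (Ideal.IsPrime.ne_top inferInstance)) ?_).symm
    rw [← Ideal.map_le_iff_le_comap, hm]
  have hex := Groth.Agent.Lib.Helper88.NormBC.exists_isIntegral_of_forall_minimalPrimes
    (R := E) (K := FractionRing E) (R' := C) (minimalPrimes.finite_of_isNoetherianRing C) (maximalIdeal E)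
    (fun I c hc => ⟨1, fun h => (Ideal.ne_top_iff_one _).1 (Ideal.IsPrime.ne_top inferInstance) h, by
      rw [one_mul]
      have : c ∈ (I.map (algebraMap E C)).comap (algebraMap E C) := hc
      rwa [Ideal.comap_map_eq_self_of_faithfullyFlat] at this⟩)
    a b hb0 ?_
  · obtain ⟨u, hu, hint⟩ := hex
    have huu : IsUnit u := by
      by_contra hnu
      exact hu ((IsLocalRing.mem_maximalIdeal u).2 hnu)
    obtain ⟨v, hv⟩ := huu.exists_left_inv
    have : algebraMap E (FractionRing E) a / algebraMap E (FractionRing E) b =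
        algebraMap E (FractionRing E) v * (algebraMap E (FractionRing E) u * (algebraMap E (FractionRing E) a / algebraMap E (FractionRing E) b)) := by
      rw [← mul_assoc, ← map_mul, hv, map_one, one_mul]
    rw [this]
    exact IsIntegral.mul isIntegral_algebraMap hint
  · intro P hP
    haveI hPp : P.IsPrime := hP.1.1
    have hb' : algebraMap E C b ∉ P := hnotmem P hP b hb0
    apply Groth.Agent.Lib.Helper88.NormBC.exists_monic_hval_mem P _ _ hb'
    -- a prime strictly between `P` and the maximal ideal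
    obtain ⟨Q₂, hQ₂p, hPQ₂, hQ₂m⟩ : ∃ Q₂ : Ideal C, Q₂.IsPrime ∧ P < Q₂ ∧ Q₂ ≠ maximalIdeal C := by
      by_contra hcon
      push Not at hcon
      have hnil : P ≤ nilradical C :=
        FormalConn.le_nilradical_of_dim_one E C hloc hm hres P hP (fun Q hQ hlt => hcon Q hQ hlt)
      obtain ⟨Q₃, hQ₃⟩ := PrimeSpectrum.comap_surjective_of_faithfullyFlat (A := E) (B := C)
        ⟨𝔭, inferInstance⟩
      have hQ₃c : Q₃.asIdeal.comap (algebraMap E C) = 𝔭 := congrArg PrimeSpectrum.asIdeal hQ₃
      have hle : P ≤ Q₃.asIdeal := hnil.trans (nilradical_le_prime _)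
      have hne : P ≠ Q₃.asIdeal := by
        intro h
        apply h𝔭0
        rw [eq_bot_iff]
        intro e he
        by_contra he0
        rw [← hQ₃c, Ideal.mem_comap, ← h] at he
        exact hnotmem P hP e he0 he
      have := hcon Q₃.asIdeal Q₃.isPrime (lt_of_le_of_ne hle hne)
      apply h𝔭m
      rw [← hQ₃c, this, hcomapm]
    haveI := hQ₂p
    haveI : Nontrivial (C ⧸ P) := Ideal.Quotient.nontrivial_iff.2 hPp.ne_top
    haveI : HenselianLocalRing (C ⧸ P) :=
      Groth.Agent.Lib.Helper86.Olivier.henselianLocalRing_quotient P hPp.ne_top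
    haveI := hN1 P hP
    have hker : RingHom.ker (Ideal.Quotient.mk P) ≤ Q₂ := by
      rw [Ideal.mk_ker]; exact hPQ₂.le
    haveI : (Q₂.map (Ideal.Quotient.mk P)).IsPrime :=
      Ideal.map_isPrime_of_surjective Ideal.Quotient.mk_surjective hker
    have hcm : ∀ I : Ideal C, P ≤ I → (I.map (Ideal.Quotient.mk P)).comap (Ideal.Quotient.mk P) = I := by
      intro I hI
      rw [Ideal.comap_map_of_surjective _ Ideal.Quotient.mk_surjective, ← RingHom.ker_eq_comap_bot,
        Ideal.mk_ker, sup_eq_left.2 hI]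
    have hmG : maximalIdeal (C ⧸ P) = (maximalIdeal C).map (Ideal.Quotient.mk P) :=
      DimOneBranch.maximalIdeal_quotient' C P
    have hQ0 : Q₂.map (Ideal.Quotient.mk P) ≠ ⊥ := by
      intro h
      have h1 := hcm Q₂ hPQ₂.le
      rw [h, ← RingHom.ker_eq_comap_bot, Ideal.mk_ker] at h1
      exact hPQ₂.ne h1
    have hQm : Q₂.map (Ideal.Quotient.mk P) ≠ maximalIdeal (C ⧸ P) := by
      intro h
      apply hQ₂m
      rw [← hcm Q₂ hPQ₂.le, h, hmG, hcm _ (le_maximalIdeal hPp.ne_top)]
    -- the ideal `𝔮`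
    have hpowG : maximalIdeal (C ⧸ P) ^ n =
        ((maximalIdeal E ^ n).map (algebraMap E C)).map (Ideal.Quotient.mk P) := by
      rw [hmG, ← hm, Ideal.map_pow, Ideal.map_pow]
    refine isIntegral_of_forall_mul_mem (C ⧸ P) (Q₂.map (Ideal.Quotient.mk P)) hQ0 hQm
      (((maximalIdeal E ^ n).map (algebraMap E C)).map (Ideal.Quotient.mk P)) n hpowG.le _ ?_
    set L := FractionRing (C ⧸ P)
    have hb'' : algebraMap (C ⧸ P) L (Ideal.Quotient.mk P (algebraMap E C b)) ≠ 0 := by
      rw [ne_eq, map_eq_zero_iff _ (IsFractionRing.injective (C ⧸ P) L),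
        Ideal.Quotient.eq_zero_iff_mem]
      exact hb'
    intro z hz
    rw [Ideal.map_map] at hz
    refine Submodule.span_induction (p := fun z _ => ∃ w : C ⧸ P,
      algebraMap (C ⧸ P) L (Ideal.Quotient.mk P (algebraMap E C a)) /
        algebraMap (C ⧸ P) L (Ideal.Quotient.mk P (algebraMap E C b)) * algebraMap (C ⧸ P) L z =
      algebraMap (C ⧸ P) L w) ?_ ?_ ?_ ?_ hz
    · rintro _ ⟨e, he, rfl⟩
      obtain ⟨w, hw⟩ := hx e he
      have h1 : a * e = w * b := by
        apply IsFractionRing.injective E (FractionRing E)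
        rw [map_mul, map_mul, ← hw, div_mul_eq_mul_div, div_mul_cancel₀ _ hbK]
      refine ⟨Ideal.Quotient.mk P (algebraMap E C w), ?_⟩
      rw [div_mul_eq_mul_div, div_eq_iff hb'']
      rw [RingHom.comp_apply, ← map_mul, ← map_mul, ← map_mul, ← map_mul, ← map_mul, ← map_mul, h1]
    · exact ⟨0, by simp⟩
    · rintro a' b' _ _ ⟨s, hs⟩ ⟨s', hs'⟩
      exact ⟨s + s', by rw [map_add, mul_add, hs, hs', map_add]⟩
    · rintro c a' _ ⟨s, hs⟩
      refine ⟨c * s, ?_⟩
      rw [smul_eq_mul, map_mul, map_mul, ← hs]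
      ring

end Main

end Groth.Agent.Lib.Helper15.PuncInt
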