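/-
helper15: sections on the punctured spectrum are integral (algebra part).
Domain case via the Krull property of the integral closure (S12124).
-/
import Mathlib
import Groth.Agent.S12124
import Groth.Agent.Lib.Helper73.HeightGoingDown

set_option linter.style.haveILetI false
set_option autoImplicit false

universe u

namespace Groth.Agent.Lib.Helper15.PuncSec

open IsLocalRing

/-- Domain case: `A` a noetherian local domain such that all maximal ideals of its integral
closure have height `≥ 2`; any `x ∈ Frac A` with `m^n x ⊆ A` is integral over `A`. -/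
theorem isIntegral_of_pow_smul_mem_domain (A : Type u) [CommRing A] [IsDomain A]
    [IsNoetherianRing A] [IsLocalRing A]
    (hdim : ∀ (m' : Ideal ↥(integralClosure A (FractionRing A))) [m'.IsMaximal],
      m'.comap (algebraMap A ↥(integralClosure A (FractionRing A))) = maximalIdeal A →
        2 ≤ m'.height)
    (x : FractionRing A) (n : ℕ)
    (hx : ∀ a ∈ (maximalIdeal A) ^ n, ∃ b : A, algebraMap A (FractionRing A) a * x =
      algebraMap A (FractionRing A) b) :
    IsIntegral A x := by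
  obtain ⟨C, hfin, -, hb, -⟩ := Groth.Agent.S12124.result (A := A)
  have hxA : x ∈ integralClosure A (FractionRing A) := by
    rw [hb x]
    intro P hP hht
    by_cases hp : P.comap (algebraMap A C) = maximalIdeal A
    · exfalso
      haveI : Algebra.IsIntegral A C := Algebra.IsIntegral.of_finite A C
      have hle : C ≤ integralClosure A (FractionRing A) := by
        intro y hy
        have h1 : IsIntegral A (⟨y, hy⟩ : C) := Algebra.IsIntegral.isIntegral _
        exact h1.map C.val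
      letI : Algebra C ↥(integralClosure A (FractionRing A)) :=
        (Subalgebra.inclusion hle).toRingHom.toAlgebra
      haveI : IsScalarTower A C ↥(integralClosure A (FractionRing A)) :=
        IsScalarTower.of_algebraMap_eq (fun a => ((Subalgebra.inclusion hle).commutes a).symm)
      haveI : Algebra.IsIntegral C ↥(integralClosure A (FractionRing A)) :=
        Algebra.IsIntegral.tower_top (R := A)
      have hinj : Function.Injective (algebraMap C ↥(integralClosure A (FractionRing A))) :=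
        Subalgebra.inclusion_injective hle
      obtain ⟨m', hm'prime, hm'P⟩ :=
        Ideal.exists_ideal_over_prime_of_isIntegral_of_isDomain
          (S := ↥(integralClosure A (FractionRing A))) P
          (by rw [(RingHom.injective_iff_ker_eq_bot _).1 hinj]; exact bot_le)
      have hm'A : m'.comap (algebraMap A ↥(integralClosure A (FractionRing A))) =
          maximalIdeal A := by
        rw [IsScalarTower.algebraMap_eq A C ↥(integralClosure A (FractionRing A)),
          ← Ideal.comap_comap, hm'P, hp]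
      haveI : m'.IsMaximal :=
        Ideal.isMaximal_of_isIntegral_of_isMaximal_comap (R := A) m'
          (by rw [hm'A]; infer_instance)
      have h2 := hdim m' hm'A
      have h3 := Groth.Agent.Lib.Helper73.height_le_height_under_of_isIntegral (R := C) m'
      have h4 : m'.under C = P := hm'P
      rw [h4, hht] at h3
      have : (2 : ℕ∞) ≤ 1 := h2.trans h3
      exact absurd this (by decide)
    · have hlt : ¬ (maximalIdeal A ≤ P.comap (algebraMap A C)) := by
        intro hle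
        apply hp
        exact le_antisymm (IsLocalRing.le_maximalIdeal (Ideal.IsPrime.ne_top inferInstance)) hle
      obtain ⟨a, ham, haP⟩ := SetLike.not_le_iff_exists.1 hlt
      refine ⟨algebraMap A C (a ^ n), ?_, ?_⟩
      · intro h
        have : a ^ n ∈ P.comap (algebraMap A C) := h
        exact haP (Ideal.IsPrime.mem_of_pow_mem inferInstance n this)
      · obtain ⟨b, hb'⟩ := hx (a ^ n) (Ideal.pow_mem_pow ham n)
        have h1 : ((algebraMap A C (a ^ n) : C) : FractionRing A) * x =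
            algebraMap C (FractionRing A) (algebraMap A C b) := by
          exact hb'
        rw [h1]
        exact isIntegral_algebraMap
  exact hxA

section Reduced

variable {A : Type u} [CommRing A]

/-- `θ_𝔭 : Frac A → Frac (A/𝔭)` for a minimal prime `𝔭`. -/
noncomputable def theta (𝔭 : Ideal A) [𝔭.IsPrime] (h𝔭 : 𝔭 ∈ minimalPrimes A) :
    FractionRing A →+* FractionRing (A ⧸ 𝔭) :=
  IsLocalization.lift (M := nonZeroDivisors A) (S := FractionRing A)
    (g := (algebraMap (A ⧸ 𝔭) (FractionRing (A ⧸ 𝔭))).comp (Ideal.Quotient.mk 𝔭))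
    (fun y => by
      have hy : (y : A) ∉ 𝔭 := fun hmem =>
        Set.disjoint_left.1 (Ideal.disjoint_nonZeroDivisors_of_mem_minimalPrimes h𝔭) hmem y.2
      refine IsUnit.mk0 _ ?_
      rw [RingHom.comp_apply, Ne, map_eq_zero_iff _ (IsFractionRing.injective _ _),
        Ideal.Quotient.eq_zero_iff_mem]
      exact hy)

theorem theta_algebraMap (𝔭 : Ideal A) [𝔭.IsPrime] (h𝔭 : 𝔭 ∈ minimalPrimes A) (a : A) :
    theta 𝔭 h𝔭 (algebraMap A (FractionRing A) a) =
      algebraMap (A ⧸ 𝔭) (FractionRing (A ⧸ 𝔭)) (Ideal.Quotient.mk 𝔭 a) :=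
  IsLocalization.lift_eq _ a

theorem theta_comp (𝔭 : Ideal A) [𝔭.IsPrime] (h𝔭 : 𝔭 ∈ minimalPrimes A) :
    (theta 𝔭 h𝔭).comp (algebraMap A (FractionRing A)) =
      (algebraMap (A ⧸ 𝔭) (FractionRing (A ⧸ 𝔭))).comp (Ideal.Quotient.mk 𝔭) :=
  RingHom.ext (theta_algebraMap 𝔭 h𝔭)

theorem mem_of_forall_minimalPrimes [IsReduced A] (a : A)
    (h : ∀ q ∈ minimalPrimes A, a ∈ q) : a = 0 := by
  have : a ∈ nilradical A := by
    rw [nilradical_eq_sInf, Ideal.mem_sInf]
    intro J hJ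
    haveI : J.IsPrime := hJ
    obtain ⟨P, hP, hPJ⟩ := Ideal.exists_minimalPrimes_le (I := ⊥) (J := J) bot_le
    exact hPJ (h P hP)
  exact IsReduced.eq_zero _ this

theorem mem_nonZeroDivisors_of_forall_notMem [IsReduced A] (t : A)
    (h : ∀ q ∈ minimalPrimes A, t ∉ q) : t ∈ nonZeroDivisors A := by
  rw [mem_nonZeroDivisors_iff_right]
  intro y hy
  apply mem_of_forall_minimalPrimes
  intro P hP
  haveI := hP.1.1
  have : y * t ∈ P := by rw [hy]; exact P.zero_mem
  exact (Ideal.IsPrime.mem_or_mem inferInstance this).resolve_right (h P hP)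

theorem eq_zero_of_theta_eq_zero [IsReduced A] (y : FractionRing A)
    (h : ∀ (𝔭 : Ideal A) [𝔭.IsPrime] (h𝔭 : 𝔭 ∈ minimalPrimes A), theta 𝔭 h𝔭 y = 0) : y = 0 := by
  obtain ⟨a, s, rfl⟩ := IsLocalization.exists_mk'_eq (nonZeroDivisors A) y
  have ha : a = 0 := by
    apply mem_of_forall_minimalPrimes
    intro P hP
    haveI := hP.1.1
    have h1 := h P hP
    have h2 : theta P hP (algebraMap A _ a) = 0 := by
      rw [← IsLocalization.mk'_spec (FractionRing A) a s, map_mul, h1, zero_mul]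
    rw [theta_algebraMap, map_eq_zero_iff _ (IsFractionRing.injective _ _),
      Ideal.Quotient.eq_zero_iff_mem] at h2
    exact h2
  rw [ha, IsLocalization.mk'_zero]

open Polynomial in
theorem isIntegral_of_theta [IsReduced A] (hfin : (minimalPrimes A).Finite) (x : FractionRing A)
    (h : ∀ (𝔭 : Ideal A) [𝔭.IsPrime] (h𝔭 : 𝔭 ∈ minimalPrimes A),
      IsIntegral (A ⧸ 𝔭) (theta 𝔭 h𝔭 x)) :
    IsIntegral A x := by
  classical
  have h' : ∀ 𝔭 ∈ minimalPrimes A, ∃ F : A[X], F.Monic ∧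
      ∀ (hp : 𝔭.IsPrime) (h𝔭 : 𝔭 ∈ minimalPrimes A),
        @theta _ _ 𝔭 hp h𝔭 (F.eval₂ (algebraMap A _) x) = 0 := by
    intro 𝔭 h𝔭
    haveI := h𝔭.1.1
    obtain ⟨f, hf, hfx⟩ := h 𝔭 h𝔭
    obtain ⟨F, hF, -, hFm⟩ := Polynomial.lifts_and_natDegree_eq_and_monic
      (Polynomial.mem_lifts_of_surjective Ideal.Quotient.mk_surjective f) hf
    refine ⟨F, hFm, fun _ _ => ?_⟩
    rw [Polynomial.hom_eval₂, ← hfx, ← hF, Polynomial.eval₂_map, theta_comp]
  choose! F hF1 hF2 using h'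
  refine ⟨∏ 𝔭 ∈ hfin.toFinset, F 𝔭,
    Polynomial.monic_prod_of_monic _ _ (fun 𝔭 h𝔭 => hF1 𝔭 (hfin.mem_toFinset.1 h𝔭)), ?_⟩
  apply eq_zero_of_theta_eq_zero
  intro 𝔭 _ h𝔭
  rw [Polynomial.eval₂_finsetProd, map_prod]
  exact Finset.prod_eq_zero (hfin.mem_toFinset.2 h𝔭) (hF2 𝔭 h𝔭 _ h𝔭)

theorem exists_cd (hfin : (minimalPrimes A).Finite) (𝔭 : Ideal A)
    (h𝔭 : 𝔭 ∈ minimalPrimes A) :
    ∃ c d : A, c ∉ 𝔭 ∧ d ∈ 𝔭 ∧ ∀ q ∈ minimalPrimes A, q ≠ 𝔭 → c ∈ q ∧ d ∉ q := by
  classical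
  haveI := h𝔭.1.1
  set s := hfin.toFinset.erase 𝔭 with hs
  have hmem : ∀ q, q ∈ s ↔ q ∈ minimalPrimes A ∧ q ≠ 𝔭 := by
    intro q
    rw [hs, Finset.mem_erase, hfin.mem_toFinset, and_comm]
  have hc : ¬ (s.inf id ≤ 𝔭) := by
    intro hle
    obtain ⟨q, hq, hq𝔭⟩ := (Ideal.IsPrime.inf_le' (inferInstance : 𝔭.IsPrime)).1 hle
    obtain ⟨hqm, hqne⟩ := (hmem q).1 hq
    exact hqne (le_antisymm hq𝔭 (h𝔭.2 hqm.1 hq𝔭))
  obtain ⟨c, hcs, hc𝔭⟩ := SetLike.not_le_iff_exists.1 hc
  have hd : ¬ ((𝔭 : Set A) ⊆ ⋃ q ∈ (s : Set (Ideal A)), (q : Set A)) := by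
    rw [Ideal.subset_union_prime 𝔭 𝔭 (fun q hq _ _ => ((hmem q).1 hq).1.1.1)]
    rintro ⟨q, hq, h𝔭q⟩
    obtain ⟨hqm, hqne⟩ := (hmem q).1 hq
    exact hqne (le_antisymm (hqm.2 h𝔭.1 h𝔭q) h𝔭q)
  obtain ⟨d, hd𝔭, hdq⟩ := Set.not_subset.1 hd
  refine ⟨c, d, hc𝔭, hd𝔭, fun q hq hne => ⟨?_, ?_⟩⟩
  · have := (Finset.inf_le ((hmem q).2 ⟨hq, hne⟩) : s.inf id ≤ id q)
    exact this hcs
  · intro hdq'
    apply hdq
    simp only [Set.mem_iUnion]
    exact ⟨q, (hmem q).2 ⟨hq, hne⟩, hdq'⟩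

end Reduced

section Height

theorem exists_lt_of_add_one_le_height {R : Type*} [CommRing R] (p : Ideal R) [p.IsPrime] (k : ℕ)
    (h : ((k + 1 : ℕ) : ℕ∞) ≤ p.height) : ∃ q : Ideal R, q.IsPrime ∧ q < p ∧ (k : ℕ∞) ≤ q.height := by
  by_contra hcon
  push Not at hcon
  have : p.height ≤ (k : ℕ) := by
    rw [Ideal.height_le_iff]
    intro q hq hqp
    exact hcon q hq hqp
  have h2 := h.trans this
  rw [Nat.cast_le] at h2
  omega

theorem comap_map_eq_self {R S : Type*} [CommRing R] [CommRing S] (π : R →+* S)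
    (hπ : Function.Surjective π) (Q : Ideal R) (hker : RingHom.ker π ≤ Q) :
    (Q.map π).comap π = Q := by
  rw [Ideal.comap_map_of_surjective π hπ]
  exact sup_eq_left.2 hker

theorem two_le_height_of_surjective {R S : Type*} [CommRing R] [CommRing S] (π : R →+* S)
    (hπ : Function.Surjective π) (n : Ideal S) [n.IsPrime]
    (hker : ∀ Q : Ideal R, Q.IsPrime → Q ≤ n.comap π → RingHom.ker π ≤ Q)
    (h2 : 2 ≤ (n.comap π).height) : 2 ≤ n.height := by
  haveI : (n.comap π).IsPrime := Ideal.comap_isPrime π n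
  obtain ⟨Q₁, hQ₁, hQ₁lt, hQ₁h⟩ := exists_lt_of_add_one_le_height (n.comap π) 1 (by exact_mod_cast h2)
  obtain ⟨Q₀, hQ₀, hQ₀lt, -⟩ := exists_lt_of_add_one_le_height Q₁ 0 (by exact_mod_cast hQ₁h)
  have hk₁ : RingHom.ker π ≤ Q₁ := hker Q₁ hQ₁ hQ₁lt.le
  have hk₀ : RingHom.ker π ≤ Q₀ := hker Q₀ hQ₀ (hQ₀lt.le.trans hQ₁lt.le)
  haveI : (Q₁.map π).IsPrime := Ideal.map_isPrime_of_surjective hπ hk₁
  haveI : (Q₀.map π).IsPrime := Ideal.map_isPrime_of_surjective hπ hk₀
  have hlt₁ : Q₁.map π < n := by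
    refine lt_of_le_of_ne (Ideal.map_le_iff_le_comap.2 hQ₁lt.le) ?_
    intro heq
    have := comap_map_eq_self π hπ Q₁ hk₁
    rw [heq] at this
    exact hQ₁lt.ne this.symm
  have hlt₀ : Q₀.map π < Q₁.map π := by
    refine lt_of_le_of_ne (Ideal.map_mono hQ₀lt.le) ?_
    intro heq
    have h0 := comap_map_eq_self π hπ Q₀ hk₀
    have h1 := comap_map_eq_self π hπ Q₁ hk₁
    rw [heq, h1] at h0
    exact hQ₀lt.ne h0.symm
  have e1 := Ideal.height_add_one_le_of_lt_of_isPrime hlt₁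
  have e0 := Ideal.height_add_one_le_of_lt_of_isPrime hlt₀
  calc (2 : ℕ∞) = 0 + 1 + 1 := by norm_num
    _ ≤ (Q₀.map π).height + 1 + 1 := by gcongr; exact zero_le
    _ ≤ (Q₁.map π).height + 1 := by gcongr
    _ ≤ n.height := e1

end Height

section Transfer

theorem isLocalRing_quotient {A : Type*} [CommRing A] [IsLocalRing A] (𝔭 : Ideal A) [𝔭.IsPrime] :
    IsLocalRing (A ⧸ 𝔭) :=
  IsLocalRing.of_surjective' (Ideal.Quotient.mk 𝔭) Ideal.Quotient.mk_surjective

attribute [local instance] isLocalRing_quotient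

variable (A : Type u) [CommRing A] [IsNoetherianRing A] [IsReduced A]

/-- restriction of `θ` to integral closures -/
noncomputable def piHom (𝔭 : Ideal A) [𝔭.IsPrime] (h𝔭 : 𝔭 ∈ minimalPrimes A) :
    ↥(integralClosure A (FractionRing A)) →+*
      ↥(integralClosure (A ⧸ 𝔭) (FractionRing (A ⧸ 𝔭))) :=
  RingHom.codRestrict
    ((theta 𝔭 h𝔭).comp (algebraMap ↥(integralClosure A (FractionRing A)) (FractionRing A)))
    (integralClosure (A ⧸ 𝔭) (FractionRing (A ⧸ 𝔭)))
    (fun y => IsIntegral.map_of_comp_eq (Ideal.Quotient.mk 𝔭) (theta 𝔭 h𝔭)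
      (theta_comp 𝔭 h𝔭).symm y.2)

theorem exists_lift (𝔭 : Ideal A) [𝔭.IsPrime] (h𝔭 : 𝔭 ∈ minimalPrimes A)
    (yb : FractionRing (A ⧸ 𝔭)) (hyb : IsIntegral (A ⧸ 𝔭) yb) :
    ∃ y : FractionRing A, IsIntegral A y ∧ theta 𝔭 h𝔭 y = yb ∧
      ∀ (q : Ideal A) [q.IsPrime] (hq : q ∈ minimalPrimes A), q ≠ 𝔭 → theta q hq y = 0 := by
  obtain ⟨c, d, hc, hd, hcd⟩ := exists_cd (minimalPrimes.finite_of_isNoetherianRing A) 𝔭 h𝔭
  obtain ⟨ab, sb, rfl⟩ := IsLocalization.exists_mk'_eq (nonZeroDivisors (A ⧸ 𝔭)) yb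
  obtain ⟨a, rfl⟩ := Ideal.Quotient.mk_surjective ab
  obtain ⟨s, hs⟩ := Ideal.Quotient.mk_surjective (sb : A ⧸ 𝔭)
  have hs𝔭 : s ∉ 𝔭 := by
    intro h
    have : (sb : A ⧸ 𝔭) = 0 := by rw [← hs]; exact Ideal.Quotient.eq_zero_iff_mem.2 h
    exact nonZeroDivisors.coe_ne_zero sb this
  have hnzd : s * c + d ∈ nonZeroDivisors A := by
    apply mem_nonZeroDivisors_of_forall_notMem
    intro q hq hmem
    haveI := hq.1.1
    by_cases hq𝔭 : q = 𝔭
    · subst hq𝔭
      have : s * c ∈ q := (Ideal.add_mem_iff_left q hd).1 hmem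
      rcases Ideal.IsPrime.mem_or_mem inferInstance this with h | h
      exacts [hs𝔭 h, hc h]
    · obtain ⟨hcq, hdq⟩ := hcd q hq hq𝔭
      exact hdq ((Ideal.add_mem_iff_right q (Ideal.mul_mem_left q s hcq)).1 hmem)
  set y : FractionRing A := IsLocalization.mk' (FractionRing A) (a * c) ⟨s * c + d, hnzd⟩ with hy
  have hyspec : y * algebraMap A (FractionRing A) (s * c + d) = algebraMap A _ (a * c) :=
    IsLocalization.mk'_spec _ _ _
  have hθ𝔭 : theta 𝔭 h𝔭 y = IsLocalization.mk' _ (Ideal.Quotient.mk 𝔭 a) sb := by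
    have h1 := congrArg (theta 𝔭 h𝔭) hyspec
    rw [map_mul, theta_algebraMap, theta_algebraMap] at h1
    have h2 : Ideal.Quotient.mk 𝔭 (s * c + d) = (sb : A ⧸ 𝔭) * Ideal.Quotient.mk 𝔭 c := by
      rw [map_add, map_mul, hs, Ideal.Quotient.eq_zero_iff_mem.2 hd, add_zero]
    rw [h2, map_mul (Ideal.Quotient.mk 𝔭) a c, map_mul, map_mul] at h1
    have hc0 : algebraMap (A ⧸ 𝔭) (FractionRing (A ⧸ 𝔭)) (Ideal.Quotient.mk 𝔭 c) ≠ 0 := by
      rw [Ne, map_eq_zero_iff _ (IsFractionRing.injective _ _), Ideal.Quotient.eq_zero_iff_mem]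
      exact hc
    rw [← mul_assoc] at h1
    have h3 := mul_right_cancel₀ hc0 h1
    rw [IsLocalization.eq_mk'_iff_mul_eq]
    exact h3
  refine ⟨y, ?_, hθ𝔭, ?_⟩
  · apply isIntegral_of_theta (minimalPrimes.finite_of_isNoetherianRing A)
    intro q _ hq
    by_cases hq𝔭 : q = 𝔭
    · subst hq𝔭
      rw [hθ𝔭]; exact hyb
    · obtain ⟨hcq, hdq⟩ := hcd q hq hq𝔭
      have h1 := congrArg (theta q hq) hyspec
      rw [map_mul, theta_algebraMap, theta_algebraMap] at h1
      have h2 : Ideal.Quotient.mk q (a * c) = 0 :=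
        Ideal.Quotient.eq_zero_iff_mem.2 (Ideal.mul_mem_left q a hcq)
      rw [h2, map_zero] at h1
      have h3 : algebraMap (A ⧸ q) (FractionRing (A ⧸ q)) (Ideal.Quotient.mk q (s * c + d)) ≠ 0 := by
        rw [Ne, map_eq_zero_iff _ (IsFractionRing.injective _ _), Ideal.Quotient.eq_zero_iff_mem]
        intro hmem
        exact hdq ((Ideal.add_mem_iff_right q (Ideal.mul_mem_left q s hcq)).1 hmem)
      have : theta q hq y = 0 := (mul_eq_zero.1 h1).resolve_right h3
      rw [this]; exact isIntegral_zero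
  · intro q _ hq hq𝔭
    obtain ⟨hcq, hdq⟩ := hcd q hq hq𝔭
    have h1 := congrArg (theta q hq) hyspec
    rw [map_mul, theta_algebraMap, theta_algebraMap] at h1
    have h2 : Ideal.Quotient.mk q (a * c) = 0 :=
      Ideal.Quotient.eq_zero_iff_mem.2 (Ideal.mul_mem_left q a hcq)
    rw [h2, map_zero] at h1
    have h3 : algebraMap (A ⧸ q) (FractionRing (A ⧸ q)) (Ideal.Quotient.mk q (s * c + d)) ≠ 0 := by
      rw [Ne, map_eq_zero_iff _ (IsFractionRing.injective _ _), Ideal.Quotient.eq_zero_iff_mem]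
      intro hmem
      exact hdq ((Ideal.add_mem_iff_right q (Ideal.mul_mem_left q s hcq)).1 hmem)
    exact (mul_eq_zero.1 h1).resolve_right h3

variable [IsLocalRing A]

theorem hdim_quotient
    (hdim : ∀ (m' : Ideal ↥(integralClosure A (FractionRing A))) [m'.IsMaximal],
      m'.comap (algebraMap A ↥(integralClosure A (FractionRing A))) = maximalIdeal A →
        2 ≤ m'.height)
    (𝔭 : Ideal A) [𝔭.IsPrime] (h𝔭 : 𝔭 ∈ minimalPrimes A)
    (n : Ideal ↥(integralClosure (A ⧸ 𝔭) (FractionRing (A ⧸ 𝔭)))) [n.IsMaximal]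
    (hn : n.comap (algebraMap (A ⧸ 𝔭) ↥(integralClosure (A ⧸ 𝔭) (FractionRing (A ⧸ 𝔭)))) =
      maximalIdeal (A ⧸ 𝔭)) :
    2 ≤ n.height := by
  set π := piHom A 𝔭 h𝔭 with hπ
  have hπsurj : Function.Surjective π := by
    intro yb
    obtain ⟨y, hy, hyθ, -⟩ := exists_lift A 𝔭 h𝔭 yb.1 yb.2
    exact ⟨⟨y, hy⟩, Subtype.ext hyθ⟩
  have hcomm : π.comp (algebraMap A ↥(integralClosure A (FractionRing A))) =
      (algebraMap (A ⧸ 𝔭) ↥(integralClosure (A ⧸ 𝔭) (FractionRing (A ⧸ 𝔭)))).comp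
        (Ideal.Quotient.mk 𝔭) := by
    ext a
    exact theta_algebraMap 𝔭 h𝔭 a
  have hm'A : (n.comap π).comap (algebraMap A ↥(integralClosure A (FractionRing A))) =
      maximalIdeal A := by
    rw [Ideal.comap_comap, hcomm, ← Ideal.comap_comap, hn]
    haveI : IsLocalHom (Ideal.Quotient.mk 𝔭) :=
      IsLocalHom.of_surjective _ Ideal.Quotient.mk_surjective
    exact ((IsLocalRing.local_hom_TFAE (Ideal.Quotient.mk 𝔭)).out 0 4).1 this
  haveI : (n.comap π).IsMaximal := Ideal.comap_isMaximal_of_surjective π hπsurj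
  apply two_le_height_of_surjective π hπsurj n ?_ (hdim _ hm'A)
  intro Q hQ hQle z hz
  obtain ⟨e, he, heθ, heq⟩ := exists_lift A 𝔭 h𝔭 1 isIntegral_one
  have hzθ : theta 𝔭 h𝔭 (z : FractionRing A) = 0 := congrArg Subtype.val hz
  have hez : (⟨e, he⟩ : ↥(integralClosure A (FractionRing A))) * z = 0 := by
    apply Subtype.ext
    apply eq_zero_of_theta_eq_zero
    intro q _ hq
    change theta q hq (e * (z : FractionRing A)) = 0
    by_cases hq𝔭 : q = 𝔭
    · subst hq𝔭
      rw [map_mul, hzθ, mul_zero]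
    · rw [map_mul, heq q hq hq𝔭, zero_mul]
  have henot : (⟨e, he⟩ : ↥(integralClosure A (FractionRing A))) ∉ Q := by
    intro hmem
    have h0 : π ⟨e, he⟩ ∈ n := hQle hmem
    have h1 : π ⟨e, he⟩ = 1 := Subtype.ext heθ
    rw [h1] at h0
    exact (Ideal.IsPrime.ne_top inferInstance) ((Ideal.eq_top_iff_one n).2 h0)
  have : (⟨e, he⟩ : ↥(integralClosure A (FractionRing A))) * z ∈ Q := by
    rw [hez]; exact Q.zero_mem
  exact (hQ.mem_or_mem this).resolve_left henot

/-- Reduced case. -/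
theorem isIntegral_of_pow_smul_mem
    (hdim : ∀ (m' : Ideal ↥(integralClosure A (FractionRing A))) [m'.IsMaximal],
      m'.comap (algebraMap A ↥(integralClosure A (FractionRing A))) = maximalIdeal A →
        2 ≤ m'.height)
    (x : FractionRing A) (n : ℕ)
    (hx : ∀ a ∈ (maximalIdeal A) ^ n, ∃ b : A, algebraMap A (FractionRing A) a * x =
      algebraMap A (FractionRing A) b) :
    IsIntegral A x := by
  apply isIntegral_of_theta (minimalPrimes.finite_of_isNoetherianRing A) x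
  intro 𝔭 _ h𝔭
  apply isIntegral_of_pow_smul_mem_domain (A ⧸ 𝔭)
    (fun n' _ hn' => hdim_quotient A hdim 𝔭 h𝔭 n' hn') (theta 𝔭 h𝔭 x) n
  intro ab hab
  have hmax : maximalIdeal (A ⧸ 𝔭) = (maximalIdeal A).map (Ideal.Quotient.mk 𝔭) := by
    have hmax' : ((maximalIdeal A).map (Ideal.Quotient.mk 𝔭)).IsMaximal :=
      Ideal.IsMaximal.map_of_surjective_of_ker_le Ideal.Quotient.mk_surjective (by
        rw [Ideal.mk_ker]
        exact IsLocalRing.le_maximalIdeal (Ideal.IsPrime.ne_top inferInstance))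
    exact (IsLocalRing.eq_maximalIdeal hmax').symm
  rw [hmax, ← Ideal.map_pow] at hab
  obtain ⟨a, ha, rfl⟩ := (Ideal.mem_map_iff_of_surjective _ Ideal.Quotient.mk_surjective).1 hab
  obtain ⟨b, hb⟩ := hx a ha
  refine ⟨Ideal.Quotient.mk 𝔭 b, ?_⟩
  rw [← theta_algebraMap 𝔭 h𝔭, ← theta_algebraMap 𝔭 h𝔭, ← map_mul, hb]

end Transfer

section Denom

variable {A : Type u} [CommRing A]

/-- ideal of denominators -/
def denomIdeal (x : FractionRing A) : Ideal A where
  carrier := {a | ∃ b, algebraMap A (FractionRing A) a * x = algebraMap A (FractionRing A) b}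
  add_mem' := by
    rintro a a' ⟨b, hb⟩ ⟨b', hb'⟩
    exact ⟨b + b', by rw [map_add, add_mul, hb, hb', map_add]⟩
  zero_mem' := ⟨0, by simp⟩
  smul_mem' := by
    rintro r a ⟨b, hb⟩
    exact ⟨r * b, by rw [smul_eq_mul, map_mul, mul_assoc, hb, map_mul]⟩

theorem exists_pow_of_forall_exists_pow [IsNoetherianRing A] [IsLocalRing A] (x : FractionRing A)
    (h : ∀ a ∈ maximalIdeal A, ∃ (N : ℕ) (b : A),
      algebraMap A (FractionRing A) (a ^ N) * x = algebraMap A (FractionRing A) b) :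
    ∃ n : ℕ, ∀ a ∈ maximalIdeal A ^ n, ∃ b : A,
      algebraMap A (FractionRing A) a * x = algebraMap A (FractionRing A) b := by
  have hle : maximalIdeal A ≤ (denomIdeal x).radical := by
    intro a ha
    obtain ⟨N, b, hb⟩ := h a ha
    exact ⟨N, b, hb⟩
  obtain ⟨n, hn⟩ := Ideal.exists_pow_le_of_le_radical_of_fg hle
    (IsNoetherian.noetherian (maximalIdeal A))
  exact ⟨n, fun a ha => hn ha⟩

end Denom

end Groth.Agent.Lib.Helper15.PuncSec
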