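import Mathlib
import Groth.Agent.Lib.Helper15.RegFlat

set_option autoImplicit false

namespace Groth.Agent.Lib.Helper15.RegFlat

open TensorProduct RingTheory.Sequence
open scoped Pointwise

universe u

theorem finite_tensor_tower (A B N : Type*) [CommRing A] [CommRing B] [Algebra A B]
    [AddCommGroup N] [Module A N] [Module B N] [IsScalarTower A B N] [Module.Finite B N]
    (I : Type*) [AddCommGroup I] [Module A I] [Module.Finite A I] :
    Module.Finite B (N ⊗[A] I) :=
  Module.Finite.equiv (TensorProduct.AlgebraTensorModule.cancelBaseChange A B B N I)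

/-- `b ∈ rad B` regular on a finite `B`-module `N`, `N/bN` flat over `A` (along `A → B`, with
`I B ⊆ rad B`) implies `I ⊗ N → N` injective. -/
theorem lTensor_injective_of_flat_quotSMulTop {A B N : Type u} [CommRing A] [CommRing B]
    [IsNoetherianRing A] [IsNoetherianRing B] [Algebra A B] [AddCommGroup N] [Module A N]
    [Module B N] [IsScalarTower A B N] [Module.Finite B N] (I : Ideal A)
    (b : B) (hb : b ∈ Ideal.jacobson (⊥ : Ideal B)) (hreg : IsSMulRegular N b)
    (hflat : Module.Flat A (N ⧸ (b • (⊤ : Submodule B N)))) :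
    Function.Injective (LinearMap.lTensor N I.subtype) := by
  have _ : Module.Finite B (N ⊗[A] I) := finite_tensor_tower A B N I
  -- the `B`-linear map `N ⊗ I → N`
  let Ψ : N ⊗[A] I →ₗ[B] N :=
    (TensorProduct.AlgebraTensorModule.rid A B N).toLinearMap ∘ₗ
      TensorProduct.AlgebraTensorModule.lTensor B N I.subtype
  have hΨ : ∀ x, Ψ x = TensorProduct.rid A N (LinearMap.lTensor N I.subtype x) := fun x => rfl
  have hΨb : ∀ y : N ⊗[A] I, Ψ (b • y) = b • Ψ y := fun y => map_smul Ψ b y
  -- multiplication by `b` on `N`, `A`-linear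
  let f : N →ₗ[A] N := (LinearMap.lsmul B N b).restrictScalars A
  let q : N →ₗ[A] N ⧸ (b • (⊤ : Submodule B N)) :=
    (Submodule.mkQ (b • (⊤ : Submodule B N))).restrictScalars A
  have hq : Function.Surjective q := by
    intro y
    obtain ⟨z, rfl⟩ := Submodule.mkQ_surjective (b • (⊤ : Submodule B N)) y
    exact ⟨z, rfl⟩
  have hex : Function.Exact f q := by
    intro y
    constructor
    · intro hy
      have : y ∈ b • (⊤ : Submodule B N) := (Submodule.Quotient.mk_eq_zero _).mp hy
      obtain ⟨z, -, hz⟩ := (Submodule.mem_smul_pointwise_iff_exists _ _ _).mp this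
      exact ⟨z, hz⟩
    · rintro ⟨z, rfl⟩
      exact (Submodule.Quotient.mk_eq_zero _).mpr
        (Submodule.smul_mem_pointwise_smul z b ⊤ Submodule.mem_top)
  have hfb : ∀ y : N ⊗[A] I, LinearMap.rTensor I f y = b • y := by
    intro y
    induction y using TensorProduct.induction_on with
    | zero => simp
    | tmul n i => rw [LinearMap.rTensor_tmul, TensorProduct.smul_tmul']; rfl
    | add x y hx hy => rw [map_add, hx, hy, smul_add]
  have hK : LinearMap.ker Ψ = ⊥ := by
    refine Submodule.eq_bot_of_le_smul_of_le_jacobson_bot (Ideal.span {b}) _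
      (IsNoetherian.noetherian _) ?_ ?_
    · intro x hx
      rw [LinearMap.mem_ker] at hx
      -- image of x in (N/bN) ⊗ I is zero
      have h1 : LinearMap.rTensor I q x = 0 := by
        have hinj : Function.Injective
            (LinearMap.lTensor (N ⧸ (b • (⊤ : Submodule B N))) I.subtype) :=
          Module.Flat.lTensor_preserves_injective_linearMap _ I.subtype_injective
        apply hinj
        rw [map_zero, ← LinearMap.comp_apply, LinearMap.lTensor_comp_rTensor,
          ← LinearMap.rTensor_comp_lTensor, LinearMap.comp_apply]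
        have : LinearMap.lTensor N I.subtype x = 0 := by
          apply (TensorProduct.rid A N).injective
          rw [map_zero, ← hΨ, hx]
        rw [this, map_zero]
      obtain ⟨y, hy⟩ := (rTensor_exact I hex hq x).mp h1
      rw [hfb] at hy
      have hyK : y ∈ LinearMap.ker Ψ := by
        rw [LinearMap.mem_ker]
        apply hreg
        change b • Ψ y = b • 0
        rw [← hΨb, hy, hx, smul_zero]
      rw [← hy, Submodule.ideal_span_singleton_smul]
      exact Submodule.smul_mem_pointwise_smul y b _ hyK
    · rw [Ideal.span_le, Set.singleton_subset_iff]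
      exact hb
  intro x y hxy
  have : Ψ x = Ψ y := by rw [hΨ, hΨ, hxy]
  exact LinearMap.ker_eq_bot.mp hK this

/-- **Lemma S**: `A → B` local homomorphism of Noetherian local rings, `N` a finite `B`-module,
`b ∈ 𝔪_B` regular on `N` with `N/bN` flat over `A`; then `N` is flat over `A`. -/
theorem flat_of_flat_quotSMulTop_local {A B N : Type u} [CommRing A] [CommRing B]
    [IsLocalRing A] [IsLocalRing B] [IsNoetherianRing A] [IsNoetherianRing B] [Algebra A B]
    [IsLocalHom (algebraMap A B)] [AddCommGroup N] [Module A N]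
    [Module B N] [IsScalarTower A B N] [Module.Finite B N]
    (b : B) (hb : b ∈ IsLocalRing.maximalIdeal B) (hreg : IsSMulRegular N b)
    (hflat : Module.Flat A (N ⧸ (b • (⊤ : Submodule B N)))) : Module.Flat A N := by
  have hjac : Ideal.jacobson (⊥ : Ideal B) = IsLocalRing.maximalIdeal B :=
    IsLocalRing.jacobson_eq_maximalIdeal ⊥ bot_ne_top
  refine Groth.Agent.Lib.Helper2.flat_of_rTensor_injective_of_flat_quotient (S := B)
    (IsLocalRing.maximalIdeal A) ?_ ?_ ?_
  · rw [hjac, Ideal.map_le_iff_le_comap]
    intro x hx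
    rw [Ideal.mem_comap, IsLocalRing.mem_maximalIdeal, mem_nonunits_iff]
    intro h
    exact ((IsLocalRing.mem_maximalIdeal x).mp hx) (isUnit_of_map_unit (algebraMap A B) x h)
  · rw [← LinearMap.lTensor_inj_iff_rTensor_inj]
    exact lTensor_injective_of_flat_quotSMulTop _ b (hjac ▸ hb) hreg hflat
  · let _ := Ideal.Quotient.field (IsLocalRing.maximalIdeal A)
    infer_instance

section Take

variable {A B : Type u} [CommRing A] [CommRing B]
    [IsLocalRing A] [IsLocalRing B] [IsNoetherianRing A] [IsNoetherianRing B] [Algebra A B]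
    [IsLocalHom (algebraMap A B)]

omit [IsLocalRing A] [IsLocalRing B] [IsNoetherianRing A] [IsNoetherianRing B]
  [IsLocalHom (algebraMap A B)] in
theorem flat_quot_ofList_nil_iff (M : Type u) [AddCommGroup M] [Module B M] [Module A M]
    [IsScalarTower A B M] :
    Module.Flat A (M ⧸ (Ideal.ofList ([] : List B) • (⊤ : Submodule B M))) ↔ Module.Flat A M := by
  have h0 : (Ideal.ofList ([] : List B) • (⊤ : Submodule B M)) = ⊥ := by
    rw [Ideal.ofList_nil, Submodule.bot_smul]
  have e : (M ⧸ (Ideal.ofList ([] : List B) • (⊤ : Submodule B M))) ≃ₗ[A] M :=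
    (Submodule.quotEquivOfEqBot _ h0).restrictScalars A
  exact ⟨fun h => Module.Flat.of_linearEquiv e.symm, fun h => Module.Flat.of_linearEquiv e⟩

theorem flat_quot_take (fs : List B) : ∀ (M : Type u) [AddCommGroup M] [Module B M] [Module A M]
    [IsScalarTower A B M] [Module.Finite B M],
    (∀ f ∈ fs, f ∈ IsLocalRing.maximalIdeal B) → IsWeaklyRegular M fs →
    Module.Flat A (M ⧸ (Ideal.ofList fs • (⊤ : Submodule B M))) →
    ∀ i : ℕ, i ≤ fs.length →
      Module.Flat A (M ⧸ (Ideal.ofList (fs.take i) • (⊤ : Submodule B M))) := by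
  induction fs with
  | nil =>
    intro M _ _ _ _ _ _ _ hflat i _
    rw [List.take_nil]
    exact hflat
  | cons b fs ih =>
    intro M _ _ _ _ _ hfs hreg hflat i hi
    rw [isWeaklyRegular_cons_iff] at hreg
    -- the module M'' = M / (b) M
    have hreg'' : IsWeaklyRegular (M ⧸ (Ideal.span {b} • (⊤ : Submodule B M))) fs :=
      (LinearEquiv.isWeaklyRegular_congr
        (Submodule.quotEquivOfEq _ _ (Submodule.ideal_span_singleton_smul b ⊤).symm) fs).mp hreg.2
    have key : ∀ gs : List B,
        Module.Flat A (M ⧸ (Ideal.ofList (b :: gs) • (⊤ : Submodule B M))) ↔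
        Module.Flat A ((M ⧸ (Ideal.span {b} • (⊤ : Submodule B M))) ⧸
          (Ideal.ofList gs • (⊤ : Submodule B (M ⧸ (Ideal.span {b} • (⊤ : Submodule B M)))))) := by
      intro gs
      have e := (quotQuotEquiv M (Ideal.span {b}) (Ideal.ofList gs) (Ideal.ofList (b :: gs))
        (by rw [Ideal.ofList_cons])).restrictScalars A
      exact ⟨fun h => Module.Flat.of_linearEquiv e, fun h => Module.Flat.of_linearEquiv e.symm⟩
    have ih' := ih (M ⧸ (Ideal.span {b} • (⊤ : Submodule B M)))
      (fun f hf => hfs f (List.mem_cons_of_mem _ hf)) hreg'' ((key fs).mp hflat)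
    cases i with
    | zero =>
      rw [List.take_zero, flat_quot_ofList_nil_iff]
      have h0 := ih' 0 (Nat.zero_le _)
      rw [List.take_zero, flat_quot_ofList_nil_iff] at h0
      refine flat_of_flat_quotSMulTop_local b (hfs b List.mem_cons_self) hreg.1 ?_
      exact Module.Flat.of_linearEquiv ((Submodule.quotEquivOfEq _ _
        (Submodule.ideal_span_singleton_smul b ⊤).symm).restrictScalars A)
    | succ j =>
      rw [List.take_succ_cons, key]
      exact ih' j (by simpa using hi)

end Take

end Groth.Agent.Lib.Helper15.RegFlat
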