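import Mathlib
import Groth.Agent.Lib.Helper15.RegFlat2
import Groth.Agent.Lib.Helper15.Koszul

set_option autoImplicit false

namespace Groth.Agent.Lib.Helper15.RegFlat

open TensorProduct RingTheory.Sequence
open Groth.Agent.Lib.Helper15.Koszul

universe u

/-- `H₁(f; M) = 0` implies `Tor₁(A/(f), M) = 0`, in the form `(f) ⊗ M → M` injective. -/
theorem rTensor_span_range_injective_of_koszulH1Zero {A : Type*} [CommRing A] {n : ℕ}
    (f : Fin n → A) (M : Type*) [AddCommGroup M] [Module A M] (h : CInt.KoszulH1Zero f M) :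
    Function.Injective (LinearMap.rTensor M (Ideal.span (Set.range f)).subtype) := by
  classical
  set J : Ideal A := Ideal.span (Set.range f) with hJ
  have hfJ : ∀ i, f i ∈ J := fun i => Ideal.subset_span ⟨i, rfl⟩
  let Θ : (Fin n → M) →ₗ[A] J ⊗[A] M :=
    ∑ i, (TensorProduct.mk A J M ⟨f i, hfJ i⟩) ∘ₗ (LinearMap.proj i)
  have hΘ : ∀ m, Θ m = ∑ i, (⟨f i, hfJ i⟩ : J) ⊗ₜ[A] m i := by
    intro m
    simp [Θ]
  -- Θ is surjective
  have hsurj : Function.Surjective Θ := by
    intro x
    induction x using TensorProduct.induction_on with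
    | zero => exact ⟨0, map_zero _⟩
    | tmul j m =>
      obtain ⟨a, ha⟩ := (Ideal.mem_span_range_iff_exists_fun).mp j.2
      refine ⟨fun i => a i • m, ?_⟩
      rw [hΘ]
      have : j = ∑ i, a i • (⟨f i, hfJ i⟩ : J) := by
        ext
        simp [← ha]
      rw [this, TensorProduct.sum_tmul]
      refine Finset.sum_congr rfl fun i _ => ?_
      rw [TensorProduct.smul_tmul]
    | add x y hx hy =>
      obtain ⟨mx, rfl⟩ := hx
      obtain ⟨my, rfl⟩ := hy
      exact ⟨mx + my, map_add _ _ _⟩
  -- Θ kills trivial relations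
  have hkill : Submodule.span A (trivSet f M) ≤ LinearMap.ker Θ := by
    rw [Submodule.span_le]
    rintro v ⟨i, j, x, rfl⟩
    rw [SetLike.mem_coe, LinearMap.mem_ker, map_sub, map_smul, map_smul, hΘ, hΘ]
    simp only [Pi.single_apply]
    rw [Finset.sum_eq_single i, Finset.sum_eq_single j]
    · simp only [if_true]
      rw [TensorProduct.smul_tmul', TensorProduct.smul_tmul', sub_eq_zero]
      congr 1
      ext
      simp [mul_comm]
    · intro b _ hb
      rw [if_neg hb, TensorProduct.tmul_zero]
    · intro hj; exact absurd (Finset.mem_univ j) hj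
    · intro b _ hb
      rw [if_neg hb, TensorProduct.tmul_zero]
    · intro hi; exact absurd (Finset.mem_univ i) hi
  rw [injective_iff_map_eq_zero]
  intro x hx
  obtain ⟨m, rfl⟩ := hsurj x
  have hrel : relMap f M m = 0 := by
    have h2 := congrArg (TensorProduct.lid A M) hx
    rw [map_zero, hΘ, map_sum, map_sum] at h2
    rw [relMap_apply, ← h2]
    refine Finset.sum_congr rfl fun i _ => ?_
    rw [LinearMap.rTensor_tmul, TensorProduct.lid_tmul]
    rfl
  have : m ∈ Submodule.span A (trivSet f M) :=
    (koszulH1Zero_iff f M).mp h (LinearMap.mem_ker.mpr hrel)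
  exact LinearMap.mem_ker.mp (hkill this)

/-- flatness of `M/JM` over `A/J` is flatness of the base change. -/
theorem flat_quot_iff_flat_baseChange {A : Type*} [CommRing A] (J : Ideal A) (M : Type*)
    [AddCommGroup M] [Module A M] :
    Module.Flat (A ⧸ J) (M ⧸ (J • (⊤ : Submodule A M))) ↔
      Module.Flat (A ⧸ J) ((A ⧸ J) ⊗[A] M) := by
  constructor
  · intro h
    exact flat_transport (A := A) Ideal.Quotient.mk_surjective Ideal.Quotient.mk_surjective le_rfl
      (TensorProduct.quotTensorEquivQuotSMul M J).symm h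
  · intro h
    exact flat_transport (A := A) Ideal.Quotient.mk_surjective Ideal.Quotient.mk_surjective le_rfl
      (TensorProduct.quotTensorEquivQuotSMul M J) h

theorem map_le_jacobson_of_isLocalHom {A B : Type*} [CommRing A] [CommRing B] [IsLocalRing A]
    [IsLocalRing B] [Algebra A B] [IsLocalHom (algebraMap A B)] (J : Ideal A)
    (hJ : J ≤ IsLocalRing.maximalIdeal A) :
    J.map (algebraMap A B) ≤ Ideal.jacobson (⊥ : Ideal B) := by
  rw [IsLocalRing.jacobson_eq_maximalIdeal ⊥ bot_ne_top, Ideal.map_le_iff_le_comap]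
  intro x hx
  rw [Ideal.mem_comap, IsLocalRing.mem_maximalIdeal, mem_nonunits_iff]
  intro h
  exact ((IsLocalRing.mem_maximalIdeal x).mp (hJ hx)) (isUnit_of_map_unit (algebraMap A B) x h)

/-- S5777: flatness along a local homomorphism is detected modulo an `A`-regular sequence. -/
theorem flat_iff_of_isWeaklyRegular_local {A B : Type u} [CommRing A] [CommRing B]
    [IsLocalRing A] [IsLocalRing B] [IsNoetherianRing A] [IsNoetherianRing B] [Algebra A B]
    [IsLocalHom (algebraMap A B)] (M : Type u) [AddCommGroup M] [Module B M] [Module A M]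
    [IsScalarTower A B M] [Module.Finite B M] (fs : List A)
    (hfs : ∀ f ∈ fs, f ∈ IsLocalRing.maximalIdeal A)
    (hA : IsWeaklyRegular A fs) :
    Module.Flat A M ↔
      Module.Flat (A ⧸ Ideal.ofList fs) (M ⧸ (Ideal.ofList fs • (⊤ : Submodule A M))) ∧
        IsWeaklyRegular M fs := by
  rw [flat_quot_iff_flat_baseChange]
  constructor
  · intro hflat
    exact ⟨inferInstance, isWeaklyRegular_of_flat M fs hA⟩
  · rintro ⟨h1, h2⟩
    have hJ : Ideal.ofList fs = Ideal.span (Set.range fs.get) := by
      rw [← ofList_ofFn, List.ofFn_get]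
    have hle : Ideal.ofList fs ≤ IsLocalRing.maximalIdeal A := by
      unfold Ideal.ofList
      rw [Ideal.span_le]
      exact fun x hx => hfs x hx
    have hH1 : CInt.KoszulH1Zero fs.get M := by
      apply koszulH1Zero_of_isWeaklyRegular
      rw [List.ofFn_get]
      exact h2
    have key : ∀ J : Ideal A, J = Ideal.span (Set.range fs.get) →
        Function.Injective (LinearMap.rTensor M J.subtype) := by
      rintro J rfl
      exact rTensor_span_range_injective_of_koszulH1Zero fs.get M hH1
    exact Groth.Agent.Lib.Helper2.flat_of_rTensor_injective_of_flat_quotient (S := B)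
      (Ideal.ofList fs) (map_le_jacobson_of_isLocalHom _ hle) (key _ hJ) h1

end Groth.Agent.Lib.Helper15.RegFlat
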