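import Groth.Agent.Lib.Helper55.FunFld.AlgClosed
import Groth.Agent.Lib.Helper55.FunFld.Local
import Groth.Prelude.Def_W4c6gradedringsgwSect

/-!
# The section ring `R_{X,P} = ⊕ L(nP) T^n` of a point divisor (helper15)
-/

set_option autoImplicit false
set_option linter.unusedSectionVars false

open FunFld Polynomial W4c6gradedringsgw

namespace Groth.Agent.Lib.Helper15.SectRing

open Groth.Agent.Lib.Helper55

variable {k K : Type*} [Field k] [Field K] [Algebra k K]

theorem smul_single (P : Place k K) (n : ℤ) :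
    n • (Finsupp.single P 1 : Divisor k K) = Finsupp.single P n := by
  rw [Finsupp.smul_single, smul_eq_mul, mul_one]

theorem mem_L_single_iff (P : Place k K) (n : ℤ) (x : K) :
    x ∈ L (Finsupp.single P n : Divisor k K) ↔
      P.1 x ≤ WithZero.exp n ∧ ∀ Q : Place k K, Q ≠ P → Q.1 x ≤ 1 := by
  classical
  rw [ff_mem_L_iff]
  constructor
  · intro h
    refine ⟨by simpa using h P, fun Q hQ => ?_⟩
    have := h Q
    rwa [Finsupp.single_apply, if_neg (Ne.symm hQ), WithZero.exp_zero] at this
  · rintro ⟨h1, h2⟩ Q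
    by_cases hQ : Q = P
    · subst hQ; simpa using h1
    · rw [Finsupp.single_apply, if_neg (Ne.symm hQ), WithZero.exp_zero]
      exact h2 Q hQ

theorem mem_sectRing_iff (P : Place k K) (p : K[X]) :
    p ∈ sectRing (Finsupp.single P 1 : Divisor k K) ↔
      ∀ n : ℕ, p.coeff n ∈ L (Finsupp.single P (n : ℤ) : Divisor k K) := by
  change (∀ n : ℕ, p.coeff n ∈ L ((n : ℤ) • (Finsupp.single P 1 : Divisor k K))) ↔ _
  simp only [smul_single]

section AlgClosed

variable [IsAlgClosed k] (hK : IsFunctionField k K) (P : Place k K)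

include hK in
theorem algebraMap_residue_bijective :
    Function.Bijective (algebraMap k (IsLocalRing.ResidueField P.O)) := by
  have hfd := ff_finiteDimensional_residueField hK P
  have hint : Algebra.IsIntegral k (IsLocalRing.ResidueField P.O) :=
    @Algebra.IsIntegral.of_finite k (IsLocalRing.ResidueField P.O) _ _ (Place.algRes P) hfd
  exact IsAlgClosed.algebraMap_bijective_of_isIntegral (k := k)
    (K := IsLocalRing.ResidueField P.O)

/-- the residue field of a place is `k` -/
noncomputable def resEquiv : IsLocalRing.ResidueField P.O ≃ₐ[k] k :=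
  (AlgEquiv.ofBijective (Algebra.ofId k (IsLocalRing.ResidueField P.O))
    (algebraMap_residue_bijective hK P)).symm

/-- a chosen uniformizer -/
noncomputable def unif : K := Classical.choose (ff_exists_uniformizer P)

theorem unif_spec : P.1 (unif P) = WithZero.exp (-1 : ℤ) :=
  Classical.choose_spec (ff_exists_uniformizer P)

/-- the leading coefficient functional on `{v ≤ exp n}` -/
noncomputable def Lam (n : ℤ) (z : ff_ball P n) : k :=
  resEquiv hK P (ff_localMap P (unif_spec P) n z)

theorem Lam_add (n : ℤ) (x y : ff_ball P n) : Lam hK P n (x + y) = Lam hK P n x + Lam hK P n y := by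
  rw [Lam, Lam, Lam, map_add, map_add]

theorem Lam_zero (n : ℤ) : Lam hK P n 0 = 0 := by
  rw [Lam, map_zero, map_zero]

theorem localMap_mul {n m : ℤ} (x : ff_ball P n) (y : ff_ball P m) (h : (x : K) * y ∈ ff_ball P (n + m)) :
    ff_localMap P (unif_spec P) (n + m) ⟨(x : K) * y, h⟩ =
      ff_localMap P (unif_spec P) n x * ff_localMap P (unif_spec P) m y := by
  rw [ff_localMap_apply, ff_localMap_apply, ff_localMap_apply, ← map_mul]
  congr 1
  apply Subtype.ext
  simp only [MulMemClass.coe_mul]
  rw [zpow_add₀ (ff_uniformizer_ne_zero P (unif_spec P))]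
  ring

theorem algebraMap_mem_ball (c : k) : algebraMap k K c ∈ ff_ball P 0 := by
  rw [ff_mem_ball, WithZero.exp_zero]
  exact P.2.1 c

theorem localMap_algebraMap (c : k) :
    ff_localMap P (unif_spec P) 0 ⟨algebraMap k K c, algebraMap_mem_ball P c⟩ =
      algebraMap k (IsLocalRing.ResidueField P.O) c := by
  rw [ff_localMap_apply]
  have h2 : (⟨unif P ^ (0 : ℤ) * algebraMap k K c,
      ff_localMap_aux P (unif_spec P) 0 (algebraMap_mem_ball P c)⟩ : P.O) = algebraMap k P.O c := by
    apply Subtype.ext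
    simp only [zpow_zero, one_mul]
    rfl
  rw [h2]
  rfl

theorem Lam_eq_zero_iff (n : ℤ) (z : ff_ball P n) :
    Lam hK P n z = 0 ↔ (z : K) ∈ ff_ball P (n - 1) := by
  rw [Lam, map_eq_zero_iff _ (resEquiv hK P).injective, ff_localMap_eq_zero_iff]

theorem mul_mem_ball {n m : ℤ} {x y : K} (hx : x ∈ ff_ball P n) (hy : y ∈ ff_ball P m) :
    x * y ∈ ff_ball P (n + m) := by
  rw [ff_mem_ball] at *
  rw [map_mul, WithZero.exp_add]
  exact mul_le_mul' hx hy

theorem Lam_mul {n m : ℤ} (x : ff_ball P n) (y : ff_ball P m) :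
    Lam hK P (n + m) ⟨(x : K) * y, mul_mem_ball P x.2 y.2⟩ = Lam hK P n x * Lam hK P m y := by
  rw [Lam, Lam, Lam, localMap_mul, map_mul]

theorem Lam_algebraMap (c : k) : Lam hK P 0 ⟨algebraMap k K c, algebraMap_mem_ball P c⟩ = c := by
  rw [Lam, localMap_algebraMap, resEquiv, AlgEquiv.symm_apply_eq]
  rfl

theorem Lam_smul (n : ℤ) (c : k) (x : ff_ball P n) : Lam hK P n (c • x) = c * Lam hK P n x := by
  have h0 : n = 0 + n := (zero_add n).symm
  have hcx : ((c • x : ff_ball P n) : K) = algebraMap k K c * x := by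
    rw [Submodule.coe_smul, Algebra.smul_def]
  have key : ff_localMap P (unif_spec P) n (c • x) =
      ff_localMap P (unif_spec P) 0 ⟨algebraMap k K c, algebraMap_mem_ball P c⟩ *
        ff_localMap P (unif_spec P) n x := by
    rw [ff_localMap_apply, ff_localMap_apply, ff_localMap_apply, ← map_mul]
    congr 1
    apply Subtype.ext
    simp only [MulMemClass.coe_mul, hcx, zpow_zero, one_mul]
    ring
  rw [Lam, key, map_mul, Lam]
  congr 1
  exact Lam_algebraMap hK P c

/-- the leading coefficient as a total function -/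
noncomputable def lam (n : ℤ) (x : K) : k := by
  classical
  exact if h : x ∈ ff_ball P n then Lam hK P n ⟨x, h⟩ else 0

theorem lam_of_mem {n : ℤ} {x : K} (h : x ∈ ff_ball P n) : lam hK P n x = Lam hK P n ⟨x, h⟩ := by
  rw [lam, dif_pos h]

theorem lam_zero (n : ℤ) : lam hK P n 0 = 0 := by
  rw [lam_of_mem hK P (Submodule.zero_mem _)]
  exact Lam_zero hK P n

theorem lam_add {n : ℤ} {x y : K} (hx : x ∈ ff_ball P n) (hy : y ∈ ff_ball P n) :
    lam hK P n (x + y) = lam hK P n x + lam hK P n y := by
  rw [lam_of_mem hK P hx, lam_of_mem hK P hy, lam_of_mem hK P (Submodule.add_mem _ hx hy), ← Lam_add]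
  rfl

theorem lam_sum {n : ℤ} {ι : Type*} (s : Finset ι) (f : ι → K) (hf : ∀ i ∈ s, f i ∈ ff_ball P n) :
    lam hK P n (∑ i ∈ s, f i) = ∑ i ∈ s, lam hK P n (f i) := by
  classical
  induction s using Finset.induction_on with
  | empty => simp [lam_zero]
  | insert a s ha ih =>
    rw [Finset.sum_insert ha, Finset.sum_insert ha,
      lam_add hK P (hf a (Finset.mem_insert_self a s))
        (Submodule.sum_mem _ fun i hi => hf i (Finset.mem_insert_of_mem hi)),
      ih fun i hi => hf i (Finset.mem_insert_of_mem hi)]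

theorem lam_smul {n : ℤ} (c : k) {x : K} (hx : x ∈ ff_ball P n) :
    lam hK P n (c • x) = c * lam hK P n x := by
  rw [lam_of_mem hK P hx, lam_of_mem hK P (Submodule.smul_mem _ c hx), ← Lam_smul]
  rfl

theorem lam_eq_zero_iff {n : ℤ} {x : K} (hx : x ∈ ff_ball P n) :
    lam hK P n x = 0 ↔ x ∈ ff_ball P (n - 1) := by
  rw [lam_of_mem hK P hx, Lam_eq_zero_iff]

theorem lam_mul {n m : ℤ} {x y : K} (hx : x ∈ ff_ball P n) (hy : y ∈ ff_ball P m) :
    lam hK P (n + m) (x * y) = lam hK P n x * lam hK P m y := by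
  rw [lam_of_mem hK P hx, lam_of_mem hK P hy, lam_of_mem hK P (mul_mem_ball P hx hy)]
  exact Lam_mul hK P ⟨x, hx⟩ ⟨y, hy⟩

theorem lam_algebraMap (c : k) : lam hK P 0 (algebraMap k K c) = c := by
  rw [lam_of_mem hK P (algebraMap_mem_ball P c), Lam_algebraMap]

/-! ### the leading-term homomorphism `R → k[X]` -/

/-- the polynomial of leading coefficients -/
noncomputable def lead (p : K[X]) : k[X] :=
  ∑ n ∈ Finset.range (p.natDegree + 1), monomial n (lam hK P (n : ℤ) (p.coeff n))

theorem coeff_lead (p : K[X]) (n : ℕ) : (lead hK P p).coeff n = lam hK P (n : ℤ) (p.coeff n) := by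
  classical
  rw [lead, finsetSum_coeff]
  simp only [coeff_monomial]
  rw [Finset.sum_ite_eq' (Finset.range (p.natDegree + 1)) n]
  split_ifs with h
  · rfl
  · rw [Finset.mem_range, not_lt] at h
    rw [coeff_eq_zero_of_natDegree_lt (by omega), lam_zero]

theorem coeff_mem_ball {p : K[X]} (hp : p ∈ sectRing (Finsupp.single P 1 : Divisor k K)) (n : ℕ) :
    p.coeff n ∈ ff_ball P (n : ℤ) :=
  ((mem_L_single_iff P n _).mp ((mem_sectRing_iff P p).mp hp n)).1

theorem lead_add {p q : K[X]} (hp : p ∈ sectRing (Finsupp.single P 1 : Divisor k K))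
    (hq : q ∈ sectRing (Finsupp.single P 1 : Divisor k K)) :
    lead hK P (p + q) = lead hK P p + lead hK P q := by
  ext n
  rw [coeff_add, coeff_lead, coeff_lead, coeff_lead, coeff_add,
    lam_add hK P (coeff_mem_ball P hp n) (coeff_mem_ball P hq n)]

theorem lead_mul {p q : K[X]} (hp : p ∈ sectRing (Finsupp.single P 1 : Divisor k K))
    (hq : q ∈ sectRing (Finsupp.single P 1 : Divisor k K)) :
    lead hK P (p * q) = lead hK P p * lead hK P q := by
  ext N
  rw [coeff_lead, coeff_mul, coeff_mul]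
  have hmem : ∀ x ∈ Finset.HasAntidiagonal.antidiagonal N, p.coeff x.1 * q.coeff x.2 ∈ ff_ball P (N : ℤ) := by
    intro x hx
    have := mul_mem_ball P (coeff_mem_ball P hp x.1) (coeff_mem_ball P hq x.2)
    rw [Finset.HasAntidiagonal.mem_antidiagonal] at hx
    rw [← hx]
    push_cast
    exact this
  rw [lam_sum hK P _ _ hmem]
  apply Finset.sum_congr rfl
  intro x hx
  rw [Finset.HasAntidiagonal.mem_antidiagonal] at hx
  rw [coeff_lead, coeff_lead, ← lam_mul hK P (coeff_mem_ball P hp x.1) (coeff_mem_ball P hq x.2),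
    ← hx]
  push_cast
  rfl

theorem lead_C_algebraMap (c : k) : lead hK P (C (algebraMap k K c)) = C c := by
  ext n
  rw [coeff_lead, coeff_C, coeff_C]
  split_ifs with h
  · subst h
    exact lam_algebraMap hK P c
  · exact lam_zero hK P _

/-- the leading-term homomorphism -/
noncomputable def leadHom : ↥(sectRing (Finsupp.single P 1 : Divisor k K)) →ₐ[k] k[X] where
  toFun p := lead hK P p.1
  map_one' := by
    have := lead_C_algebraMap hK P 1
    rwa [map_one, map_one, map_one] at this
  map_mul' p q := lead_mul hK P p.2 q.2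
  map_zero' := by
    have := lead_C_algebraMap hK P 0
    rwa [map_zero, map_zero, map_zero] at this
  map_add' p q := lead_add hK P p.2 q.2
  commutes' c := by
    change lead hK P (algebraMap k K[X] c) = algebraMap k k[X] c
    rw [Polynomial.algebraMap_apply, Polynomial.algebraMap_apply, Algebra.algebraMap_self,
      RingHom.id_apply]
    exact lead_C_algebraMap hK P c

theorem coeff_leadHom (p : ↥(sectRing (Finsupp.single P 1 : Divisor k K))) (n : ℕ) :
    (leadHom hK P p).coeff n = lam hK P (n : ℤ) ((p : K[X]).coeff n) := coeff_lead hK P _ n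

/-! ### pole orders -/

include hK in
theorem mem_poleOrders_iff (n : ℕ) :
    n ∈ poleOrders P ↔ L (Finsupp.single P (n : ℤ) : Divisor k K) ≠
      L (Finsupp.single P ((n : ℤ) - 1) : Divisor k K) := by
  have hP := ff_deg_eq_one_of_isAlgClosed hK P
  have h := ff_ell_single_succ hK P hP ((n : ℤ) - 1)
  rw [sub_add_cancel] at h
  change ell ((n : ℤ) • (Finsupp.single P 1 : Divisor k K)) =
    ell (((n : ℤ) - 1) • (Finsupp.single P 1 : Divisor k K)) + 1 ↔ _
  rw [smul_single, smul_single]
  constructor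
  · intro h1 h2
    have := h.1 h2
    omega
  · exact h.2

theorem not_mem_ball_of_not_mem_L {n : ℤ} {x : K}
    (hx : x ∈ L (Finsupp.single P n : Divisor k K))
    (hx' : x ∉ L (Finsupp.single P (n - 1) : Divisor k K)) : x ∉ ff_ball P (n - 1) := by
  intro h
  apply hx'
  rw [mem_L_single_iff] at hx ⊢
  exact ⟨h, hx.2⟩

theorem mem_poleOrders_of_lam_ne_zero {n : ℕ} {x : K}
    (hx : x ∈ L (Finsupp.single P (n : ℤ) : Divisor k K)) (h : lam hK P (n : ℤ) x ≠ 0) :
    n ∈ poleOrders P := by
  rw [mem_poleOrders_iff hK P]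
  intro heq
  apply h
  rw [lam_eq_zero_iff hK P ((mem_L_single_iff P n x).mp hx).1]
  rw [heq] at hx
  exact ((mem_L_single_iff P _ x).mp hx).1

theorem exists_lam_ne_zero_of_mem_poleOrders {n : ℕ} (hn : n ∈ poleOrders P) :
    ∃ x ∈ L (Finsupp.single P (n : ℤ) : Divisor k K), lam hK P (n : ℤ) x ≠ 0 := by
  rw [mem_poleOrders_iff hK P] at hn
  obtain ⟨x, hx, hx'⟩ := ff_exists_of_L_ne hn
  refine ⟨x, hx, ?_⟩
  rw [Ne, lam_eq_zero_iff hK P ((mem_L_single_iff P n x).mp hx).1]
  exact not_mem_ball_of_not_mem_L P hx hx'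

/-! ### the element `t` and the kernel -/

include hK in
theorem exists_const_of_mem_L_one (hg : 1 ≤ genus k K) {a : K}
    (ha : a ∈ L (Finsupp.single P 1 : Divisor k K)) : ∃ c : k, a = algebraMap k K c := by
  have hP := ff_deg_eq_one_of_isAlgClosed hK P
  have h1 := ff_ell_single_eq_one hK (by omega) P hP
  have hone : (1 : K) ∈ L (Finsupp.single P 1 : Divisor k K) := by
    rw [mem_L_single_iff]
    refine ⟨?_, fun Q _ => by rw [map_one]⟩
    rw [map_one, ← WithZero.exp_zero, WithZero.exp_le_exp]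
    norm_num
  have hnz : (⟨1, hone⟩ : L (Finsupp.single P 1 : Divisor k K)) ≠ 0 := by
    intro h
    have := congrArg Subtype.val h
    exact one_ne_zero this
  obtain ⟨c, hc⟩ := (finrank_eq_one_iff_of_nonzero' _ hnz).mp h1 ⟨a, ha⟩
  refine ⟨c, ?_⟩
  have := congrArg Subtype.val hc
  simp only [Submodule.coe_smul] at this
  rw [← this, Algebra.smul_def, mul_one]

section T

variable (hg : 1 ≤ genus k K) (t : ↥(sectRing (Finsupp.single P 1 : Divisor k K))) (a : K)
  (ha : a ≠ 0) (ht : (t : K[X]) = C a * X)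

include hK hg ha ht

theorem exists_const_a : ∃ c : k, c ≠ 0 ∧ a = algebraMap k K c := by
  have h1 : a ∈ L (Finsupp.single P 1 : Divisor k K) := by
    have := (mem_sectRing_iff P (t : K[X])).mp t.2 1
    rw [ht, coeff_C_mul, coeff_X_one, mul_one] at this
    exact_mod_cast this
  obtain ⟨c, hc⟩ := exists_const_of_mem_L_one hK P hg h1
  refine ⟨c, ?_, hc⟩
  rintro rfl
  rw [map_zero] at hc
  exact ha hc

theorem val_a (Q : Place k K) : Q.1 a = 1 := by
  obtain ⟨c, hc, rfl⟩ := exists_const_a hK P hg t a ha ht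
  exact ff_val_const Q hc

theorem leadHom_t : leadHom hK P t = 0 := by
  ext n
  rw [coeff_leadHom, ht, coeff_C_mul, coeff_X, coeff_zero]
  split_ifs with h
  · subst h
    rw [mul_one]
    have hball : a ∈ ff_ball P ((1 : ℕ) : ℤ) := by
      rw [ff_mem_ball, val_a hK P hg t a ha ht P, ← WithZero.exp_zero, WithZero.exp_le_exp]
      norm_num
    rw [lam_eq_zero_iff hK P hball, ff_mem_ball, val_a hK P hg t a ha ht P]
    norm_num
  · rw [mul_zero, lam_zero]

theorem coeff_mem_ball_pred_of_leadHom_eq_zero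
    (p : ↥(sectRing (Finsupp.single P 1 : Divisor k K))) (h : leadHom hK P p = 0) (n : ℕ) :
    (p : K[X]).coeff n ∈ ff_ball P ((n : ℤ) - 1) := by
  have := congrArg (fun f => Polynomial.coeff f n) h
  simp only [coeff_leadHom, coeff_zero] at this
  exact (lam_eq_zero_iff hK P (coeff_mem_ball P p.2 n)).mp this

theorem dvd_of_leadHom_eq_zero (p : ↥(sectRing (Finsupp.single P 1 : Divisor k K)))
    (h : leadHom hK P p = 0) : t ∣ p := by
  have hlow := coeff_mem_ball_pred_of_leadHom_eq_zero hK P hg t a ha ht p h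
  have hpR := (mem_sectRing_iff P (p : K[X])).mp p.2
  -- the constant coefficient vanishes
  have h0 : (p : K[X]).coeff 0 = 0 := by
    have h1 := hpR 0
    rw [Nat.cast_zero, Finsupp.single_zero, ff_L_zero hK, Submodule.mem_one] at h1
    obtain ⟨c, hc⟩ := h1
    have h2 := hlow 0
    rw [← hc, ff_mem_ball] at h2
    by_contra hne
    have hc0 : c ≠ 0 := by
      rintro rfl
      rw [map_zero] at hc
      exact hne hc.symm
    rw [ff_val_const P hc0, ← WithZero.exp_zero, WithZero.exp_le_exp] at h2
    norm_num at h2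
  set q : K[X] := C a⁻¹ * divX (p : K[X]) with hq
  have hqR : q ∈ sectRing (Finsupp.single P 1 : Divisor k K) := by
    rw [mem_sectRing_iff]
    intro n
    rw [hq, coeff_C_mul, coeff_divX, mem_L_single_iff]
    have h1 := (mem_L_single_iff P _ _).mp (hpR (n + 1))
    refine ⟨?_, fun Q hQ => ?_⟩
    · rw [map_mul, map_inv₀, val_a hK P hg t a ha ht P, inv_one, one_mul]
      have := hlow (n + 1)
      rw [ff_mem_ball] at this
      convert this using 2
      push_cast
      ring
    · rw [map_mul, map_inv₀, val_a hK P hg t a ha ht Q, inv_one, one_mul]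
      exact h1.2 Q hQ
  refine ⟨⟨q, hqR⟩, ?_⟩
  apply Subtype.ext
  rw [MulMemClass.coe_mul, ht]
  change (p : K[X]) = C a * X * q
  rw [hq]
  have h3 := divX_mul_X_add (p : K[X])
  rw [h0, map_zero, add_zero] at h3
  calc (p : K[X]) = divX (p : K[X]) * X := h3.symm
    _ = C a * X * (C a⁻¹ * divX (p : K[X])) := by
      have : (C a : K[X]) * C a⁻¹ = 1 := by rw [← C_mul, mul_inv_cancel₀ ha, C_1]
      calc divX (p : K[X]) * X = ((C a : K[X]) * C a⁻¹) * (divX (p : K[X]) * X) := by
            rw [this, one_mul]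
        _ = _ := by ring

theorem ker_leadHom : RingHom.ker (leadHom hK P).toRingHom = Ideal.span {t} := by
  ext p
  rw [RingHom.mem_ker, Ideal.mem_span_singleton]
  constructor
  · intro h
    exact dvd_of_leadHom_eq_zero hK P hg t a ha ht p h
  · rintro ⟨q, rfl⟩
    change leadHom hK P (t * q) = 0
    rw [map_mul, leadHom_t hK P hg t a ha ht, zero_mul]

theorem prime_t : Prime t := by
  have hne : t ≠ 0 := by
    intro h
    have := congrArg (fun x : ↥(sectRing (Finsupp.single P 1 : Divisor k K)) => (x : K[X]).coeff 1) h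
    simp only [ht, coeff_C_mul, coeff_X_one, mul_one, ZeroMemClass.coe_zero, coeff_zero] at this
    exact ha this
  rw [← Ideal.span_singleton_prime hne, ← ker_leadHom hK P hg t a ha ht]
  exact RingHom.ker_isPrime _

end T

end AlgClosed

end Groth.Agent.Lib.Helper15.SectRing
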