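import Groth.Agent.Lib.Helper15.SectRingQuot

set_option autoImplicit false

open FunFld Polynomial W4c6gradedringsgw

namespace Groth.Agent.Lib.Helper15.SectRing

open Groth.Agent.Lib.Helper55

variable {k K : Type*} [Field k] [Field K] [Algebra k K]

section AlgClosed

variable [IsAlgClosed k] (hK : IsFunctionField k K) (P : Place k K)

include hK in
/-- large `n` are pole orders -/
theorem exists_forall_ge_mem_poleOrders : ∃ N : ℕ, ∀ n, N ≤ n → n ∈ poleOrders P := by
  obtain ⟨N, hN⟩ := ff_riemann hK
  refine ⟨(N + 1).toNat, fun n hn => ?_⟩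
  have hP := ff_deg_eq_one_of_isAlgClosed hK P
  change ell ((n : ℤ) • (Finsupp.single P 1 : Divisor k K)) =
    ell (((n : ℤ) - 1) • (Finsupp.single P 1 : Divisor k K)) + 1
  rw [smul_single, smul_single]
  have h1 := hN (Finsupp.single P (n : ℤ)) (by rw [ff_deg_single, hP]; omega)
  have h2 := hN (Finsupp.single P ((n : ℤ) - 1)) (by rw [ff_deg_single, hP]; omega)
  rw [ff_deg_single, hP] at h1 h2
  omega

include hK in
theorem zero_mem_poleOrders : 0 ∈ poleOrders P := by
  rw [mem_poleOrders_iff hK P]
  intro h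
  have h1 : (1 : K) ∈ L (Finsupp.single P ((0 : ℕ) : ℤ) : Divisor k K) := by
    rw [mem_L_single_iff]
    refine ⟨?_, fun Q _ => by rw [map_one]⟩
    rw [map_one, ← WithZero.exp_zero, WithZero.exp_le_exp]
    norm_num
  rw [h, mem_L_single_iff] at h1
  have h2 := h1.1
  rw [map_one, ← WithZero.exp_zero, WithZero.exp_le_exp] at h2
  norm_num at h2

include hK in
theorem add_mem_poleOrders {a b : ℕ} (ha : a ∈ poleOrders P) (hb : b ∈ poleOrders P) :
    a + b ∈ poleOrders P := by
  rw [mem_poleOrders_iff hK P] at ha hb ⊢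
  have := ff_nongap_add ha hb
  push_cast
  exact this

include hK in
theorem one_not_mem_poleOrders (hg : 1 ≤ genus k K) : 1 ∉ poleOrders P := by
  intro h
  have hP := ff_deg_eq_one_of_isAlgClosed hK P
  have h1 := ff_ell_single_eq_one hK (by omega) P hP
  change ell (((1 : ℕ) : ℤ) • (Finsupp.single P 1 : Divisor k K)) =
    ell ((((1 : ℕ) : ℤ) - 1) • (Finsupp.single P 1 : Divisor k K)) + 1 at h
  rw [smul_single, smul_single] at h
  norm_num at h
  rw [h1, ff_ell_zero hK] at h
  omega

include hK in
theorem finite_minGens : (minGens (poleOrders P)).Finite := by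
  obtain ⟨N, hN⟩ := exists_forall_ge_mem_poleOrders hK P
  apply Set.Finite.subset (Set.finite_Iio (2 * N + 2))
  intro n hn
  rw [Set.mem_Iio]
  by_contra hlt
  push Not at hlt
  exact hn.2.2 (N + 1) (hN _ (by omega)) (n - (N + 1)) (hN _ (by omega)) (by omega) (by omega)
    (by omega)


/-! ### the irrelevant ideal and its generators -/

/-- the irrelevant ideal -/
noncomputable abbrev Rplus : Ideal ↥(sectRing (Finsupp.single P 1 : Divisor k K)) :=
  RingHom.ker (Polynomial.constantCoeff.comp
    (sectRing (Finsupp.single P 1 : Divisor k K)).val.toRingHom)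

omit [IsAlgClosed k] in
theorem mem_Rplus_iff (p : ↥(sectRing (Finsupp.single P 1 : Divisor k K))) :
    p ∈ Rplus P ↔ (p : K[X]).coeff 0 = 0 := by
  rw [RingHom.mem_ker]
  rfl

omit [IsAlgClosed k] in
theorem one_mem_L {n : ℤ} (hn : 0 ≤ n) : (1 : K) ∈ L (Finsupp.single P n : Divisor k K) := by
  rw [mem_L_single_iff]
  refine ⟨?_, fun Q _ => by rw [map_one]⟩
  rw [map_one, ← WithZero.exp_zero, WithZero.exp_le_exp]
  exact hn

omit [IsAlgClosed k] in
theorem X_mem_sectRing : (X : K[X]) ∈ sectRing (Finsupp.single P 1 : Divisor k K) := by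
  rw [← monomial_one_one_eq_X]
  exact monomial_mem_sectRing P (one_mem_L P (by norm_num))

/-- the element `T` of degree one -/
noncomputable def tX : ↥(sectRing (Finsupp.single P 1 : Divisor k K)) := ⟨X, X_mem_sectRing P⟩

theorem monomial_mem_of_lam_eq_zero (I : Ideal ↥(sectRing (Finsupp.single P 1 : Divisor k K)))
    (hI : tX P ∈ I) {m : ℕ} {x : K}
    (hx : x ∈ L (Finsupp.single P ((m + 1 : ℕ) : ℤ) : Divisor k K))
    (h0 : lam hK P ((m + 1 : ℕ) : ℤ) x = 0) :
    (⟨monomial (m + 1) x, monomial_mem_sectRing P hx⟩ :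
      ↥(sectRing (Finsupp.single P 1 : Divisor k K))) ∈ I := by
  have hx1 := (mem_L_single_iff P _ x).mp hx
  have hb : x ∈ ff_ball P (((m + 1 : ℕ) : ℤ) - 1) := (lam_eq_zero_iff hK P hx1.1).mp h0
  have hm : (((m + 1 : ℕ) : ℤ) - 1) = (m : ℤ) := by push_cast; ring
  rw [hm] at hb
  have hx' : x ∈ L (Finsupp.single P (m : ℤ) : Divisor k K) := by
    rw [mem_L_single_iff]
    exact ⟨hb, hx1.2⟩
  have : (⟨monomial (m + 1) x, monomial_mem_sectRing P hx⟩ :
      ↥(sectRing (Finsupp.single P 1 : Divisor k K))) =
      ⟨monomial m x, monomial_mem_sectRing P hx'⟩ * tX P := by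
    apply Subtype.ext
    change monomial (m + 1) x = monomial m x * X
    rw [monomial_mul_X]
  rw [this]
  exact I.mul_mem_left _ hI

theorem exists_lam_eq_one_of_mem_poleOrders {n : ℕ} (hn : n ∈ poleOrders P) :
    ∃ x ∈ L (Finsupp.single P (n : ℤ) : Divisor k K), lam hK P (n : ℤ) x = 1 := by
  obtain ⟨x, hx, hne⟩ := exists_lam_ne_zero_of_mem_poleOrders hK P hn
  refine ⟨(lam hK P (n : ℤ) x)⁻¹ • x, Submodule.smul_mem _ _ hx, ?_⟩
  rw [lam_smul hK P _ ((mem_L_single_iff P _ x).mp hx).1, inv_mul_cancel₀ hne]

open Classical in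
/-- a chosen function with exact pole order `n` and leading coefficient one -/
noncomputable def gen (n : ℕ) : K :=
  if h : n ∈ poleOrders P then Classical.choose (exists_lam_eq_one_of_mem_poleOrders hK P h) else 0

theorem gen_mem (n : ℕ) : gen hK P n ∈ L (Finsupp.single P (n : ℤ) : Divisor k K) := by
  unfold gen
  split_ifs with h
  · exact (Classical.choose_spec (exists_lam_eq_one_of_mem_poleOrders hK P h)).1
  · exact zero_mem _

theorem lam_gen {n : ℕ} (hn : n ∈ poleOrders P) : lam hK P (n : ℤ) (gen hK P n) = 1 := by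
  unfold gen
  rw [dif_pos hn]
  exact (Classical.choose_spec (exists_lam_eq_one_of_mem_poleOrders hK P hn)).2

/-- the generator `f_n T^n` -/
noncomputable def genR (n : ℕ) : ↥(sectRing (Finsupp.single P 1 : Divisor k K)) :=
  ⟨monomial n (gen hK P n), monomial_mem_sectRing P (gen_mem hK P n)⟩

/-- the candidate generating set -/
noncomputable def genSet : Set ↥(sectRing (Finsupp.single P 1 : Divisor k K)) :=
  insert (tX P) (genR hK P '' minGens (poleOrders P))

theorem lam_sub_smul_eq_zero {n : ℤ} {x z : K} (hx : x ∈ ff_ball P n) (hz : z ∈ ff_ball P n)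
    (h1 : lam hK P n z = 1) : lam hK P n (x - lam hK P n x • z) = 0 := by
  have hcz : lam hK P n x • z ∈ ff_ball P n := Submodule.smul_mem _ _ hz
  have hy : x - lam hK P n x • z ∈ ff_ball P n := Submodule.sub_mem _ hx hcz
  have h := lam_add hK P hy hcz
  rw [sub_add_cancel, lam_smul hK P _ hz, h1, mul_one] at h
  exact (add_eq_right.mp h.symm)

theorem monomial_mem_span : ∀ (n : ℕ), 1 ≤ n → ∀ (x : K)
    (hx : x ∈ L (Finsupp.single P (n : ℤ) : Divisor k K)),
    (⟨monomial n x, monomial_mem_sectRing P hx⟩ :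
      ↥(sectRing (Finsupp.single P 1 : Divisor k K))) ∈ Ideal.span (genSet hK P) := by
  intro n
  induction n using Nat.strong_induction_on with
  | _ n ih =>
  intro hn x hx
  have htI : tX P ∈ Ideal.span (genSet hK P) := Ideal.subset_span (Set.mem_insert _ _)
  obtain ⟨m, rfl⟩ : ∃ m, n = m + 1 := ⟨n - 1, by omega⟩
  have hxb := ((mem_L_single_iff P _ x).mp hx).1
  -- reduction: it suffices to find `z` of leading coefficient one with `z T^n` in the ideal
  have key : ∀ z : K, ∀ hz : z ∈ L (Finsupp.single P ((m + 1 : ℕ) : ℤ) : Divisor k K),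
      lam hK P ((m + 1 : ℕ) : ℤ) z = 1 →
      (⟨monomial (m + 1) z, monomial_mem_sectRing P hz⟩ :
        ↥(sectRing (Finsupp.single P 1 : Divisor k K))) ∈ Ideal.span (genSet hK P) →
      (⟨monomial (m + 1) x, monomial_mem_sectRing P hx⟩ :
        ↥(sectRing (Finsupp.single P 1 : Divisor k K))) ∈ Ideal.span (genSet hK P) := by
    intro z hz h1 hzI
    have hzb := ((mem_L_single_iff P _ z).mp hz).1
    set c := lam hK P ((m + 1 : ℕ) : ℤ) x with hc
    have hy : x - c • z ∈ L (Finsupp.single P ((m + 1 : ℕ) : ℤ) : Divisor k K) :=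
      Submodule.sub_mem _ hx (Submodule.smul_mem _ _ hz)
    have hy0 := lam_sub_smul_eq_zero hK P hxb hzb h1
    have hyI := monomial_mem_of_lam_eq_zero hK P _ htI hy hy0
    have : (⟨monomial (m + 1) x, monomial_mem_sectRing P hx⟩ :
        ↥(sectRing (Finsupp.single P 1 : Divisor k K))) =
        ⟨monomial (m + 1) (x - c • z), monomial_mem_sectRing P hy⟩ +
          c • ⟨monomial (m + 1) z, monomial_mem_sectRing P hz⟩ := by
      apply Subtype.ext
      change monomial (m + 1) x = monomial (m + 1) (x - c • z) + c • monomial (m + 1) z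
      rw [smul_monomial, ← map_add, sub_add_cancel]
    rw [this]
    exact Ideal.add_mem _ hyI (Submodule.smul_of_tower_mem _ c hzI)
  by_cases h0 : lam hK P ((m + 1 : ℕ) : ℤ) x = 0
  · exact monomial_mem_of_lam_eq_zero hK P _ htI hx h0
  · have hH : m + 1 ∈ poleOrders P := mem_poleOrders_of_lam_ne_zero hK P hx h0
    by_cases hG : m + 1 ∈ minGens (poleOrders P)
    · refine key (gen hK P (m + 1)) (gen_mem hK P _) (lam_gen hK P hH) ?_
      exact Ideal.subset_span (Set.mem_insert_of_mem _ ⟨m + 1, hG, rfl⟩)
    · have : ∃ a ∈ poleOrders P, ∃ b ∈ poleOrders P, a ≠ 0 ∧ b ≠ 0 ∧ a + b = m + 1 := by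
        by_contra hcon
        apply hG
        refine ⟨hH, by omega, fun a ha b hb ha0 hb0 hab => hcon ⟨a, ha, b, hb, ha0, hb0, hab⟩⟩
      obtain ⟨a, ha, b, hb, ha0, hb0, hab⟩ := this
      have hza := gen_mem hK P a
      have hzb := gen_mem hK P b
      have hzab : gen hK P a * gen hK P b ∈
          L (Finsupp.single P ((m + 1 : ℕ) : ℤ) : Divisor k K) := by
        have := W4c6gradedringsgw.mul_mem_L hza hzb
        rw [← Finsupp.single_add] at this
        rw [← hab]
        push_cast
        exact this
      have hlam : lam hK P ((m + 1 : ℕ) : ℤ) (gen hK P a * gen hK P b) = 1 := by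
        have := lam_mul hK P ((mem_L_single_iff P _ _).mp hza).1 ((mem_L_single_iff P _ _).mp hzb).1
        rw [lam_gen hK P ha, lam_gen hK P hb, mul_one] at this
        rw [← hab]
        push_cast
        exact this
      refine key _ hzab hlam ?_
      have hIa := ih a (by omega) (by omega) _ hza
      have : (⟨monomial (m + 1) (gen hK P a * gen hK P b), monomial_mem_sectRing P hzab⟩ :
          ↥(sectRing (Finsupp.single P 1 : Divisor k K))) =
          ⟨monomial a (gen hK P a), monomial_mem_sectRing P hza⟩ *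
            ⟨monomial b (gen hK P b), monomial_mem_sectRing P hzb⟩ := by
        apply Subtype.ext
        change monomial (m + 1) (gen hK P a * gen hK P b) =
          monomial a (gen hK P a) * monomial b (gen hK P b)
        rw [monomial_mul_monomial, hab]
      rw [this]
      exact Ideal.mul_mem_right _ _ hIa


omit [IsAlgClosed k] in
theorem zero_not_mem_minGens : 0 ∉ minGens (poleOrders P) := fun h => h.2.1 rfl

theorem Rplus_eq_span : Rplus P = Ideal.span (genSet hK P) := by
  apply le_antisymm
  · intro p hp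
    rw [mem_Rplus_iff] at hp
    have hmem : (p : K[X]) ∈ Submodule.map
        (sectRing (Finsupp.single P 1 : Divisor k K)).val.toLinearMap
        ((Ideal.span (genSet hK P)).restrictScalars k) := by
      rw [(p : K[X]).as_sum_support]
      apply Submodule.sum_mem
      intro n hn
      have hn1 : 1 ≤ n := by
        rw [mem_support_iff] at hn
        by_contra hlt
        have : n = 0 := by omega
        subst this
        exact hn hp
      exact ⟨_, monomial_mem_span hK P n hn1 _ ((mem_sectRing_iff P _).mp p.2 n), rfl⟩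
    obtain ⟨q, hq, hqp⟩ := hmem
    have : q = p := Subtype.ext hqp
    rw [← this]
    exact hq
  · rw [Ideal.span_le]
    rintro _ (rfl | ⟨h, hh, rfl⟩)
    · rw [SetLike.mem_coe, mem_Rplus_iff]
      exact coeff_X_zero
    · rw [SetLike.mem_coe, mem_Rplus_iff]
      change (monomial h (gen hK P h)).coeff 0 = 0
      rw [coeff_monomial, if_neg hh.2.1]

include hK in
theorem Rplus_fg : (Rplus P).FG := by
  rw [Rplus_eq_span hK P]
  have hfin : (genSet hK P).Finite :=
    Set.Finite.insert _ ((finite_minGens hK P).image _)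
  exact ⟨hfin.toFinset, by rw [Set.Finite.coe_toFinset]⟩

include hK in
theorem spanFinrank_Rplus_le :
    (Rplus P).spanFinrank ≤ Set.ncard (minGens (poleOrders P)) + 1 := by
  rw [Rplus_eq_span hK P]
  have hfin : (genSet hK P).Finite :=
    Set.Finite.insert _ ((finite_minGens hK P).image _)
  refine le_trans (Submodule.spanFinrank_span_le_ncard_of_finite hfin) ?_
  refine le_trans (Set.ncard_insert_le _ _) ?_
  exact Nat.succ_le_succ (Set.ncard_image_le (finite_minGens hK P))


/-! ### the lower bound -/

/-- the constant-term character -/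
noncomputable def eps (p : ↥(sectRing (Finsupp.single P 1 : Divisor k K))) : k :=
  (leadHom hK P p).coeff 0

/-- the linear coordinate -/
noncomputable def lin1 (p : ↥(sectRing (Finsupp.single P 1 : Divisor k K))) : k :=
  lam hK P 0 ((p : K[X]).coeff 1)

include hK in
theorem coeff_one_mem_ball (hg : 1 ≤ genus k K) (p : ↥(sectRing (Finsupp.single P 1 : Divisor k K))) :
    (p : K[X]).coeff 1 ∈ ff_ball P 0 := by
  have h1 := (mem_sectRing_iff P _).mp p.2 1
  rw [Nat.cast_one] at h1
  obtain ⟨c, hc⟩ := exists_const_of_mem_L_one hK P hg h1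
  rw [hc]
  exact algebraMap_mem_ball P c

theorem lin1_add (hg : 1 ≤ genus k K) (p q : ↥(sectRing (Finsupp.single P 1 : Divisor k K))) :
    lin1 hK P (p + q) = lin1 hK P p + lin1 hK P q := by
  unfold lin1
  rw [AddMemClass.coe_add, coeff_add,
    lam_add hK P (coeff_one_mem_ball hK P hg p) (coeff_one_mem_ball hK P hg q)]

theorem lin1_mul (hg : 1 ≤ genus k K) (r x : ↥(sectRing (Finsupp.single P 1 : Divisor k K)))
    (hx : x ∈ Rplus P) : lin1 hK P (r * x) = eps hK P r * lin1 hK P x := by
  rw [mem_Rplus_iff] at hx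
  unfold lin1 eps
  rw [MulMemClass.coe_mul, mul_coeff_one, hx, mul_zero, add_zero, coeff_leadHom]
  have h0 : (r : K[X]).coeff 0 ∈ ff_ball P 0 := by
    have := coeff_mem_ball P r.2 0
    rwa [Nat.cast_zero] at this
  have := lam_mul hK P h0 (coeff_one_mem_ball hK P hg x)
  rw [add_zero] at this
  rw [this, Nat.cast_zero]

theorem coeff_leadHom_mul_of_mem_minGens (r x : ↥(sectRing (Finsupp.single P 1 : Divisor k K)))
    (hx : x ∈ Rplus P) {h : ℕ} (hh : h ∈ minGens (poleOrders P)) :
    (leadHom hK P (r * x)).coeff h = eps hK P r * (leadHom hK P x).coeff h := by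
  rw [mem_Rplus_iff] at hx
  rw [map_mul, coeff_mul]
  unfold eps
  rw [Finset.sum_eq_single (0, h)]
  · rintro ⟨i, j⟩ hij hne
    rw [Finset.HasAntidiagonal.mem_antidiagonal] at hij
    change i + j = h at hij
    change (leadHom hK P r).coeff i * (leadHom hK P x).coeff j = 0
    by_contra hprod
    have hi : (leadHom hK P r).coeff i ≠ 0 := left_ne_zero_of_mul hprod
    have hj : (leadHom hK P x).coeff j ≠ 0 := right_ne_zero_of_mul hprod
    rw [coeff_leadHom] at hi hj
    have hiH := mem_poleOrders_of_lam_ne_zero hK P ((mem_sectRing_iff P _).mp r.2 i) hi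
    have hjH := mem_poleOrders_of_lam_ne_zero hK P ((mem_sectRing_iff P _).mp x.2 j) hj
    have hj0 : j ≠ 0 := by
      rintro rfl
      rw [hx, lam_zero] at hj
      exact hj rfl
    have hi0 : i ≠ 0 := by
      rintro rfl
      apply hne
      rw [zero_add] at hij
      rw [hij]
    exact hh.2.2 i hiH j hjH hi0 hj0 hij
  · intro hnot
    exfalso
    apply hnot
    rw [Finset.HasAntidiagonal.mem_antidiagonal]
    exact zero_add h

/-- the coordinate map on `R` -/
noncomputable def Phi (p : ↥(sectRing (Finsupp.single P 1 : Divisor k K))) :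
    Option ↥(minGens (poleOrders P)) → k
  | none => lin1 hK P p
  | some h => (leadHom hK P p).coeff (h : ℕ)

theorem Phi_add (hg : 1 ≤ genus k K) (p q : ↥(sectRing (Finsupp.single P 1 : Divisor k K))) :
    Phi hK P (p + q) = Phi hK P p + Phi hK P q := by
  funext i
  cases i with
  | none => exact lin1_add hK P hg p q
  | some h =>
    change (leadHom hK P (p + q)).coeff (h : ℕ) = _
    rw [map_add, coeff_add]
    rfl

theorem Phi_zero : Phi hK P 0 = 0 := by
  funext i
  cases i with
  | none =>
    change lam hK P 0 (((0 : ↥(sectRing (Finsupp.single P 1 : Divisor k K))) : K[X]).coeff 1) = 0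
    rw [ZeroMemClass.coe_zero, coeff_zero, lam_zero]
  | some h =>
    change (leadHom hK P 0).coeff (h : ℕ) = 0
    rw [map_zero, coeff_zero]

theorem Phi_mul (hg : 1 ≤ genus k K) (r x : ↥(sectRing (Finsupp.single P 1 : Divisor k K)))
    (hx : x ∈ Rplus P) : Phi hK P (r * x) = eps hK P r • Phi hK P x := by
  funext i
  cases i with
  | none => exact lin1_mul hK P hg r x hx
  | some h => exact coeff_leadHom_mul_of_mem_minGens hK P r x hx h.2

theorem Phi_tX (hg : 1 ≤ genus k K) : Phi hK P (tX P) = Pi.single none 1 := by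
  funext i
  cases i with
  | none =>
    change lam hK P 0 ((X : K[X]).coeff 1) = _
    rw [coeff_X_one, Pi.single_eq_same]
    have := lam_algebraMap hK P 1
    rwa [map_one] at this
  | some h =>
    change (leadHom hK P (tX P)).coeff (h : ℕ) = _
    rw [Pi.single_eq_of_ne (by simp), coeff_leadHom]
    change lam hK P _ ((X : K[X]).coeff (h : ℕ)) = 0
    have h1 : (h : ℕ) ≠ 1 := by
      intro h1
      have := h.2.1
      rw [h1] at this
      exact one_not_mem_poleOrders hK P hg this
    rw [coeff_X, if_neg (Ne.symm h1), lam_zero]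

theorem Phi_genR (hg : 1 ≤ genus k K) (h : ↥(minGens (poleOrders P))) :
    Phi hK P (genR hK P h) = Pi.single (some h) 1 := by
  have h1 : (h : ℕ) ≠ 1 := by
    intro h1
    have := h.2.1
    rw [h1] at this
    exact one_not_mem_poleOrders hK P hg this
  funext i
  cases i with
  | none =>
    change lam hK P 0 ((monomial (h : ℕ) (gen hK P h)).coeff 1) = _
    rw [coeff_monomial, if_neg h1, lam_zero, Pi.single_eq_of_ne (by simp)]
  | some h' =>
    change (leadHom hK P (genR hK P h)).coeff (h' : ℕ) = _
    unfold genR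
    rw [leadHom_monomial hK P (gen_mem hK P h), lam_gen hK P h.2.1, coeff_monomial]
    by_cases hh : h = h'
    · subst hh
      rw [if_pos rfl, Pi.single_eq_same]
    · rw [if_neg (fun h2 => hh (Subtype.ext h2)), Pi.single_eq_of_ne]
      intro h3
      exact hh (Option.some_injective _ h3).symm

include hK in
theorem le_card_of_span_eq (hg : 1 ≤ genus k K)
    (s : Finset ↥(sectRing (Finsupp.single P 1 : Divisor k K)))
    (hs : Ideal.span (s : Set ↥(sectRing (Finsupp.single P 1 : Divisor k K))) = Rplus P) :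
    Set.ncard (minGens (poleOrders P)) + 1 ≤ s.card := by
  classical
  have hfin := finite_minGens hK P
  have : Fintype ↥(minGens (poleOrders P)) := hfin.fintype
  set W : Submodule k (Option ↥(minGens (poleOrders P)) → k) :=
    Submodule.span k ((s.image (Phi hK P) : Finset _) : Set _) with hW
  have hmem : ∀ x ∈ Rplus P, Phi hK P x ∈ W := by
    intro x hx
    rw [← hs] at hx
    induction hx using Submodule.span_induction with
    | mem x hx =>
      apply Submodule.subset_span
      rw [Finset.coe_image]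
      exact ⟨x, hx, rfl⟩
    | zero => rw [Phi_zero]; exact zero_mem _
    | add x y hx hy ihx ihy => rw [Phi_add hK P hg]; exact add_mem ihx ihy
    | smul r x hx ih =>
      rw [smul_eq_mul, Phi_mul hK P hg r x (hs ▸ hx)]
      exact Submodule.smul_mem _ _ ih
  have htop : W = ⊤ := by
    rw [eq_top_iff, ← (Pi.basisFun k (Option ↥(minGens (poleOrders P)))).span_eq, Submodule.span_le]
    rintro _ ⟨i, rfl⟩
    rw [Pi.basisFun_apply]
    cases i with
    | none =>
      rw [← Phi_tX hK P hg]
      apply hmem
      rw [Rplus_eq_span hK P]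
      exact Ideal.subset_span (Set.mem_insert _ _)
    | some h =>
      rw [← Phi_genR hK P hg h]
      apply hmem
      rw [Rplus_eq_span hK P]
      exact Ideal.subset_span (Set.mem_insert_of_mem _ ⟨h, h.2, rfl⟩)
  have h1 : Module.finrank k ↥W ≤ (s.image (Phi hK P)).card := finrank_span_finset_le_card _
  rw [htop, finrank_top, Module.finrank_pi, Fintype.card_option] at h1
  have h2 : Set.ncard (minGens (poleOrders P)) = Fintype.card ↥(minGens (poleOrders P)) := by
    rw [Set.ncard_eq_toFinset_card', Set.toFinset_card]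
  rw [h2]
  exact le_trans h1 Finset.card_image_le

include hK in
theorem spanFinrank_Rplus (hg : 1 ≤ genus k K) :
    (Rplus P).spanFinrank = Set.ncard (minGens (poleOrders P)) + 1 := by
  apply le_antisymm (spanFinrank_Rplus_le hK P)
  obtain ⟨s, hs1, hs2⟩ := Submodule.FG.exists_span_finset_card_eq_spanFinrank (Rplus_fg hK P)
  rw [← hs1]
  exact le_card_of_span_eq hK P hg s hs2

end AlgClosed

end Groth.Agent.Lib.Helper15.SectRing
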