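import Groth.Agent.Lib.Helper15.SectRing
import Mathlib

set_option autoImplicit false

open FunFld Polynomial W4c6gradedringsgw

namespace Groth.Agent.Lib.Helper15.SectRing

open Groth.Agent.Lib.Helper55

variable {k K : Type*} [Field k] [Field K] [Algebra k K]

/-- the embedding `k[H'] → k[X]` -/
noncomputable def iota (P : Place k K) :
    AddMonoidAlgebra k ↥(AddSubmonoid.closure (poleOrders P)) →ₐ[k] k[X] :=
  ((Polynomial.toFinsuppIsoAlg k).symm : AddMonoidAlgebra k ℕ →ₐ[k] k[X]).comp
    (AddMonoidAlgebra.mapDomainAlgHom k k (AddSubmonoid.closure (poleOrders P)).subtype)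

theorem iota_single (P : Place k K) (h : ↥(AddSubmonoid.closure (poleOrders P))) (c : k) :
    iota P (AddMonoidAlgebra.single h c) = monomial (h : ℕ) c := by
  simp [iota]
  rw [AlgEquiv.symm_apply_eq]
  simp [toFinsupp_monomial]

theorem iota_injective (P : Place k K) : Function.Injective (iota P) := by
  unfold iota
  simp only [AlgHom.coe_comp]
  apply Function.Injective.comp
  · exact (Polynomial.toFinsuppIsoAlg k).symm.injective
  · exact AddMonoidAlgebra.mapDomain_injective Subtype.val_injective

section AlgClosed

variable [IsAlgClosed k] (hK : IsFunctionField k K) (P : Place k K)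

omit [IsAlgClosed k] in
theorem monomial_mem_sectRing {n : ℕ} {x : K} (hx : x ∈ L (Finsupp.single P (n : ℤ) : Divisor k K)) :
    monomial n x ∈ sectRing (Finsupp.single P 1 : Divisor k K) := by
  rw [mem_sectRing_iff]
  intro m
  rw [coeff_monomial]
  split_ifs with h
  · subst h; exact hx
  · exact zero_mem _

theorem leadHom_monomial {n : ℕ} {x : K} (hx : x ∈ L (Finsupp.single P (n : ℤ) : Divisor k K)) :
    leadHom hK P ⟨monomial n x, monomial_mem_sectRing P hx⟩ = monomial n (lam hK P n x) := by
  ext m
  rw [coeff_leadHom, coeff_monomial, coeff_monomial]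
  split_ifs with h
  · subst h; rfl
  · exact lam_zero hK P _

theorem monomial_one_mem_range {n : ℕ} (hn : n ∈ AddSubmonoid.closure (poleOrders P)) :
    monomial n (1 : k) ∈ (leadHom hK P).range := by
  induction hn using AddSubmonoid.closure_induction with
  | mem n hn =>
    obtain ⟨x, hx, hne⟩ := exists_lam_ne_zero_of_mem_poleOrders hK P hn
    have h1 : monomial n (lam hK P n x) ∈ (leadHom hK P).range := ⟨_, leadHom_monomial hK P hx⟩
    have h2 := Subalgebra.smul_mem _ h1 (lam hK P n x)⁻¹
    rwa [smul_monomial, smul_eq_mul, inv_mul_cancel₀ hne] at h2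
  | zero => 
    rw [monomial_zero_one]
    exact one_mem _
  | add a b _ _ ha hb =>
    have := mul_mem ha hb
    rwa [monomial_mul_monomial, mul_one] at this

theorem range_iota_le : (iota P).range ≤ (leadHom hK P).range := by
  rintro _ ⟨f, rfl⟩
  induction f using AddMonoidAlgebra.induction_linear with
  | zero => rw [map_zero]; exact zero_mem _
  | add x y hx hy => 
    change iota P (x + y) ∈ _
    rw [map_add]; exact add_mem hx hy
  | single m r =>
    change iota P (AddMonoidAlgebra.single m r) ∈ _
    rw [iota_single]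
    have := Subalgebra.smul_mem _ (monomial_one_mem_range hK P m.2) r
    rwa [smul_monomial, smul_eq_mul, mul_one] at this

theorem range_leadHom_le : (leadHom hK P).range ≤ (iota P).range := by
  rintro _ ⟨p, rfl⟩
  change leadHom hK P p ∈ _
  rw [(leadHom hK P p).as_sum_support]
  apply Subalgebra.sum_mem
  intro n hn
  rw [mem_support_iff, coeff_leadHom] at hn
  have hmem : n ∈ AddSubmonoid.closure (poleOrders P) :=
    AddSubmonoid.subset_closure
      (mem_poleOrders_of_lam_ne_zero hK P ((mem_sectRing_iff P _).mp p.2 n) hn)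
  exact ⟨AddMonoidAlgebra.single ⟨n, hmem⟩ ((leadHom hK P p).coeff n), iota_single P _ _⟩

theorem range_leadHom_eq : (leadHom hK P).range = (iota P).range :=
  le_antisymm (range_leadHom_le hK P) (range_iota_le hK P)

/-- the surjection `R → k[H']` -/
noncomputable def Psi :
    ↥(sectRing (Finsupp.single P 1 : Divisor k K)) →ₐ[k]
      AddMonoidAlgebra k ↥(AddSubmonoid.closure (poleOrders P)) :=
  (AlgEquiv.ofInjective (iota P) (iota_injective P)).symm.toAlgHom.comp
    ((Subalgebra.equivOfEq _ _ (range_leadHom_eq hK P)).toAlgHom.comp (leadHom hK P).rangeRestrict)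

theorem iota_Psi (p : ↥(sectRing (Finsupp.single P 1 : Divisor k K))) :
    iota P (Psi hK P p) = leadHom hK P p := by
  change iota P ((AlgEquiv.ofInjective (iota P) (iota_injective P)).symm
    ((Subalgebra.equivOfEq _ _ (range_leadHom_eq hK P)) ((leadHom hK P).rangeRestrict p))) = _
  have := (AlgEquiv.ofInjective (iota P) (iota_injective P)).apply_symm_apply
    ((Subalgebra.equivOfEq _ _ (range_leadHom_eq hK P)) ((leadHom hK P).rangeRestrict p))
  have h2 := congrArg Subtype.val this
  rw [AlgEquiv.ofInjective_apply] at h2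
  exact h2

theorem Psi_surjective : Function.Surjective (Psi hK P) := by
  intro y
  have : iota P y ∈ (leadHom hK P).range := range_iota_le hK P ⟨y, rfl⟩
  obtain ⟨p, hp⟩ := this
  refine ⟨p, iota_injective P ?_⟩
  rw [iota_Psi]
  exact hp

theorem ker_Psi : RingHom.ker (Psi hK P) = RingHom.ker (leadHom hK P).toRingHom := by
  ext p
  rw [RingHom.mem_ker, RingHom.mem_ker]
  change Psi hK P p = 0 ↔ leadHom hK P p = 0
  rw [← iota_Psi, map_eq_zero_iff _ (iota_injective P)]

end AlgClosed

end Groth.Agent.Lib.Helper15.SectRing
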